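import Cfsg.Statements.S5439
import Cfsg.Agent.Lib.ThreeTransp.Basic

set_option autoImplicit false
open Cfsg

open CfsgLib.ThreeTransp

namespace Cfsg.Agent.S5439

/-- Let I and J be two different conjugacy classes of involutions of the finite group G and H a subgroup such that every member of I ∪ J fixes exactly one coset in the action on the cosets of H, and such that for every a in I ∩ H and every b in (I ∪ J) ∩ H different from a and commuting with it, the centralizer of a b lies in H. Then H = G. -/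
theorem result {G : Type*} [Group G] [Finite G] (I J : Set G) (a₀ b₀ : G) (ha₀ : orderOf a₀ = 2) (hb₀ : orderOf b₀ = 2) (hI : I = {x | IsConj a₀ x}) (hJ : J = {x | IsConj b₀ x}) (hIJ : I ≠ J) (H : Subgroup G) (hfix : ∀ x ∈ I ∪ J, ∃! c : G ⧸ H, x • c = c) (hcent : ∀ a ∈ I, a ∈ H → ∀ b ∈ I ∪ J, b ∈ H → a ≠ b → a * b = b * a → Subgroup.centralizer ({a * b} : Set G) ≤ H) : H = ⊤ := by
  open CfsgLib.Involutions in
  have hinv : ∀ x ∈ I ∪ J, orderOf x = 2 := by
    rintro x (hx | hx)
    · rw [hI] at hx; exact isConj_invol hx ha₀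
    · rw [hJ] at hx; exact isConj_invol hx hb₀
  have hIc : ∀ g : G, ∀ x ∈ I, g * x * g⁻¹ ∈ I := by
    intro g x hx; rw [hI] at hx ⊢; exact IsConj.trans hx (isConj_iff.2 ⟨g, rfl⟩)
  have hJc : ∀ g : G, ∀ x ∈ J, g * x * g⁻¹ ∈ J := by
    intro g x hx; rw [hJ] at hx ⊢; exact IsConj.trans hx (isConj_iff.2 ⟨g, rfl⟩)
  have hdisj : ∀ x ∈ I, x ∉ J := by
    intro x hx hx'
    rw [hI] at hx; rw [hJ] at hx'
    apply hIJ
    have h0 : IsConj a₀ b₀ := IsConj.trans hx (IsConj.symm hx')
    rw [hI, hJ]
    ext y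
    exact ⟨fun hy => IsConj.trans h0.symm hy, fun hy => IsConj.trans h0 hy⟩
  have hfix' : ∀ (g x : G), x • (QuotientGroup.mk g : G ⧸ H) = QuotientGroup.mk g ↔
      g⁻¹ * x * g ∈ H := by
    intro g x
    rw [MulAction.Quotient.smul_mk, QuotientGroup.eq]
    constructor <;> intro h <;> simpa [mul_assoc] using inv_mem h
  -- an involution of `I ∪ J` in `H` conjugated into `H` by `g` forces `g ∈ H`
  have key : ∀ x ∈ I ∪ J, x ∈ H → ∀ g : G, g⁻¹ * x * g ∈ H → g ∈ H := by
    intro x hx hxH g hg
    obtain ⟨c, -, huniq⟩ := hfix x hx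
    have h3 := (huniq (QuotientGroup.mk g) ((hfix' g x).2 hg)).trans
      (huniq (QuotientGroup.mk (1 : G)) ((hfix' 1 x).2 (by simpa using hxH))).symm
    rw [QuotientGroup.eq] at h3
    simpa using inv_mem h3
  obtain ⟨c, hc, -⟩ := hfix a₀ (Or.inl (hI ▸ IsConj.refl a₀))
  obtain ⟨g, rfl⟩ := QuotientGroup.mk_surjective c
  rw [hfix'] at hc
  have haI : g⁻¹ * a₀ * g ∈ I := by
    have := hIc g⁻¹ a₀ (hI ▸ IsConj.refl a₀)
    rwa [inv_inv] at this
  generalize g⁻¹ * a₀ * g = a at hc haI
  have hJH : ∀ b ∈ J, b ∈ H := by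
    intro b hb
    have hao := hinv a (Or.inl haI)
    have hbo := hinv b (Or.inr hb)
    rcases Nat.even_or_odd (orderOf (a * b)) with hev | hod
    · have hca := half_comm_left hao hbo hev
      have hcb := half_comm_right hao hbo hev
      have hj2 := half_invol hev
      set k := orderOf (a * b) / 2 with hk
      have hmem : a * (a * b) ^ k ∈ I ∪ J := by
        rcases Nat.even_or_odd k with hke | hko
        · left
          have := refl_even_mem hIc haI hao hbo (k := (k : ℤ)) ((Int.even_coe_nat _).2 hke)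
          rwa [zpow_natCast] at this
        · right
          obtain ⟨i, hi⟩ := hko
          have h1 := hJc ((a * b) ^ i)⁻¹ b hb
          have h2 : ((a * b) ^ i)⁻¹ * b * ((a * b) ^ i)⁻¹⁻¹ = a * (a * b) ^ k := by
            rw [inv_inv, hi, two_mul]
            have h4 : ∀ n : ℕ, ((a * b) ^ n)⁻¹ * a = a * (a * b) ^ n := by
              intro n
              have h5 := invol_mul_zpow hao hbo (n : ℤ)
              rw [zpow_natCast, zpow_neg, zpow_natCast] at h5
              exact h5.symm
            calc ((a * b) ^ i)⁻¹ * b * (a * b) ^ i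
                = ((a * b) ^ i)⁻¹ * a * ((a * b) * (a * b) ^ i) := by
                  simp [mul_assoc, ← mul_assoc a a, invol_mul_self hao]
              _ = a * ((a * b) ^ i * ((a * b) * (a * b) ^ i)) := by rw [h4]; simp [mul_assoc]
              _ = a * (a * b) ^ (i + i + 1) := by rw [← pow_succ', ← pow_add]; congr 2
          rwa [h2] at h1
      have hcomm : a * (a * (a * b) ^ k) = a * (a * b) ^ k * a := by
        rw [mul_assoc a ((a * b) ^ k), hca.eq]
      have hH : a * (a * b) ^ k ∈ H := by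
        have h1 : (a * (a * b) ^ k)⁻¹ * a * (a * (a * b) ^ k) ∈ H := by
          rw [mul_assoc, hcomm, inv_mul_cancel_left]; exact hc
        exact key a (Or.inl haI) hc _ h1
      have hprod : a * (a * (a * b) ^ k) = (a * b) ^ k := by
        rw [← mul_assoc, invol_mul_self hao, one_mul]
      refine hcent a haI hc _ hmem hH (fun h => invol_ne_one hj2 (mul_eq_left.1 h.symm)) hcomm ?_
      rw [hprod, Subgroup.mem_centralizer_singleton_iff]
      exact hcb.eq.symm
    · exfalso
      obtain ⟨k, hk⟩ := exists_zpow_conj_of_odd hao hbo hod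
      exact hdisj b (hk ▸ hIc _ a haI) hb
  rw [eq_top_iff]
  intro x _
  have hb0 : b₀ ∈ J := hJ ▸ IsConj.refl b₀
  refine key b₀ (Or.inr hb0) (hJH b₀ hb0) x ?_
  have h1 := hJc x⁻¹ b₀ hb0
  rw [inv_inv] at h1
  exact hJH _ h1

end Cfsg.Agent.S5439
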