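import Cfsg.Statements.S5440
import Cfsg.Agent.Lib.Spor.LargeFi.Setup
import Cfsg.Agent.Lib.Spor.LargeFi.TwoOrbits

set_option autoImplicit false
open Cfsg

namespace Cfsg.Agent.S5440

open CfsgLib.Spor.LargeFi

/-- Let G be a finite group of large Fischer type at the involution z: the generalized Fitting subgroup Q of H = C_G(z) is extraspecial of order 2^13, H has normal subgroups Q ≤ H₁ ≤ H₂ with H₁/Q of order 3, H₂/H₁ the projective special unitary group of dimension 4 over the field with nine elements and H₂ of index 2 in H, and some conjugate of z other than z lies in Q. Then H has exactly two orbits, under conjugation, on the involutions of Q other than z. -/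
theorem result {G : Type*} [Group G] [Finite G] (z : G) (Q : Subgroup (Subgroup.centralizer ({z} : Set G))) [Q.Normal] (hF : Cfsg.IsOfLargeFischerTypeAt z Q) : ∃ s t : Subgroup.centralizer ({z} : Set G), s ∈ Q ∧ t ∈ Q ∧ orderOf s = 2 ∧ orderOf t = 2 ∧ (s : G) ≠ z ∧ (t : G) ≠ z ∧ (¬ ∃ h : Subgroup.centralizer ({z} : Set G), h * s * h⁻¹ = t) ∧ ∀ x : Subgroup.centralizer ({z} : Set G), x ∈ Q → orderOf x = 2 → (x : G) ≠ z → (∃ h : Subgroup.centralizer ({z} : Set G), h * s * h⁻¹ = x) ∨ ∃ h : Subgroup.centralizer ({z} : Set G), h * t * h⁻¹ = x := by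
  obtain ⟨D⟩ := model_of_type hF
  obtain ⟨a, ha⟩ := D.vec_surj smallV
  obtain ⟨b, hb⟩ := D.vec_surj bigV
  have hsa : Small (D.vec a) := ha ▸ small_smallV
  have hbb : Big (D.vec b) := hb ▸ big_bigV
  have hord : ∀ c : Q, nf (D.vec c) = 0 → D.vec c ≠ 0 →
      orderOf (c : Subgroup.centralizer ({z} : Set G)) = 2 ∧
        ((c : Subgroup.centralizer ({z} : Set G)) : G) ≠ z := by
    intro c h0 hne
    haveI : Fact (Nat.Prime 2) := ⟨Nat.prime_two⟩
    refine ⟨orderOf_eq_prime ((pow_two _).trans ((D.vec_sq c).2 h0)) fun h =>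
        hne ((D.vec_eq_zero c).2 (Or.inl h)), fun h => ?_⟩
    exact hne ((D.vec_eq_zero c).2 (Or.inr (Subtype.ext h)))
  obtain ⟨hsa0, hsa1⟩ := hsa.isotropic
  obtain ⟨hbb0, hbb1⟩ := hbb.isotropic
  refine ⟨a, b, a.2, b.2, (hord a hsa0 hsa1).1, (hord b hbb0 hbb1).1, (hord a hsa0 hsa1).2,
    (hord b hbb0 hbb1).2, ?_, fun x hxQ hx2 hxz => ?_⟩
  · rintro ⟨h, hh⟩
    have hm := (inferInstance : Q.Normal).conj_mem _ a.2 h
    have e := D.vec_conj' h a hm
    rw [show (⟨_, hm⟩ : Q) = b from Subtype.ext hh] at e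
    exact not_small_big (e ▸ D.act_small h hsa) hbb
  · have h1 : x * x = 1 := by
      have h := pow_orderOf_eq_one x
      rw [hx2, pow_two] at h; exact h
    have hne1 : x ≠ 1 := fun h => by rw [h, orderOf_one] at hx2; exact absurd hx2 (by norm_num)
    have hnez : x ≠ zH z := fun h => hxz (congrArg Subtype.val h)
    rcases D.invol_vec (a := ⟨x, hxQ⟩) h1 hne1 hnez with h | h
    · exact Or.inl (D.conj_of_small hsa h)
    · exact Or.inr (D.conj_of_big hbb h)

end Cfsg.Agent.S5440
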