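import Cfsg.Statements.S5452
import Cfsg.Agent.Lib.ThreeTransp.UnitaryCoverLift


set_option autoImplicit false
open Cfsg

namespace Cfsg.Agent.S5452

/-- Let G be a finite group with an involution d whose centralizer C is quasisimple with C modulo the subgroup generated by d isomorphic to the projective special unitary group of dimension 6 over the field with four elements, and suppose some conjugate of d other than d commutes with d. Then every involution of C modulo the subgroup generated by d is the image of an involution of C, and d is not a square in G. -/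
theorem result {G : Type*} [Group G] [Finite G] (d : G) (hd : orderOf d = 2) (hq : Cfsg.IsQuasisimple ↥(Subgroup.centralizer ({d} : Set G))) [hzn : ((Subgroup.zpowers d).subgroupOf (Subgroup.centralizer ({d} : Set G))).Normal] (K : Type) [Field K] [Fintype K] (hK : Fintype.card K = 4) (e : ↥(Subgroup.centralizer ({d} : Set G)) ⧸ (Subgroup.zpowers d).subgroupOf (Subgroup.centralizer ({d} : Set G)) ≃* Cfsg.PSU 6 K 2) (hnwc : ∃ g : G, g * d * g⁻¹ ∈ Subgroup.centralizer ({d} : Set G) ∧ g * d * g⁻¹ ≠ d) : (∀ x : ↥(Subgroup.centralizer ({d} : Set G)) ⧸ (Subgroup.zpowers d).subgroupOf (Subgroup.centralizer ({d} : Set G)), orderOf x = 2 → ∃ y : ↥(Subgroup.centralizer ({d} : Set G)), orderOf y = 2 ∧ (QuotientGroup.mk y : ↥(Subgroup.centralizer ({d} : Set G)) ⧸ (Subgroup.zpowers d).subgroupOf (Subgroup.centralizer ({d} : Set G))) = x) ∧ ¬ ∃ g : G, g ^ 2 = d := by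
  clear hnwc hq
  have hc : Nat.card K = 2 ^ 2 := by rw [Nat.card_eq_fintype_card, hK]; norm_num
  obtain ⟨σ, hσ⟩ := CfsgLib.Classical.Unitary.exists_uFrob hc
  set C := Subgroup.centralizer ({d} : Set G)
  set Z := (Subgroup.zpowers d).subgroupOf C
  set π : ↥C →* Cfsg.PSU 6 K 2 := e.toMonoidHom.comp (QuotientGroup.mk' Z) with hπdef
  have hπ : Function.Surjective π := e.surjective.comp (QuotientGroup.mk'_surjective Z)
  have hd2 : d * d = 1 := by rw [← pow_two, ← hd]; exact pow_orderOf_eq_one d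
  have hker : ∀ x, π x = 1 ↔ (x : G) ∈ Subgroup.zpowers d := fun x => by
    rw [show π x = e (QuotientGroup.mk x) from rfl, e.map_eq_one_iff, QuotientGroup.eq_one_iff]
    exact Subgroup.mem_subgroupOf
  have hz : ∀ x, π x = 1 → x * x = 1 ∧ ∀ y, Commute x y := by
    intro x hx
    obtain ⟨k, hk⟩ := Subgroup.mem_zpowers_iff.1 ((hker x).1 hx)
    refine ⟨Subtype.ext ?_, fun y => ?_⟩
    · rw [Subgroup.coe_mul, Subgroup.coe_one, ← hk, ← zpow_add, ← two_mul, zpow_mul, zpow_two,
        hd2, one_zpow]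
    · have hy : Commute d (y : G) := by
        have := y.2
        rw [Subgroup.mem_centralizer_iff] at this
        exact this d rfl
      have := hy.zpow_left k
      rw [hk] at this
      exact Subtype.ext this
  refine ⟨fun x hx => ?_, ?_⟩
  · obtain ⟨y, hy, hye⟩ := CfsgLib.ThreeTransp.USix.lift_involution hc hσ hπ hz (t := e x)
      (by rw [← map_mul, ← pow_two, orderOf_dvd_iff_pow_eq_one.1 hx.dvd, map_one])
    have hmk : (QuotientGroup.mk y : ↥C ⧸ Z) = x := e.injective hye
    refine ⟨y, orderOf_eq_prime (by rw [pow_two, hy]) fun h1 => ?_, hmk⟩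
    rw [h1, QuotientGroup.mk_one] at hmk
    rw [← hmk, orderOf_one] at hx
    exact absurd hx (by norm_num)
  · rintro ⟨g, hg⟩
    have hgC : g ∈ C := by
      refine Subgroup.mem_centralizer_iff.2 fun x hx => ?_
      rw [Set.mem_singleton_iff.1 hx, ← hg, ← pow_succ, ← pow_succ']
    have hg1 : π ⟨g, hgC⟩ * π ⟨g, hgC⟩ = 1 := by
      rw [← map_mul, hker, Subgroup.coe_mul, ← pow_two, hg]
      exact Subgroup.mem_zpowers d
    obtain ⟨y, hy, hye⟩ := CfsgLib.ThreeTransp.USix.lift_involution hc hσ hπ hz hg1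
    have hk : π (y⁻¹ * ⟨g, hgC⟩) = 1 := by rw [map_mul, map_inv, hye, inv_mul_cancel]
    obtain ⟨h1, h2⟩ := hz _ hk
    have h3 : (⟨g, hgC⟩ : ↥C) * ⟨g, hgC⟩ = 1 := by
      calc (⟨g, hgC⟩ : ↥C) * ⟨g, hgC⟩
          = (y * (y⁻¹ * ⟨g, hgC⟩)) * (y * (y⁻¹ * ⟨g, hgC⟩)) := by rw [mul_inv_cancel_left]
        _ = (y * y) * ((y⁻¹ * ⟨g, hgC⟩) * (y⁻¹ * ⟨g, hgC⟩)) := by
            rw [mul_assoc y, ← mul_assoc (y⁻¹ * _) y, (h2 y).eq]; simp only [mul_assoc]
        _ = 1 := by rw [hy, h1, one_mul]
    have h4 : g * g = 1 := congrArg Subtype.val h3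
    rw [← pow_two, hg] at h4
    rw [h4, orderOf_one] at hd
    exact absurd hd (by norm_num)

end Cfsg.Agent.S5452
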