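import Cfsg.Statements.S5459

set_option autoImplicit false
open Cfsg

open scoped commutatorElement

namespace Cfsg.Agent.S5459

/-- Let G be a finite group with a quasisimple normal subgroup L and an involution d such that G is generated by L and d, the centre of L has odd order, and d inverts every element of the centre of L. If the commuting graph on the conjugacy class of the image of d in G modulo the centre of L is connected, then the commuting graph on the conjugacy class of d is connected. -/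
theorem result {G : Type*} [Group G] [Finite G] (L : Subgroup G) [L.Normal] (hL : Cfsg.IsQuasisimple ↥L) (d : G) (hd : orderOf d = 2) (hgen : L ⊔ Subgroup.zpowers d = ⊤) (hodd : Odd (Nat.card ↥(Subgroup.center ↥L))) (hinv : ∀ c ∈ (Subgroup.center ↥L).map L.subtype, d * c * d⁻¹ = c⁻¹) [hn : ((Subgroup.center ↥L).map L.subtype).Normal] (hconn : (Cfsg.commutingGraph (conjugatesOf (QuotientGroup.mk d : G ⧸ (Subgroup.center ↥L).map L.subtype))).Connected) : (Cfsg.commutingGraph (conjugatesOf d)).Connected := by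
  classical
  set Z := (Subgroup.center ↥L).map L.subtype with hZ
  have hZL : Z ≤ L := Subgroup.map_subtype_le _
  have hZc : ∀ c ∈ Z, ∀ l ∈ L, l * c = c * l := by
    rintro _ ⟨c, hc, rfl⟩ l hl
    exact congrArg Subtype.val (Subgroup.mem_center_iff.1 hc ⟨l, hl⟩)
  have hoddZ : Odd (Nat.card Z) := by
    rw [hZ, Subgroup.card_subtype]; exact hodd
  have hroot : ∀ c ∈ Z, ∃ s ∈ Z, s * s = c := by
    intro c hc
    obtain ⟨k, hk⟩ := hoddZ
    refine ⟨c ^ (k + 1), pow_mem hc _, ?_⟩
    rw [← pow_add, show k + 1 + (k + 1) = Nat.card Z + 1 by omega, pow_succ]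
    have : (⟨c, hc⟩ : Z) ^ Nat.card Z = 1 := pow_card_eq_one'
    rw [show c ^ Nat.card Z = 1 from congrArg Subtype.val this, one_mul]
  -- every conjugate of `d` inverts `Z`
  have hconjinv : ∀ x ∈ conjugatesOf d, ∀ c ∈ Z, x * c = c⁻¹ * x := by
    intro x hx c hc
    replace hx := isConj_iff.1 hx
    obtain ⟨g, rfl⟩ := hx
    have h := hinv _ (hn.conj_mem c hc g⁻¹)
    rw [inv_inv] at h
    have h2 := congrArg (fun t => g * t * g⁻¹) h
    simp only [mul_inv_rev, inv_inv, mul_assoc, mul_inv_cancel_left, inv_mul_cancel_left,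
      mul_inv_cancel, mul_one, inv_mul_cancel] at h2
    rw [← h2]; simp [mul_assoc]
  have hinvol : ∀ x ∈ conjugatesOf d, x * x = 1 := by
    intro x hx
    replace hx := isConj_iff.1 hx
    obtain ⟨g, rfl⟩ := hx
    have : d * d = 1 := by rw [← pow_two, ← hd, pow_orderOf_eq_one]
    rw [show g * d * g⁻¹ * (g * d * g⁻¹) = g * (d * d) * g⁻¹ by simp [mul_assoc], this, mul_one,
      mul_inv_cancel]
  have hcl : ∀ (g : G) {x : G}, x ∈ conjugatesOf d → g * x * g⁻¹ ∈ conjugatesOf d := by
    intro g x hx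
    exact IsConj.trans hx (isConj_iff.2 ⟨g, rfl⟩)
  let d₀ : conjugatesOf d := ⟨d, mem_conjugatesOf_self⟩
  -- conjugation acts on the graph
  let act : G → conjugatesOf d → conjugatesOf d := fun g x => ⟨g * x * g⁻¹, hcl g x.2⟩
  have hact : ∀ (g : G) {x y : conjugatesOf d}, (Cfsg.commutingGraph (conjugatesOf d)).Reachable x y →
      (Cfsg.commutingGraph (conjugatesOf d)).Reachable (act g x) (act g y) := by
    intro g x y h
    let f : Cfsg.commutingGraph (conjugatesOf d) →g Cfsg.commutingGraph (conjugatesOf d) :=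
      ⟨act g, fun {x y} hxy => by
        obtain ⟨hne, hc⟩ := hxy
        refine ⟨fun e => hne (Subtype.ext ?_), ?_⟩
        · simpa [act] using congrArg Subtype.val e
        · have hc' : Commute (x : G) y := hc.elim id Commute.symm
          exact Or.inl (hc'.map (MulAut.conj g).toMonoidHom)⟩
    exact h.map f
  -- lifting along the quotient
  have hlift : ∀ u : conjugatesOf (QuotientGroup.mk d : G ⧸ Z),
      ∃ x : conjugatesOf d, ((x : G) : G ⧸ Z) = u ∧
        (Cfsg.commutingGraph (conjugatesOf d)).Reachable d₀ x := by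
    intro u
    have hr := hconn.preconnected ⟨_, mem_conjugatesOf_self⟩ u
    rw [SimpleGraph.reachable_iff_reflTransGen] at hr
    induction hr with
    | refl => exact ⟨d₀, rfl, SimpleGraph.Reachable.refl _⟩
    | @tail v w _ hvw ih =>
      obtain ⟨x, hxv, hx⟩ := ih
      obtain ⟨hne, hc⟩ := hvw
      have hwm := w.2
      replace hwm := isConj_iff.1 hwm
      obtain ⟨gq, hgq⟩ := hwm
      obtain ⟨g, rfl⟩ := QuotientGroup.mk_surjective gq
      set y := g * d * g⁻¹ with hy
      have hyw : (y : G ⧸ Z) = w := hgq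
      have hyC : y ∈ conjugatesOf d := hcl g mem_conjugatesOf_self
      have hcm : Commute ((x : G) : G ⧸ Z) (y : G ⧸ Z) := by
        rw [hxv, hyw]; exact hc.elim id Commute.symm
      have hmem : (x : G) * y * x * y ∈ Z := by
        rw [← QuotientGroup.eq_one_iff]
        have h := hcm.eq
        rw [QuotientGroup.mk_mul, QuotientGroup.mk_mul, QuotientGroup.mk_mul,
          mul_assoc ((x : G) : G ⧸ Z) (y : G ⧸ Z), ← h, ← mul_assoc, mul_assoc _ (y : G ⧸ Z),
          ← QuotientGroup.mk_mul, ← QuotientGroup.mk_mul, hinvol _ x.2, hinvol _ hyC]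
        simp
      obtain ⟨c2, hc2Z, hc2⟩ := hroot _ hmem
      obtain ⟨s, hsZ, hs⟩ := hroot _ hc2Z
      let y' : conjugatesOf d := ⟨s * y * s⁻¹, hcl s hyC⟩
      have hy's : s * y * s⁻¹ = c2 * y := by
        rw [mul_assoc, hconjinv y hyC _ (inv_mem hsZ), inv_inv, ← mul_assoc, hs]
      have hy'w : ((y' : G) : G ⧸ Z) = w := by
        show ((s * y * s⁻¹ : G) : G ⧸ Z) = _
        rw [hy's, QuotientGroup.mk_mul, (QuotientGroup.eq_one_iff c2).2 hc2Z, one_mul, hyw]
      refine ⟨y', hy'w, hx.trans (SimpleGraph.Adj.reachable ⟨?_, Or.inl ?_⟩)⟩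
      · intro e
        apply hne
        apply Subtype.ext
        rw [← hxv, ← hy'w, e]
      · show Commute (x : G) (s * y * s⁻¹)
        rw [hy's]
        have hsw : (x : G) * y = c2 * c2 * (y * x) := by
          rw [hc2, mul_assoc ((x : G) * y * x), ← mul_assoc y, hinvol _ hyC, one_mul,
            mul_assoc ((x : G) * y), hinvol _ x.2, mul_one]
        show (x : G) * (c2 * y) = c2 * y * x
        rw [← mul_assoc, hconjinv _ x.2 _ hc2Z, mul_assoc, hsw]
        simp [mul_assoc]
  -- the stabiliser of the component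
  let H : Subgroup G :=
    { carrier := {g | (Cfsg.commutingGraph (conjugatesOf d)).Reachable d₀ (act g d₀)}
      one_mem' := by
        show (Cfsg.commutingGraph (conjugatesOf d)).Reachable d₀ (act 1 d₀)
        rw [show act 1 d₀ = d₀ from Subtype.ext (by simp [act])]
      mul_mem' := fun {a b} ha hb => by
        show (Cfsg.commutingGraph (conjugatesOf d)).Reachable d₀ (act (a * b) d₀)
        have h := ha.trans (hact a hb)
        rwa [show act a (act b d₀) = act (a * b) d₀ from Subtype.ext (by simp [act, mul_assoc])] at h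
      inv_mem' := fun {a} ha => by
        show (Cfsg.commutingGraph (conjugatesOf d)).Reachable d₀ (act a⁻¹ d₀)
        have h := (hact a⁻¹ ha).symm
        rwa [show act a⁻¹ (act a d₀) = d₀ from Subtype.ext (by simp [act, mul_assoc])] at h }
  have hdH : d ∈ H := by
    show (Cfsg.commutingGraph (conjugatesOf d)).Reachable d₀ (act d d₀)
    rw [show act d d₀ = d₀ from Subtype.ext (by simp [act, d₀])]
  have hsplit : ∀ g : G, ∃ h ∈ H, ∃ z ∈ Z, g = h * z := by
    intro g
    obtain ⟨x, hxu, hx⟩ := hlift ⟨_, (isConj_iff.2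
      ⟨(g : G ⧸ Z), rfl⟩)⟩
    have hmem : (x : G) * (g * d * g⁻¹)⁻¹ ∈ Z := by
      rw [← QuotientGroup.eq_one_iff, QuotientGroup.mk_mul, QuotientGroup.mk_inv, hxu]
      simp
    obtain ⟨s, hsZ, hs⟩ := hroot _ hmem
    refine ⟨s * g, ?_, g⁻¹ * s⁻¹ * g, by
      have := hn.conj_mem _ (inv_mem hsZ) g⁻¹
      rwa [inv_inv] at this, by simp [mul_assoc]⟩
    show (Cfsg.commutingGraph (conjugatesOf d)).Reachable d₀ (act (s * g) d₀)
    have hxe : act (s * g) d₀ = x := by
      apply Subtype.ext
      show s * g * d * (s * g)⁻¹ = x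
      have hy : g * d * g⁻¹ ∈ conjugatesOf d := hcl g mem_conjugatesOf_self
      calc s * g * d * (s * g)⁻¹ = s * ((g * d * g⁻¹) * s⁻¹) := by simp [mul_assoc]
        _ = s * (s * (g * d * g⁻¹)) := by rw [hconjinv _ hy _ (inv_mem hsZ), inv_inv]
        _ = (x : G) := by rw [← mul_assoc, hs, inv_mul_cancel_right]
    rw [hxe]; exact hx
  have hLH : L ≤ H := by
    have hperf : ⁅L, L⁆ = L := by
      have h := hL.1.commutator_eq_top
      rw [commutator_def] at h
      calc ⁅L, L⁆ = Subgroup.map L.subtype ⁅(⊤ : Subgroup L), (⊤ : Subgroup L)⁆ := by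
            rw [Subgroup.map_commutator, ← MonoidHom.range_eq_map, Subgroup.range_subtype]
        _ = L := by rw [h, ← MonoidHom.range_eq_map, Subgroup.range_subtype]
    rw [← hperf, Subgroup.commutator_le]
    intro a ha b hb
    obtain ⟨h1, hh1, z1, hz1, rfl⟩ := hsplit a
    obtain ⟨h2, hh2, z2, hz2, rfl⟩ := hsplit b
    have e1 : h1 * z1 = z1 * h1 := hZc z1 hz1 h1 (by
      have := mul_mem ha (inv_mem (hZL hz1)); simpa using this)
    have hh2L : h2 ∈ L := by
      have := mul_mem hb (inv_mem (hZL hz2)); simpa using this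
    have e2 : h2 * z2 = z2 * h2 := hZc z2 hz2 h2 hh2L
    have e3 : z1 * h2 = h2 * z1 := (hZc z1 hz1 h2 hh2L).symm
    have e4 : z2 * h1 = h1 * z2 := (hZc z2 hz2 h1 (by
      have := mul_mem ha (inv_mem (hZL hz1)); simpa using this)).symm
    have e5 : z1 * z2 = z2 * z1 := hZc z2 hz2 z1 (hZL hz1)
    have key : ⁅h1 * z1, h2 * z2⁆ = ⁅h1, h2⁆ := by
      rw [commutatorElement_def, commutatorElement_def]
      have f1 : h1 * z1 * (h2 * z2) = h1 * h2 * (z1 * z2) := by
        rw [mul_assoc h1 z1, ← mul_assoc z1, e3]; simp [mul_assoc]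
      have f2 : h2 * z2 * (h1 * z1) = h2 * h1 * (z1 * z2) := by
        rw [mul_assoc h2 z2, ← mul_assoc z2, e4, mul_assoc h1, ← e5]; simp [mul_assoc]
      calc h1 * z1 * (h2 * z2) * (h1 * z1)⁻¹ * (h2 * z2)⁻¹
          = h1 * z1 * (h2 * z2) * (h2 * z2 * (h1 * z1))⁻¹ := by simp [mul_assoc]
        _ = h1 * h2 * h1⁻¹ * h2⁻¹ := by rw [f1, f2]; simp [mul_assoc]
    rw [key, commutatorElement_def]
    exact mul_mem (mul_mem (mul_mem hh1 hh2) (inv_mem hh1)) (inv_mem hh2)
  have htop : H = ⊤ := top_le_iff.1 (hgen ▸ sup_le hLH (Subgroup.zpowers_le.2 hdH))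
  haveI : Nonempty (conjugatesOf d) := ⟨d₀⟩
  refine ⟨fun x y => ?_⟩
  have key : ∀ z : conjugatesOf d, (Cfsg.commutingGraph (conjugatesOf d)).Reachable d₀ z := by
    intro z
    have hz := z.2
    replace hz := isConj_iff.1 hz
    obtain ⟨g, hg⟩ := hz
    have hgH : g ∈ H := by rw [htop]; trivial
    have h' : (Cfsg.commutingGraph (conjugatesOf d)).Reachable d₀ (act g d₀) := hgH
    rwa [show act g d₀ = z from Subtype.ext hg] at h'
  exact (key x).symm.trans (key y)

end Cfsg.Agent.S5459
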