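import Cfsg.Statements.S5460
import Cfsg.Agent.Lib.Spor.LargeFi.SixTopMain
import Cfsg.Agent.Lib.Spor.LargeFi.SixQuot
import Cfsg.Agent.S5450

set_option autoImplicit false
open Cfsg

namespace Cfsg.Agent.S5460

/-- Let X be a finite group with a subgroup G₀ of index 2 that is of large Fischer type at an involution z central in some Sylow 2-subgroup of G₀ (the generalized Fitting subgroup Q of the centralizer C of z in G₀ is extraspecial of order 2^13, C has normal subgroups Q ≤ H₁ ≤ H₂ with H₁/Q of order 3, H₂/H₁ isomorphic to the projective special unitary group of dimension 4 over the field with nine elements and H₂ of index 2 in C, and some G₀-conjugate of z other than z lies in Q), and suppose the generalized Fitting subgroup of the centralizer of z in X is Q as well. Then there is an involution d of X outside G₀ commuting with z, and an involution t of the centralizer Y of d in G₀, such that: the centralizer of t in Y is quasisimple; its quotient by the subgroup generated by t is of type M(22)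 for some generating conjugacy class of 3-transpositions and has an involution whose own centralizer is quasisimple, with quotient by it the projective special unitary group of dimension 6 over the field with four elements, and which is not weakly closed in that centralizer; t is not weakly closed in its centralizer in Y; and the conjugacy class of t in Y is a class of 3-transpositions generating Y with respect to which Y is of type M(23). -/
theorem result {X : Type*} [Group X] [Finite X] (G₀ : Subgroup X) (hidx : G₀.index = 2) (z : ↥G₀) (Q : Subgroup (Subgroup.centralizer ({z} : Set ↥G₀))) [Q.Normal] (hF : Cfsg.IsOfLargeFischerTypeAt z Q) (hcentral : ∃ P : Sylow 2 ↥G₀, z ∈ (P : Subgroup ↥G₀) ∧ ∀ x ∈ (P : Subgroup ↥G₀), Commute x z) (hFX : (Cfsg.generalizedFittingSubgroup ↥(Subgroup.centralizer ({(z : X)} : Set X))).map (Subgroup.subtype _) = ((Q.map (Subgroup.subtype _)).map G₀.subtype)) : ∃ d : X, orderOf d = 2 ∧ d ∉ G₀ ∧ Commute d (z : X) ∧ ∃ t : ↥(G₀ ⊓ Subgroup.centralizer ({d} : Set X)), orderOf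 t = 2 ∧ Cfsg.IsQuasisimple ↥(Subgroup.centralizer ({t} : Set ↥(G₀ ⊓ Subgroup.centralizer ({d} : Set X)))) ∧ (∃ (_ : ((Subgroup.zpowers t).subgroupOf (Subgroup.centralizer ({t} : Set ↥(G₀ ⊓ Subgroup.centralizer ({d} : Set X))))).Normal), (∃ E : Set (↥(Subgroup.centralizer ({t} : Set ↥(G₀ ⊓ Subgroup.centralizer ({d} : Set X)))) ⧸ (Subgroup.zpowers t).subgroupOf (Subgroup.centralizer ({t} : Set ↥(G₀ ⊓ Subgroup.centralizer ({d} : Set X))))), Cfsg.IsThreeTranspositionClass E ∧ Cfsg.IsOfTypeM22 _ E) ∧ ∃ d' : ↥(Subgroup.centralizer ({t} : Set ↥(G₀ ⊓ Subgroup.centralizer ({d} : Set X)))) ⧸ (Subgroup.zpowers t).subgroupOf (Subgroup.centralizer ({t} : Set ↥(G₀ ⊓ Subgroup.centralizer ({d} : Set X)))), orderOf d' = 2 ∧ Cfsg.IsQuasisimple ↥(Subgroup.centralizer ({d'} : Set _)) ∧ (∃ (K : Type) (_ : Field K) (_ : Fintype K), Fintype.card K = 4 ∧ ∃ _ : ((Subgroup.zpowers d').subgroupOf (Subgroup.centralizer ({d'} : Set _))).Normal, Nonempty (↥(Subgroup.centralizer ({d'} : Set _)) ⧸ (Subgroup.zpowers d').subgroupOf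 (Subgroup.centralizer ({d'} : Set _)) ≃* Cfsg.PSU 6 K 2)) ∧ ∃ g, g * d' * g⁻¹ ∈ Subgroup.centralizer ({d'} : Set _) ∧ g * d' * g⁻¹ ≠ d') ∧ (∃ g : ↥(G₀ ⊓ Subgroup.centralizer ({d} : Set X)), g * t * g⁻¹ ∈ Subgroup.centralizer ({t} : Set ↥(G₀ ⊓ Subgroup.centralizer ({d} : Set X))) ∧ g * t * g⁻¹ ≠ t) ∧ Cfsg.IsThreeTranspositionClass (conjugatesOf t) ∧ Cfsg.IsOfTypeM23 ↥(G₀ ⊓ Subgroup.centralizer ({d} : Set X)) (conjugatesOf t) := by
  obtain ⟨D⟩ := CfsgLib.Spor.LargeFi.model_of_type hF
  obtain ⟨B, hN⟩ := CfsgLib.Spor.LargeFi.Model.ABase.exists_normed hF D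
  have S : CfsgLib.Spor.LargeFi.SixTop.Sit G₀ z Q B.sE :=
    { hidx := hidx
      hF := hF
      hcentral := hcentral
      hFX := hFX
      eQ := B.sE_le_qG
      eEl := B.sE_elementary
      eCard := B.card_sE
      eZ := B.z_not_mem_sE
      eConj := fun e he => B.sE_not_conj hF hN he
      eQS := B.sC_quasisimple hF hN
      ePSU := by
        obtain ⟨F, _, _, hF4, ⟨e⟩⟩ := B.sX_iso hF hN
        exact ⟨inferInstanceAs (B.sE.subgroupOf B.sC).Normal, F, inferInstance, inferInstance, hF4, ⟨e⟩⟩
      cent := fun t htQ ht2 htz => by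
        haveI hn : ((Subgroup.zpowers t).subgroupOf (Subgroup.centralizer ({t} : Set ↥G₀))).Normal := by
          refine ⟨fun x hx c => ?_⟩
          have hc : Commute (c : ↥G₀) t := Subgroup.mem_centralizer_singleton_iff.1 c.2
          obtain ⟨k, hk⟩ := Subgroup.mem_zpowers_iff.1 (Subgroup.mem_subgroupOf.1 hx)
          rw [Subgroup.mem_subgroupOf]
          refine Subgroup.mem_zpowers_iff.2 ⟨k, ?_⟩
          rw [Subgroup.coe_mul, Subgroup.coe_mul, InvMemClass.coe_inv, ← hk, (hc.zpow_right k).eq, mul_inv_cancel_right]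
        obtain ⟨h1, h2, h3, h4⟩ := Cfsg.Agent.S5450.result z Q hF t (by obtain ⟨c, hc, rfl⟩ := htQ; exact ⟨c.2, hc⟩) ht2 htz
          (Cfsg.generalizedFittingSubgroup ↥(Subgroup.centralizer ({t} : Set ↥G₀))) rfl
        exact CfsgLib.Spor.LargeFi.SixTop.cent22_of ht2 _ h1 h2 h3 h4 }
  exact S.main

end Cfsg.Agent.S5460
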