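import Cfsg.Statements.S5468
import Cfsg.Agent.Lib.KnownB.TypeM23.Main


set_option autoImplicit false
open Cfsg

namespace Cfsg.Agent.S5468

/-- Let G be a finite group with trivial centre generated by a conjugation-invariant set D of 3-transpositions on which it acts primitively, such that for some d in D the subgroup generated by the members of D other than d commuting with d has central largest normal 2- and 3-subgroups, and suppose G with D is of type M(23). Let d₁, d₂ be distinct commuting members of D, j = d₁ d₂, K the joint centralizer of d₁ and d₂ and C the centralizer of j. Then K has index 2 in C, the centre of K is the subgroup generated by d₁ and d₂, K is quasisimple with K modulo its centre isomorphic to the projective special unitary group of dimension 6 over the field with four elements, and C modulo the subgroup generated by d₁ and d₂ has trivial centre (so it is that unitary group extended by an outer involution). -/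
theorem result {G : Type*} [Group G] [Finite G] {D : Set G} (hD : Cfsg.IsThreeTranspositionGroup D) (hprim : Cfsg.IsPrimitiveUnderConj D) (d₀ : G) (hd₀ : d₀ ∈ D) (h3 : Cfsg.pCore 3 ↥(Subgroup.closure {y : G | y ∈ D ∧ y ≠ d₀ ∧ Commute d₀ y}) ≤ Subgroup.center ↥(Subgroup.closure {y : G | y ∈ D ∧ y ≠ d₀ ∧ Commute d₀ y})) (h2 : Cfsg.pCore 2 ↥(Subgroup.closure {y : G | y ∈ D ∧ y ≠ d₀ ∧ Commute d₀ y}) ≤ Subgroup.center ↥(Subgroup.closure {y : G | y ∈ D ∧ y ≠ d₀ ∧ Commute d₀ y})) (h23 : Cfsg.IsOfTypeM23 G D) (d₁ d₂ : G) (h₁ : d₁ ∈ D) (h₂ : d₂ ∈ D) (hne : d₁ ≠ d₂) (hc : Commute d₁ d₂) (K C V : Subgroup G) (hK : K = Subgroup.centralizer ({d₁, d₂} : Set G)) (hC : C = Subgroup.centralizer ({d₁ * d₂} : Set G)) (hV : V = Subgroup.closure ({d₁, d₂} : Set G)) [hn : (V.subgroupOf C).Normal] : K ≤ C ∧ (K.subgroupOf C).index = 2 ∧ (Subgroup.center ↥K).map K.subtype = V ∧ Cfsg.IsQuasisimple ↥K ∧ (∃ (F : Type) (_ : Field F) (_ : Fintype F), Fintype.card F = 4 ∧ Nonempty (↥K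 ⧸ Subgroup.center ↥K ≃* Cfsg.PSU 6 F 2)) ∧ Subgroup.center (↥C ⧸ V.subgroupOf C) = ⊥ := by
      classical
      have S := CfsgLib.KnownB.TypeM23.setting_of hD hprim h23
      have hb : d₂ ∈ CfsgLib.ThreeTransp.nb D d₁ := ⟨h₂, Ne.symm hne, hc⟩
      have hW := S.weak
      have hK' : K = Subgroup.closure (CfsgLib.KnownB.TypeM23.pnb D d₁ d₂) := hK.trans (S.centralizer_pair h₁ hb)
      have key := S.pair_facts h₁ hb
      rw [← hK'] at key
      obtain ⟨hqs, hiso, hcen⟩ := key
      obtain ⟨hs1, hs2⟩ := S.pair_self h₁ hb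
      rw [← hK'] at hs1 hs2
      have hmemK : ∀ g : G, g ∈ K ↔ Commute g d₁ ∧ Commute g d₂ := fun g => by
        rw [hK, Subgroup.mem_centralizer_iff]
        simp only [Set.mem_insert_iff, Set.mem_singleton_iff, forall_eq_or_imp, forall_eq]
        exact ⟨fun h => ⟨h.1.symm, h.2.symm⟩, fun h => ⟨h.1.symm, h.2.symm⟩⟩
      have hmemC : ∀ g : G, g ∈ C ↔ Commute g (d₁ * d₂) := fun g => by
        rw [hC, Subgroup.mem_centralizer_singleton_iff]; rfl
      have hKC : K ≤ C := fun g hg => (hmemC g).2 (((hmemK g).1 hg).1.mul_right ((hmemK g).1 hg).2)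
      have hfix : ∀ g : G, g ∈ C → g * d₁ * g⁻¹ = d₁ → g ∈ K := fun g hg h1 => by
        have h2 : Commute g d₁ := mul_inv_eq_iff_eq_mul.1 h1
        refine (hmemK g).2 ⟨h2, ?_⟩
        have h3 := h2.mul_right ((hmemC g).1 hg)
        rwa [← mul_assoc, hW.sq d₁ h₁, one_mul] at h3
      have hswap : ∀ g : G, g ∈ C → g ∉ K → g * d₁ * g⁻¹ = d₂ ∧ g * d₂ * g⁻¹ = d₁ := fun g hg hn => by
        rcases S.cls.pair_unique S.pCore_two h₁ h₂ (S.cls.conj g _ h₁) (S.cls.conj g _ h₂) hne
          (fun e => hne (mul_left_cancel (mul_right_cancel e))) hc ((CfsgLib.ThreeTransp.commute_conj_iff g).2 hc) (by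
            rw [show g * d₁ * g⁻¹ * (g * d₂ * g⁻¹) = g * (d₁ * d₂) * g⁻¹ by group, ((hmemC g).1 hg).eq]; group) with r | r
        · exact absurd (hfix g hg r.1) hn
        · exact r
      obtain ⟨t, ht1, ht2⟩ : ∃ t : G, t * d₁ * t⁻¹ = d₂ ∧ t * d₂ * t⁻¹ = d₁ := by
        obtain ⟨g, hg⟩ := S.cls.trans d₁ h₁ d₂ h₂
        have h1 : g * d₂ * g⁻¹ ∈ CfsgLib.ThreeTransp.nb D d₂ := by
          have := hW.nb_conj g hb
          rwa [hg] at this
        obtain ⟨k, hk, hke⟩ := S.cls.orb_nb S.prim h₂ h1 (show d₁ ∈ CfsgLib.ThreeTransp.nb D d₂ from ⟨h₁, hne, hc.symm⟩)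
        refine ⟨k * g, ?_, ?_⟩
        · rw [show k * g * d₁ * (k * g)⁻¹ = k * (g * d₁ * g⁻¹) * k⁻¹ by group, hg]
          exact CfsgLib.KnownB.TypeM22.conj_eq_of_commute (CfsgLib.ThreeTransp.commute_closure_nb hk)
        · rw [show k * g * d₂ * (k * g)⁻¹ = k * (g * d₂ * g⁻¹) * k⁻¹ by group, hke]
      have htC : t ∈ C := (hmemC t).2 (mul_inv_eq_iff_eq_mul.1 (by
        rw [show t * (d₁ * d₂) * t⁻¹ = t * d₁ * t⁻¹ * (t * d₂ * t⁻¹) by group, ht1, ht2, hc.eq]))
      have htK : t ∉ K := fun h => hne (by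
        rw [← ht1, CfsgLib.KnownB.TypeM22.conj_eq_of_commute ((hmemK t).1 h).1])
      have hV4 : ∀ x ∈ V, x = 1 ∨ x = d₁ ∨ x = d₂ ∨ x = d₁ * d₂ := by
        have hVle : V ≤ (Subgroup.center ↥K).map K.subtype := by
          rw [hV, Subgroup.closure_le]
          rintro x (rfl | rfl)
          · exact ⟨⟨_, hs1⟩, (hcen _).2 (Or.inr (Or.inl rfl)), rfl⟩
          · exact ⟨⟨_, hs2⟩, (hcen _).2 (Or.inr (Or.inr (Or.inl rfl))), rfl⟩
        intro x hx
        obtain ⟨y, hy, rfl⟩ := hVle hx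
        exact (hcen y).1 hy
      have hVmem : ∀ x : G, x = 1 ∨ x = d₁ ∨ x = d₂ ∨ x = d₁ * d₂ → x ∈ V := fun x hx => by
        have m1 : d₁ ∈ V := hV ▸ Subgroup.subset_closure (Set.mem_insert _ _)
        have m2 : d₂ ∈ V := hV ▸ Subgroup.subset_closure (Set.mem_insert_of_mem _ rfl)
        rcases hx with rfl | rfl | rfl | rfl
        exacts [one_mem _, m1, m2, mul_mem m1 m2]
      refine ⟨hKC, Subgroup.index_eq_two_iff.2 ⟨⟨t, htC⟩, fun g => ?_⟩, ?_, hqs, hiso, ?_⟩
      · simp only [Subgroup.mem_subgroupOf, Subgroup.coe_mul]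
        by_cases hg : (g : G) ∈ K
        · refine Or.inr ⟨hg, fun h => htK ?_⟩
          have := mul_mem (inv_mem hg) h
          rwa [inv_mul_cancel_left] at this
        · refine Or.inl ⟨hfix _ (mul_mem g.2 htC) ?_, hg⟩
          rw [show (g : G) * t * d₁ * ((g : G) * t)⁻¹ = (g : G) * (t * d₁ * t⁻¹) * (g : G)⁻¹ by group, ht1,
            (hswap g g.2 hg).2]
      · refine le_antisymm ?_ fun x hx => ?_
        · rintro _ ⟨y, hy, rfl⟩; exact hVmem _ ((hcen y).1 hy)
        · have h1 := hV4 x hx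
          exact ⟨⟨x, by rcases h1 with rfl | rfl | rfl | rfl; exacts [one_mem _, hs1, hs2, mul_mem hs1 hs2]⟩,
            (hcen _).2 h1, rfl⟩
      · refine (Subgroup.eq_bot_iff_forall _).2 fun q hq => ?_
        obtain ⟨z, rfl⟩ := QuotientGroup.mk_surjective q
        rw [QuotientGroup.eq_one_iff, Subgroup.mem_subgroupOf]
        have hnorm : ∀ k ∈ K, (z : G) * k * (z : G)⁻¹ * k⁻¹ ∈ V := fun k hk => by
          have h1 := Subgroup.mem_center_iff.1 hq (QuotientGroup.mk ⟨k, hKC hk⟩)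
          rw [← QuotientGroup.mk_mul, ← QuotientGroup.mk_mul, QuotientGroup.eq, Subgroup.mem_subgroupOf] at h1
          have h2 := hn.conj_mem ⟨_, mul_mem (inv_mem (mul_mem (hKC hk) z.2)) (mul_mem z.2 (hKC hk))⟩ h1
            (⟨k, hKC hk⟩ * z)
          simp only [Subgroup.mem_subgroupOf, Subgroup.coe_mul, Subgroup.coe_inv] at h2
          convert h2 using 1
          group
        obtain ⟨ρ, hρ⟩ : ∃ ρ : ↥K →* Subgroup.center ↥K, ∀ k, (((ρ k) : ↥K) : G) = (z : G) * k * (z : G)⁻¹ * (k : G)⁻¹ := by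
          have hmem : ∀ k : ↥K, ∃ c : Subgroup.center ↥K, ((c : ↥K) : G) = (z : G) * k * (z : G)⁻¹ * (k : G)⁻¹ := fun k => by
            have h1 := hV4 _ (hnorm k k.2)
            exact ⟨⟨⟨_, by rcases h1 with r | r | r | r <;> rw [r]; exacts [one_mem _, hs1, hs2, mul_mem hs1 hs2]⟩,
              (hcen _).2 h1⟩, rfl⟩
          choose c hc' using hmem
          refine ⟨MonoidHom.mk' c fun k l => Subtype.ext (Subtype.ext ?_), hc'⟩
          have h3 : (k : G) * ((c l : ↥K) : G) = ((c l : ↥K) : G) * k :=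
            congrArg Subtype.val (Subgroup.mem_center_iff.1 (c l).2 k)
          simp only [Subgroup.coe_mul]
          rw [hc', hc' k, Subgroup.coe_mul]
          calc (z : G) * ((k : G) * l) * (z : G)⁻¹ * ((k : G) * l)⁻¹
              = (z : G) * k * (z : G)⁻¹ * ((z : G) * l * (z : G)⁻¹ * (l : G)⁻¹) * (k : G)⁻¹ := by group
            _ = (z : G) * k * (z : G)⁻¹ * (k : G)⁻¹ * ((k : G) * ((c l : ↥K) : G)) * (k : G)⁻¹ := by rw [hc']; group
            _ = _ := by rw [h3, hc']; group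
        have hker : ∀ k : ↥K, ρ k = 1 := fun k => by
          have h1 : k ∈ commutator ↥K := by rw [hqs.1.commutator_eq_top]; trivial
          have hle : commutator ↥K ≤ ρ.ker := by
            rw [commutator_def, Subgroup.commutator_le]
            intro a _ b _
            rw [MonoidHom.mem_ker, map_commutatorElement, commutatorElement_eq_one_iff_mul_comm]
            exact Subtype.ext (Subgroup.mem_center_iff.1 (ρ b).2 _)
          exact MonoidHom.mem_ker.1 (hle h1)
        have hcomm : ∀ k ∈ K, Commute (z : G) k := fun k hk => by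
          have h1 := hρ ⟨k, hk⟩
          rw [hker] at h1
          exact mul_inv_eq_iff_eq_mul.1 (mul_inv_eq_one.1 h1.symm)
        have hzK : (z : G) ∈ K := hfix _ z.2 (CfsgLib.KnownB.TypeM22.conj_eq_of_commute (hcomm _ hs1))
        exact hVmem _ ((hcen ⟨z, hzK⟩).1 (Subgroup.mem_center_iff.2 fun k => Subtype.ext (hcomm k k.2).eq.symm))

end Cfsg.Agent.S5468
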