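import Cfsg.Statements.S5474
import Cfsg.Agent.Lib.KnownB.TypeM24Invol.Main
import Cfsg.Agent.Lib.ThreeTransp.TypeConfig

set_option autoImplicit false
open Cfsg

namespace Cfsg.Agent.S5474

/-- Let G be a finite group with trivial centre generated by a conjugation-invariant set D of 3-transpositions on which it acts primitively, such that for some d in D the subgroup generated by the members of D other than d commuting with d has central largest normal 2- and 3-subgroups, and suppose G with D is of type M(24). Then D is the only conjugacy class of 3-transpositions generating G. -/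
theorem result {G : Type*} [Group G] [Finite G] {D : Set G} (hD : Cfsg.IsThreeTranspositionGroup D) (hprim : Cfsg.IsPrimitiveUnderConj D) (d₀ : G) (hd₀ : d₀ ∈ D) (h3 : Cfsg.pCore 3 ↥(Subgroup.closure {y : G | y ∈ D ∧ y ≠ d₀ ∧ Commute d₀ y}) ≤ Subgroup.center ↥(Subgroup.closure {y : G | y ∈ D ∧ y ≠ d₀ ∧ Commute d₀ y})) (h2 : Cfsg.pCore 2 ↥(Subgroup.closure {y : G | y ∈ D ∧ y ≠ d₀ ∧ Commute d₀ y}) ≤ Subgroup.center ↥(Subgroup.closure {y : G | y ∈ D ∧ y ≠ d₀ ∧ Commute d₀ y})) (h24 : Cfsg.IsOfTypeM24 G D) (D' : Set G) (hD' : Cfsg.IsThreeTranspositionClass D') : D' = D := by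
  have S := CfsgLib.KnownB.TypeM24.Unique.setting_of hD hprim h24
  refine CfsgLib.ThreeTransp.TypeConfig.class_unique24 S.weak h24
    (fun a ha b hb => isConj_iff.2 (S.cls.trans a ha b hb)) (fun x hx => ?_) ?_ hD'
  · refine CfsgLib.KnownB.TypeM24.Invol.invol_prod S ?_ fun e => ?_
    · rw [← pow_two, ← hx]; exact pow_orderOf_eq_one x
    · rw [e, orderOf_one] at hx; norm_num at hx
  · rintro m h1 h4 x y ⟨l, hn, hl, hlD, hlc, hp⟩ ⟨l', hn', hl', hlD', hlc', hp'⟩
    exact hp ▸ hp' ▸ CfsgLib.KnownB.TypeM24.Invol.prod_conj S hlD hn hlc hlD' hn' hlc' (hl.trans hl'.symm)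
      (hl.symm ▸ h1) (hl.symm ▸ h4)

end Cfsg.Agent.S5474
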