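import Cfsg.Statements.S5520
import Cfsg.Agent.Lib.Spor.U62.Final


set_option autoImplicit false
open Cfsg

namespace Cfsg.Agent.S5520

/-- In the special unitary group of dimension 6 over the field with four elements (determinant-one matrices preserving the standard Hermitian form), the subgroups K whose centre has order 3 with K modulo its centre isomorphic to the projective special unitary group of dimension 4 over the field with nine elements fall into exactly three conjugacy classes. -/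
theorem result (F : Type) [Field F] [Fintype F] (hF : Fintype.card F = 4) (F9 : Type) [Field F9] [Fintype F9] (hF9 : Fintype.card F9 = 9) : ∃ K₁ K₂ K₃ : Subgroup ↥(Cfsg.SU 6 F 2), (∀ K ∈ [K₁, K₂, K₃], Nat.card ↥(Subgroup.center ↥K) = 3 ∧ Nonempty (↥K ⧸ Subgroup.center ↥K ≃* Cfsg.PSU 4 F9 3)) ∧ (¬ ∃ g : ↥(Cfsg.SU 6 F 2), K₁.map (MulAut.conj g).toMonoidHom = K₂) ∧ (¬ ∃ g : ↥(Cfsg.SU 6 F 2), K₁.map (MulAut.conj g).toMonoidHom = K₃) ∧ (¬ ∃ g : ↥(Cfsg.SU 6 F 2), K₂.map (MulAut.conj g).toMonoidHom = K₃) ∧ ∀ K : Subgroup ↥(Cfsg.SU 6 F 2), Nat.card ↥(Subgroup.center ↥K) = 3 → Nonempty (↥K ⧸ Subgroup.center ↥K ≃* Cfsg.PSU 4 F9 3) → ∃ g : ↥(Cfsg.SU 6 F 2), K.map (MulAut.conj g).toMonoidHom = K₁ ∨ K.map (MulAut.conj g).toMonoidHom = K₂ ∨ K.map (MulAut.conj g).toMonoidHom = K₃ := by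
  classical
  obtain ⟨φ⟩ := CfsgLib.Spor.U62.exists_fieldIso hF
  let ε := CfsgLib.Spor.U62.suIso φ 6 2
  let L : Fin 3 → Subgroup ↥(Cfsg.SU 6 F 2) := fun i => (CfsgLib.Spor.U62.KS i).map ε.toMonoidHom
  have hL : ∀ i, Nat.card ↥(Subgroup.center ↥(L i)) = 3 ∧
      Nonempty (↥(L i) ⧸ Subgroup.center ↥(L i) ≃* Cfsg.PSU 4 F9 3) := fun i => by
    obtain ⟨⟨hz, ⟨e⟩⟩, -⟩ := CfsgLib.Spor.U62.KS_spec hF9 i
    exact CfsgLib.Spor.U62.cover_transport (Subgroup.equivMapOfInjective _ _ ε.injective) hz e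
  have hne : ∀ i j, i ≠ j → ¬ ∃ g : ↥(Cfsg.SU 6 F 2), (L i).map (MulAut.conj g).toMonoidHom = L j := by
    rintro i j hij ⟨g, hg⟩
    obtain ⟨g', rfl⟩ := ε.surjective g
    rw [← CfsgLib.Spor.U62.map_conj_transport] at hg
    exact CfsgLib.Spor.U62.not_conj hF9 hij g' (Subgroup.map_injective ε.injective hg)
  refine ⟨L 0, L 1, L 2, ?_, hne 0 1 (by decide), hne 0 2 (by decide), hne 1 2 (by decide), ?_⟩
  · intro K hK
    simp only [List.mem_cons, List.not_mem_nil, or_false] at hK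
    rcases hK with rfl | rfl | rfl
    exacts [hL 0, hL 1, hL 2]
  · rintro K hz ⟨e⟩
    obtain ⟨g, i, hi⟩ := CfsgLib.Spor.U62.classify hF9 (K := K.map ε.symm.toMonoidHom)
      (CfsgLib.Spor.U62.cover_transport (Subgroup.equivMapOfInjective _ _ ε.symm.injective) hz e)
    refine ⟨ε g, ?_⟩
    have hK' : (K.map ε.symm.toMonoidHom).map ε.toMonoidHom = K := by
      rw [Subgroup.map_map]
      exact (congrArg (fun f => Subgroup.map f K) (show ε.toMonoidHom.comp ε.symm.toMonoidHom = MonoidHom.id _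
        from MonoidHom.ext fun x => ε.apply_symm_apply x)).trans (Subgroup.map_id K)
    have h : K.map (MulAut.conj (ε g)).toMonoidHom = L i := by
      rw [show L i = (CfsgLib.Spor.U62.KS i).map ε.toMonoidHom from rfl, ← hi,
        CfsgLib.Spor.U62.map_conj_transport, hK']
    fin_cases i
    exacts [Or.inl h, Or.inr (Or.inl h), Or.inr (Or.inr h)]

end Cfsg.Agent.S5520
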