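import Cfsg.Agent.Lib.Spor.SixSym
import Cfsg.Statements.S5521

set_option autoImplicit false
open Cfsg

namespace Cfsg.Agent.S5521

/-- The Mathieu group M₂₄ in its natural action on the 24 coordinate positions of the binary Golay code has minimal base size exactly 7: every set of at most 6 positions is fixed pointwise by some non-identity element of M₂₄, while some set of 7 positions is fixed pointwise only by the identity. -/
theorem result :
    (∀ B : Finset Cfsg.GolayPt, B.card ≤ 6 → ∃ g ∈ Cfsg.M24, g ≠ 1 ∧ ∀ b ∈ B, g b = b) ∧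
    (∃ B : Finset Cfsg.GolayPt, B.card = 7 ∧ ∀ g ∈ Cfsg.M24, (∀ b ∈ B, g b = b) → g = 1) := by
  classical
  refine ⟨fun B hB => ?_, ?_⟩
  · obtain ⟨E, hBE, -, hE⟩ := Finset.exists_subsuperset_card_eq (Finset.subset_univ B) hB
      (by rw [Finset.card_univ, CfsgLib.Spor.card_golayPt]; norm_num)
    have hc := CfsgLib.Spor.natCard_six_fix_set hE
    have h1 : 1 < Nat.card {g : Equiv.Perm Cfsg.GolayPt // g ∈ Cfsg.M24 ∧ ∀ p ∈ E, g p = p} := by
      rw [hc]; split_ifs <;> norm_num
    haveI := Finite.one_lt_card_iff_nontrivial.1 h1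
    obtain ⟨g, hg⟩ := exists_ne
      (⟨1, one_mem _, fun p _ => rfl⟩ : {g : Equiv.Perm Cfsg.GolayPt // g ∈ Cfsg.M24 ∧ ∀ p ∈ E, g p = p})
    exact ⟨g.1, g.2.1, fun e => hg (Subtype.ext e), fun b hb => g.2.2 b (hBE hb)⟩
  · refine ⟨CfsgLib.Spor.toSet 191, by decide +kernel, fun g hg h => ?_⟩
    refine CfsgLib.Spor.base_fix_trivial hg fun b hb => h _ ?_
    revert b; decide +kernel

end Cfsg.Agent.S5521
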