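import Cfsg.Statements.S5541

set_option autoImplicit false
open Cfsg

namespace Cfsg.Agent.S5541

/-- Let ρ be a representation of a group H on a finite-dimensional real vector space U whose only ρ-invariant subspaces are the zero subspace and U, and suppose U carries a non-zero ρ-invariant symmetric bilinear form. Then the following are equivalent: (1) there is a non-zero ρ-equivariant commutative bilinear product on U of which every ρ-equivariant bilinear product is a scalar multiple; (2) there is a non-zero ρ-invariant trilinear form on U that is symmetric under all permutations of its arguments and of which every ρ-invariant trilinear form is a scalar multiple. -/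
theorem result {H : Type*} [Group H] {U : Type*} [AddCommGroup U] [Module ℝ U] [FiniteDimensional ℝ U] (ρ : Representation ℝ H U) (hirr : ∀ W : Submodule ℝ U, (∀ g : H, W.map (ρ g) ≤ W) → W = ⊥ ∨ W = ⊤) (B : LinearMap.BilinForm ℝ U) (hB0 : B ≠ 0) (hBs : ∀ u v, B u v = B v u) (hBi : ∀ (g : H) (u v : U), B (ρ g u) (ρ g v) = B u v) : (∃ m : U →ₗ[ℝ] U →ₗ[ℝ] U, m ≠ 0 ∧ (∀ u v, m u v = m v u) ∧ (∀ (g : H) (u v : U), m (ρ g u) (ρ g v) = ρ g (m u v)) ∧ ∀ m' : U →ₗ[ℝ] U →ₗ[ℝ] U, (∀ (g : H) (u v : U), m' (ρ g u) (ρ g v) = ρ g (m' u v)) → ∃ c : ℝ, m' = c • m) ↔ (∃ t : U →ₗ[ℝ] U →ₗ[ℝ] U →ₗ[ℝ] ℝ, t ≠ 0 ∧ (∀ u v w, t u v w = t v u w ∧ t u v w = t u w v) ∧ (∀ (g : H) (u v w : U), t (ρ g u) (ρ g v) (ρ g w) = t u v w) ∧ ∀ t' : U →ₗ[ℝ] U →ₗ[ℝ] U →ₗ[ℝ] ℝ, (∀ (g : H) (u v w : U), t' (ρ g u) (ρ g v) (ρ g w) = t' u v w) → ∃ c : ℝ, t' = c • t) := by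
  -- the form is non-degenerate
  have hker : LinearMap.ker B = ⊥ := by
    rcases hirr (LinearMap.ker B) (fun g => by
      rintro _ ⟨u, hu, rfl⟩
      rw [LinearMap.mem_ker]
      refine LinearMap.ext fun v => ?_
      have h := hBi g u (ρ g⁻¹ v)
      rw [← Module.End.mul_apply, ← map_mul, mul_inv_cancel, map_one, Module.End.one_apply] at h
      rw [h, LinearMap.mem_ker.1 hu]
      rfl) with h | h
    · exact h
    · exact absurd (LinearMap.ker_eq_top.1 h) hB0
  have hinj : Function.Injective B := LinearMap.ker_eq_bot.1 hker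
  have hsurj : Function.Surjective B :=
    (LinearMap.injective_iff_surjective_of_finrank_eq_finrank Subspace.dual_finrank_eq.symm).1 hinj
  let e : U ≃ₗ[ℝ] (U →ₗ[ℝ] ℝ) := LinearEquiv.ofBijective B ⟨hinj, hsurj⟩
  have he : ∀ t u, B (e.symm t) u = t u := fun t u => by
    have h : e (e.symm t) = t := e.apply_symm_apply t
    exact congrArg (fun f : U →ₗ[ℝ] ℝ => f u) h
  -- the correspondence
  let toT : (U →ₗ[ℝ] U →ₗ[ℝ] U) → (U →ₗ[ℝ] U →ₗ[ℝ] U →ₗ[ℝ] ℝ) := fun m => m.compr₂ B
  let toM : (U →ₗ[ℝ] U →ₗ[ℝ] U →ₗ[ℝ] ℝ) → (U →ₗ[ℝ] U →ₗ[ℝ] U) := fun t => t.compr₂ e.symm.toLinearMap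
  have htoT : ∀ m u v w, toT m u v w = B (m u v) w := fun _ _ _ _ => rfl
  have htoM : ∀ t u v w, B (toM t u v) w = t u v w := fun t u v w => he (t u v) w
  have hTM : ∀ t, toT (toM t) = t := fun t =>
    LinearMap.ext fun u => LinearMap.ext fun v => LinearMap.ext fun w => by rw [htoT, htoM]
  have hMT : ∀ m, toM (toT m) = m := fun m =>
    LinearMap.ext fun u => LinearMap.ext fun v => hinj (LinearMap.ext fun w => by rw [htoM, htoT])
  have hsmulT : ∀ (c : ℝ) m, toT (c • m) = c • toT m := fun c m =>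
    LinearMap.ext fun u => LinearMap.ext fun v => LinearMap.ext fun w => by
      simp [toT]
  have hsmulM : ∀ (c : ℝ) t, toM (c • t) = c • toM t := fun c t =>
    LinearMap.ext fun u => LinearMap.ext fun v => by simp [toM]
  have hinv : ∀ (g : H) (u : U), ρ g (ρ g⁻¹ u) = u := fun g u => by
    rw [← Module.End.mul_apply, ← map_mul, mul_inv_cancel, map_one, Module.End.one_apply]
  have hequivT : ∀ m, (∀ (g : H) (u v : U), m (ρ g u) (ρ g v) = ρ g (m u v)) →
      ∀ (g : H) (u v w : U), toT m (ρ g u) (ρ g v) (ρ g w) = toT m u v w := fun m hm g u v w => by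
    rw [htoT, htoT, hm, hBi]
  have hequivM : ∀ t, (∀ (g : H) (u v w : U), t (ρ g u) (ρ g v) (ρ g w) = t u v w) →
      ∀ (g : H) (u v : U), toM t (ρ g u) (ρ g v) = ρ g (toM t u v) := fun t ht g u v =>
    hinj (LinearMap.ext fun w => by
      obtain ⟨w, rfl⟩ : ∃ w', ρ g w' = w := ⟨_, hinv g w⟩
      rw [htoM, ht, hBi, htoM])
  constructor
  · rintro ⟨m, hm0, hms, hme, hmu⟩
    have ht0 : toT m ≠ 0 := fun h => hm0 (by
      refine LinearMap.ext fun u => LinearMap.ext fun v => hinj (LinearMap.ext fun w => ?_)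
      rw [← htoT, h]; simp)
    have hsym1 : ∀ u v w, toT m u v w = toT m v u w := fun u v w => by rw [htoT, htoT, hms]
    -- the transposed form is a multiple
    let t' : U →ₗ[ℝ] U →ₗ[ℝ] U →ₗ[ℝ] ℝ :=
      LinearMap.mk₂ ℝ (fun u v => (toT m u).flip v)
        (fun a b v => by ext w; simp [toT])
        (fun c a v => by ext w; simp [toT])
        (fun u a b => by ext w; simp [toT])
        (fun c u a => by ext w; simp [toT])
    have ht' : ∀ u v w, t' u v w = toT m u w v := fun _ _ _ => rfl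
    obtain ⟨c, hc⟩ := hmu (toM t') (hequivM t' fun g u v w => by rw [ht', ht', hequivT m hme])
    have hc' : ∀ u v w, toT m u w v = c * toT m u v w := fun u v w => by
      rw [← ht', ← hTM t', hc, hsmulT]; rfl
    obtain ⟨u, v, w, huvw⟩ : ∃ u v w, toT m u v w ≠ 0 := by
      by_contra h
      push Not at h
      exact ht0 (LinearMap.ext fun u => LinearMap.ext fun v => LinearMap.ext fun w => h u v w)
    have hcc : c * c = 1 := by
      have h := hc' u w v
      rw [hc' u v w, ← mul_assoc] at h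
      exact (mul_left_eq_self₀.1 h.symm).resolve_right huvw
    have hc1 : c = 1 := by
      rcases mul_self_eq_one_iff.1 hcc with h | h
      · exact h
      · exfalso
        subst h
        apply huvw
        have a1 := hc' u v w
        have a2 := hc' v u w
        have a3 := hc' w u v
        have b1 := hsym1 u v w
        have b2 := hsym1 u w v
        have b3 := hsym1 v w u
        linarith
    refine ⟨toT m, ht0, fun a b x => ⟨hsym1 a b x, ?_⟩, hequivT m hme, fun t ht => ?_⟩
    · rw [hc' a b x, hc1, one_mul]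
    · obtain ⟨k, hk⟩ := hmu (toM t) (hequivM t ht)
      exact ⟨k, by rw [← hTM t, hk, hsmulT]⟩
  · rintro ⟨t, ht0, hts, hte, htu⟩
    refine ⟨toM t, fun h => ht0 ?_, fun u v => hinj (LinearMap.ext fun w => ?_), hequivM t hte,
      fun m hm => ?_⟩
    · rw [← hTM t, h]
      refine LinearMap.ext fun u => LinearMap.ext fun v => LinearMap.ext fun w => ?_
      simp [toT]
    · rw [htoM, htoM, (hts u v w).1]
    · obtain ⟨k, hk⟩ := htu (toT m) (hequivT m hm)
      exact ⟨k, by rw [← hMT m, hk, hsmulM]⟩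

end Cfsg.Agent.S5541
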