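import Cfsg.Statements.S5555
import Cfsg.Agent.Lib.ThreeTransp.SmallComplement
import Cfsg.Agent.Lib.Base.Cores

set_option autoImplicit false
open Cfsg

open CfsgLib.ThreeTransp

namespace Cfsg.Agent.S5555

/-- Let G be a finite group generated by a conjugacy class D of 3-transpositions, with trivial centre and with generalized Fitting subgroup F*(G) = O₂(G) (so the Fitting subgroup is O₂(G) too). If G/O₂(G) is isomorphic to the derived group of SU₃(2) (the group of order 54 generated by nine 3-transpositions), then O₂(G) has a complement in G. -/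
theorem result {G : Type*} [Group G] [Finite G] {D : Set G} (hD : Cfsg.IsThreeTranspositionClass D)
    (hZ : Subgroup.center G = ⊥) (hF : Cfsg.generalizedFittingSubgroup G = Cfsg.pCore 2 G)
    (hq : ∃ (F : Type) (_ : Field F) (_ : Fintype F), Fintype.card F = 4 ∧ Nonempty (G ⧸ Cfsg.pCore 2 G ≃* ↥(commutator ↥(Cfsg.SU 3 F 2)))) :
    ∃ K : Subgroup G, (Cfsg.pCore 2 G).IsComplement' K := by
  obtain ⟨F, _, _, hF4, ⟨e⟩⟩ := hq
  obtain ⟨M, hM, hidx, hcard, hcen⟩ := su32_derived (F := F) hF4
  haveI : Finite ↥(commutator ↥(Cfsg.SU 3 F 2)) := Finite.of_equiv _ e.toEquiv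
  have hk : (e.toMonoidHom.comp (QuotientGroup.mk' (Cfsg.pCore 2 G))).ker = Cfsg.pCore 2 G := by
    ext x
    rw [MonoidHom.mem_ker]
    show e (QuotientGroup.mk' _ x) = 1 ↔ _
    rw [← map_one e, e.injective.eq_iff]
    exact QuotientGroup.eq_one_iff _
  obtain ⟨K, hK⟩ := exists_complement_three hD (e.toMonoidHom.comp (QuotientGroup.mk' (Cfsg.pCore 2 G)))
    (e.surjective.comp (QuotientGroup.mk'_surjective _)) (by
      rw [hk]; exact CfsgLib.Base.isPGroup_pCore 2 G) M hM hidx hcard hcen
  rw [hk] at hK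
  exact ⟨K, hK⟩

end Cfsg.Agent.S5555
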