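import Cfsg.Statements.S5557
import Cfsg.Agent.Lib.CharsMore.TwoRadical.Quot
import Cfsg.Agent.Lib.MultSU.Small
-- import your own Cfsg.Agent.* helpers here

set_option autoImplicit false
open Cfsg

namespace Cfsg.Agent.S5557

/-- Let G be a finite group generated by a conjugacy class D of 3-transpositions, with trivial centre and with generalized Fitting subgroup F*(G) = O₂(G) (so the Fitting subgroup is O₂(G) too). If G/O₂(G) is isomorphic to SU₇(2), then O₂(G) is elementary abelian. No complement is asserted. -/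
theorem result {G : Type*} [Group G] [Finite G] {D : Set G} (hD : Cfsg.IsThreeTranspositionClass D)
    (hZ : Subgroup.center G = ⊥) (hF : Cfsg.generalizedFittingSubgroup G = Cfsg.pCore 2 G)
    (hq : ∃ (F : Type) (_ : Field F) (_ : Fintype F), Fintype.card F = 4 ∧ Nonempty (G ⧸ Cfsg.pCore 2 G ≃* ↥(Cfsg.SU 7 F 2))) :
    Cfsg.IsElementaryAbelian 2 (Cfsg.pCore 2 G) := by
  obtain ⟨F, _, _, hF4, ⟨e⟩⟩ := hq
  have hFc : Nat.card F = 2 ^ 2 := by rw [Nat.card_eq_fintype_card, hF4]; norm_num
  obtain ⟨σ, h⟩ := CfsgLib.Classical.Unitary.exists_uFrob hFc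
  haveI : Fact (Nat.Prime 2) := ⟨Nat.prime_two⟩
  have hk := CfsgLib.CharsMore.TwoRadical.ker_comp_mk e
  have hmain := CfsgLib.CharsMore.TwoRadical.elementary_of_SU hD hZ hFc h (by norm_num) (by norm_num)
    (CfsgLib.MultSU.noMult_seven_two hFc h rfl) (e.toMonoidHom.comp (QuotientGroup.mk' _))
    (e.surjective.comp (QuotientGroup.mk'_surjective _)) (by rw [hk]; exact CfsgLib.Base.isPGroup_pCore 2 G)
  rwa [hk] at hmain

end Cfsg.Agent.S5557
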