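import Cfsg.Statements.S5558
import Cfsg.Agent.Lib.CharsMore.ThreeClassUnique.Main
import Cfsg.Agent.Lib.ThreeTransp.Blocks
import Cfsg.Agent.Lib.Components.FStar

set_option autoImplicit false
open Cfsg CfsgLib.Involutions CfsgLib.ThreeTransp CfsgLib.CharsMore.ThreeClassUnique

namespace Cfsg.Agent.S5558

/-- Let G be a finite group generated by a conjugacy class D of 3-transpositions, with trivial centre and with generalized Fitting subgroup F*(G) = O₂(G) (so the Fitting subgroup is O₂(G) too). If moreover O₂(G) is elementary abelian, then D is the only conjugacy class of 3-transpositions generating G. -/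
theorem result {G : Type*} [Group G] [Finite G] {D : Set G} (hD : Cfsg.IsThreeTranspositionClass D)
    (hZ : Subgroup.center G = ⊥) (hF : Cfsg.generalizedFittingSubgroup G = Cfsg.pCore 2 G)
    (hV : Cfsg.IsElementaryAbelian 2 (Cfsg.pCore 2 G)) :
    ∀ E : Set G, Cfsg.IsThreeTranspositionClass E → E = D := by
  intro E hE
  obtain ⟨hcomm, hsq⟩ := hV
  haveI := hcomm
  haveI hn : (pCore 2 G).Normal := Subgroup.sSup_normal _ (fun N hN => hN.1)
  set V := pCore 2 G with hVdef
  have hvcomm : ∀ x ∈ V, ∀ y ∈ V, x * y = y * x := fun x hx y hy =>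
    congrArg Subtype.val (IsMulCommutative.is_comm.comm (⟨x, hx⟩ : V) ⟨y, hy⟩)
  letI : CommGroup ↥V := { mul_comm := IsMulCommutative.is_comm.comm }
  letI : DistribMulAction G (Additive ↥V) :=
    { smul := fun g x => Additive.ofMul (MulAut.conjNormal g x.toMul)
      one_smul := fun x => Subtype.ext (by
        show (1 : G) * (x.toMul : G) * 1⁻¹ = (x.toMul : G)
        simp)
      mul_smul := fun g h x => Subtype.ext (by
        show g * h * (x.toMul : G) * (g * h)⁻¹ = g * (h * (x.toMul : G) * h⁻¹) * g⁻¹
        group)
      smul_zero := fun g => Subtype.ext (by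
        show g * (1 : G) * g⁻¹ = 1
        simp)
      smul_add := fun g x y => Subtype.ext (by
        show g * ((x.toMul : G) * (y.toMul : G)) * g⁻¹
          = g * (x.toMul : G) * g⁻¹ * (g * (y.toMul : G) * g⁻¹)
        group) }
  let i : Additive ↥V → G := fun x => (x.toMul : G)
  have hiV : ∀ x, i x ∈ V := fun x => x.toMul.2
  have hisurj : ∀ g ∈ V, ∃ x, i x = g := fun g hg => ⟨Additive.ofMul ⟨g, hg⟩, rfl⟩
  have hequiv : ∀ (g : G) x, i (g • x) = g * i x * g⁻¹ := fun g x => rfl
  have hinj : Function.Injective i := fun x y h => Additive.toMul.injective (Subtype.ext h)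
  have hfix : ∀ g : G, (∀ v : Additive ↥V, g • v = v) ↔ g ∈ V := by
    intro g
    refine ⟨fun h => ?_, fun hg v => hinj ?_⟩
    · have hc : g ∈ Subgroup.centralizer (generalizedFittingSubgroup G : Set G) := by
        rw [hF, Subgroup.mem_centralizer_iff]
        intro x hx
        obtain ⟨v, rfl⟩ := hisurj x hx
        have := hequiv g v
        rw [h v] at this
        conv_lhs => rw [this]
        rw [inv_mul_cancel_right]
      have hle := CfsgLib.Components.fitting_le_fstar
        (CfsgLib.Components.centralizer_fstar_le_fitting hc)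
      rwa [hF] at hle
    · rw [hequiv, hvcomm g hg _ (hiV v), mul_inv_cancel_right]
  have hB : Base i :=
    { add := fun x y => rfl
      inj := hinj
      equiv := hequiv
      two := fun x => hinj (by
        show (x.toMul : G) * (x.toMul : G) = 1
        rw [← pow_two]; exact hsq _ x.toMul.2)
      ker := fun g hg => hisurj g ((hfix g).1 hg)
      core := fun g hg hcomm => by
        rw [hfix]
        rcases eq_or_ne g 1 with rfl | hne
        · exact one_mem _
        have ho : orderOf g = 2 := (invol_iff).2 ⟨hg, hne⟩
        refine mem_pCore_of_commute_conj ho fun x => ?_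
        rw [invol_commute_iff ho (conj_invol x ho)]
        refine hsq _ ((hfix _).1 fun v => ?_)
        rw [mul_smul g, mul_smul (x * g), mul_smul x, ← hcomm, smul_inv_smul, ← mul_smul g g, hg,
          one_smul]
      cen := fun u hu => hinj (by
        show i u = 1
        rw [← Subgroup.mem_bot, ← hZ, Subgroup.mem_center_iff]
        intro g
        have := hequiv g u
        rw [hu] at this
        conv_rhs => rw [this]
        rw [inv_mul_cancel_right]) }
  have hT : ∀ {D : Set G}, IsThreeTranspositionClass D → TData (Additive ↥V) D := by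
    intro D hD
    refine { ts := hD.1, conj := class_conj_mem hD, gen := hD.2.2,
             cls := fun a ha b hb => class_conjugate hD ha hb, moved := fun d hd => ?_,
             twin := fun d hd a ha h v => ?_ }
    · by_contra hall
      push Not at hall
      have hdV := (hfix d).1 hall
      have hsub : D ⊆ (V : Set G) := fun y hy => by
        obtain ⟨g, rfl⟩ := class_conjugate hD hd hy
        exact hn.conj_mem d hdV g
      have htop : V = ⊤ := top_le_iff.1 (hD.2.2 ▸ (Subgroup.closure_le V).2 hsub)
      have hd1 : d = 1 := by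
        rw [← Subgroup.mem_bot, ← hZ, Subgroup.mem_center_iff]
        exact fun g => hvcomm g (htop ▸ Subgroup.mem_top g) d hdV
      have := hD.1.1 d hd
      rw [hd1, orderOf_one] at this
      exact absurd this (by norm_num)
    · have hm := (hfix _).2 (sameC_mul_mem_pCore hD.1 (class_conj_mem hD) hd ⟨ha, h⟩) v
      conv_lhs => rw [← hm, ← mul_smul, ← mul_assoc, ts_mul_self hD.1 hd, one_mul]
  obtain ⟨e₀, he₀, hEc⟩ := hE.2.1
  obtain ⟨d₀, hd₀, hDc⟩ := hD.2.1
  obtain ⟨e, heE, heD⟩ := meets hB (hT hD) (hT hE) he₀ hd₀
  ext y
  constructor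
  · intro hy
    obtain ⟨g, rfl⟩ := class_conjugate hE heE hy
    exact class_conj_mem hD g e heD
  · intro hy
    obtain ⟨g, rfl⟩ := class_conjugate hD heD hy
    exact class_conj_mem hE g e heE

end Cfsg.Agent.S5558
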