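import Cfsg.Statements.S5559
import Cfsg.Agent.Lib.ThreeTransp.TwoThreeTwoQuot

set_option autoImplicit false
open Cfsg

namespace Cfsg.Agent.S5559

theorem result {H : Type*} [Group H] [Finite H] {E : Set H} (hE : Cfsg.IsThreeTranspositionClass E) (hE2 : ∃ a ∈ E, ∃ b ∈ E, a ≠ b) (hF : Cfsg.generalizedFittingSubgroup H = Cfsg.pCore 2 H) (h232 : ∃ P : Sylow 3 (H ⧸ Cfsg.pCore 2 H), (P : Subgroup (H ⧸ Cfsg.pCore 2 H)).Normal ∧ ∃ k : ℕ, (P : Subgroup (H ⧸ Cfsg.pCore 2 H)).index = 2 ^ k) : Nonempty (H ⧸ Cfsg.pCore 2 H ≃* Equiv.Perm (Fin 3)) ∨ ∃ (F : Type) (_ : Field F) (_ : Fintype F), Fintype.card F = 4 ∧ Nonempty (H ⧸ Cfsg.pCore 2 H ≃* ↥(commutator ↥(Cfsg.SU 3 F 2))) :=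
  (CfsgLib.ThreeTransp.TwoThreeTwo.main hE hE2 hF h232).imp_right fun h =>
    ⟨CfsgLib.Spor.QField, inferInstance, inferInstance, CfsgLib.Spor.QField.card_eq, h⟩

end Cfsg.Agent.S5559
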