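import Cfsg.Statements.S5562
import Cfsg.Agent.Lib.ThreeTransp.Basic

set_option autoImplicit false
open Cfsg

open CfsgLib.ThreeTransp

namespace Cfsg.Agent.S5562

/-- Let G be a finite group, d an involution of G whose conjugates pairwise have products of odd order, and x any involution of G. Then the conjugacy class of d is the disjoint union, over the conjugates a of d commuting with x, of the sets of conjugates of d commuting with ax: every conjugate of d commutes with ax for exactly one conjugate a of d that commutes with x. -/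
theorem result {G : Type*} [Group G] [Finite G] (d : G) (hd : orderOf d = 2)
    (hodd : ∀ a ∈ conjugatesOf d, ∀ b ∈ conjugatesOf d, Odd (orderOf (a * b)))
    (x : G) (hx : orderOf x = 2) :
    ∀ e ∈ conjugatesOf d,
      ∃! a : G, a ∈ conjugatesOf d ∧ Commute a x ∧ Commute e (a * x) := by
  open CfsgLib.Involutions in
  intro e he
  have hinv : ∀ a ∈ conjugatesOf d, orderOf a = 2 := fun a ha => isConj_invol ha hd
  have hconj : ∀ g : G, ∀ a ∈ conjugatesOf d, g * a * g⁻¹ ∈ conjugatesOf d :=
    fun g a ha => IsConj.trans (show IsConj d a from ha) (isConj_iff.2 ⟨g, rfl⟩)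
  have hsame : ∀ a ∈ conjugatesOf d, ∀ b ∈ conjugatesOf d, Commute a b → a = b := by
    intro a ha b hb hc
    have h1 : orderOf (a * b) ∣ 2 :=
      orderOf_dvd_of_pow_eq_one ((invol_commute_iff (hinv a ha) (hinv b hb)).1 hc)
    rcases (Nat.dvd_prime Nat.prime_two).1 h1 with h2 | h2
    · rw [orderOf_eq_one_iff] at h2
      rw [eq_inv_of_mul_eq_one_left h2, invol_inv (hinv b hb)]
    · have := hodd a ha b hb
      rw [h2] at this; exact absurd this (by decide)
  have heo := hinv e he
  -- the element `u = a x` is determined by `e` and `x`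
  have huniq : ∀ a ∈ conjugatesOf d, Commute a x → Commute e (a * x) →
      (a * x) = (e * x) ^ orderOf (e * a) ∧ (e * x) ^ (2 * orderOf (e * a)) = 1 := by
    intro a ha hax hea
    have hu2 : (a * x) ^ 2 = 1 := (invol_commute_iff (hinv a ha) hx).1 hax
    have hcu : Commute (e * a) (a * x) := hea.mul_left ((Commute.refl a).mul_right hax)
    have hex : e * x = (e * a) * (a * x) := by
      rw [mul_assoc, ← mul_assoc a a, invol_mul_self (hinv a ha), one_mul]
    obtain ⟨i, hi⟩ := hodd e he a ha
    constructor
    · rw [hex, hcu.mul_pow, pow_orderOf_eq_one, one_mul, hi, pow_succ, pow_mul, hu2, one_pow,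
        one_mul]
    · rw [hex, hcu.mul_pow, mul_comm 2, pow_mul, pow_orderOf_eq_one, one_pow, one_mul,
        mul_comm (orderOf (e * a)), pow_mul, hu2, one_pow]
  have hex : ∃ a : G, a ∈ conjugatesOf d ∧ Commute a x ∧ Commute e (a * x) := by
    rcases Nat.even_or_odd (orderOf (e * x)) with hev | hod
    · have hinvj : orderOf ((e * x) ^ (orderOf (e * x) / 2)) = 2 := half_invol hev
      have hce := half_comm_left heo hx hev
      have hcx := half_comm_right heo hx hev
      set k := orderOf (e * x) / 2 with hk
      rcases Nat.even_or_odd k with hke | hko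
      · exfalso
        have hm : e * (e * x) ^ k ∈ conjugatesOf d := by
          have := refl_even_mem hconj he heo hx (k := (k : ℤ)) ((Int.even_coe_nat _).2 hke)
          rwa [zpow_natCast] at this
        exact invol_ne_one hinvj
          (mul_eq_left.1 (hsame e he _ hm ((Commute.refl e).mul_right hce.symm)).symm)
      · refine ⟨x * (e * x) ^ k, ?_, (Commute.refl x).mul_left hcx, ?_⟩
        · have h1 := refl_even_mem hconj he heo hx (k := ((k + 1 : ℕ) : ℤ))
            ((Int.even_coe_nat _).2 (hko.add_odd odd_one))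
          rw [zpow_natCast, pow_succ', ← mul_assoc, ← eq_invol_mul_prod heo] at h1
          exact h1
        · have : x * (e * x) ^ k * x = (e * x) ^ k := by
            rw [← hcx.eq, mul_assoc, invol_mul_self hx, mul_one]
          rw [this]; exact hce.symm
    · have h1 := refl_even_mem hconj he heo hx (k := ((orderOf (e * x) + 1 : ℕ) : ℤ))
        ((Int.even_coe_nat _).2 (hod.add_odd odd_one))
      rw [zpow_natCast, pow_succ, pow_orderOf_eq_one, one_mul, ← eq_invol_mul_prod heo] at h1
      exact ⟨x, h1, Commute.refl x, by rw [invol_mul_self hx]; exact Commute.one_right e⟩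
  obtain ⟨a, ha⟩ := hex
  refine ⟨a, ha, fun b hb => ?_⟩
  obtain ⟨h1, h1'⟩ := huniq a ha.1 ha.2.1 ha.2.2
  obtain ⟨h2, h2'⟩ := huniq b hb.1 hb.2.1 hb.2.2
  obtain ⟨i, hi⟩ := hodd e he a ha.1
  obtain ⟨j, hj⟩ := hodd e he b hb.1
  apply mul_right_cancel (b := x)
  have key : ∀ n m : ℕ, (e * x) ^ (2 * n) = 1 →
      (e * x) ^ (n * (2 * m + 1)) = (e * x) ^ n := by
    intro n m hn
    rw [mul_add, mul_one, pow_add, ← mul_assoc, mul_comm n 2, pow_mul, hn, one_pow, one_mul]
  calc b * x = (e * x) ^ orderOf (e * b) := h2
    _ = (e * x) ^ (orderOf (e * b) * (2 * i + 1)) := (key _ i h2').symm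
    _ = (e * x) ^ (orderOf (e * a) * (2 * j + 1)) := by rw [← hi, ← hj, mul_comm]
    _ = (e * x) ^ orderOf (e * a) := key _ j h1'
    _ = a * x := h1.symm

end Cfsg.Agent.S5562
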