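import Cfsg.Statements.S5575
import Cfsg.Agent.S5563
import Cfsg.Agent.S5564
import Cfsg.Agent.S5572
import Cfsg.Agent.S5573
import Cfsg.Agent.Lib.Spor.J4Local.ElevenInputs
import Cfsg.Agent.Lib.Spor.J4Local.ElevenMain
import Cfsg.Agent.Lib.Spor.J4Local.ElevenJ4
import Cfsg.Agent.Lib.Spor.JankoFourIso.Main

set_option autoImplicit false
open Cfsg

namespace Cfsg.Agent.S5575

/-- Let G be a finite non-abelian simple group of Janko-four type (an involution z whose centralizer H has an extraspecial largest normal 2-subgroup E of order 2^13 containing its centralizer in H, a normal subgroup N ≥ E of H with N/E of order 3 and H/N the automorphism group of M₂₂, and a subgroup P ≤ N of order 3 with C_E(P) = ⟨z⟩, N_H(P) ≠ C_H(P) and P ≤ C_H(P)′). Then a Sylow 11-subgroup of G is extraspecial of order 11^3 and exponent 11, and its normalizer has order 2^4·3·5·11^3 and contains a subgroup isomorphic to GL₂(3). -/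
theorem result {G : Type*} [Group G] [Finite G] [IsSimpleGroup G] (hG : ¬ IsMulCommutative G) (hJ : Cfsg.IsOfJankoFourType G) (U : Sylow 11 G) :
    Cfsg.IsExtraspecial 11 ↥(U : Subgroup G) ∧ Nat.card ↥(U : Subgroup G) = 11 ^ 3 ∧ Monoid.exponent ↥(U : Subgroup G) = 11 ∧
    Nat.card ↥(Subgroup.normalizer ((U : Subgroup G) : Set G)) = 2 ^ 4 * 3 * 5 * 11 ^ 3 ∧
    ∃ K : Subgroup G, K ≤ Subgroup.normalizer ((U : Subgroup G) : Set G) ∧ Nonempty (↥K ≃* GL (Fin 2) (ZMod 3)) := by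
  obtain ⟨z, P, hP⟩ := hJ
  obtain ⟨φ⟩ := CfsgLib.Spor.JankoFourIso.isoJ4 hG ⟨P, hP⟩
  have hlarge := CfsgLib.Spor.J4Local.large_primes hG hP φ
      (Cfsg.Agent.S5564.result hG ⟨z, P, hP⟩)
      (Cfsg.Agent.S5563.result hG z P hP).2.2.2.2
      (fun Q hQ hQz =>
        have h := Cfsg.Agent.S5572.result hG z ⟨P, hP⟩ Q hQ hQz
        ⟨h.1, h.2.2.2⟩)
      (fun S hS hSz =>
        have h := Cfsg.Agent.S5573.result hG z ⟨P, hP⟩ S hS hSz
        ⟨h.1, h.2.2.2⟩)
  exact CfsgLib.Spor.J4Local.sylow_eleven (CfsgLib.Spor.J4Local.elevenJ4.map φ.symm) (CfsgLib.Spor.J4Local.natCard_iso φ)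
    (CfsgLib.Spor.J4Local.small_not_dvd_of hG hP
      (Cfsg.Agent.S5564.result hG ⟨z, P, hP⟩)
      (Cfsg.Agent.S5563.result hG z P hP).2.2.2.2
      (fun Q hQ hQz =>
        have h := Cfsg.Agent.S5572.result hG z ⟨P, hP⟩ Q hQ hQz
        ⟨h.1, h.2.2.2⟩)
      (fun S hS hSz =>
        have h := Cfsg.Agent.S5573.result hG z ⟨P, hP⟩ S hS hSz
        ⟨h.1, h.2.2.2⟩)
      (11 ^ 3) CfsgLib.Spor.J4Local.not_dvd_eleven_cube)
    (CfsgLib.Spor.J4Local.eleven_not_dvd (CfsgLib.Spor.J4Local.natCard_iso φ) hlarge) U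

end Cfsg.Agent.S5575
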