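import Cfsg.Statements.S5579
import Cfsg.Agent.Lib.Spor.J4Class.Large
import Cfsg.Agent.Lib.Spor.J4Class.Seven
import Cfsg.Agent.Lib.Spor.J4Class.TwoCount
import Cfsg.Agent.Lib.Spor.J4Class.Three
import Cfsg.Agent.Lib.Spor.J4Class.Five
import Cfsg.Agent.Lib.Spor.J4Class.Eleven
import Cfsg.Agent.Lib.Spor.J4Local.Exclude
-- import your own Cfsg.Agent.* helpers here

set_option autoImplicit false
open Cfsg

namespace Cfsg.Agent.S5579

/-- Let G be a finite non-abelian simple group of Janko-four type (an involution z whose centralizer H has an extraspecial largest normal 2-subgroup E of order 2^13 containing its centralizer in H, a normal subgroup N ≥ E of H with N/E of order 3 and H/N the automorphism group of M₂₂, and a subgroup P ≤ N of order 3 with C_E(P) = ⟨z⟩, N_H(P) ≠ C_H(P) and P ≤ C_H(P)′). Then G has exactly 62 conjugacy classes. -/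
theorem result {G : Type*} [Group G] [Finite G] [IsSimpleGroup G] (hG : ¬ IsMulCommutative G) (hJ : Cfsg.IsOfJankoFourType G) :
    Nat.card (ConjClasses G) = 62 := by
  obtain ⟨z, P, hJ'⟩ := hJ
  obtain ⟨φ⟩ := CfsgLib.Spor.J4Class.exists_iso hG (z := z) ⟨P, hJ'⟩
  have hcard := CfsgLib.Spor.J4Local.natCard_iso φ
  exact CfsgLib.Spor.J4Class.card_classes hcard (CfsgLib.Spor.J4Class.large_at hG hJ' φ)
    (CfsgLib.Spor.J4Class.eleven_stage hG hJ' φ)
    (CfsgLib.Spor.J4Class.seven_stage hG (z := z) ⟨P, hJ'⟩ hcard (by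
      rw [CfsgLib.Spor.J4Local.card_centralizer_z ⟨P, hJ'⟩]; norm_num))
    (CfsgLib.Spor.J4Class.three_stage hG hJ' φ)
    (CfsgLib.Spor.J4Class.five_stage hG hJ' φ)
    (CfsgLib.Spor.J4Class.two_stage φ)

end Cfsg.Agent.S5579
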