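import Cfsg.Agent.Lib.Spor.Classes
import Cfsg.Statements.S5601

set_option autoImplicit false
open scoped Pointwise
open Cfsg CfsgLib.Spor

namespace Cfsg.Agent.S5601

/-- The group of the length-24 code has exactly two conjugacy classes of subgroups of order 3: a subgroup of order 3 fixes either exactly 6 of the 24 points or none of them, both cases occur, and two subgroups of order 3 with the same number of fixed points are conjugate. -/
theorem result : (∀ X : Subgroup ↥Cfsg.M24, Nat.card X = 3 → {p : Cfsg.GolayPt | ∀ x ∈ X, ((x : ↥Cfsg.M24) : Equiv.Perm Cfsg.GolayPt) p = p}.ncard = 6 ∨ {p : Cfsg.GolayPt | ∀ x ∈ X, ((x : ↥Cfsg.M24) : Equiv.Perm Cfsg.GolayPt) p = p}.ncard = 0) ∧ (∃ X : Subgroup ↥Cfsg.M24, Nat.card X = 3 ∧ {p : Cfsg.GolayPt | ∀ x ∈ X, ((x : ↥Cfsg.M24) : Equiv.Perm Cfsg.GolayPt) p = p}.ncard = 6) ∧ (∃ X : Subgroup ↥Cfsg.M24, Nat.card X = 3 ∧ {p : Cfsg.GolayPt | ∀ x ∈ X,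 ((x : ↥Cfsg.M24) : Equiv.Perm Cfsg.GolayPt) p = p}.ncard = 0) ∧ ∀ X Y : Subgroup ↥Cfsg.M24, Nat.card X = 3 → Nat.card Y = 3 → {p : Cfsg.GolayPt | ∀ x ∈ X, ((x : ↥Cfsg.M24) : Equiv.Perm Cfsg.GolayPt) p = p}.ncard = {p : Cfsg.GolayPt | ∀ x ∈ Y, ((x : ↥Cfsg.M24) : Equiv.Perm Cfsg.GolayPt) p = p}.ncard → ∃ k : ↥Cfsg.M24, MulAut.conj k • X = Y := by
  haveI : Fact (Nat.Prime 3) := ⟨Nat.prime_three⟩
  have key : ∀ X : Subgroup ↥M24, Nat.card X = 3 → ∃ x : ↥M24, orderOf (x : Equiv.Perm GolayPt) = 3 ∧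
      X = Subgroup.zpowers x ∧ {p : GolayPt | ∀ y ∈ X, ((y : ↥M24) : Equiv.Perm GolayPt) p = p}.ncard =
        (Finset.univ.filter fun p => (x : Equiv.Perm GolayPt) p = p).card := by
    intro X hX
    haveI : Nontrivial X := Finite.one_lt_card_iff_nontrivial.1 (by omega)
    obtain ⟨⟨x, hx⟩, hx1⟩ := exists_ne (1 : X)
    have hx' : x ≠ 1 := fun e => hx1 (Subtype.ext e)
    have ho : orderOf x = 3 := by
      have h : orderOf x ∣ 3 := hX ▸ Subgroup.orderOf_dvd_natCard X hx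
      exact ((Nat.dvd_prime Nat.prime_three).1 h).resolve_left (by simpa using hx')
    have hXx : X = Subgroup.zpowers x := by
      refine (Subgroup.eq_of_le_of_card_ge (Subgroup.zpowers_le.2 hx) ?_).symm
      rw [hX, Nat.card_zpowers, ho]
    refine ⟨x, by rw [← ho]; exact (orderOf_injective M24.subtype M24.subtype_injective x), hXx, ?_⟩
    rw [← Set.ncard_coe_finset]
    refine congrArg Set.ncard (Set.ext fun p => ?_)
    simp only [Set.mem_ofPred_eq, Finset.coe_filter, Finset.mem_univ, true_and]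
    refine ⟨fun h => h x hx, fun h y hy => ?_⟩
    rw [hXx] at hy
    have : x ∈ MulAction.stabilizer ↥M24 p := h
    exact Subgroup.zpowers_le.2 this hy
  have hex : ∀ a, isM24P a = true ∧ powP a 3 = idP ∧ a ≠ idP ∧ compP idP a = a →
      ∃ X : Subgroup ↥M24, Nat.card X = 3 ∧
        {p : GolayPt | ∀ y ∈ X, ((y : ↥M24) : Equiv.Perm GolayPt) p = p}.ncard = (fixPts a).length := by
    intro a h
    obtain ⟨ρ, hρ, hr⟩ := exists_rep_M24 h.1
    have ho : orderOf ρ = 3 := orderOf_of_rep hr h.2.1 h.2.2.1 h.2.2.2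
    refine ⟨Subgroup.zpowers ⟨ρ, hρ⟩, ?_, ?_⟩
    · rw [Nat.card_zpowers, ← orderOf_injective M24.subtype M24.subtype_injective]; exact ho
    rw [← hr.card_fixPts, ← Set.ncard_coe_finset]
    refine congrArg Set.ncard (Set.ext fun p => ?_)
    simp only [Set.mem_ofPred_eq, Finset.coe_filter, Finset.mem_univ, true_and]
    refine ⟨fun h => h ⟨ρ, hρ⟩ (Subgroup.mem_zpowers _), fun h y hy => ?_⟩
    have : (⟨ρ, hρ⟩ : ↥M24) ∈ MulAction.stabilizer ↥M24 p := h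
    exact Subgroup.zpowers_le.2 this hy
  refine ⟨fun X hX => ?_, ?_, ?_, fun X Y hX hY hXY => ?_⟩
  · obtain ⟨⟨x, hx⟩, ho, -, e⟩ := key X hX
    rcases exists_ord3 hx ho with ⟨_, -, -, e', -⟩ | ⟨_, -, -, e', -⟩
    · exact Or.inl (e.trans e')
    · exact Or.inr (e.trans e')
  · obtain ⟨X, h1, h2⟩ := hex syl3Rep0 (by decide +kernel)
    exact ⟨X, h1, h2.trans reps_fixPts.2.2.1⟩
  · obtain ⟨X, h1, h2⟩ := hex syl3Rep1 (by decide +kernel)
    exact ⟨X, h1, h2.trans reps_fixPts.2.2.2⟩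
  obtain ⟨⟨x, hx⟩, hox, rfl, ex⟩ := key X hX
  obtain ⟨⟨y, hy⟩, hoy, rfl, ey⟩ := key Y hY
  have fin : ∀ {ρ c d : Equiv.Perm GolayPt}, c ∈ M24 → d ∈ M24 → x = c * ρ * c⁻¹ → y = d * ρ * d⁻¹ →
      ∃ k : ↥M24, MulAut.conj k • Subgroup.zpowers (⟨x, hx⟩ : ↥M24) = Subgroup.zpowers ⟨y, hy⟩ := by
    intro ρ c d hc hd e1 e2
    refine ⟨⟨d * c⁻¹, mul_mem hd (inv_mem hc)⟩, ?_⟩
    refine (MonoidHom.map_zpowers (MulAut.conj (⟨d * c⁻¹, mul_mem hd (inv_mem hc)⟩ : ↥M24)).toMonoidHom _).trans ?_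
    refine congrArg Subgroup.zpowers (Subtype.ext ?_)
    show d * c⁻¹ * x * (d * c⁻¹)⁻¹ = y
    rw [e1, e2]; group
  rw [ex, ey] at hXY
  rcases exists_ord3 hx hox with ⟨ρ, -, hr, e, c, hc, h1⟩ | ⟨ρ, -, hr, e, c, hc, h1⟩ <;>
    rcases exists_ord3 hy hoy with ⟨ρ', -, hr', e', d, hd, h2⟩ | ⟨ρ', -, hr', e', d, hd, h2⟩
  · obtain rfl := hr.inj hr'; exact fin hc hd h1 h2
  · simp only [e, e'] at hXY; omega
  · simp only [e, e'] at hXY; omega
  · obtain rfl := hr.inj hr'; exact fin hc hd h1 h2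

end Cfsg.Agent.S5601
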