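import Cfsg.Agent.Lib.Spor.FpfCentral
import Cfsg.Statements.S5607

set_option autoImplicit false
open scoped Pointwise
open Cfsg CfsgLib.Spor

namespace Cfsg.Agent.S5607

/-- For a fixed-point-free involution t of the group of the length-24 code: its centraliser in that group has order 7680, is transitive on the 24 points, and is contained, together with t, in the stabiliser of some sextet. -/
theorem result (t : Equiv.Perm Cfsg.GolayPt) (ht : t ∈ Cfsg.M24) (h₂ : orderOf t = 2) (h₀ : ∀ p, t p ≠ p) : Nat.card {c : Equiv.Perm Cfsg.GolayPt // c ∈ Cfsg.M24 ∧ c * t = t * c} = 7680 ∧ (∀ p q : Cfsg.GolayPt, ∃ c ∈ Cfsg.M24, c * t = t * c ∧ c p = q) ∧ ∃ S ∈ Cfsg.sextets, t • S = S ∧ ∀ c ∈ Cfsg.M24, c * t = t * c → c • S = S := by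
  classical
    obtain ⟨hc, htr, S, hS, hst⟩ := fpf_centralizer ht h₂ h₀
    refine ⟨?_, fun p q => ?_, S, hS, hst t (mem_cen.2 ⟨ht, rfl⟩), fun c hc1 hc2 => hst c (mem_cen.2 ⟨hc1, hc2⟩)⟩
    · rw [← hc]
      exact Nat.card_congr (Equiv.subtypeEquivRight fun c => mem_cen.symm)
    · obtain ⟨g, hg, hgp⟩ := htr p q
      exact ⟨g, (mem_cen.1 hg).1, (mem_cen.1 hg).2, hgp⟩

end Cfsg.Agent.S5607
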