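import Cfsg.Agent.Lib.Spor.OrbitApply
import Cfsg.Agent.Lib.Spor.Orb.TransOct
import Cfsg.Agent.Lib.Spor.Orb.OctOct
import Cfsg.Statements.S5613

set_option autoImplicit false
open scoped Pointwise
open Cfsg CfsgLib.Spor

namespace Cfsg.Agent.S5613

/-- In the group of the length-24 code, the joint stabiliser of two octads has order 10752, 1152 or 720 according as the octads meet in 0, 4 or 2 points. -/
theorem result (o o' : Finset Cfsg.GolayPt) (ho : o ∈ Cfsg.octads) (ho' : o' ∈ Cfsg.octads) : ((o ∩ o').card = 0 → Nat.card ↥(MulAction.stabilizer Cfsg.M24 o ⊓ MulAction.stabilizer Cfsg.M24 o') = 10752) ∧ ((o ∩ o').card = 4 → Nat.card ↥(MulAction.stabilizer Cfsg.M24 o ⊓ MulAction.stabilizer Cfsg.M24 o') = 1152) ∧ ((o ∩ o').card = 2 → Nat.card ↥(MulAction.stabilizer Cfsg.M24 o ⊓ MulAction.stabilizer Cfsg.M24 o') = 720) := by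
  have hi : 0 < octK.ix.n := by decide +kernel
  obtain ⟨g, rfl⟩ := octK.exists_trans transOct_ok (octK.ix.mem 0 hi) ho
  have hy : (g⁻¹ • o') ∈ octads := octK.smul_mem _ (g⁻¹).2 _ ho'
  obtain ⟨i, hi', hie⟩ := octK.ix.complete _ hy
  have e : [octK.parts 0] = octOctL := by decide +kernel
  have hcard : ((g • octK.ix.sem 0) ∩ o').card = pop (getT 24 octTbl 0 &&& getT 24 octTbl i) := by
    rw [← smul_inv_smul g o', ← hie]
    show ((g : Equiv.Perm GolayPt) • (_ : Finset GolayPt) ∩ (g : Equiv.Perm GolayPt) • (_ : Finset GolayPt) : Finset GolayPt).card = _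
    rw [← Finset.smul_finset_inter, Finset.card_smul_finset]
    show (toSet _ ∩ toSet _).card = _
    rw [← toSet_and, card_toSet]
  have horb : (MulAction.orbit (MulAction.stabilizer ↥M24 (g • octK.ix.sem 0)) o').ncard =
      (classList 759 fun j => decide
        (pop (getT 24 octTbl 0 &&& getT 24 octTbl j) = pop (getT 24 octTbl 0 &&& getT 24 octTbl i))).length := by
    have hL : octOctL.all partsOK = true := (octK.splitOK_iff.1 octOct_ok).1
    rw [← smul_inv_smul g o', ← hie, orbit_stabilizer_smul, Set.ncard_smul_set,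
      octK.orbit_eq_class octOct_ok (e ▸ octK.mem_stab_iff hi) (octK.ix.mem i hi'),
      octK.invs_eq hL hi', octK.ncard_class hL]
    refine congrArg List.length (congrArg (classList 759) (funext fun j => ?_))
    rw [← e]
    simp [Kind.invsIx, invL, octK, pow_right_inj₀]
  have hmul := natCard_inf_stabilizer (MulAction.stabilizer ↥M24 (g • octK.ix.sem 0)) o'
  rw [horb, octK.natCard_stab transOct_ok ho (k := 322560) (by decide +kernel)] at hmul
  have h0 : (classList 759 fun j => decide (pop (getT 24 octTbl 0 &&& getT 24 octTbl j) = 0)).length = 30 := by decide +kernel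
  have h4 : (classList 759 fun j => decide (pop (getT 24 octTbl 0 &&& getT 24 octTbl j) = 4)).length = 280 := by decide +kernel
  have h2 : (classList 759 fun j => decide (pop (getT 24 octTbl 0 &&& getT 24 octTbl j) = 2)).length = 448 := by decide +kernel
  refine ⟨fun h => ?_, fun h => ?_, fun h => ?_⟩ <;> rw [hcard] at h <;> rw [h] at hmul
  · rw [h0] at hmul; omega
  · rw [h4] at hmul; omega
  · rw [h2] at hmul; omega

end Cfsg.Agent.S5613
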