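import Cfsg.Agent.Lib.Spor.TrioFix
import Cfsg.Agent.Lib.Spor.Orb.OctTrio
import Cfsg.Agent.Lib.Spor.Orb.OctTrio1
import Cfsg.Statements.S5615

set_option autoImplicit false
open scoped Pointwise
open Cfsg CfsgLib.Spor

namespace Cfsg.Agent.S5615

/-- An octad of the length-24 code lies in exactly 15 trios; the stabiliser of the octad in the code's group acts doubly transitively on these 15 trios, and the kernel of this action is the pointwise stabiliser of the octad. -/
theorem result (o : Finset Cfsg.GolayPt) (ho : o ∈ Cfsg.octads) : {T : Finset (Finset Cfsg.GolayPt) | T ∈ Cfsg.trios ∧ o ∈ T}.ncard = 15 ∧ (∀ T₁ T₂ T₁' T₂' : Finset (Finset Cfsg.GolayPt), T₁ ∈ Cfsg.trios → T₂ ∈ Cfsg.trios → T₁' ∈ Cfsg.trios → T₂' ∈ Cfsg.trios → o ∈ T₁ → o ∈ T₂ → o ∈ T₁' → o ∈ T₂' → T₁ ≠ T₂ → T₁' ≠ T₂' → ∃ g ∈ Cfsg.M24, g • o = o ∧ g • T₁ = T₁' ∧ g • T₂ = T₂') ∧ ∀ g ∈ Cfsg.M24, g • o = o → ((∀ T ∈ Cfsg.trios, o ∈ T → g • T = T) ↔ ∀ p ∈ o, g p = p) := by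
  obtain ⟨⟨g, hg⟩, hgo⟩ := octK.exists_trans transOct_ok (octK.ix.mem 0 (by decide +kernel)) ho
  change g • toSet (getT 24 octTbl 0) = o at hgo
  subst hgo
  have hL : [[getT 24 octTbl 0]] = octTrioL := by decide +kernel
  have hL1 : [[getT 24 octTbl 0], trioK.parts 0] = octTrio1L := by decide +kernel
  have hidx : ∀ T ∈ trios, g • toSet (getT 24 octTbl 0) ∈ T → ∃ i < 15, g • trioK.ix.sem i = T := by
    intro T hT hoT
    obtain ⟨i, hi, hie⟩ := trioK.ix.complete _ (trioK.smul_mem _ (inv_mem hg) _ hT)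
    refine ⟨i, (mem_trioSem_iff hi).1 ?_, by rw [hie, smul_inv_smul]⟩
    rw [hie, ← Finset.smul_mem_smul_finset_iff g, smul_inv_smul]
    exact hoT
  have h15 : ∀ i < 15, trioK.ix.sem i ∈ trios := fun i hi => trioK.ix.mem i (show i < 3795 by omega)
  have hcnt : {T : Finset (Finset GolayPt) | T ∈ trios ∧ g • toSet (getT 24 octTbl 0) ∈ T}.ncard = 15 := by
    rw [ncard_setOf_smul hg trioK (Q := fun T => toSet (getT 24 octTbl 0) ∈ T) fun T =>
      Finset.smul_mem_smul_finset_iff g]
    refine (trioK.ix.ncard_setOf (P := fun T => toSet (getT 24 octTbl 0) ∈ T)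
      (test := fun i => Nat.blt i 15) fun i hi => ?_).trans (by decide +kernel)
    rw [Nat.blt_eq, mem_trioSem_iff hi]
  refine ⟨hcnt, fun T₁ T₂ T₁' T₂' h1 h2 h1' h2' o1 o2 o1' o2' hne hne' => ?_, fun k hk hko => ?_⟩
  · -- move the first trio to the base trio, then the second one
    have step : ∀ A B, A ∈ trios → B ∈ trios → g • toSet (getT 24 octTbl 0) ∈ A →
        g • toSet (getT 24 octTbl 0) ∈ B → A ≠ B →
        ∃ m ∈ M24, m • toSet (getT 24 octTbl 0) = toSet (getT 24 octTbl 0) ∧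
          (g * m) • trioK.ix.sem 0 = A ∧ (g * m) • trioK.ix.sem 1 = B := by
      intro A B hA hB hoA hoB hAB
      obtain ⟨i, hi, rfl⟩ := hidx A hA hoA
      obtain ⟨j, hj, rfl⟩ := hidx B hB hoB
      have hinv : ∀ l < 15, trioK.invs [[getT 24 octTbl 0]] (trioK.ix.sem l) = [64 ^ 8 + 2] := fun l hl => by
        have h := List.all_eq_true.1 trioThru_invs l (List.mem_range.2 hl)
        simp only [Bool.and_eq_true, Nat.beq_eq] at h
        rw [trioK.invs_eq (by decide +kernel) (show l < 3795 by omega)]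
        exact congrArg (fun x => [x]) h.1
      obtain ⟨m1, hm1, e1⟩ := trioK.exists_map (hL ▸ octTrio_ok) (h15 0 (by norm_num)) (h15 i hi)
        ((hinv 0 (by norm_num)).trans (hinv i hi).symm)
      obtain ⟨l, hl, hle⟩ := trioK.ix.complete _ (trioK.smul_mem _ (inv_mem hm1.1) _ (h15 j hj))
      have hfix : m1 • toSet (getT 24 octTbl 0) = toSet (getT 24 octTbl 0) := by
        have h := hm1.2 [getT 24 octTbl 0] (by simp)
        rwa [toFam_singleton, Finset.smul_finset_singleton, Finset.singleton_inj] at h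
      have hl15 : l < 15 := (mem_trioSem_iff hl).1 (by
        rw [hle, ← Finset.smul_mem_smul_finset_iff m1, smul_inv_smul, hfix]
        exact (mem_trioSem_iff (show j < 3795 by omega)).2 hj)
      have hl0 : l ≠ 0 := by
        rintro rfl
        exact hAB (congrArg (g • ·) (by rw [← e1, hle, smul_inv_smul]))
      have hok : trioK.splitOK [[getT 24 octTbl 0], trioK.parts 0] octTrio1Gens octTrio1Cls = true := by
        rw [hL1]; exact octTrio1_ok
      obtain ⟨m2, hm2, e2⟩ := trioK.exists_map hok (h15 1 (by norm_num)) (trioK.ix.mem l hl) (by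
        rw [trioK.invs_eq (trioK.splitOK_iff.1 hok).1 (show 1 < 3795 by norm_num),
          trioK.invs_eq (trioK.splitOK_iff.1 hok).1 hl]
        have h := List.all_eq_true.1 trioThru_invs l (List.mem_range.2 hl15)
        simp only [Bool.and_eq_true, Bool.or_eq_true, Nat.beq_eq, decide_eq_true_eq] at h
        exact (h.2.resolve_left hl0).symm)
      have hfix2 : m2 • toSet (getT 24 octTbl 0) = toSet (getT 24 octTbl 0) := by
        have h := hm2.2 [getT 24 octTbl 0] (by simp)
        rwa [toFam_singleton, Finset.smul_finset_singleton, Finset.singleton_inj] at h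
      have hfix0 : m2 • trioK.ix.sem 0 = trioK.ix.sem 0 := by
        rw [show trioK.ix.sem 0 = toFam (trioK.parts 0) from trioK.fam_eq 0 (by decide +kernel)]
        exact hm2.2 (trioK.parts 0) (by simp)
      refine ⟨m1 * m2, mul_mem hm1.1 hm2.1, by rw [mul_smul, hfix2, hfix], ?_, ?_⟩
      · rw [mul_smul, mul_smul, hfix0, e1]
      · rw [mul_smul, mul_smul, e2, hle, smul_inv_smul]
    obtain ⟨a, ha, fa, a1, a2⟩ := step T₁ T₂ h1 h2 o1 o2 hne
    obtain ⟨b, hb, fb, b1, b2⟩ := step T₁' T₂' h1' h2' o1' o2' hne'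
    refine ⟨g * b * (g * a)⁻¹, mul_mem (mul_mem hg hb) (inv_mem (mul_mem hg ha)), ?_, ?_, ?_⟩
    · have e : (g * a) • toSet (getT 24 octTbl 0) = g • toSet (getT 24 octTbl 0) := by rw [mul_smul, fa]
      rw [mul_smul, ← e, inv_smul_smul, mul_smul, fb, e]
    · rw [mul_smul, ← a1, inv_smul_smul, b1]
    · rw [mul_smul, ← a2, inv_smul_smul, b2]
  · have hko' : (g⁻¹ * k * g) • toSet (getT 24 octTbl 0) = toSet (getT 24 octTbl 0) := by
      rw [mul_smul, mul_smul, hko, inv_smul_smul]
    have hk' : g⁻¹ * k * g ∈ M24 := mul_mem (mul_mem (inv_mem hg) hk) hg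
    constructor
    · intro hfix p hp
      obtain ⟨q, hq, rfl⟩ := Finset.mem_smul_finset.1 hp
      have h := fix_of_fix_trios hk' hko' (fun i hi => by
        rw [mul_smul, mul_smul, hfix _ (trioK.smul_mem _ hg _ (h15 i hi))
          (Finset.smul_mem_smul_finset ((mem_trioSem_iff (show i < 3795 by omega)).2 hi)),
          inv_smul_smul]) q hq
      have h' := congrArg g h
      simpa using h'
    · intro hfix T hT hoT
      obtain ⟨i, hi, rfl⟩ := hidx T hT hoT
      have h := fix_trios_of_fix hk' (fun q hq => by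
        show g⁻¹ (k (g q)) = q
        rw [hfix (g q) (Finset.smul_mem_smul_finset hq)]
        simp) hi
      rw [mul_smul, mul_smul] at h
      have h' := congrArg (g • ·) h
      simpa using h' 

end Cfsg.Agent.S5615
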