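import Cfsg.Agent.Lib.Spor.OrbitCounts
import Cfsg.Agent.Lib.Spor.Orb.TransTriple
import Cfsg.Agent.Lib.Spor.Orb.TripleSex
import Cfsg.Statements.S5616

set_option autoImplicit false
open scoped Pointwise
open Cfsg CfsgLib.Spor

namespace Cfsg.Agent.S5616

/-- Let Y be a set of 3 of the 24 points. The sextets of the length-24 code whose tetrads meeting Y number 1, 2 or 3 are respectively 21, 630 and 1120 in number, and two sextets with the same number of tetrads meeting Y are conjugate under the setwise stabiliser of Y in the code's group. -/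
theorem result (Y : Finset Cfsg.GolayPt) (hY : Y.card = 3) : {S : Finset (Finset Cfsg.GolayPt) | S ∈ Cfsg.sextets ∧ (S.filter fun t => (t ∩ Y).Nonempty).card = 1}.ncard = 21 ∧ {S : Finset (Finset Cfsg.GolayPt) | S ∈ Cfsg.sextets ∧ (S.filter fun t => (t ∩ Y).Nonempty).card = 2}.ncard = 630 ∧ {S : Finset (Finset Cfsg.GolayPt) | S ∈ Cfsg.sextets ∧ (S.filter fun t => (t ∩ Y).Nonempty).card = 3}.ncard = 1120 ∧ ∀ S S' : Finset (Finset Cfsg.GolayPt), S ∈ Cfsg.sextets → S' ∈ Cfsg.sextets → (S.filter fun t => (t ∩ Y).Nonempty).card = (S'.filter fun t => (t ∩ Y).Nonempty).card → ∃ g ∈ Cfsg.M24, g • Y = Y ∧ g • S = S' := by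
  have hi : 0 < tripleK.ix.n := by decide +kernel
  obtain ⟨⟨g, hg⟩, hgY⟩ := tripleK.exists_trans transTrip_ok (tripleK.ix.mem 0 hi) hY
  change g • tripleK.ix.sem 0 = Y at hgY
  subst hgY
  have hc : ∀ k, {S : Finset (Finset GolayPt) | S ∈ sextets ∧
      meetCount S (g • tripleK.ix.sem 0) = k}.ncard = (sexMeetCls k).length := fun k => by
    rw [ncard_setOf_smul hg sexK (Q := fun S => meetCount S (tripleK.ix.sem 0) = k)
      (fun y => by rw [meetCount_smul])]
    exact ncard_sexMeet k
  have hs := sexMeet_sizes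
  simp only [List.map_cons, List.map_nil, List.cons.injEq, and_true] at hs
  refine ⟨(hc 1).trans hs.1, (hc 2).trans hs.2.1, (hc 3).trans hs.2.2, fun S S' hS hS' h => ?_⟩
  change meetCount S _ = meetCount S' _ at h
  have hm : ∀ T, meetCount T (g • tripleK.ix.sem 0) = meetCount (g⁻¹ • T) (tripleK.ix.sem 0) :=
    fun T => by conv_rhs => rw [← meetCount_smul g, smul_inv_smul]
  rw [hm, hm] at h
  refine tripleK.exists_map_fix sexK transTrip_ok hi (L := tripSexL) (by decide +kernel)
    tripSex_ok hY hS hS' ?_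
  show famInv {g • tripleK.ix.sem 0} S = famInv {g • tripleK.ix.sem 0} S'
  rw [← Finset.smul_finset_singleton, ← famInv_smul g⁻¹, inv_smul_smul,
    ← famInv_smul g⁻¹ (g • _) S', inv_smul_smul]
  exact famInv_eq_of_meetCount (sexK.smul_mem _ (inv_mem hg) _ hS)
    (sexK.smul_mem _ (inv_mem hg) _ hS') h

end Cfsg.Agent.S5616
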