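import Cfsg.Statements.S5625
import Cfsg.Agent.Lib.Spor.Steiner

set_option autoImplicit false
open Cfsg

namespace Cfsg.Agent.S5625

/-- In any Steiner system S(5, 8, 24) and for any set Y of three points, the blocks meeting Y in exactly 3, 2, 1 and 0 points number 21, 168, 360 and 210 respectively (so there are 759 blocks in all). -/
theorem result (α : Type*) [Fintype α] [DecidableEq α] (hα : Fintype.card α = 24) (B : Set (Finset α)) (hB : Cfsg.IsSteinerSystem 5 8 B) (Y : Finset α) (hY : Y.card = 3) : {b : Finset α | b ∈ B ∧ (b ∩ Y).card = 3}.ncard = 21 ∧ {b : Finset α | b ∈ B ∧ (b ∩ Y).card = 2}.ncard = 168 ∧ {b : Finset α | b ∈ B ∧ (b ∩ Y).card = 1}.ncard = 360 ∧ {b : Finset α | b ∈ B ∧ (b ∩ Y).card = 0}.ncard = 210 := by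
  have hL : ∀ (s : Finset α) (n L : ℕ), s.card = n → n ≤ 5 → 0 < Nat.choose (8 - n) (5 - n) →
      L * Nat.choose (8 - n) (5 - n) = Nat.choose (24 - n) (5 - n) →
      (CfsgLib.Spor.blocksThrough B s).card = L := fun s n L hs hn hp he =>
    CfsgLib.Spor.card_blocksThrough_eq hB s hs hn hp (by rw [hα]; exact he)
  classical
  obtain ⟨x, y, z, hxy, hxz, hyz, rfl⟩ := Finset.card_eq_three.1 hY
  set S := CfsgLib.Spor.blocksThrough B ∅ with hS
  have hmem : ∀ b, b ∈ S ↔ b ∈ B := fun b => by simp [hS, CfsgLib.Spor.mem_blocksThrough]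
  have hcount : ∀ s : Finset α, ∑ b ∈ S, (if s ⊆ b then 1 else 0) =
      (CfsgLib.Spor.blocksThrough B s).card := by
    intro s
    rw [← Finset.card_filter]
    congr 1
    ext b
    simp [hmem, CfsgLib.Spor.mem_blocksThrough]
  have hn : ∀ j, {b : Finset α | b ∈ B ∧ (b ∩ {x, y, z}).card = j}.ncard =
      ∑ b ∈ S, (if (b ∩ {x, y, z}).card = j then 1 else 0) := by
    intro j
    rw [← Finset.card_filter, ← Set.ncard_coe_finset]
    congr 1
    ext b
    simp [hmem]
  have e : ∀ b : Finset α, (b ∩ {x, y, z}).card =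
      (if {x} ⊆ b then 1 else 0) + (if {y} ⊆ b then 1 else 0) + (if {z} ⊆ b then 1 else 0) := by
    intro b
    rw [Finset.inter_comm, ← Finset.filter_mem_eq_inter, Finset.card_filter,
      Finset.sum_insert (by simp [hxy, hxz]), Finset.sum_insert (by simp [hyz]),
      Finset.sum_singleton]
    simp [add_assoc]
  have p3 : ∀ b : Finset α, (if (b ∩ {x, y, z}).card = 3 then 1 else 0) =
      (if {x, y, z} ⊆ b then 1 else (0 : ℕ)) := by
    intro b; rw [e b]
    by_cases h1 : x ∈ b <;> by_cases h2 : y ∈ b <;> by_cases h3 : z ∈ b <;>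
      simp [Finset.insert_subset_iff, h1, h2, h3]
  have p2 : ∀ b : Finset α, (if (b ∩ {x, y, z}).card = 2 then 1 else 0) +
      3 * (if (b ∩ {x, y, z}).card = 3 then 1 else 0) =
      (if {x, y} ⊆ b then 1 else (0 : ℕ)) + (if {x, z} ⊆ b then 1 else 0) +
        (if {y, z} ⊆ b then 1 else 0) := by
    intro b; rw [e b]
    by_cases h1 : x ∈ b <;> by_cases h2 : y ∈ b <;> by_cases h3 : z ∈ b <;>
      simp [Finset.insert_subset_iff, h1, h2, h3]
  have p1 : ∀ b : Finset α, (if (b ∩ {x, y, z}).card = 1 then 1 else 0) +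
      2 * (if (b ∩ {x, y, z}).card = 2 then 1 else 0) +
      3 * (if (b ∩ {x, y, z}).card = 3 then 1 else 0) =
      (if {x} ⊆ b then 1 else (0 : ℕ)) + (if {y} ⊆ b then 1 else 0) +
        (if {z} ⊆ b then 1 else 0) := by
    intro b; rw [e b]
    by_cases h1 : x ∈ b <;> by_cases h2 : y ∈ b <;> by_cases h3 : z ∈ b <;>
      simp [h1, h2, h3]
  have p0 : ∀ b : Finset α, (if (b ∩ {x, y, z}).card = 0 then 1 else 0) +
      (if (b ∩ {x, y, z}).card = 1 then 1 else 0) +
      (if (b ∩ {x, y, z}).card = 2 then 1 else 0) +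
      (if (b ∩ {x, y, z}).card = 3 then 1 else 0) = (if (∅ : Finset α) ⊆ b then 1 else (0 : ℕ)) := by
    intro b; rw [e b]
    by_cases h1 : x ∈ b <;> by_cases h2 : y ∈ b <;> by_cases h3 : z ∈ b <;>
      simp [h1, h2, h3]
  have q3 := Finset.sum_congr (rfl : S = S) fun b _ => p3 b
  have q2 := Finset.sum_congr (rfl : S = S) fun b _ => p2 b
  have q1 := Finset.sum_congr (rfl : S = S) fun b _ => p1 b
  have q0 := Finset.sum_congr (rfl : S = S) fun b _ => p0 b
  simp only [Finset.sum_add_distrib, ← Finset.mul_sum, hcount, ← hn] at q0 q1 q2 q3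
  rw [hL _ 3 21 hY (by norm_num) (by decide) (by decide +kernel)] at q3
  rw [hL _ 2 77 (Finset.card_pair hxy) (by norm_num) (by decide) (by decide +kernel),
    hL _ 2 77 (Finset.card_pair hxz) (by norm_num) (by decide) (by decide +kernel),
    hL _ 2 77 (Finset.card_pair hyz) (by norm_num) (by decide) (by decide +kernel)] at q2
  rw [hL _ 1 253 (Finset.card_singleton x) (by norm_num) (by decide) (by decide +kernel),
    hL _ 1 253 (Finset.card_singleton y) (by norm_num) (by decide) (by decide +kernel),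
    hL _ 1 253 (Finset.card_singleton z) (by norm_num) (by decide) (by decide +kernel)] at q1
  rw [hL _ 0 759 Finset.card_empty (by norm_num) (by decide) (by decide +kernel)] at q0
  omega

end Cfsg.Agent.S5625
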