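import Cfsg.Statements.S5632
import Cfsg.Agent.Lib.Maximal.Transvec

set_option autoImplicit false
open Cfsg

namespace Cfsg.Agent.S5632

/-- For a finite field F and subspaces 0 < W < U of F^n with dim W + dim U = n, the elements of SL_n(F) stabilising both W and U form a subgroup that is not maximal in SL_n(F): some subgroup lies strictly between it and SL_n(F). -/
theorem result {F : Type*} [Field F] [Fintype F] (n : ℕ) (W U : Submodule F (Fin n → F)) (hW0 : W ≠ ⊥) (hWU : W < U) (hdim : Module.finrank F W + Module.finrank F U = n) : ∃ K : Subgroup (Matrix.GeneralLinearGroup (Fin n) F), Cfsg.Geo.subspaceStabilizer W ⊓ Cfsg.Geo.subspaceStabilizer U ⊓ Cfsg.Geo.specialLinear (Fin n) F < K ∧ K < Cfsg.Geo.specialLinear (Fin n) F := by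
  have hW1 : W ≠ ⊤ := fun h => absurd (h ▸ hWU) (by simp)
  refine ⟨_, lt_of_le_of_ne (inf_le_inf_right _ inf_le_left) ?_,
    (CfsgLib.Maximal.subspaceStabilizer_maximal W hW0 hW1).1⟩
  intro he
  have hU1 : U ≠ ⊤ := by
    intro h
    subst h
    have := Submodule.one_le_finrank_iff.2 hW0
    rw [finrank_top, Module.finrank_pi, Fintype.card_fin] at hdim
    omega
  obtain ⟨a, -, haU⟩ := SetLike.exists_of_lt hU1.lt_top
  obtain ⟨u, huU, huW⟩ := SetLike.exists_of_lt hWU
  have hu' : u ∉ W ⊔ Submodule.span F {a} := by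
    intro hm
    obtain ⟨x, hx, y, hy, hxy⟩ := Submodule.mem_sup.1 hm
    obtain ⟨c, rfl⟩ := Submodule.mem_span_singleton.1 hy
    rcases eq_or_ne c 0 with rfl | hc
    · exact huW (by simpa [← hxy] using hx)
    · refine haU ((U.smul_mem_iff hc).1 ?_)
      have : c • a = u - x := by rw [← hxy]; abel
      exact this ▸ U.sub_mem huU (hWU.le hx)
  obtain ⟨φ, hφ, hφu⟩ := CfsgLib.Maximal.exists_ann _ u hu'
  have h0 := hφ a (Submodule.mem_sup_right (Submodule.mem_span_singleton_self a))
  have hmem : CfsgLib.Maximal.tv a φ h0 ∈ Cfsg.Geo.subspaceStabilizer W ⊓ Cfsg.Geo.specialLinear (Fin n) F :=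
    ⟨CfsgLib.Maximal.tv_mem_stab_of_ann W a φ h0 (fun w hw => hφ w (Submodule.mem_sup_left hw)),
      CfsgLib.Maximal.tv_mem_specialLinear _ _ _⟩
  rw [← he] at hmem
  have := ((CfsgLib.Maximal.mem_subspaceStabilizer_iff U _).1 hmem.1.2 u).1 huU
  rw [CfsgLib.Maximal.tv_mulVec, hφu, one_smul] at this
  exact haU ((U.add_mem_iff_right huU).1 this)

end Cfsg.Agent.S5632
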