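import Cfsg.Statements.S5633
import Cfsg.Agent.Lib.Maximal.Transvec

set_option autoImplicit false
open Cfsg

namespace Cfsg.Agent.S5633

/-- For a finite field F and complementary non-zero subspaces W ⊕ U = F^n with dim W < dim U, the elements of SL_n(F) stabilising both W and U form a subgroup that is not maximal in SL_n(F): some subgroup lies strictly between it and SL_n(F). -/
theorem result {F : Type*} [Field F] [Fintype F] (n : ℕ) (W U : Submodule F (Fin n → F)) (hW0 : W ≠ ⊥) (hWU : W ⊓ U = ⊥) (hWU' : W ⊔ U = ⊤) (hdim : Module.finrank F W < Module.finrank F U) : ∃ K : Subgroup (Matrix.GeneralLinearGroup (Fin n) F), Cfsg.Geo.subspaceStabilizer W ⊓ Cfsg.Geo.subspaceStabilizer U ⊓ Cfsg.Geo.specialLinear (Fin n) F < K ∧ K < Cfsg.Geo.specialLinear (Fin n) F := by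
  have hU0 : U ≠ ⊥ := by
    rintro rfl
    simp at hdim
  have hW1 : W ≠ ⊤ := fun h => hU0 (by rw [← hWU, h, top_inf_eq])
  refine ⟨_, lt_of_le_of_ne (inf_le_inf_right _ inf_le_left) ?_,
    (CfsgLib.Maximal.subspaceStabilizer_maximal W hW0 hW1).1⟩
  intro he
  obtain ⟨a, haW, ha0⟩ := W.exists_mem_ne_zero_of_ne_bot hW0
  obtain ⟨u, huU, hu0⟩ := U.exists_mem_ne_zero_of_ne_bot hU0
  have hdis : ∀ x, x ∈ W → x ∈ U → x = 0 := fun x hx hx' => by
    have : x ∈ W ⊓ U := ⟨hx, hx'⟩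
    simpa [hWU] using this
  have hu' : u ∉ Submodule.span F {a} := fun hm =>
    hu0 (hdis u ((Submodule.span_singleton_le_iff_mem _ W).2 haW hm) huU)
  obtain ⟨φ, hφ, hφu⟩ := CfsgLib.Maximal.exists_ann _ u hu'
  have h0 := hφ a (Submodule.mem_span_singleton_self a)
  have hmem : CfsgLib.Maximal.tv a φ h0 ∈ Cfsg.Geo.subspaceStabilizer W ⊓ Cfsg.Geo.specialLinear (Fin n) F :=
    ⟨CfsgLib.Maximal.tv_mem_stab_of_mem W a φ h0 haW, CfsgLib.Maximal.tv_mem_specialLinear _ _ _⟩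
  rw [← he] at hmem
  have := ((CfsgLib.Maximal.mem_subspaceStabilizer_iff U _).1 hmem.1.2 u).1 huU
  rw [CfsgLib.Maximal.tv_mulVec, hφu, one_smul] at this
  exact ha0 (hdis a haW ((U.add_mem_iff_right huU).1 this))

end Cfsg.Agent.S5633
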