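import Cfsg.Statements.S5638
import Cfsg.Agent.Lib.Maximal.Transvec

set_option autoImplicit false
open Cfsg

namespace Cfsg.Agent.S5638

section
open scoped Matrix Kronecker

variable {F : Type*} [Field F] {k : ℕ}

local notation "GB" => Matrix.GeneralLinearGroup (Fin 2 × Fin k) F
local notation "G2" => Matrix.GeneralLinearGroup (Fin 2) F

/-- Invertible block diagonal matrices with blocks in the first factor. -/
noncomputable def blocks : (Fin k → G2) →* GB :=
  (Units.map (Matrix.blockDiagonalRingHom (Fin 2) (Fin k) F).toMonoidHom).comp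
    MulEquiv.piUnits.symm.toMonoidHom

lemma blocks_val (d : Fin k → G2) :
    (blocks d : Matrix (Fin 2 × Fin k) (Fin 2 × Fin k) F) =
      Matrix.blockDiagonal (fun j => (d j : Matrix (Fin 2) (Fin 2) F)) := rfl

/-- The embedding `a ↦ a ⊗ 1`. -/
noncomputable def diagHom : G2 →* GB := blocks.comp (Pi.monoidHom fun _ => MonoidHom.id _)

lemma diagHom_val (a : G2) :
    (diagHom (k := k) a : Matrix (Fin 2 × Fin k) (Fin 2 × Fin k) F) = (a : Matrix (Fin 2) (Fin 2) F) ⊗ₖ 1 := by
  rw [Matrix.kronecker_one]; rfl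

lemma conj_kronecker (g : GB) (a : G2) (b : Matrix.GeneralLinearGroup (Fin k) F)
    (hg : (g : Matrix (Fin 2 × Fin k) (Fin 2 × Fin k) F) =
      (a : Matrix (Fin 2) (Fin 2) F) ⊗ₖ (b : Matrix (Fin k) (Fin k) F)) (x : G2) :
    g * diagHom x * g⁻¹ = diagHom (a * x * a⁻¹) := by
  rw [mul_inv_eq_iff_eq_mul]
  apply Units.ext
  simp only [Units.val_mul, diagHom_val, hg, ← Matrix.mul_kronecker_mul, one_mul, mul_one]
  rw [mul_assoc ((a : Matrix (Fin 2) (Fin 2) F) * _), ← Units.val_mul (a⁻¹), inv_mul_cancel, Units.val_one, mul_one]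

lemma exists_between [Fintype F] (hq : Fintype.card F = 2) (hk : 2 ≤ k) :
    ∃ K : Subgroup GB, Cfsg.Geo.kroneckerSubgroup 2 k F < K ∧ K < ⊤ := by
  classical
  haveI : CharP F 2 := charP_of_card_eq_prime hq
  let W : Matrix (Fin 2) (Fin 2) F := !![0, 1; 1, 1]
  have hW3 : W * W * W = 1 := by
    ext i j; fin_cases i <;> fin_cases j <;>
      simp [W, Matrix.mul_apply, Fin.sum_univ_two, CharTwo.add_self_eq_zero]
  let w : G2 := ⟨W, W * W, by rw [← mul_assoc]; exact hW3, hW3⟩
  let T : Matrix (Fin 2) (Fin 2) F := !![1, 1; 0, 1]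
  have hT2 : T * T = 1 := by
    ext i j; fin_cases i <;> fin_cases j <;>
      simp [T, Matrix.mul_apply, Fin.sum_univ_two, CharTwo.add_self_eq_zero]
  let u : G2 := ⟨T, T, hT2, hT2⟩
  have hw : orderOf w = 3 := orderOf_eq_prime (p := 3) (by
    apply Units.ext
    simpa [w, pow_three, mul_assoc] using hW3) (by
    intro h
    have h2 : W 0 0 = (1 : Matrix (Fin 2) (Fin 2) F) 0 0 := congrArg (fun g : G2 => (g : Matrix (Fin 2) (Fin 2) F) 0 0) h
    simp [W] at h2)
  haveI : Fact (Nat.Prime 3) := ⟨Nat.prime_three⟩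
  have hnormal : (Subgroup.zpowers w).Normal := by
    refine Subgroup.normal_of_index_eq_two ?_
    have hc : Nat.card G2 = 6 := by
      rw [Matrix.card_GL_field, Fin.prod_univ_two]; simp [hq]
    have h := Subgroup.card_mul_index (Subgroup.zpowers w)
    rw [Nat.card_zpowers, hw, hc] at h
    omega
  let H : Subgroup GB := (Subgroup.zpowers w).map diagHom
  have hle : Cfsg.Geo.kroneckerSubgroup 2 k F ≤ Subgroup.normalizer (H : Set GB) := by
    intro g hg
    have hfw : ∀ g ∈ Cfsg.Geo.kroneckerSubgroup 2 k F, ∀ h ∈ H, g * h * g⁻¹ ∈ H := by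
      rintro g ⟨a, b, hgab⟩ _ ⟨x, hx, rfl⟩
      exact ⟨a * x * a⁻¹, hnormal.conj_mem x hx a, (conj_kronecker g a b hgab x).symm⟩
    rw [Subgroup.mem_normalizer_iff]
    intro h
    refine ⟨hfw g hg h, fun hh => ?_⟩
    have := hfw g⁻¹ (inv_mem hg) _ hh
    simpa [mul_assoc] using this
  let j0 : Fin k := ⟨0, by omega⟩
  let j1 : Fin k := ⟨1, by omega⟩
  have hne : j1 ≠ j0 := by simp [j0, j1, Fin.ext_iff]
  refine ⟨Subgroup.normalizer (H : Set GB), lt_of_le_of_ne hle ?_, lt_top_iff_ne_top.2 ?_⟩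
  · intro heq
    let g : GB := blocks (Function.update 1 j0 w)
    have hcomm : ∀ h ∈ H, g * h * g⁻¹ = h := by
      rintro _ ⟨x, hx, rfl⟩
      obtain ⟨z, rfl⟩ := Subgroup.mem_zpowers_iff.1 hx
      rw [mul_inv_eq_iff_eq_mul]
      show blocks _ * blocks _ = blocks _ * blocks _
      rw [← map_mul, ← map_mul]
      congr 1
      funext j
      by_cases hj : j = j0
      · subst hj; rw [Pi.mul_apply, Pi.mul_apply, Function.update_self]; exact (Commute.self_zpow w z).eq
      · simp [hj]
    have hg : g ∈ Subgroup.normalizer (H : Set GB) := by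
      rw [Subgroup.mem_normalizer_iff]
      intro h
      refine ⟨fun hh => by rw [hcomm h hh]; exact hh, fun hh => ?_⟩
      have h2 := hcomm _ hh
      have : g * h * g⁻¹ = h := by
        have h3 := congrArg (fun z => g⁻¹ * z * g) h2
        simpa [mul_assoc] using h3
      rwa [this] at hh
    rw [← heq] at hg
    obtain ⟨a, b, hab⟩ := hg
    have e1 := congrFun (congrFun hab (0, j0)) (1, j0)
    have e2 := congrFun (congrFun hab (0, j1)) (1, j1)
    have e3 := congrFun (congrFun hab (0, j1)) (0, j1)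
    simp [g, blocks_val, Matrix.blockDiagonal_apply, Matrix.kroneckerMap_apply, w, W, hne] at e1 e2 e3
    rcases e2 with h | h
    · rw [h, zero_mul] at e1; exact one_ne_zero e1
    · rw [h, mul_zero] at e3; exact one_ne_zero e3
  · intro htop
    let g : GB := blocks (Function.update 1 j0 u)
    have hg : g ∈ Subgroup.normalizer (H : Set GB) := htop ▸ Subgroup.mem_top g
    rw [Subgroup.mem_normalizer_iff] at hg
    obtain ⟨y, -, hy⟩ := (hg (diagHom w)).1 ⟨w, Subgroup.mem_zpowers w, rfl⟩
    have hy' := eq_mul_inv_iff_mul_eq.1 hy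
    have h0 := congrFun (congrArg (fun z : GB => (z : Matrix (Fin 2 × Fin k) (Fin 2 × Fin k) F)) hy')
    have hb : ∀ j, (y : Matrix (Fin 2) (Fin 2) F) * (Function.update (1 : Fin k → G2) j0 u j : Matrix (Fin 2) (Fin 2) F)
        = (Function.update (1 : Fin k → G2) j0 u j : Matrix (Fin 2) (Fin 2) F) * W := by
      intro j
      ext i i'
      have := congrFun (h0 (i, j)) (i', j)
      change (((blocks fun _ => y) * blocks (Function.update 1 j0 u) : GB) :
        Matrix (Fin 2 × Fin k) (Fin 2 × Fin k) F) (i, j) (i', j) =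
        ((blocks (Function.update 1 j0 u) * blocks fun _ => w : GB) :
        Matrix (Fin 2 × Fin k) (Fin 2 × Fin k) F) (i, j) (i', j) at this
      rw [← map_mul, ← map_mul, blocks_val, blocks_val, Matrix.blockDiagonal_apply_eq,
        Matrix.blockDiagonal_apply_eq] at this
      simpa [w] using this
    have h1 := hb j1
    simp [hne] at h1
    have h2 := congrFun (congrFun (hb j0) 0) 0
    rw [h1] at h2
    simp [u, T, W, Matrix.mul_apply, Fin.sum_univ_two] at h2

lemma top_of_card_two {ι : Type} [Fintype ι] [DecidableEq ι] [Fintype F] (hq : Fintype.card F = 2) :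
    Cfsg.Geo.specialLinear ι F = ⊤ := by
  refine eq_top_iff.2 fun g _ => (CfsgLib.Maximal.mem_specialLinear_iff g).2 ?_
  have h : (g : Matrix ι ι F).det ≠ 0 := ((Matrix.isUnit_iff_isUnit_det _).1 g.isUnit).ne_zero
  have := FiniteField.pow_card_sub_one_eq_one _ h
  rwa [hq, pow_one] at this

lemma main [Fintype F] {n : ℕ} (hn : 13 ≤ n) (hq : Fintype.card F = 2) (e : Fin n ≃ Fin 2 × Fin k)
    (P : Matrix.GeneralLinearGroup (Fin n) F) :
    ∃ K : Subgroup (Matrix.GeneralLinearGroup (Fin n) F),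
      Cfsg.Geo.tensorProductSubgroup 2 k e P ⊓ Cfsg.Geo.specialLinear (Fin n) F < K ∧
        K < Cfsg.Geo.specialLinear (Fin n) F := by
  have hk : 2 ≤ k := by
    have := Fintype.card_congr e
    simp at this; omega
  obtain ⟨K, h1, h2⟩ := exists_between (F := F) hq hk
  let f : GB ≃* Matrix.GeneralLinearGroup (Fin n) F := (Cfsg.Geo.glReindex e.symm).trans (MulAut.conj P)
  have hmap : ∀ H : Subgroup GB,
      (H.map (Cfsg.Geo.glReindex e.symm).toMonoidHom).map (MulAut.conj P).toMonoidHom = H.map f.toMonoidHom :=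
    fun H => by rw [Subgroup.map_map]; rfl
  refine ⟨K.map f.toMonoidHom, ?_, ?_⟩
  · rw [top_of_card_two hq, inf_top_eq, Cfsg.Geo.tensorProductSubgroup, hmap]
    exact (Subgroup.map_lt_map_iff_of_injective f.injective).2 h1
  · rw [top_of_card_two hq, ← Subgroup.map_top_of_surjective f.toMonoidHom f.surjective]
    exact (Subgroup.map_lt_map_iff_of_injective f.injective).2 h2

end

/-- Over the field with 2 elements, for n = 2 n₂ ≥ 13, the stabiliser in SL_n of a tensor decomposition with factors of dimensions 2 and n₂ (the conjugate by any P of the Kronecker-product subgroup transported along any bijection Fin n ≃ Fin 2 × Fin n₂, intersected with SL_n) is not a maximal subgroup: some subgroup lies strictly between it and SL_n. -/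
theorem result {F : Type*} [Field F] [Fintype F] (n : ℕ) (hn : 13 ≤ n) (hq : Fintype.card F = 2) (n₂ : ℕ) (e : Fin n ≃ Fin 2 × Fin n₂) (P : Matrix.GeneralLinearGroup (Fin n) F) : ∃ K : Subgroup (Matrix.GeneralLinearGroup (Fin n) F), Cfsg.Geo.tensorProductSubgroup 2 n₂ e P ⊓ Cfsg.Geo.specialLinear (Fin n) F < K ∧ K < Cfsg.Geo.specialLinear (Fin n) F := by
  exact main hn hq e P

end Cfsg.Agent.S5638
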