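import Cfsg.Statements.S5642
import Cfsg.Agent.Lib.Maximal.FormTv
import Cfsg.Agent.Lib.Geometry.Alternating
import Cfsg.Agent.Lib.Geometry.MatrixEquiv

set_option autoImplicit false
open Cfsg

namespace Cfsg.Agent.S5642

section
set_option maxHeartbeats 1000000
open scoped Matrix
open CfsgLib.Maximal

variable {F : Type*} [Field F] {n : ℕ} {f : (Fin n → F) → (Fin n → F) → F}

local notation "GG" => Matrix.GeneralLinearGroup (Fin n) F

/-- The form as a bilinear map. -/
def bil (hf : Cfsg.Geo.IsSymplecticForm f) : LinearMap.BilinForm F (Fin n → F) :=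
  LinearMap.mk₂ F f hf.bilinear.add_left hf.bilinear.smul_left hf.bilinear.add_right hf.bilinear.smul_right

lemma bil_alt (hf : Cfsg.Geo.IsSymplecticForm f) : (bil hf).IsAlt := hf.alternating

lemma bil_nondeg (hf : Cfsg.Geo.IsSymplecticForm f) : (bil hf).Nondegenerate := by
  refine (bil_alt hf).isRefl.nondegenerate_iff_separatingLeft.2 fun v hv => ?_
  by_contra h0
  obtain ⟨x, hx⟩ := (hf.nondegenerate v h0).2
  exact hx (hv x)

lemma bil_eq (hf : Cfsg.Geo.IsSymplecticForm f) (u v : Fin n → F) : bil hf u v = f u v := rfl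

lemma fd (hf : Cfsg.Geo.IsSymplecticForm f) (d x : Fin n → F) : fvec f d ⬝ᵥ x = f x d :=
  fvec_dot hf.bilinear.add_left hf.bilinear.smul_left d x

lemma eq_of_f (hf : Cfsg.Geo.IsSymplecticForm f) {u v : Fin n → F} (h : ∀ x, f x u = f x v) : u = v := by
  have hz : ∀ x, f x (u - v) = 0 := fun x => by
    rw [← bil_eq hf, map_sub, bil_eq, bil_eq, h, sub_self]
  by_contra hne
  obtain ⟨x, hx⟩ := (hf.nondegenerate _ (sub_ne_zero.2 hne)).1
  exact hx (hz x)

lemma fvec_surj (hf : Cfsg.Geo.IsSymplecticForm f) (φ : Fin n → F) : ∃ d, fvec f d = φ := by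
  let L : (Fin n → F) →ₗ[F] (Fin n → F) :=
    { toFun := fvec f
      map_add' := fun a b => funext fun i => hf.bilinear.add_right _ a b
      map_smul' := fun c a => funext fun i => hf.bilinear.smul_right c _ a }
  have hinj : Function.Injective L := fun a b h => eq_of_f hf fun x => by
    rw [← fd hf a x, ← fd hf b x]
    exact congrArg (· ⬝ᵥ x) h
  exact LinearMap.injective_iff_surjective.1 hinj φ

lemma exists_eval (hf : Cfsg.Geo.IsSymplecticForm f) {c e : Fin n → F} (he : e ∉ Submodule.span F {c}) :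
    ∃ x, f x c = 0 ∧ f x e = 1 := by
  obtain ⟨φ, hφ, hφe⟩ := exists_ann _ e he
  obtain ⟨w, rfl⟩ := fvec_surj hf φ
  have hc := hφ c (Submodule.mem_span_singleton_self c)
  rw [fd hf] at hc hφe
  refine ⟨-w, ?_, ?_⟩ <;> rw [← neg_one_smul F w, hf.bilinear.smul_left, hf.skew w]
  · rw [hc]; ring
  · rw [hφe]; ring

lemma tv_isometry (hf : Cfsg.Geo.IsSymplecticForm f) (k : F) (a : Fin n → F) (h : fvec f a ⬝ᵥ (k • a) = 0)
    (u v : Fin n → F) : f ((tv (k • a) (fvec f a) h : Matrix (Fin n) (Fin n) F) *ᵥ u)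
      ((tv (k • a) (fvec f a) h : Matrix (Fin n) (Fin n) F) *ᵥ v) = f u v := by
  rw [tv_mulVec, tv_mulVec, fd hf, fd hf, smul_smul, smul_smul]
  simp only [hf.bilinear.add_left, hf.bilinear.add_right, hf.bilinear.smul_left, hf.bilinear.smul_right,
    hf.alternating, hf.skew a v]
  ring

lemma has_of_le (hf : Cfsg.Geo.IsSymplecticForm f) {M : Subgroup GG}
    (hM : Cfsg.Geo.similarityGroup f ⊓ Cfsg.Geo.specialLinear (Fin n) F ≤ M) (k : F) (a : Fin n → F) :
    Has M (k • a) (fvec f a) := by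
  have h : fvec f a ⬝ᵥ (k • a) = 0 := by
    rw [fd hf, hf.bilinear.smul_left, hf.alternating, mul_zero]
  exact ⟨h, hM ⟨⟨1, fun u v => by rw [tv_isometry hf k a h, Units.val_one, one_mul]⟩, tv_mem_specialLinear _ _ _⟩⟩

lemma mem_of_transvGroup (hf : Cfsg.Geo.IsSymplecticForm f) {M : Subgroup GG}
    (hM : Cfsg.Geo.similarityGroup f ⊓ Cfsg.Geo.specialLinear (Fin n) F ≤ M)
    {e : (Fin n → F) ≃ₗ[F] (Fin n → F)} (he : e ∈ CfsgLib.Geometry.altTransvGroup (bil hf)) :
    CfsgLib.Geometry.glEquiv.symm e ∈ M := by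
  refine (Subgroup.closure_le (M.comap CfsgLib.Geometry.glEquiv.symm.toMonoidHom)).2 ?_ he
  rintro g ⟨a, d, hg⟩
  obtain ⟨h, hm⟩ := has_of_le hf hM a d
  show CfsgLib.Geometry.glEquiv.symm g ∈ M
  convert hm using 1
  refine Units.ext (CfsgLib.Geometry.matrix_eq_of_mulVec fun v => ?_)
  rw [CfsgLib.Geometry.glEquiv_symm_mulVec, tv_mulVec, hg, fd hf, bil_eq, smul_smul, mul_comm]

lemma indep_pair {a b : Fin n → F} (ha : a ≠ 0) (hb : b ∉ Submodule.span F {a}) :
    LinearIndependent F ![a, b] :=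
  (LinearIndependent.pair_iff' ha).2 fun k hk => hb (Submodule.mem_span_singleton.2 ⟨k, hk⟩)

/-- An element outside the similarity group yields a transvection whose axis is not polar to its centre. -/
lemma exists_pair (hf : Cfsg.Geo.IsSymplecticForm f) (hn : 3 ≤ n) {M : Subgroup GG}
    (hHM : Cfsg.Geo.similarityGroup f ⊓ Cfsg.Geo.specialLinear (Fin n) F ≤ M) {g : GG} (hgM : g ∈ M)
    (hg : g ∉ Cfsg.Geo.similarityGroup f) :
    ∃ c₀ d, d ∉ Submodule.span F {c₀} ∧ c₀ ≠ 0 ∧ ∀ k : F, Has M (k • c₀) (fvec f d) := by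
  by_contra hcon
  push Not at hcon
  have key : ∀ a, a ≠ 0 → ∃ l : F, ∀ x, f x a = l * f ((g : Matrix (Fin n) (Fin n) F) *ᵥ x) ((g : Matrix (Fin n) (Fin n) F) *ᵥ a) := by
    intro a ha
    obtain ⟨d, hd⟩ := fvec_surj hf (fvec f a ᵥ* ((g⁻¹ : GG) : Matrix (Fin n) (Fin n) F))
    have hga : (g : Matrix (Fin n) (Fin n) F) *ᵥ a ≠ 0 := fun h0 => ha (mulVec_inj g (by simpa using h0))
    by_cases hds : d ∈ Submodule.span F {(g : Matrix (Fin n) (Fin n) F) *ᵥ a}
    · obtain ⟨l, hl⟩ := Submodule.mem_span_singleton.1 hds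
      refine ⟨l, fun x => ?_⟩
      rw [← fd hf a, ← dot_vecMul_inv g, ← hd, fd hf, ← hl, hf.bilinear.smul_right]
    · obtain ⟨k, hk⟩ := hcon _ d hds hga
      refine absurd ?_ hk
      have := (has_of_le hf hHM k a).conj hgM
      rwa [Matrix.mulVec_smul, ← hd] at this
  choose! l hl using key
  obtain ⟨a₀, ha₀⟩ : ∃ a : Fin n → F, a ≠ 0 := ⟨Pi.single ⟨0, by omega⟩ 1, by simp⟩
  have hconst : ∀ a, a ≠ 0 → l a = l a₀ := by
    intro a ha
    by_cases hs : a ∈ Submodule.span F {a₀}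
    · obtain ⟨k, rfl⟩ := Submodule.mem_span_singleton.1 hs
      obtain ⟨x, hx⟩ := (hf.nondegenerate _ ha).1
      have h1 := hl _ ha x
      rw [Matrix.mulVec_smul, hf.bilinear.smul_right, hf.bilinear.smul_right] at h1
      rw [hf.bilinear.smul_right] at hx
      rw [hl a₀ ha₀ x] at h1 hx
      have hne' : k * f ((g : Matrix (Fin n) (Fin n) F) *ᵥ x) ((g : Matrix (Fin n) (Fin n) F) *ᵥ a₀) ≠ 0 := by
        intro h0; apply hx; linear_combination l a₀ * h0
      exact mul_right_cancel₀ hne' (by linear_combination -h1)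
    have hsum : a + a₀ ≠ 0 := fun h0 => hs (Submodule.mem_span_singleton.2 ⟨-1, by
      rw [neg_one_smul, eq_neg_of_add_eq_zero_left h0]⟩)
    have hzero : (l (a + a₀) - l a) • (g : Matrix (Fin n) (Fin n) F) *ᵥ a +
        (l (a + a₀) - l a₀) • (g : Matrix (Fin n) (Fin n) F) *ᵥ a₀ = 0 := by
      refine eq_of_f hf fun y => ?_
      obtain ⟨x, rfl⟩ := mulVec_surj g y
      have h1 := hl _ hsum x
      rw [hf.bilinear.add_right, Matrix.mulVec_add, hf.bilinear.add_right, hl a ha x, hl a₀ ha₀ x] at h1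
      rw [hf.bilinear.add_right, hf.bilinear.smul_right, hf.bilinear.smul_right, ← bil_eq hf _ 0, map_zero]
      linear_combination -h1
    have hzero' : (l (a + a₀) - l a₀) • a₀ + (l (a + a₀) - l a) • a = 0 := by
      refine mulVec_inj g ?_
      show (g : Matrix (Fin n) (Fin n) F) *ᵥ _ = _ *ᵥ _
      rw [Matrix.mulVec_add, Matrix.mulVec_smul, Matrix.mulVec_smul, Matrix.mulVec_zero, add_comm]
      exact hzero
    obtain ⟨h1, h2⟩ := (LinearIndependent.pair_iff.1 (indep_pair ha₀ hs)) _ _ hzero'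
    linear_combination h1 - h2
  have hl0 : l a₀ ≠ 0 := by
    intro h0
    obtain ⟨x, hx⟩ := (hf.nondegenerate _ ha₀).1
    exact hx (by rw [hl a₀ ha₀, h0, zero_mul])
  refine hg ⟨Units.mk0 (l a₀)⁻¹ (inv_ne_zero hl0), fun u v => ?_⟩
  rcases eq_or_ne v 0 with rfl | hv
  · simp [← bil_eq hf]
  · rw [hl v hv u, hconst v hv, Units.val_mk0, inv_mul_cancel_left₀ hl0]

lemma main (hf : Cfsg.Geo.IsSymplecticForm f) (hn : 3 ≤ n) :
    Cfsg.Geo.IsMaximalIn (Cfsg.Geo.specialLinear (Fin n) F)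
      (Cfsg.Geo.similarityGroup f ⊓ Cfsg.Geo.specialLinear (Fin n) F) := by
  constructor
  · refine lt_of_le_of_ne inf_le_right fun heq => ?_
    let c : Fin n → F := Pi.single ⟨0, by omega⟩ 1
    have hc : c ≠ 0 := by simp [c]
    obtain ⟨e, he, hec⟩ : ∃ e, f c e = 0 ∧ e ∉ Submodule.span F {c} := by
      by_contra hcon
      push Not at hcon
      have hle : LinearMap.ker (bil hf c) ≤ Submodule.span F {c} := fun x hx => hcon x hx
      have h1 := Submodule.finrank_mono hle
      rw [finrank_span_singleton hc] at h1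
      have h2 := (bil hf c).finrank_range_add_finrank_ker
      have h3 := (LinearMap.range (bil hf c)).finrank_le
      simp at h2 h3
      omega
    have h : fvec f e ⬝ᵥ c = 0 := by rw [fd hf, he]
    have hmem : tv c (fvec f e) h ∈ Cfsg.Geo.similarityGroup f ⊓ Cfsg.Geo.specialLinear (Fin n) F := by
      rw [heq]; exact tv_mem_specialLinear _ _ _
    obtain ⟨k, hk⟩ := hmem.1
    obtain ⟨x, hxc, hxe⟩ := exists_eval hf hec
    have hce : c ∉ Submodule.span F {e} := by
      intro hm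
      obtain ⟨l, hl⟩ := Submodule.mem_span_singleton.1 hm
      rcases eq_or_ne l 0 with rfl | hl0
      · simp [← hl] at hc
      · exact hec (Submodule.mem_span_singleton.2 ⟨l⁻¹, by rw [← hl, inv_smul_smul₀ hl0]⟩)
    obtain ⟨y, hye, hyc⟩ := exists_eval hf hce
    obtain ⟨z, hzc⟩ : ∃ z, f z c = 1 := ⟨y, hyc⟩
    have hk1 : (k : F) = 1 := by
      have h2 := hk z c
      rw [tv_mulVec, tv_mulVec, fd hf, fd hf, he, zero_smul, add_zero, hf.bilinear.add_left,
        hf.bilinear.smul_left, hf.alternating, mul_zero, add_zero, hzc, mul_one] at h2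
      exact h2.symm
    have h3 := hk x y
    rw [hk1, one_mul, tv_mulVec, tv_mulVec, fd hf, fd hf, hxe, hye, one_smul, zero_smul, add_zero,
      hf.bilinear.add_left, hf.skew c y, hyc, add_eq_left, neg_eq_zero] at h3
    exact one_ne_zero h3
  intro M hHM hMS
  refine or_iff_not_imp_left.2 fun hne => le_antisymm hMS (specialLinear_le_of_tv M fun c => tvCentre_iff.2 ?_)
  obtain ⟨g, hgM, hg⟩ : ∃ g ∈ M, g ∉ Cfsg.Geo.similarityGroup f := by
    by_contra hcon
    push Not at hcon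
    exact hne (le_antisymm (fun g hg => ⟨hcon g hg, hMS hg⟩) hHM)
  obtain ⟨c₀, d, hd, hcd⟩ := exists_pair hf hn hHM hgM hg
  obtain ⟨hc₀, hpair⟩ := hcd
  have hcd0 : f c₀ d = 0 := by
    have := (hpair 1).dot
    rwa [one_smul, fd hf] at this
  -- transport it by the symplectic group
  intro φ hφ
  obtain ⟨e, rfl⟩ := fvec_surj hf φ
  rw [fd hf] at hφ
  rcases eq_or_ne c 0 with rfl | hc
  · exact has_of_zero (Or.inl rfl)
  by_cases he : e ∈ Submodule.span F {c}
  · obtain ⟨k, rfl⟩ := Submodule.mem_span_singleton.1 he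
    have : fvec f (k • c) = k • fvec f c := funext fun i => hf.bilinear.smul_right k _ c
    rw [this, ← Has.smul_iff]
    exact has_of_le hf hHM k c
  obtain ⟨t, ht, htv⟩ := CfsgLib.Geometry.alt_extend (bil_nondeg hf) (bil_alt hf) ![c₀, d] ![c, e]
    (indep_pair hc₀ hd) (indep_pair hc he) (fun i j => by
      fin_cases i <;> fin_cases j <;> simp [bil_eq, hf.alternating, hcd0, hφ, hf.skew d, hf.skew e])
  have htM := mem_of_transvGroup hf hHM ht
  set T := CfsgLib.Geometry.glEquiv.symm t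
  have hT : ∀ v, (T : Matrix (Fin n) (Fin n) F) *ᵥ v = t v := fun v => CfsgLib.Geometry.glEquiv_symm_mulVec t v
  have hpres := CfsgLib.Geometry.altTransvGroup_preserves (bil_alt hf) ht
  have h1 := (hpair 1).conj htM
  have hvec : fvec f d ᵥ* ((T⁻¹ : GG) : Matrix (Fin n) (Fin n) F) = fvec f e := by
    refine dot_ext fun y => ?_
    obtain ⟨x, rfl⟩ := mulVec_surj T y
    simp only []
    rw [dot_vecMul_inv, fd hf, fd hf, hT, ← bil_eq hf, ← bil_eq hf, ← show t d = e from htv 1, hpres]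
  rw [hvec, one_smul, hT, show t c₀ = c from htv 0] at h1
  exact h1

end

/-- For a finite field F and n ≥ 13, let f be a non-degenerate symplectic form on F^n (so n is even). Then the elements of SL_n(F) that are similarities of f (f(gu, gv) = c f(u, v) for a non-zero scalar c depending on g) form a maximal subgroup of SL_n(F). -/
theorem result {F : Type*} [Field F] [Fintype F] (n : ℕ) (hn : 13 ≤ n) (f : (Fin n → F) → (Fin n → F) → F) (hf : Cfsg.Geo.IsSymplecticForm f) : Cfsg.Geo.IsMaximalIn (Cfsg.Geo.specialLinear (Fin n) F) (Cfsg.Geo.similarityGroup f ⊓ Cfsg.Geo.specialLinear (Fin n) F) := by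
  exact main hf (by omega)

end Cfsg.Agent.S5642
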