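import Cfsg.Statements.S5643
import Cfsg.Agent.Lib.Maximal.UnTv

set_option autoImplicit false
open Cfsg

namespace Cfsg.Agent.S5643

section
set_option maxHeartbeats 800000
open scoped Matrix
open CfsgLib.Maximal

variable {F : Type*} [Field F] {n : ℕ} {σ : F ≃+* F} {f : (Fin n → F) → (Fin n → F) → F}

local notation "GG" => Matrix.GeneralLinearGroup (Fin n) F
local notation "MM" => Matrix (Fin n) (Fin n) F

variable {M : Subgroup (Matrix.GeneralLinearGroup (Fin n) F)}

lemma has_iso (hf : Cfsg.Geo.IsUnitaryForm σ f)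
    (hHM : Cfsg.Geo.similarityGroup f ⊓ Cfsg.Geo.specialLinear (Fin n) F ≤ M) {a : Fin n → F} (ha : f a a = 0)
    {k : F} (hk : σ k = -k) : Has M (k • a) (fvec f a) :=
  ⟨un_tv_dot hf ha k, hHM ⟨⟨1, fun u v => by rw [un_tv_isometry hf ha hk, Units.val_one, one_mul]⟩,
    tv_mem_specialLinear _ _ _⟩⟩

variable [Fintype F]

lemma proper (hf : Cfsg.Geo.IsUnitaryForm σ f) (hn : 6 ≤ Fintype.card (Fin n)) :
    Cfsg.Geo.similarityGroup f ⊓ Cfsg.Geo.specialLinear (Fin n) F < Cfsg.Geo.specialLinear (Fin n) F := by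
  refine lt_of_le_of_ne inf_le_right fun heq => ?_
  have hn0 : 0 < n := by simp at hn; omega
  have he0 : (Pi.single ⟨0, hn0⟩ 1 : Fin n → F) ∉ Submodule.span F (Set.range fun _ : Fin 2 => (0 : Fin n → F)) := by
    simp
  obtain ⟨c, hc, -, hcx⟩ := un_supply_two hf hn _ he0
  have hc0 : c ≠ 0 := fun h => by rw [h, un_zero_left hf] at hcx; exact zero_ne_one hcx
  obtain ⟨d, hd, hdc⟩ : ∃ d, f c d = 0 ∧ d ∉ Submodule.span F {c} := by
    let φ := fvec f c
    let L : (Fin n → F) →ₗ[F] F := dotProductEquiv F (Fin n) φ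
    by_contra hcon
    push Not at hcon
    have hle : LinearMap.ker L ≤ Submodule.span F {c} := fun z hz => hcon z (by
      rw [hf.herm, show f z c = 0 from (un_dot hf c z).symm.trans hz, map_zero])
    have h1 := Submodule.finrank_mono hle
    rw [finrank_span_singleton hc0] at h1
    have h2 := L.finrank_range_add_finrank_ker
    have h3 := (LinearMap.range L).finrank_le
    simp at h2 h3 hn
    omega
  have h : fvec f d ⬝ᵥ c = 0 := by rw [un_dot hf, hd]
  have hmem : tv c (fvec f d) h ∈ Cfsg.Geo.similarityGroup f ⊓ Cfsg.Geo.specialLinear (Fin n) F := by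
    rw [heq]; exact tv_mem_specialLinear _ _ _
  obtain ⟨k, hk⟩ := hmem.1
  have hk1 : (k : F) = 1 := by
    obtain ⟨z, hz⟩ := un_exists hf c hc0
    have hz' : f z c = 1 := by rw [hf.herm, hz, map_one]
    have h2 := hk z c
    rw [tv_mulVec, tv_mulVec, un_dot hf, un_dot hf, hd, zero_smul, add_zero, hf.add_left, hf.smul_left, hc,
      mul_zero, add_zero, hz', mul_one] at h2
    exact h2.symm
  obtain ⟨x, hxc, hxd⟩ := un_eval₀ hf (fun _ : Unit => c) (x := d) (by simpa using hdc)
  have hcd : c ∉ Submodule.span F {d} := by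
    intro hm
    obtain ⟨l, hl⟩ := Submodule.mem_span_singleton.1 hm
    rcases eq_or_ne l 0 with rfl | hl0
    · simp [← hl] at hc0
    · exact hdc (Submodule.mem_span_singleton.2 ⟨l⁻¹, by rw [← hl, inv_smul_smul₀ hl0]⟩)
  obtain ⟨y, hyd, hyc⟩ := un_eval₀ hf (fun _ : Unit => d) (x := c) (by simpa using hcd)
  have h3 := hk x y
  rw [hk1, one_mul, tv_mulVec, tv_mulVec, un_dot hf, un_dot hf, hxd, hyd (), one_smul, zero_smul, add_zero,
    hf.add_left, hf.herm c y, hyc, map_one, add_eq_left] at h3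
  exact one_ne_zero h3

lemma exists_pair (hf : Cfsg.Geo.IsUnitaryForm σ f) (hn : 6 ≤ Fintype.card (Fin n))
    (hHM : Cfsg.Geo.similarityGroup f ⊓ Cfsg.Geo.specialLinear (Fin n) F ≤ M) {g : GG} (hgM : g ∈ M)
    (hg : g ∉ Cfsg.Geo.similarityGroup f) :
    ∃ c d, c ≠ 0 ∧ d ∉ Submodule.span F {c} ∧ Has M c (fvec f d) := by
  obtain ⟨k, hk0, hk⟩ := un_skew_exists hf
  by_contra hcon
  push Not at hcon
  have key : ∀ a, a ≠ 0 → f a a = 0 → ∃ l : F, ∀ x, f x a = l * f ((g : MM) *ᵥ x) ((g : MM) *ᵥ a) := by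
    intro a ha0 ha
    obtain ⟨d, hd⟩ := un_fvec_surj hf (fvec f a ᵥ* ((g⁻¹ : GG) : MM))
    have hga : k • ((g : MM) *ᵥ a) ≠ 0 := smul_ne_zero hk0 fun h0 => ha0 (mulVec_inj g (by simpa using h0))
    by_cases hds : d ∈ Submodule.span F {k • ((g : MM) *ᵥ a)}
    · obtain ⟨l, hl⟩ := Submodule.mem_span_singleton.1 hds
      refine ⟨σ (l * k), fun x => ?_⟩
      rw [← un_dot hf a, ← dot_vecMul_inv g, ← hd, un_dot hf, ← hl, smul_smul, un_smul_right hf]
    · refine absurd ?_ (hcon _ d hga hds)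
      have := (has_iso hf hHM ha hk).conj hgM
      rwa [Matrix.mulVec_smul, ← hd] at this
  choose! l hl using key
  have hsym : ∀ a b, a ≠ 0 → f a a = 0 → b ≠ 0 → f b b = 0 → f a b ≠ 0 → l a = σ (l b) := by
    intro a b ha0 ha hb0 hb hab
    have h1 := hl a ha0 ha b
    have h2 := congrArg σ (hl b hb0 hb a)
    rw [← hf.herm, map_mul, ← hf.herm, h1] at h2
    have hne : f ((g : MM) *ᵥ b) ((g : MM) *ᵥ a) ≠ 0 := by
      intro h0
      apply hab
      rw [hf.herm, h1, h0, mul_zero, map_zero]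
    exact mul_right_cancel₀ hne h2
  have hfix : ∀ a b, a ≠ 0 → f a a = 0 → b ≠ 0 → f b b = 0 → f a b ≠ 0 → l a = l b := by
    intro a b ha0 ha hb0 hb hab
    obtain ⟨c, hc, hw⟩ := un_iso_comb hf ha hb
    have hw0 : a + c • b ≠ 0 := fun h0 => hab (by
      rw [eq_neg_of_add_eq_zero_left h0, ← neg_smul, hf.smul_left, hb, mul_zero])
    have hzero : (σ (l (a + c • b)) - σ (l a)) • ((g : MM) *ᵥ a) +
        ((σ (l (a + c • b)) - σ (l b)) * c) • ((g : MM) *ᵥ b) = 0 := by
      refine un_eq_of_forall hf fun y => ?_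
      obtain ⟨x, rfl⟩ := mulVec_surj g y
      have h1 := hl _ hw0 hw x
      rw [un_add_right hf, un_smul_right hf, Matrix.mulVec_add, Matrix.mulVec_smul, un_add_right hf,
        un_smul_right hf, hl a ha0 ha x, hl b hb0 hb x] at h1
      simp only [un_add_right hf, un_smul_right hf, un_zero_right hf, map_sub, map_mul, hf.involutive]
      linear_combination -h1
    have hzero' : (σ (l (a + c • b)) - σ (l a)) • a + ((σ (l (a + c • b)) - σ (l b)) * c) • b = 0 := by
      refine mulVec_inj g ?_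
      show (g : MM) *ᵥ _ = _ *ᵥ _
      rw [Matrix.mulVec_add, Matrix.mulVec_smul, Matrix.mulVec_smul, Matrix.mulVec_zero]
      exact hzero
    have hind : LinearIndependent F ![a, b] := (LinearIndependent.pair_iff' ha0).2 fun r hr => hab (by
      rw [← hr, un_smul_right hf, ha, mul_zero])
    obtain ⟨h1, h2⟩ := LinearIndependent.pair_iff.1 hind _ _ hzero'
    rcases mul_eq_zero.1 h2 with h3 | h3
    · exact σ.injective ((sub_eq_zero.1 h1).symm.trans (sub_eq_zero.1 h3))
    · exact absurd h3 hc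
  have hconst : ∀ a b, a ≠ 0 → f a a = 0 → b ≠ 0 → f b b = 0 → l a = l b := by
    intro a b ha0 ha hb0 hb
    obtain ⟨e, he, hea, heb⟩ := un_supply₂' hf hn ha0 hb0
    have he0 : e ≠ 0 := fun h => hea (by rw [h, un_zero_left hf])
    exact (hfix e a he0 he ha0 ha hea).symm.trans (hfix e b he0 he hb0 hb heb)
  have hne0 : ∀ z : Fin n → F, z ≠ 0 → z ∉ Submodule.span F (Set.range fun _ : Fin 2 => (0 : Fin n → F)) :=
    fun z hz h => hz (by simpa using h)
  have hn0 : 0 < n := by simp at hn; omega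
  obtain ⟨a₀, ha₀, -, hau⟩ := un_supply_two hf hn _ (hne0 (Pi.single ⟨0, hn0⟩ 1) (by simp))
  have ha₀0 : a₀ ≠ 0 := fun h => by rw [h, un_zero_left hf] at hau; exact zero_ne_one hau
  let S : Submodule F (Fin n → F) :=
    { carrier := {v | ∀ x, f x v = l a₀ * f ((g : MM) *ᵥ x) ((g : MM) *ᵥ v)}
      zero_mem' := fun x => by rw [Matrix.mulVec_zero, un_zero_right hf, un_zero_right hf, mul_zero]
      add_mem' := fun {u v} hu hv x => by rw [Matrix.mulVec_add, un_add_right hf, un_add_right hf, hu x, hv x]; ring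
      smul_mem' := fun c v hv x => by rw [Matrix.mulVec_smul, un_smul_right hf, un_smul_right hf, hv x]; ring }
  have hall : ∀ v, v ∈ S := by
    by_contra hcon'
    push Not at hcon'
    obtain ⟨v, hv⟩ := hcon'
    obtain ⟨φ, hφ, hφv⟩ := exists_ann S v hv
    obtain ⟨z, rfl⟩ := un_fvec_surj hf φ
    have hz : z ≠ 0 := fun h => by simp [h, un_fvec_zero hf] at hφv
    obtain ⟨e, he, -, hez⟩ := un_supply_two hf hn _ (hne0 z hz)
    have he0 : e ≠ 0 := fun h => by rw [h, un_zero_left hf] at hez; exact zero_ne_one hez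
    have := hφ e fun x => by rw [hl e he0 he x, hconst e a₀ he0 he ha₀0 ha₀]
    rw [un_dot hf, hez] at this
    exact one_ne_zero this
  have hl0 : l a₀ ≠ 0 := by
    intro h0
    obtain ⟨x, hx⟩ := (hf.nondegenerate _ ha₀0).1
    exact hx (by rw [hall a₀ x, h0, zero_mul])
  exact hg ⟨Units.mk0 (l a₀)⁻¹ (inv_ne_zero hl0), fun u v => by
    rw [hall v u, Units.val_mk0, inv_mul_cancel_left₀ hl0]⟩

omit [Fintype F] in
/-- The vectors `y` all whose multiples give transvections with centre `c`. -/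
def lineSpace (hf : Cfsg.Geo.IsUnitaryForm σ f) (M : Subgroup (Matrix.GeneralLinearGroup (Fin n) F)) (c : Fin n → F) : Submodule F (Fin n → F) where
  carrier := {y | ∀ μ : F, Has M c (fvec f (μ • y))}
  zero_mem' μ := has_of_zero (Or.inr (by rw [smul_zero, un_fvec_zero hf]))
  add_mem' {y z} hy hz μ := by rw [smul_add, un_fvec_add hf]; exact (hy μ).add_right (hz μ)
  smul_mem' a y hy μ := by rw [smul_smul]; exact hy _

lemma lineSpace_perp₂ (hf : Cfsg.Geo.IsUnitaryForm σ f) (hn : 6 ≤ Fintype.card (Fin n))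
    (hHM : Cfsg.Geo.similarityGroup f ⊓ Cfsg.Geo.specialLinear (Fin n) F ≤ M) {c d : Fin n → F}
    (hd : d ∉ Submodule.span F {c}) (hcd : Has M c (fvec f d)) {y : Fin n → F} (hyc : f y c = 0) (hyd : f y d = 0) :
    y ∈ lineSpace hf M c := by
  obtain ⟨k, hk0, hk⟩ := un_skew_exists hf
  have hgen : ∀ a, f a a = 0 → f a c = 0 → Has M c (fvec f ((σ (f (k • a) d)) • a)) := by
    intro a ha hac
    have h0 : fvec f a ⬝ᵥ c = 0 := by rw [un_dot hf, hf.herm, hac, map_zero]
    have := (has_iso hf hHM ha hk).comm_right hcd h0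
    rwa [un_dot hf, show f (k • a) d • fvec f a = fvec f (σ (f (k • a) d) • a) by
      rw [un_fvec_smul hf, hf.involutive]] at this
  have hiso : ∀ e, f e e = 0 → f e c = 0 → f e d = 0 → d ∉ Submodule.span F (Set.range ![c, e]) →
      e ∈ lineSpace hf M c := by
    intro e he hec hed hsp μ
    obtain ⟨a, ha, hav, had⟩ := un_supply_two hf hn ![c, e] hsp
    have hae : f a e = 0 := hav 1
    have hea : f e a = 0 := by rw [hf.herm, hae, map_zero]
    set r := σ (f (k • a) d)
    have hr : r = σ k := by simp only [r, hf.smul_left, had, mul_one]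
    have h1 : f (a + (μ / r) • e) (a + (μ / r) • e) = 0 := by
      simp only [hf.add_left, un_add_right hf, hf.smul_left, un_smul_right hf, ha, he, hae, hea]
      ring
    have h2 : f (a + (μ / r) • e) c = 0 := by
      rw [hf.add_left, hf.smul_left, hec, show f a c = 0 from hav 0]; ring
    have h3 := hgen _ h1 h2
    have h4 : f (k • (a + (μ / r) • e)) d = f (k • a) d := by
      simp only [hf.add_left, hf.smul_left, hed]; ring
    rw [h4] at h3
    have h5 := h3.add_right (hgen a ha (hav 0)).neg'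
    change Has M c (fvec f (r • (a + (μ / r) • e)) + -fvec f (r • a)) at h5
    have hr0 : r ≠ 0 := by rw [hr, hk]; exact neg_ne_zero.2 hk0
    rw [smul_add, un_fvec_add hf, smul_smul, mul_div_cancel₀ _ hr0, add_neg_cancel_comm] at h5
    exact h5
  by_contra hy
  obtain ⟨φ, hφ, hφy⟩ := exists_ann (lineSpace hf M c) y hy
  obtain ⟨z, rfl⟩ := un_fvec_surj hf φ
  rw [un_dot hf] at hφy
  have hz : z ∉ Submodule.span F {c, d} := by
    intro h
    obtain ⟨p, q, rfl⟩ := Submodule.mem_span_pair.1 h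
    rw [un_add_right hf, un_smul_right hf, un_smul_right hf, hyc, hyd] at hφy
    simp at hφy
  have hzr : z ∉ Submodule.span F (Set.range ![c, d]) := by simpa [Set.pair_comm] using hz
  obtain ⟨e, he, hev, hez⟩ := un_supply_two hf hn ![c, d] hzr
  have hec : f e c = 0 := hev 0
  have hed : f e d = 0 := hev 1
  obtain ⟨e', he', hec', hed', hez', hns⟩ : ∃ e', f e' e' = 0 ∧ f e' c = 0 ∧ f e' d = 0 ∧ f e' z ≠ 0 ∧
      e' ∉ Submodule.span F (Set.range ![c, d]) := by
    by_cases hm : e ∈ Submodule.span F (Set.range ![c, d])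
    swap
    · exact ⟨e, he, hec, hed, by rw [hez]; exact one_ne_zero, hm⟩
    let L : (Fin n → F) →ₗ[F] (Fin 2 → F) := LinearMap.pi ![dotProductEquiv F (Fin n) (fvec f c), dotProductEquiv F (Fin n) (fvec f d)]
    obtain ⟨x, hxL, hx⟩ : ∃ x ∈ LinearMap.ker L, x ∉ Submodule.span F (Set.range ![c, d]) := by
      by_contra hh
      push Not at hh
      have h1 := (Submodule.finrank_mono (fun x hx => hh x hx : LinearMap.ker L ≤ _)).trans
        (finrank_range_le_card (![c, d] : Fin 2 → Fin n → F))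
      have h2 := L.finrank_range_add_finrank_ker
      have h3 := (LinearMap.range L).finrank_le
      simp at h1 h2 h3 hn
      omega
    obtain ⟨r, hr, hrv, hrx⟩ := un_supply_two hf hn ![c, d] hx
    have hrc : f r c = 0 := hrv 0
    have hrd : f r d = 0 := hrv 1
    obtain ⟨p, hp⟩ := (Submodule.mem_span_range_iff_exists_fun F).1 hm
    simp [Fin.sum_univ_two] at hp
    have hrn : r ∉ Submodule.span F (Set.range ![c, d]) := by
      intro h
      obtain ⟨q, hq⟩ := (Submodule.mem_span_range_iff_exists_fun F).1 h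
      simp [Fin.sum_univ_two] at hq
      have hxc : f c x = 0 := by rw [hf.herm, show f x c = 0 from (un_dot hf c x).symm.trans (congrFun hxL 0), map_zero]
      have hxd : f d x = 0 := by rw [hf.herm, show f x d = 0 from (un_dot hf d x).symm.trans (congrFun hxL 1), map_zero]
      rw [← hq, hf.add_left, hf.smul_left, hf.smul_left, hxc, hxd] at hrx
      simp at hrx
    by_cases hrz : f r z = 0
    · have hre : f r e = 0 := by rw [← hp, un_add_right hf, un_smul_right hf, un_smul_right hf, hrc, hrd]; ring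
      refine ⟨e + r, ?_, by rw [hf.add_left, hec, hrc, add_zero], by rw [hf.add_left, hed, hrd, add_zero],
        by rw [hf.add_left, hez, hrz, add_zero]; exact one_ne_zero, fun h => hrn ((Submodule.add_mem_iff_right _ hm).1 h)⟩
      simp only [hf.add_left, un_add_right hf, he, hr, hre, hf.herm e r, map_zero, add_zero]
    · exact ⟨r, hr, hrc, hrd, hrz, hrn⟩
  have hsp : d ∉ Submodule.span F (Set.range ![c, e']) := by
    intro h
    obtain ⟨p, hp⟩ := (Submodule.mem_span_range_iff_exists_fun F).1 h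
    simp [Fin.sum_univ_two] at hp
    rcases eq_or_ne (p 1) 0 with h1 | h1
    · exact hd (Submodule.mem_span_singleton.2 ⟨p 0, by rw [← hp, h1, zero_smul, add_zero]⟩)
    · refine hns ((Submodule.mem_span_range_iff_exists_fun F).2 ⟨![-((p 1)⁻¹ * p 0), (p 1)⁻¹], ?_⟩)
      simp [Fin.sum_univ_two]
      rw [← hp, smul_add, smul_smul, smul_smul, inv_mul_cancel₀ h1, one_smul]; module
  have := hφ e' (hiso e' he' hec' hed' hsp)
  rw [un_dot hf] at this
  exact hez' this

lemma centre_of_pair (hf : Cfsg.Geo.IsUnitaryForm σ f) (hn : 6 ≤ Fintype.card (Fin n))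
    (hHM : Cfsg.Geo.similarityGroup f ⊓ Cfsg.Geo.specialLinear (Fin n) F ≤ M) {c d : Fin n → F} (hc : c ≠ 0)
    (hd : d ∉ Submodule.span F {c}) (hcd : Has M c (fvec f d)) : TvCentre M c := by
  refine tvCentre_iff.2 fun φ hφ => ?_
  obtain ⟨y, rfl⟩ := un_fvec_surj hf φ
  rw [un_dot hf] at hφ
  have hyc : f y c = 0 := by rw [hf.herm, hφ, map_zero]
  suffices h : y ∈ lineSpace hf M c by simpa using h 1
  by_contra hy
  obtain ⟨ψ, hψ, hψy⟩ := exists_ann (lineSpace hf M c) y hy
  obtain ⟨z, rfl⟩ := un_fvec_surj hf ψ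
  rw [un_dot hf] at hψy
  obtain ⟨d', hd'c, hd'd, hd'⟩ : ∃ d', f d' c = 0 ∧ f d' d = 0 ∧ d' ∉ Submodule.span F (Set.range ![c, d]) := by
    let L : (Fin n → F) →ₗ[F] (Fin 2 → F) := LinearMap.pi ![dotProductEquiv F (Fin n) (fvec f c), dotProductEquiv F (Fin n) (fvec f d)]
    obtain ⟨e, heL, he⟩ : ∃ e ∈ LinearMap.ker L, e ∉ Submodule.span F (Set.range ![c, d]) := by
      by_contra hh
      push Not at hh
      have h1 := (Submodule.finrank_mono (fun e he => hh e he : LinearMap.ker L ≤ _)).trans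
        (finrank_range_le_card (![c, d] : Fin 2 → Fin n → F))
      have h2 := L.finrank_range_add_finrank_ker
      have h3 := (LinearMap.range L).finrank_le
      simp at h1 h2 h3 hn
      omega
    exact ⟨e, (un_dot hf c e).symm.trans (congrFun heL 0), (un_dot hf d e).symm.trans (congrFun heL 1), he⟩
  have hcd' : Has M c (fvec f d') := by
    simpa using lineSpace_perp₂ hf hn hHM hd hcd hd'c hd'd 1
  have hd'ns : d' ∉ Submodule.span F {c} := fun h => hd' (Submodule.span_mono (by simp) h)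
  -- z lies in both planes, hence on the line through c
  have hsub : ∀ u, u ∉ Submodule.span F {c} → (∀ x, f x c = 0 → f x u = 0 → f x z = 0) →
      z ∈ Submodule.span F (Set.range ![c, u]) := by
    intro u hu h
    by_contra hz
    obtain ⟨x, hx, hxz⟩ := un_eval₀ hf ![c, u] hz
    rw [h x (hx 0) (hx 1)] at hxz
    exact zero_ne_one hxz
  have h1 := hsub d hd fun x hxc hxd => (un_dot hf z x).symm.trans (hψ x (lineSpace_perp₂ hf hn hHM hd hcd hxc hxd))
  have h2 := hsub d' hd'ns fun x hxc hxd =>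
    (un_dot hf z x).symm.trans (hψ x (lineSpace_perp₂ hf hn hHM hd'ns hcd' hxc hxd))
  obtain ⟨p, hp⟩ := (Submodule.mem_span_range_iff_exists_fun F).1 h1
  obtain ⟨r, hr⟩ := (Submodule.mem_span_range_iff_exists_fun F).1 h2
  simp [Fin.sum_univ_two] at hp hr
  by_cases hr1 : r 1 = 0
  · rw [← hr, hr1, zero_smul, add_zero, un_smul_right hf, hyc, mul_zero] at hψy
    exact zero_ne_one hψy
  · apply hd'
    have hd'e : d' = ((r 1)⁻¹ * (p 0 - r 0)) • c + ((r 1)⁻¹ * p 1) • d := by
      have hh : r 1 • d' = (p 0 - r 0) • c + p 1 • d := by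
        have hpr := hr.trans hp.symm
        rw [eq_sub_of_add_eq' hpr]; module
      have := congrArg ((r 1)⁻¹ • ·) hh
      simpa [smul_add, smul_smul, hr1] using this
    rw [hd'e]
    exact add_mem (Submodule.smul_mem _ _ (Submodule.subset_span ⟨0, rfl⟩))
      (Submodule.smul_mem _ _ (Submodule.subset_span ⟨1, rfl⟩))

lemma centre_add (b c : Fin n → F) (hb : TvCentre M b) (hc : TvCentre M c) : TvCentre M (b + c) := by
  by_cases h : c ∈ Submodule.span F {b}
  · obtain ⟨l, rfl⟩ := Submodule.mem_span_singleton.1 h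
    have := hb.smul (1 + l)
    rwa [add_smul, one_smul] at this
  obtain ⟨φ, hφ, hφc⟩ := exists_ann _ c h
  have h0 := hφ b (Submodule.mem_span_singleton_self b)
  have := hc.map (hb φ h0)
  rwa [tv_mulVec, hφc, one_smul, add_comm] at this

lemma main (hf : Cfsg.Geo.IsUnitaryForm σ f) (hn : 6 ≤ Fintype.card (Fin n)) :
    Cfsg.Geo.IsMaximalIn (Cfsg.Geo.specialLinear (Fin n) F)
      (Cfsg.Geo.similarityGroup f ⊓ Cfsg.Geo.specialLinear (Fin n) F) := by
  refine ⟨proper hf hn, fun M hHM hMS => or_iff_not_imp_left.2 fun hne =>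
    le_antisymm hMS (specialLinear_le_of_tv M ?_)⟩
  obtain ⟨g, hgM, hg⟩ : ∃ g ∈ M, g ∉ Cfsg.Geo.similarityGroup f := by
    by_contra hcon
    push Not at hcon
    exact hne (le_antisymm (fun g hg => ⟨hcon g hg, hMS hg⟩) hHM)
  obtain ⟨c, d, hc, hd, hcd⟩ := exists_pair hf hn hHM hgM hg
  let C : Submodule F (Fin n → F) :=
    { carrier := {v | TvCentre M v}
      zero_mem' := by
        show TvCentre M 0
        exact tvCentre_iff.2 fun φ _ => has_of_zero (Or.inl rfl)
      add_mem' := fun {u v} hu hv => centre_add u v hu hv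
      smul_mem' := fun a v hv => TvCentre.smul hv a }
  have hcC : c ∈ C := centre_of_pair hf hn hHM hc hd hcd
  obtain ⟨k, hk0, hk⟩ := un_skew_exists hf
  have hnext : ∀ x ∈ C, ∀ a, f a a = 0 → f x a ≠ 0 → a ∈ C := by
    intro x hx a ha hxa
    obtain ⟨h, hm⟩ := has_iso hf hHM ha hk
    have h1 : TvCentre M _ := TvCentre.map hx hm
    rw [tv_mulVec, un_dot hf, smul_smul] at h1
    have h2 : (f x a * k) • a ∈ C := (C.add_mem_iff_right hx).1 h1
    exact (C.smul_mem_iff (mul_ne_zero hxa hk0)).1 h2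
  have hiso : ∀ b, f b b = 0 → b ∈ C := by
    intro b hb
    rcases eq_or_ne b 0 with rfl | hb0
    · exact C.zero_mem
    obtain ⟨e, he, hec, heb⟩ := un_supply₂' hf hn hc hb0
    exact hnext e (hnext c hcC e he fun h => hec (by rw [hf.herm, h, map_zero])) b hb heb
  intro v
  by_contra hv
  obtain ⟨φ, hφ, hφv⟩ := exists_ann C v hv
  obtain ⟨z, rfl⟩ := un_fvec_surj hf φ
  have hz : z ≠ 0 := fun h => by simp [h, un_fvec_zero hf] at hφv
  obtain ⟨e, he, hez, -⟩ := un_supply₂' hf hn hz hz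
  exact hez ((un_dot hf z e).symm.trans (hφ e (hiso e he)))

end

/-- For a finite field F and n ≥ 13, let σ be a field automorphism of F of order two and f a non-degenerate unitary form on F^n with respect to σ. Then the elements of SL_n(F) that are similarities of f form a maximal subgroup of SL_n(F). -/
theorem result {F : Type*} [Field F] [Fintype F] (n : ℕ) (hn : 13 ≤ n) (σ : F ≃+* F) (f : (Fin n → F) → (Fin n → F) → F) (hf : Cfsg.Geo.IsUnitaryForm σ f) : Cfsg.Geo.IsMaximalIn (Cfsg.Geo.specialLinear (Fin n) F) (Cfsg.Geo.similarityGroup f ⊓ Cfsg.Geo.specialLinear (Fin n) F) := by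
  exact main hf (by rw [Fintype.card_fin]; omega)

end Cfsg.Agent.S5643
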