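import Cfsg.Statements.S5645
import Cfsg.Agent.Lib.Maximal.SpFull

set_option autoImplicit false
open Cfsg

namespace Cfsg.Agent.S5645

section
open scoped Matrix
open CfsgLib.Maximal

variable {m : ℕ} {F : Type*} [Field F]

local notation "sf" => Cfsg.sympForm m F
local notation "B" => CfsgLib.Geometry.sympBilin m F
local notation "perp" => LinearMap.BilinForm.orthogonal (CfsgLib.Geometry.sympBilin m F)

lemma mem_perp {W : Submodule F (Fin m ⊕ Fin m → F)} {v : Fin m ⊕ Fin m → F} :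
    v ∈ perp W ↔ ∀ w ∈ W, sf w v = 0 := Iff.rfl

lemma perp_perp (W : Submodule F (Fin m ⊕ Fin m → F)) : perp (perp W) = W :=
  LinearMap.BilinForm.orthogonal_orthogonal (CfsgLib.Geometry.sympBilin_nondegenerate m F)
    ((CfsgLib.Geometry.sympBilin_isAlt m F).isRefl) W

variable (W : Submodule F (Fin m ⊕ Fin m → F))

local notation "HH" => Cfsg.Geo.subspaceStabilizer W ⊓ Cfsg.spGL m F

lemma stab_of_perp (hW : Cfsg.Geo.IsTotallySingularFor sf W) {v : Fin m ⊕ Fin m → F} (hv : v ∈ perp W) (k : F) :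
    stv k v ∈ HH := by
  refine ⟨?_, stv_mem_spGL k v⟩
  rw [stv]
  refine tv_mem_stab_of_ann W _ _ _ fun w hw => ?_
  rw [sf_dot]
  exact hv w hw

lemma proper (hW0 : W ≠ ⊥) (hW : Cfsg.Geo.IsTotallySingularFor sf W) : HH < Cfsg.spGL m F := by
  refine lt_of_le_of_ne inf_le_right fun heq => ?_
  obtain ⟨w, hw, hw0⟩ := W.exists_mem_ne_zero_of_ne_bot hW0
  obtain ⟨u, hu⟩ := sf_exists w hw0
  have hmem : stv 1 u ∈ HH := by rw [heq]; exact stv_mem_spGL _ _
  have h1 := ((mem_subspaceStabilizer_iff W _).1 hmem.1 w).1 hw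
  rw [stv_mulVec, hu, mul_one, one_smul] at h1
  have := hW w hw _ h1
  rw [sf_add_right, sf_alt, zero_add, hu] at this
  exact one_ne_zero this

variable {M : Subgroup (Matrix.GeneralLinearGroup (Fin m ⊕ Fin m) F)}

lemma grow (hMS : M ≤ Cfsg.spGL m F) (S : Submodule F (Fin m ⊕ Fin m → F)) (hco : perp S ≤ S)
    (hfull : ∀ v ∈ S, SpFull M v) {u : Fin m ⊕ Fin m → F} (hu : SpFull M u) (huS : u ∉ S) :
    ∀ v ∈ S ⊔ Submodule.span F {u}, SpFull M v := by
  intro x hx
  obtain ⟨s, hs, y, hy, rfl⟩ := Submodule.mem_sup.1 hx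
  obtain ⟨a, rfl⟩ := Submodule.mem_span_singleton.1 hy
  rcases eq_or_ne a 0 with rfl | ha
  · simpa using hfull s hs
  suffices h : ∀ s ∈ S, SpFull M (s + u) by
    have h2 := (h (a⁻¹ • s) (S.smul_mem _ hs)).smul a
    rwa [smul_add, smul_inv_smul₀ ha] at h2
  clear hx hy hs s
  intro s hs
  by_cases hsu : sf s u ≠ 0
  · simpa using SpFull.move hMS hu (hfull s hs) hsu 1
  push Not at hsu
  have hout : ∀ z, z ∉ S → ∃ s₀ ∈ S, sf s₀ z ≠ 0 := by
    intro z hz
    by_contra hcon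
    push Not at hcon
    exact hz (hco (mem_perp.2 hcon))
  obtain ⟨p, hp, hp1⟩ := hout u huS
  obtain ⟨r, hr, hr1⟩ := hout (s + u) fun h => huS ((S.add_mem_iff_right hs).1 h)
  obtain ⟨s₀, hs₀, h1, h2⟩ : ∃ s₀ ∈ S, sf s₀ u ≠ 0 ∧ sf s₀ (s + u) ≠ 0 := by
    by_cases h1 : sf p (s + u) = 0
    · by_cases h2 : sf r u = 0
      · exact ⟨p + r, S.add_mem hp hr, by rwa [sf_add_left, h2, add_zero], by rwa [sf_add_left, h1, zero_add]⟩
      · exact ⟨r, hr, h2, hr1⟩
    · exact ⟨p, hp, hp1, h1⟩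
  have hu' : SpFull M (s₀ + u) := by simpa using SpFull.move hMS hu (hfull s₀ hs₀) h1 1
  have hsub : s - s₀ + (1 : F) • (s₀ + u) = s + u := by rw [one_smul]; abel
  rw [← hsub]
  refine SpFull.move hMS hu' (hfull _ (S.sub_mem hs hs₀)) ?_ 1
  rw [sub_eq_add_neg s s₀, sf_add_left, sf_add_right, hsu, add_zero, ← neg_one_smul F s₀, sf_smul_left,
    sf_add_right, sf_alt, zero_add]
  rw [sf_add_right, sf_skew s₀ s] at h2
  intro h0
  exact h2 (by linear_combination -h0)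

lemma main [Fintype F] (hW0 : W ≠ ⊥) (hW : Cfsg.Geo.IsTotallySingularFor sf W) :
    Cfsg.Geo.IsMaximalIn (Cfsg.spGL m F) HH := by
  classical
  refine ⟨proper W hW0 hW, fun M hHM hMS => or_iff_not_imp_left.2 fun hne => ?_⟩
  have hbase : ∀ v ∈ perp W, SpFull M v := fun v hv k => hHM (stab_of_perp W hW hv k)
  have hWP : W ≤ perp W := fun w hw z hz => hW z hz w hw
  obtain ⟨S, ⟨hPS, hfull⟩, hmax⟩ := Set.Finite.exists_maximal
    (s := {S : Submodule F (Fin m ⊕ Fin m → F) | perp W ≤ S ∧ ∀ v ∈ S, SpFull M v}) (Set.toFinite _)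
    ⟨perp W, le_rfl, hbase⟩
  by_cases hS : S = ⊤
  · exact spGL_eq_of_full hMS fun v => hfull v (hS ▸ Submodule.mem_top)
  exfalso
  set R := perp S with hR
  have hRW : R ≤ W := by
    have := (LinearMap.BilinForm.orthogonal_le hPS : perp S ≤ perp (perp W))
    rwa [perp_perp] at this
  have hco : R ≤ S := hRW.trans (hWP.trans hPS)
  have honly : ∀ u, SpFull M u → u ∈ S := by
    intro u hu
    by_contra huS
    have := hmax (y := S ⊔ Submodule.span F {u}) ⟨hPS.trans le_sup_left, grow hMS S hco hfull hu huS⟩ le_sup_left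
    exact huS (this (Submodule.mem_sup_right (Submodule.mem_span_singleton_self u)))
  have hstab : ∀ g ∈ M, ∀ v ∈ R, (g : Matrix _ _ F) *ᵥ v ∈ R := by
    intro g hg v hv s hs
    obtain ⟨s', rfl⟩ := mulVec_surj g s
    have hs' : s' ∈ S := by
      have := honly _ ((hfull _ hs).map hMS (inv_mem hg))
      simpa [Matrix.mulVec_mulVec, ← Units.val_mul] using this
    show sf _ _ = 0
    rw [(mem_spGL_iff g).1 (hMS hg)]
    exact hv s' hs'
  obtain ⟨g, hgM, hgW⟩ : ∃ g ∈ M, g ∉ Cfsg.Geo.subspaceStabilizer W := by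
    by_contra hcon
    push Not at hcon
    exact hne (le_antisymm (fun g hg => ⟨hcon g hg, hMS hg⟩) hHM)
  by_cases hRW' : R = W
  · refine hgW ((mem_subspaceStabilizer_iff W g).2 fun v => ⟨fun hv => ?_, fun hv => ?_⟩)
    · rw [← hRW'] at hv ⊢; exact hstab g hgM v hv
    · rw [← hRW'] at hv ⊢
      simpa [Matrix.mulVec_mulVec, ← Units.val_mul] using hstab _ (inv_mem hgM) _ hv
  obtain ⟨y, hyW, hyR⟩ := SetLike.exists_of_lt (lt_of_le_of_ne hRW hRW')
  obtain ⟨x, hxR, hx0⟩ : ∃ x ∈ R, x ≠ 0 := by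
    refine Submodule.exists_mem_ne_zero_of_ne_bot fun h0 => hS ?_
    rw [← perp_perp S, ← hR, h0, LinearMap.BilinForm.orthogonal_bot]
  have hy0 : y ≠ 0 := fun h => hyR (h ▸ R.zero_mem)
  obtain ⟨b, hb, hb1⟩ := sf_eval hy0 (x := x) fun h => hyR (by
    obtain ⟨c, rfl⟩ := Submodule.mem_span_singleton.1 h
    have hc : c ≠ 0 := by rintro rfl; simp at hx0
    exact (R.smul_mem_iff hc).1 hxR)
  let E := stv 1 (y + b) * stv (-1) y * stv (-1) b
  have hE : ∀ v, (E : Matrix _ _ F) *ᵥ v = v + sf v y • b + sf v b • y := by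
    intro v
    have hby : sf b y = 0 := by rw [sf_skew, hb, neg_zero]
    simp only [E, Units.val_mul, ← Matrix.mulVec_mulVec, stv_mulVec, sf_add_left, sf_add_right, sf_smul_left,
      sf_alt, hb, hby]
    module
  have hEW : E ∈ HH := by
    have hEs : E ∈ Cfsg.spGL m F := mul_mem (mul_mem (stv_mem_spGL _ _) (stv_mem_spGL _ _)) (stv_mem_spGL _ _)
    refine ⟨(mem_subspaceStabilizer_iff W E).2 fun v => ?_, hEs⟩
    have hmaps : ∀ v ∈ W, (E : Matrix _ _ F) *ᵥ v ∈ W := fun v hv => by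
      rw [hE, hW v hv y hyW, zero_smul, add_zero]
      exact W.add_mem hv (W.smul_mem _ hyW)
    refine ⟨hmaps v, fun hv => ?_⟩
    have hbij := ((W : Set (Fin m ⊕ Fin m → F)).toFinite.injOn_iff_bijOn_of_mapsTo hmaps).1 ((mulVec_inj E).injOn)
    obtain ⟨z, hz, hzv⟩ := hbij.surjOn hv
    rwa [mulVec_inj E hzv] at hz
  have h3 := hstab E (hHM hEW) x hxR
  rw [hE, hb1, one_smul, hW x (hRW hxR) y hyW, zero_smul, add_zero] at h3
  exact hyR ((R.add_mem_iff_right hxR).1 h3)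

end

/-- For a finite field F and m ≥ 7, in the symplectic group Sp_2m(F) of the standard alternating form on F^(2m) (as a subgroup of GL_2m(F)), the stabiliser of any non-zero subspace on which the form vanishes identically is a maximal subgroup. -/
theorem result {F : Type*} [Field F] [Fintype F] (m : ℕ) (hm : 7 ≤ m) (W : Submodule F (Fin m ⊕ Fin m → F)) (hW0 : W ≠ ⊥) (hW : Cfsg.Geo.IsTotallySingularFor (Cfsg.sympForm m F) W) : Cfsg.Geo.IsMaximalIn (Cfsg.spGL m F) (Cfsg.Geo.subspaceStabilizer W ⊓ Cfsg.spGL m F) := by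
  exact main W hW0 hW

end Cfsg.Agent.S5645
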