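import Cfsg.Statements.S5646
import Cfsg.Agent.Lib.Maximal.SpFull

set_option autoImplicit false
open Cfsg

namespace Cfsg.Agent.S5646

section
open scoped Matrix
open CfsgLib.Maximal

variable {m : ℕ} {F : Type*} [Field F]

local notation "sf" => Cfsg.sympForm m F
local notation "perp" => LinearMap.BilinForm.orthogonal (CfsgLib.Geometry.sympBilin m F)

variable (W : Submodule F (Fin m ⊕ Fin m → F))

local notation "HH" => Cfsg.Geo.subspaceStabilizer W ⊓ Cfsg.spGL m F

lemma mem_perp {W : Submodule F (Fin m ⊕ Fin m → F)} {v : Fin m ⊕ Fin m → F} :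
    v ∈ perp W ↔ ∀ w ∈ W, sf w v = 0 := Iff.rfl

lemma facts (hW : Cfsg.Geo.IsNondegenerateOn sf W) :
    Cfsg.Geo.IsNondegenerateOn sf (perp W) ∧ W ⊔ perp W = ⊤ ∧ Disjoint W (perp W) ∧
      Module.finrank F (perp W) = (m + m) - Module.finrank F W := by
  have hnd := CfsgLib.Geometry.sympBilin_nondegenerate m F
  have hdis : Disjoint W (perp W) := Submodule.disjoint_def.2 fun w hw hp => by
    by_contra h0
    obtain ⟨x, hx, hxw⟩ := (hW w hw h0).1
    exact hxw (hp x hx)
  have hdim := LinearMap.BilinForm.finrank_orthogonal hnd W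
  rw [Module.finrank_pi] at hdim
  simp only [Fintype.card_sum, Fintype.card_fin] at hdim
  have htop : W ⊔ perp W = ⊤ := by
    apply Submodule.eq_top_of_finrank_eq
    have h1 := Submodule.finrank_sup_add_finrank_inf_eq W (perp W)
    rw [hdis.eq_bot, finrank_bot] at h1
    have h2 := W.finrank_le
    simp at h2 ⊢
    omega
  refine ⟨fun p hp hp0 => ?_, htop, hdis, hdim⟩
  obtain ⟨y, hy⟩ := sf_exists p hp0
  obtain ⟨w, hw, q, hq, hwq⟩ := Submodule.mem_sup.1 (htop ▸ Submodule.mem_top : y ∈ W ⊔ perp W)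
  have h1 : sf p q = 1 := by
    rw [← hwq, sf_add_right, sf_skew p w, mem_perp.1 hp w hw, neg_zero, zero_add] at hy
    exact hy
  exact ⟨⟨q, hq, by rw [sf_skew, h1]; simp⟩, ⟨q, hq, by rw [h1]; exact one_ne_zero⟩⟩

lemma stab_left (hW : Cfsg.Geo.IsNondegenerateOn sf W) {v : Fin m ⊕ Fin m → F} (hv : v ∈ W ∨ v ∈ perp W) (k : F) :
    stv k v ∈ HH := by
  refine ⟨?_, stv_mem_spGL k v⟩
  rw [stv]
  rcases hv with hv | hv
  · exact tv_mem_stab_of_mem W _ _ _ (W.smul_mem k hv)
  · refine tv_mem_stab_of_ann W _ _ _ fun w hw => ?_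
    rw [sf_dot]
    exact hv w hw

lemma main [Fintype F] (hW0 : W ≠ ⊥) (hW : Cfsg.Geo.IsNondegenerateOn sf W) (hdim : Module.finrank F W < m) :
    Cfsg.Geo.IsMaximalIn (Cfsg.spGL m F) HH := by
  classical
  obtain ⟨hP, htop, hdis, hPdim⟩ := facts W hW
  obtain ⟨w, hw, hw0⟩ := W.exists_mem_ne_zero_of_ne_bot hW0
  have hP0 : perp W ≠ ⊥ := fun h => by
    rw [h, finrank_bot] at hPdim; omega
  obtain ⟨p, hp, hp0⟩ := (perp W).exists_mem_ne_zero_of_ne_bot hP0
  constructor
  · refine lt_of_le_of_ne inf_le_right fun heq => ?_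
    obtain ⟨x, hx, hx1⟩ := (hW w hw hw0).2
    have hmem : stv 1 (w + p) ∈ HH := by rw [heq]; exact stv_mem_spGL _ _
    have h1 := ((mem_subspaceStabilizer_iff W _).1 hmem.1 x).1 hx
    rw [stv_mulVec, one_mul, sf_add_right, mem_perp.1 hp x hx, add_zero, smul_add] at h1
    have h2 := (W.add_mem_iff_right hx).1 h1
    have h3 := (W.add_mem_iff_right (W.smul_mem _ hw)).1 h2
    have h4 : sf x w ≠ 0 := by rw [sf_skew]; exact neg_ne_zero.2 hx1
    exact hp0 (Submodule.disjoint_def.1 hdis p ((W.smul_mem_iff h4).1 h3) hp)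
  intro M hHM hMS
  refine or_iff_not_imp_left.2 fun hne => spGL_eq_of_full hMS ?_
  have hfW : ∀ v ∈ W, SpFull M v := fun v hv k => hHM (stab_left W hW (Or.inl hv) k)
  have hfP : ∀ v ∈ perp W, SpFull M v := fun v hv k => hHM (stab_left W hW (Or.inr hv) k)
  obtain ⟨g, hgM, hgW⟩ : ∃ g ∈ M, g ∉ Cfsg.Geo.subspaceStabilizer W := by
    by_contra hcon
    push Not at hcon
    exact hne (le_antisymm (fun g hg => ⟨hcon g hg, hMS hg⟩) hHM)
  obtain ⟨u, hu, huW, huP⟩ : ∃ u, SpFull M u ∧ u ∉ W ∧ u ∉ perp W := by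
    by_contra hcon
    push Not at hcon
    let L := Matrix.toLin' (g : Matrix (Fin m ⊕ Fin m) (Fin m ⊕ Fin m) F)
    have hL : ∀ v, L v = (g : Matrix _ _ F) *ᵥ v := fun v => Matrix.toLin'_apply _ _
    have himg : ∀ z ∈ (perp W).map L, z ∈ W ∨ z ∈ perp W := by
      rintro _ ⟨v, hv, rfl⟩
      rw [hL]
      exact or_iff_not_imp_left.2 (hcon _ ((hfP v hv).map hMS hgM))
    have hinj : Function.Injective L := fun a b h => by
      rw [hL, hL] at h; exact mulVec_inj g h
    have hrk : Module.finrank F ((perp W).map L) = Module.finrank F (perp W) :=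
      (Submodule.equivMapOfInjective L hinj _).finrank_eq.symm
    have hsub : (perp W).map L ≤ W ∨ (perp W).map L ≤ perp W := by
      by_contra hh
      push Not at hh
      obtain ⟨⟨a, ha, haW⟩, ⟨b, hb, hbP⟩⟩ := SetLike.not_le_iff_exists.1 hh.1, SetLike.not_le_iff_exists.1 hh.2
      have ha' := (himg a ha).resolve_left haW
      have hb' := (himg b hb).resolve_right hbP
      rcases himg (a + b) (add_mem ha hb) with h | h
      · exact haW ((W.add_mem_iff_left hb').1 h)
      · exact hbP (((perp W).add_mem_iff_right ha').1 h)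
    rcases hsub with h | h
    · have := Submodule.finrank_mono h; omega
    have heqP := Submodule.eq_of_le_of_finrank_eq h hrk
    have hPmem : ∀ v, v ∈ perp W ↔ (g : Matrix _ _ F) *ᵥ v ∈ perp W := fun v => by
      constructor
      · intro hv; rw [← heqP]; exact ⟨v, hv, hL v⟩
      · intro hv
        rw [← heqP] at hv
        obtain ⟨z, hz, hzv⟩ := hv
        rw [hL] at hzv
        rwa [← mulVec_inj g hzv]
    have hWW : ∀ v, v ∈ W ↔ ∀ z ∈ perp W, sf z v = 0 := fun v => by
      conv_lhs => rw [← LinearMap.BilinForm.orthogonal_orthogonal (CfsgLib.Geometry.sympBilin_nondegenerate m F)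
        ((CfsgLib.Geometry.sympBilin_isAlt m F).isRefl) W]
      rfl
    refine hgW ((mem_subspaceStabilizer_iff W g).2 fun v => ?_)
    rw [hWW, hWW]
    constructor
    · intro h z hz
      obtain ⟨z', rfl⟩ := mulVec_surj g z
      simp only []
      rw [(mem_spGL_iff g).1 (hMS hgM)]
      exact h z' ((hPmem z').2 hz)
    · intro h z hz
      rw [← (mem_spGL_iff g).1 (hMS hgM)]
      exact h _ ((hPmem z).1 hz)
  obtain ⟨a, ha, b, hb, rfl⟩ := Submodule.mem_sup.1 (htop ▸ Submodule.mem_top : u ∈ W ⊔ perp W)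
  have ha0 : a ≠ 0 := by rintro rfl; exact huP (by simpa using hb)
  have hb0 : b ≠ 0 := by rintro rfl; exact huW (by simpa using ha)
  intro x
  obtain ⟨c, hc, d, hd, rfl⟩ := Submodule.mem_sup.1 (htop ▸ Submodule.mem_top : x ∈ W ⊔ perp W)
  rcases eq_or_ne c 0 with rfl | hc0
  · simpa using hfP d hd
  rcases eq_or_ne d 0 with rfl | hd0
  · simpa using hfW c hc
  have h1 := SpFull.change hMS W hW hfW ha ha0 hc hc0
    (fun s hs => by rw [sf_skew, mem_perp.1 hb s hs, neg_zero]) hu
  rw [add_comm] at h1 ⊢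
  exact SpFull.change hMS (perp W) hP hfP hb hb0 hd hd0 (fun s hs => hs c hc) h1

end

/-- For a finite field F and m ≥ 7, in the symplectic group Sp_2m(F) of the standard alternating form on F^(2m), the stabiliser of any non-zero subspace W on which the form is non-degenerate and with dim W < m is a maximal subgroup. -/
theorem result {F : Type*} [Field F] [Fintype F] (m : ℕ) (hm : 7 ≤ m) (W : Submodule F (Fin m ⊕ Fin m → F)) (hW0 : W ≠ ⊥) (hW : Cfsg.Geo.IsNondegenerateOn (Cfsg.sympForm m F) W) (hdim : Module.finrank F W < m) : Cfsg.Geo.IsMaximalIn (Cfsg.spGL m F) (Cfsg.Geo.subspaceStabilizer W ⊓ Cfsg.spGL m F) := by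
  exact main W hW0 hW hdim

end Cfsg.Agent.S5646
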