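import Cfsg.Statements.S5647
import Cfsg.Agent.Lib.Maximal.SpFull
import Cfsg.Agent.Lib.Geometry.SymplecticBasis
import Cfsg.Agent.Lib.Geometry.MatrixEquiv

set_option autoImplicit false
open Cfsg

namespace Cfsg.Agent.S5647

section
set_option maxHeartbeats 1600000
open scoped Matrix
open CfsgLib.Maximal

variable {m : ℕ} {F : Type*} [Field F] {t k : ℕ}

local notation "sf" => Cfsg.sympForm m F
local notation "BB" => CfsgLib.Geometry.sympBilin m F

variable {D : Fin t → Submodule F (Fin m ⊕ Fin m → F)}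

local notation "HH" => Cfsg.Geo.decompositionStabilizer D ⊓ Cfsg.spGL m F

lemma internal (hD : Cfsg.Geo.IsNondegenerateMDecomposition sf k D) : DirectSum.IsInternal D :=
  DirectSum.isInternal_submodule_of_iSupIndep_of_iSup_eq_top hD.decomp.indep hD.decomp.iSup_eq_top

lemma orth_sum (hD : Cfsg.Geo.IsNondegenerateMDecomposition sf k D) {i : Fin t} {s : Fin m ⊕ Fin m → F}
    (hs : s ∈ D i) (v : Fin t → Fin m ⊕ Fin m → F) (hv : ∀ j, v j ∈ D j) : sf (∑ j, v j) s = sf (v i) s := by
  rw [← CfsgLib.Geometry.sympBilin_apply, map_sum, LinearMap.sum_apply]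
  refine (Finset.sum_eq_single i (fun j _ hj => ?_) (by simp)).trans (CfsgLib.Geometry.sympBilin_apply m F _ _)
  rw [CfsgLib.Geometry.sympBilin_apply]
  exact hD.orthogonal j i hj _ (hv j) _ hs

lemma sum_unique (hD : Cfsg.Geo.IsNondegenerateMDecomposition sf k D) {u v : Fin t → Fin m ⊕ Fin m → F}
    (hu : ∀ j, u j ∈ D j) (hv : ∀ j, v j ∈ D j) (h : ∑ j, u j = ∑ j, v j) : u = v := by
  funext i
  by_contra hne
  obtain ⟨x, hx, hxi⟩ := (hD.nondegenerate i _ ((D i).sub_mem (hu i) (hv i)) (sub_ne_zero.2 hne)).2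
  apply hxi
  rw [sub_eq_add_neg, ← neg_one_smul F (v i), sf_add_left, sf_smul_left, ← orth_sum hD hx u hu, h,
    orth_sum hD hx v hv]
  ring

lemma exists_parts (hD : Cfsg.Geo.IsNondegenerateMDecomposition sf k D) (x : Fin m ⊕ Fin m → F) :
    ∃ v : Fin t → Fin m ⊕ Fin m → F, (∀ j, v j ∈ D j) ∧ ∑ j, v j = x := by
  classical
  have hx : x ∈ ⨆ i, D i := hD.decomp.iSup_eq_top ▸ Submodule.mem_top
  obtain ⟨f, hf, hfx⟩ := (Submodule.mem_iSup_iff_exists_finsupp D x).1 hx
  exact ⟨f, hf, by rw [← hfx, Finsupp.sum_fintype _ _ (fun _ => rfl)]⟩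

/-- Permutations of the members are induced by isometries. -/
lemma exists_perm (hD : Cfsg.Geo.IsNondegenerateMDecomposition sf k D) (σ : Equiv.Perm (Fin t)) :
    ∃ g ∈ HH, ∀ i, ∀ v ∈ D i, (g : Matrix (Fin m ⊕ Fin m) (Fin m ⊕ Fin m) F) *ᵥ v ∈ D (σ i) := by
  classical
  have hbas : ∀ i, ∃ (r : ℕ) (b : Module.Basis (Fin r ⊕ Fin r) F (D i)), r + r = k ∧ ∀ a c,
      sf (b a : Fin m ⊕ Fin m → F) (b c) = Sum.elim (fun p => Sum.elim (fun _ => (0 : F)) (fun q => if p = q then 1 else 0) c)
        (fun p => Sum.elim (fun q => if q = p then -1 else 0) (fun _ => (0 : F)) c) a := by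
    intro i
    obtain ⟨r, z, b, h1, h2, h3, h4⟩ := CfsgLib.Geometry.exists_sympBasis_aux (Module.finrank F (D i)) rfl
      ((BB).restrict (D i)) (fun x => sf_alt _)
    have hz : z = 0 := by
      by_contra hz
      let j : Fin z := ⟨0, Nat.pos_of_ne_zero hz⟩
      have hb : ((b (Sum.inr j) : D i) : Fin m ⊕ Fin m → F) ≠ 0 := fun h => b.ne_zero _ (Subtype.ext h)
      obtain ⟨x, hx, hne⟩ := (hD.nondegenerate i _ (b (Sum.inr j)).2 hb).2
      exact hne (h4 j ⟨x, hx⟩)
    subst hz
    refine ⟨r, b.reindex (Equiv.sumEmpty _ _), ?_, ?_⟩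
    · have := Module.finrank_eq_card_basis (b.reindex (Equiv.sumEmpty _ _))
      rw [hD.decomp.finrank_eq i] at this
      simpa using this.symm
    · intro a c
      simp only [Module.Basis.reindex_apply, Equiv.sumEmpty_symm_apply]
      rcases a with a | a <;> rcases c with c | c
      · exact h2 a c
      · exact h1 a c
      · show sf _ _ = _
        rw [sf_skew]
        simp only [Sum.elim_inr, Sum.elim_inl]
        rw [show sf (b (Sum.inl (Sum.inl c)) : Fin m ⊕ Fin m → F) (b (Sum.inl (Sum.inr a))) = if c = a then 1 else 0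
          from h1 c a]
        split_ifs <;> simp
      · exact h3 a c
  choose r b hr hg using hbas
  have hreq : ∀ i, r i = k / 2 := fun i => by have := hr i; omega
  let c : ∀ i, Module.Basis (Fin (k / 2) ⊕ Fin (k / 2)) F (D i) := fun i =>
    (b i).reindex (Equiv.sumCongr (finCongr (hreq i)) (finCongr (hreq i)))
  let G : (Fin (k / 2) ⊕ Fin (k / 2)) → (Fin (k / 2) ⊕ Fin (k / 2)) → F := fun a c =>
    Sum.elim (fun p => Sum.elim (fun _ => (0 : F)) (fun q => if p = q then 1 else 0) c)
      (fun p => Sum.elim (fun q => if q = p then -1 else 0) (fun _ => (0 : F)) c) a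
  have hc : ∀ i p q, sf (c i p : Fin m ⊕ Fin m → F) (c i q) = G p q := by
    intro i p q
    simp only [c, Module.Basis.reindex_apply]
    rw [hg]
    rcases p with p | p <;> rcases q with q | q <;> simp [G, Fin.ext_iff]
  let e := (internal hD).collectedBasis c
  let L : (Fin m ⊕ Fin m → F) ≃ₗ[F] (Fin m ⊕ Fin m → F) := e.equiv e (Equiv.sigmaCongr σ (fun _ => Equiv.refl _))
  have hL : ∀ i p, L (c i p) = (c (σ i) p : Fin m ⊕ Fin m → F) := by
    intro i p
    have h := e.equiv_apply (i := ⟨i, p⟩) e (Equiv.sigmaCongr σ (fun _ => Equiv.refl _))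
    simp only [e, L, DirectSum.IsInternal.collectedBasis_coe] at h ⊢
    exact h
  have hiso : ∀ u v, sf (L u) (L v) = sf u v := by
    have : (BB).compl₁₂ L.toLinearMap L.toLinearMap = BB := by
      refine LinearMap.BilinForm.ext_basis e fun x y => ?_
      obtain ⟨i, p⟩ := x; obtain ⟨j, q⟩ := y
      simp only [e, DirectSum.IsInternal.collectedBasis_coe, LinearMap.compl₁₂_apply, LinearEquiv.coe_coe]
      rw [hL, hL, CfsgLib.Geometry.sympBilin_apply, CfsgLib.Geometry.sympBilin_apply]
      rcases eq_or_ne i j with rfl | hij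
      · rw [hc, hc]
      · rw [hD.orthogonal _ _ (σ.injective.ne hij) _ (c (σ i) p).2 _ (c (σ j) q).2,
          hD.orthogonal _ _ hij _ (c i p).2 _ (c j q).2]
    exact fun u v => LinearMap.congr_fun (LinearMap.congr_fun this u) v
  let g := CfsgLib.Geometry.glEquiv.symm L
  have hgv : ∀ v, (g : Matrix (Fin m ⊕ Fin m) (Fin m ⊕ Fin m) F) *ᵥ v = L v :=
    fun v => CfsgLib.Geometry.glEquiv_symm_mulVec L v
  have hle : ∀ i, (D i).map L.toLinearMap ≤ D (σ i) := by
    intro i
    rintro _ ⟨v, hv, rfl⟩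
    have hs := congrArg (fun z : D i => L (z : Fin m ⊕ Fin m → F)) ((c i).sum_repr ⟨v, hv⟩)
    simp only [Submodule.coe_sum, Submodule.coe_smul, map_sum, map_smul, hL] at hs
    rw [LinearEquiv.coe_coe, ← hs]
    exact Submodule.sum_mem _ fun p _ => Submodule.smul_mem _ _ (c (σ i) p).2
  refine ⟨g, ⟨⟨σ, fun i => ?_⟩, fun u v => ?_⟩, fun i v hv => ?_⟩
  · have : Matrix.toLin' (g : Matrix (Fin m ⊕ Fin m) (Fin m ⊕ Fin m) F) = L.toLinearMap :=
      LinearMap.ext fun v => by rw [Matrix.toLin'_apply]; exact hgv v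
    rw [this]
    refine Submodule.eq_of_le_of_finrank_eq (hle i) ?_
    rw [LinearEquiv.finrank_map_eq, hD.decomp.finrank_eq, hD.decomp.finrank_eq]
  · show sf ((g : Matrix _ _ F) *ᵥ u) ((g : Matrix _ _ F) *ᵥ v) = sf u v
    rw [hgv, hgv]; exact hiso u v
  · rw [hgv]; exact hle i ⟨v, hv, rfl⟩

/-- Some full vector has support exactly `s`. -/
def Good (D : Fin t → Submodule F (Fin m ⊕ Fin m → F)) (M : Subgroup (Matrix.GeneralLinearGroup (Fin m ⊕ Fin m) F))
    (s : Finset (Fin t)) : Prop :=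
  ∃ v : Fin t → Fin m ⊕ Fin m → F, (∀ i, v i ∈ D i) ∧ (∀ i, v i ≠ 0 ↔ i ∈ s) ∧ SpFull M (∑ i, v i)

variable {M : Subgroup (Matrix.GeneralLinearGroup (Fin m ⊕ Fin m) F)}

lemma base (hD : Cfsg.Geo.IsNondegenerateMDecomposition sf k D) (hHM : HH ≤ M) {i : Fin t}
    {v : Fin m ⊕ Fin m → F} (hv : v ∈ D i) : SpFull M v := by
  intro c
  refine hHM ⟨⟨1, fun j => ?_⟩, stv_mem_spGL _ _⟩
  have hmaps : ∀ x ∈ D j, (stv c v : Matrix _ _ F) *ᵥ x ∈ D j := by
    intro x hx
    rw [stv_mulVec]
    rcases eq_or_ne j i with rfl | hji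
    · exact (D j).add_mem hx ((D j).smul_mem _ hv)
    · rw [hD.orthogonal j i hji x hx v hv, mul_zero, zero_smul, add_zero]; exact hx
  refine Submodule.eq_of_le_of_finrank_eq ?_ ?_
  · rintro _ ⟨x, hx, rfl⟩; rw [Matrix.toLin'_apply]; exact hmaps x hx
  · exact (Submodule.equivMapOfInjective _ (fun a b h => mulVec_inj (stv c v) (by
      simpa [Matrix.toLin'_apply] using h)) _).finrank_eq.symm

lemma free (hD : Cfsg.Geo.IsNondegenerateMDecomposition sf k D) (hHM : HH ≤ M) (hMS : M ≤ Cfsg.spGL m F)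
    {u : Fin t → Fin m ⊕ Fin m → F} (hu : ∀ i, u i ∈ D i) (hf : SpFull M (∑ i, u i))
    {v : Fin t → Fin m ⊕ Fin m → F} (hv : ∀ i, v i ∈ D i) (hsupp : ∀ i, v i ≠ 0 ↔ u i ≠ 0) :
    SpFull M (∑ i, v i) := by
  classical
  have key : ∀ s : Finset (Fin t), SpFull M (∑ i, if i ∈ s then v i else u i) := by
    intro s
    induction s using Finset.induction with
    | empty => simpa using hf
    | @insert a s ha ih =>
      by_cases hz : u a = 0
      · suffices heq : (∑ i, if i ∈ insert a s then v i else u i) = ∑ i, if i ∈ s then v i else u i by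
          rwa [heq]
        refine Finset.sum_congr rfl fun i _ => ?_
        by_cases hia : i = a
        · subst hia
          have : v i = 0 := not_not.1 fun h => ((hsupp i).1 h) hz
          simp [ha, hz, this]
        · simp [hia]
      have hw : ∀ i, (if i ∈ s then v i else u i) ∈ D i := fun i => by split_ifs <;> simp [hu i, hv i]
      let p : Fin t → Fin m ⊕ Fin m → F := fun i => if i = a then 0 else if i ∈ s then v i else u i
      have hp : ∀ i, p i ∈ D i := fun i => by
        simp only [p]; split_ifs <;> simp [hu i, hv i]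
      have hperp : ∀ z ∈ D a, sf (∑ i, p i) z = 0 := fun z hz' => by
        rw [orth_sum hD hz' p hp]; simp [p, sf_zero_left]
      have hold : ∑ i, (if i ∈ s then v i else u i) = u a + ∑ i, p i := by
        rw [← Finset.add_sum_erase _ _ (Finset.mem_univ a), ← Finset.add_sum_erase _ p (Finset.mem_univ a)]
        simp only [ha, if_false, p, if_true, zero_add]
        congr 1
        exact Finset.sum_congr rfl fun i hi => by simp [Finset.ne_of_mem_erase hi]
      have hnew : ∑ i, (if i ∈ insert a s then v i else u i) = v a + ∑ i, p i := by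
        rw [← Finset.add_sum_erase _ _ (Finset.mem_univ a), ← Finset.add_sum_erase _ p (Finset.mem_univ a)]
        simp only [Finset.mem_insert_self, if_true, p, zero_add]
        congr 1
        exact Finset.sum_congr rfl fun i hi => by simp [Finset.ne_of_mem_erase hi]
      rw [hold] at ih
      rw [hnew]
      exact SpFull.change hMS (D a) (hD.nondegenerate a) (fun z hz' => base hD hHM hz') (hu a) hz (hv a)
        ((hsupp a).2 hz) hperp ih
  simpa using key Finset.univ

lemma of_good (hD : Cfsg.Geo.IsNondegenerateMDecomposition sf k D) (hHM : HH ≤ M) (hMS : M ≤ Cfsg.spGL m F)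
    {s : Finset (Fin t)} (hs : Good D M s) {v : Fin t → Fin m ⊕ Fin m → F} (hv : ∀ i, v i ∈ D i)
    (hsupp : ∀ i, v i ≠ 0 ↔ i ∈ s) : SpFull M (∑ i, v i) := by
  obtain ⟨u, hu, hus, huf⟩ := hs
  exact free hD hHM hMS hu huf hv fun i => (hsupp i).trans (hus i).symm

lemma two_le (hD : Cfsg.Geo.IsNondegenerateMDecomposition sf k D) (hk : 0 < k) (i : Fin t) :
    ∃ a ∈ D i, ∃ b ∈ D i, a ≠ 0 ∧ b ≠ 0 ∧ sf a b = 1 := by
  have hne : D i ≠ ⊥ := fun h => by
    have := hD.decomp.finrank_eq i; rw [h, finrank_bot] at this; omega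
  obtain ⟨a, ha, ha0⟩ := (D i).exists_mem_ne_zero_of_ne_bot hne
  obtain ⟨b, hb, hb0⟩ := (hD.nondegenerate i a ha ha0).2
  refine ⟨a, ha, (sf a b)⁻¹ • b, (D i).smul_mem _ hb, ha0, ?_, by rw [sf_smul_right, inv_mul_cancel₀ hb0]⟩
  exact smul_ne_zero (inv_ne_zero hb0) fun h => hb0 (by rw [h, sf_zero_right])

/-- Choice of partners used to delete one component. -/
lemma partner [Fintype F] (hD : Cfsg.Geo.IsNondegenerateMDecomposition sf k D) (hk : 0 < k)
    (hex : ¬ (k = 2 ∧ Fintype.card F = 2)) (i : Fin t) :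
    ∃ a ∈ D i, ∃ b ∈ D i, a ≠ 0 ∧ b ≠ 0 ∧ a + b ≠ 0 ∧ sf a b = 0 := by
  classical
  obtain ⟨a, ha, b, hb, ha0, hb0, hab⟩ := two_le hD hk i
  by_cases hq : 3 ≤ Fintype.card F
  · obtain ⟨l, hl⟩ : ∃ l : F, l ∉ ({0, -1} : Finset F) := by
      by_contra hcon
      push Not at hcon
      have := Finset.card_le_card (fun l _ => hcon l : (Finset.univ : Finset F) ⊆ {0, -1})
      rw [Finset.card_univ] at this
      have := this.trans Finset.card_le_two
      omega
    simp only [Finset.mem_insert, Finset.mem_singleton, not_or] at hl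
    refine ⟨a, ha, l • a, (D i).smul_mem _ ha, ha0, smul_ne_zero hl.1 ha0, fun h => ?_, by rw [sf_smul_right, sf_alt, mul_zero]⟩
    have h2 : (1 + l) • a = 0 := by rw [add_smul, one_smul]; exact h
    rcases smul_eq_zero.1 h2 with h3 | h3
    · exact hl.2 (by linear_combination h3)
    · exact ha0 h3
  · have hk2 : k ≠ 2 := fun h => hex ⟨h, by have := Fintype.one_lt_card (α := F); omega⟩
    have hk1 : k ≠ 1 := fun h => by
      have hh := hD.decomp.finrank_eq i
      rw [h] at hh
      obtain ⟨c, hc⟩ := (finrank_eq_one_iff_of_nonzero' (⟨a, ha⟩ : D i) (fun h0 => ha0 (congrArg Subtype.val h0))).1 hh ⟨b, hb⟩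
      have hc' : c • a = b := congrArg Subtype.val hc
      rw [← hc', sf_smul_right, sf_alt, mul_zero] at hab
      exact zero_ne_one hab
    let L : D i →ₗ[F] F := (BB a).comp (D i).subtype
    have h1 := L.finrank_range_add_finrank_ker
    have h2 := (LinearMap.range L).finrank_le
    rw [hD.decomp.finrank_eq i] at h1
    rw [Module.finrank_self] at h2
    obtain ⟨x, hx, hxa⟩ : ∃ x ∈ LinearMap.ker L, x ∉ Submodule.span F {(⟨a, ha⟩ : D i)} := by
      by_contra hcon
      push Not at hcon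
      have hle : LinearMap.ker L ≤ Submodule.span F {(⟨a, ha⟩ : D i)} := fun x hx => hcon x hx
      have := Submodule.finrank_mono hle
      rw [finrank_span_singleton (fun h0 => ha0 (congrArg Subtype.val h0))] at this
      omega
    refine ⟨a, ha, x, x.2, ha0, fun h => hxa ?_, fun h => hxa ?_, hx⟩
    · rw [show x = 0 from Subtype.ext h]; exact zero_mem _
    · refine Submodule.mem_span_singleton.2 ⟨-1, Subtype.ext ?_⟩
      rw [neg_one_smul]
      exact neg_eq_of_add_eq_zero_right h

lemma shrink [Fintype F] (hD : Cfsg.Geo.IsNondegenerateMDecomposition sf k D) (hk : 0 < k)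
    (hex : ¬ (k = 2 ∧ Fintype.card F = 2)) (hHM : HH ≤ M) (hMS : M ≤ Cfsg.spGL m F) {s : Finset (Fin t)}
    (hs : Good D M s) {i₀ j : Fin t} (hi : i₀ ∈ s) (hj : j ∈ s) (hij : i₀ ≠ j) : Good D M (s.erase i₀) := by
  classical
  choose a ha b hb ha0 hb0 hab habz using fun i => partner hD hk hex i
  obtain ⟨x, hx, y, hy, hx0, hy0, hxy⟩ := two_le hD hk j
  let u : Fin t → Fin m ⊕ Fin m → F := fun i => if i = j then y else if i ∈ s then a i else 0
  let v : Fin t → Fin m ⊕ Fin m → F := fun i =>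
    if i = j then x else if i = i₀ then -a i else if i ∈ s then b i else 0
  have hu : ∀ i, u i ∈ D i := fun i => by
    simp only [u]; split_ifs with h1 h2
    · exact h1 ▸ hy
    · exact ha i
    · exact zero_mem _
  have hv : ∀ i, v i ∈ D i := fun i => by
    simp only [v]; split_ifs with h1 h2 h3
    · exact h1 ▸ hx
    · exact (D i).neg_mem (ha i)
    · exact hb i
    · exact zero_mem _
  have husupp : ∀ i, u i ≠ 0 ↔ i ∈ s := fun i => by
    simp only [u]; split_ifs with h1 h2 <;> simp_all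
  have hvsupp : ∀ i, v i ≠ 0 ↔ i ∈ s := fun i => by
    simp only [v]; split_ifs with h1 h2 h3 <;> simp_all
  have hfu := of_good hD hHM hMS hs hu husupp
  have hfv := of_good hD hHM hMS hs hv hvsupp
  have hf : sf (∑ i, v i) (∑ i, u i) = 1 := by
    rw [← CfsgLib.Geometry.sympBilin_apply, map_sum (BB (∑ i, v i)) u]
    simp only [CfsgLib.Geometry.sympBilin_apply]
    rw [Finset.sum_congr rfl fun i _ => orth_sum hD (hu i) v hv, Finset.sum_eq_single j (fun i _ hi' => ?_) (by simp)]
    · simp [u, v, hxy]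
    · simp only [u, v, if_neg hi']
      by_cases h2 : i = i₀
      · subst h2
        rw [if_pos rfl, if_pos hi, ← neg_one_smul F (a i), sf_smul_left, sf_alt, mul_zero]
      · rw [if_neg h2]
        split_ifs
        · rw [sf_skew, habz i, neg_zero]
        · exact sf_zero_left _
  have hsum := SpFull.move hMS hfu hfv (by rw [hf]; exact one_ne_zero) 1
  rw [one_smul, ← Finset.sum_add_distrib] at hsum
  refine ⟨fun i => v i + u i, fun i => (D i).add_mem (hv i) (hu i), fun i => ?_, hsum⟩
  simp only [u, v, Finset.mem_erase]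
  by_cases h1 : i = j
  · subst h1
    simp only [if_true, hj, and_true]
    refine iff_of_true (fun h => ?_) (Ne.symm hij)
    have hh : sf (x + y) y = 0 := by rw [h, sf_zero_left]
    rw [sf_add_left, sf_alt, add_zero, hxy] at hh
    exact one_ne_zero hh
  by_cases h2 : i = i₀
  · subst h2; simp [h1, hi]
  by_cases h3 : i ∈ s
  · simp only [if_neg h1, if_neg h2, if_pos h3]
    exact iff_of_true (fun h => hab i (by rw [add_comm]; exact h)) ⟨h2, h3⟩
  · simp [h1, h2, h3]

lemma grow [Fintype F] (hD : Cfsg.Geo.IsNondegenerateMDecomposition sf k D) (hk : 0 < k)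
    (hex : ¬ (k = 2 ∧ Fintype.card F = 2)) (hHM : HH ≤ M) (hMS : M ≤ Cfsg.spGL m F) {s : Finset (Fin t)}
    (hs : Good D M s) {a b : Fin t} (ha : a ∈ s) (hb : b ∉ s) (hpair : Good D M {a, b}) :
    Good D M (insert b s) := by
  classical
  choose x hx y hy hx0 hy0 hxy using fun i => two_le hD hk i
  let v : Fin t → Fin m ⊕ Fin m → F := fun i => if i ∈ s then x i else 0
  let u : Fin t → Fin m ⊕ Fin m → F := fun i => if i = a ∨ i = b then y i else 0
  have hv : ∀ i, v i ∈ D i := fun i => by simp only [v]; split_ifs <;> simp [hx i]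
  have hu : ∀ i, u i ∈ D i := fun i => by simp only [u]; split_ifs <;> simp [hy i]
  have hfu := of_good hD hHM hMS hpair hu fun i => by simp only [u]; split_ifs with h <;> simp_all
  have hfv := of_good hD hHM hMS hs hv fun i => by simp only [v]; split_ifs with h <;> simp_all
  have hne : a ≠ b := fun h => hb (h ▸ ha)
  have hf : sf (∑ i, v i) (∑ i, u i) = 1 := by
    rw [← CfsgLib.Geometry.sympBilin_apply, map_sum (BB (∑ i, v i)) u]
    simp only [CfsgLib.Geometry.sympBilin_apply]
    rw [Finset.sum_congr rfl fun i _ => orth_sum hD (hu i) v hv, Finset.sum_eq_add a b hne (fun i _ hi' => ?_)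
      (by simp) (by simp)]
    · simp [u, v, ha, hb, hxy, sf_zero_left]
    · simp [u, hi'.1, hi'.2, sf_zero_right]
  have hsum := SpFull.move hMS hfu hfv (by rw [hf]; exact one_ne_zero) 1
  rw [one_smul, ← Finset.sum_add_distrib] at hsum
  refine ⟨fun i => v i + u i, fun i => (D i).add_mem (hv i) (hu i), fun i => ?_, hsum⟩
  simp only [u, v, Finset.mem_insert]
  by_cases h1 : i = a
  · subst h1
    simp only [ha, if_true, true_or, or_true]
    refine iff_of_true (fun h => ?_) trivial
    have hh : sf (x i + y i) (y i) = 0 := by rw [h, sf_zero_left]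
    rw [sf_add_left, sf_alt, add_zero, hxy] at hh
    exact one_ne_zero hh
  by_cases h2 : i = b
  · subst h2; simp [hb, h1, hy0]
  by_cases h3 : i ∈ s <;> simp [h1, h2, h3, hx0]

lemma permute (hD : Cfsg.Geo.IsNondegenerateMDecomposition sf k D) (hHM : HH ≤ M) (hMS : M ≤ Cfsg.spGL m F)
    {s : Finset (Fin t)} (hs : Good D M s) (σ : Equiv.Perm (Fin t)) : Good D M (s.map σ.toEmbedding) := by
  obtain ⟨g, hg, hgm⟩ := exists_perm hD σ
  obtain ⟨v, hv, hvs, hvf⟩ := hs
  refine ⟨fun i => (g : Matrix _ _ F) *ᵥ v (σ.symm i), fun i => ?_, fun i => ?_, ?_⟩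
  · simpa using hgm (σ.symm i) _ (hv _)
  · simp only [ne_eq, Finset.mem_map_equiv]
    rw [← hvs]
    exact not_congr ⟨fun h => mulVec_inj g (by simpa using h), fun h => by rw [h, Matrix.mulVec_zero]⟩
  · have := hvf.map hMS (hHM hg)
    rw [Matrix.mulVec_sum, ← Equiv.sum_comp σ.symm] at this
    exact this

lemma main [Fintype F] (hD : Cfsg.Geo.IsNondegenerateMDecomposition sf k D)
    (hex : ¬ (k = 2 ∧ Fintype.card F = 2)) (ht : 2 ≤ t) :
    Cfsg.Geo.IsMaximalIn (Cfsg.spGL m F) HH := by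
  classical
  have hk : 0 < k := hD.decomp.pos
  haveI : Nonempty (Fin t) := ⟨⟨0, by omega⟩⟩
  let i₀ : Fin t := ⟨0, by omega⟩
  let i₁ : Fin t := ⟨1, by omega⟩
  have h01 : i₀ ≠ i₁ := by simp [i₀, i₁, Fin.ext_iff]
  constructor
  · refine lt_of_le_of_ne inf_le_right fun heq => ?_
    obtain ⟨a, ha, b, hb, ha0, hb0, hab⟩ := two_le hD hk i₀
    obtain ⟨c, hc, -, -, hc0, -, -⟩ := two_le hD hk i₁
    have hmem : stv 1 (b + c) ∈ HH := by rw [heq]; exact stv_mem_spGL _ _
    obtain ⟨σ, hσ⟩ := hmem.1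
    have himg : ∀ x ∈ D i₀, (stv 1 (b + c) : Matrix _ _ F) *ᵥ x ∈ D (σ i₀) := fun x hx =>
      hσ i₀ ▸ ⟨x, hx, Matrix.toLin'_apply _ _⟩
    have e1 := himg b hb
    rw [stv_mulVec, one_mul, sf_add_right, sf_alt, hD.orthogonal i₀ i₁ h01 b hb c hc, add_zero, zero_smul,
      add_zero] at e1
    have hs0 : σ i₀ = i₀ := by
      by_contra hne
      exact hb0 (Submodule.disjoint_def.1 (hD.decomp.indep.pairwiseDisjoint hne) b e1 hb)
    have e2 := himg a ha
    rw [stv_mulVec, one_mul, sf_add_right, hab, hD.orthogonal i₀ i₁ h01 a ha c hc, add_zero, one_smul, hs0] at e2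
    have hc' : c ∈ D i₀ := ((D i₀).add_mem_iff_right hb).1 (((D i₀).add_mem_iff_right ha).1 e2)
    exact hc0 (Submodule.disjoint_def.1 (hD.decomp.indep.pairwiseDisjoint h01) c hc' hc)
  intro M hHM hMS
  refine or_iff_not_imp_left.2 fun hne => spGL_eq_of_full hMS ?_
  obtain ⟨g, hgM, hg⟩ : ∃ g ∈ M, g ∉ Cfsg.Geo.decompositionStabilizer D := by
    by_contra hcon
    push Not at hcon
    exact hne (le_antisymm (fun g hg => ⟨hcon g hg, hMS hg⟩) hHM)
  obtain ⟨s, hs, hcard⟩ : ∃ s, Good D M s ∧ 2 ≤ s.card := by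
    by_contra hcon
    push Not at hcon
    have honly : ∀ i, ∀ x ∈ D i, x ≠ 0 → ∃ j, (g : Matrix _ _ F) *ᵥ x ∈ D j := by
      intro i x hx hx0
      obtain ⟨v, hv, hsum⟩ := exists_parts hD ((g : Matrix _ _ F) *ᵥ x)
      have := hcon (Finset.univ.filter fun j => v j ≠ 0) ⟨v, hv, fun j => by simp, hsum ▸ (base hD hHM hx).map hMS hgM⟩
      obtain ⟨j, hj⟩ : ∃ j, (g : Matrix _ _ F) *ᵥ x = v j := by
        rcases Finset.card_le_one_iff_subset_singleton.1 (Nat.le_of_lt_succ this) with ⟨j, hj⟩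
        refine ⟨j, hsum.symm.trans (Finset.sum_eq_single j (fun i _ hij => ?_) (by simp))⟩
        by_contra hne'
        exact hij (Finset.mem_singleton.1 (hj (by simp [hne'])))
      exact ⟨j, hj ▸ hv j⟩
    have hex' : ∀ i, ∃ j, ∀ x ∈ D i, (g : Matrix _ _ F) *ᵥ x ∈ D j := by
      intro i
      obtain ⟨a, ha, -, -, ha0, -, -⟩ := two_le hD hk i
      obtain ⟨j, hj⟩ := honly i a ha ha0
      refine ⟨j, fun x hx => ?_⟩
      by_contra hxj
      have hx0 : x ≠ 0 := fun h => hxj (by rw [h, Matrix.mulVec_zero]; exact zero_mem _)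
      have hsum0 : a + x ≠ 0 := fun h => hxj (by
        rw [eq_neg_of_add_eq_zero_right h, Matrix.mulVec_neg]; exact (D j).neg_mem hj)
      obtain ⟨l, hl⟩ := honly i x hx hx0
      obtain ⟨p, hp⟩ := honly i _ ((D i).add_mem ha hx) hsum0
      have hjl : j ≠ l := fun h => hxj (h ▸ hl)
      rw [Matrix.mulVec_add] at hp
      have hga : (g : Matrix _ _ F) *ᵥ a ≠ 0 := fun h => ha0 (mulVec_inj g (by simpa using h))
      have hgx : (g : Matrix _ _ F) *ᵥ x ≠ 0 := fun h => hx0 (mulVec_inj g (by simpa using h))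
      have key := sum_unique hD (u := fun q => (if q = j then (g : Matrix _ _ F) *ᵥ a else 0) + if q = l then (g : Matrix _ _ F) *ᵥ x else 0)
        (v := fun q => if q = p then (g : Matrix _ _ F) *ᵥ a + (g : Matrix _ _ F) *ᵥ x else 0)
        (fun q => by split_ifs <;> simp_all) (fun q => by split_ifs <;> simp_all)
        (by simp [Finset.sum_add_distrib])
      have e1 := congrFun key j
      have e2 := congrFun key l
      by_cases hpj : j = p
      · subst hpj; simp [hjl.symm, hgx] at e2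
      · simp [hjl, hpj, hga] at e1
    choose f hf using hex'
    have hfeq : ∀ i, (D i).map (Matrix.toLin' (g : Matrix (Fin m ⊕ Fin m) (Fin m ⊕ Fin m) F)) = D (f i) := fun i =>
      Submodule.eq_of_le_of_finrank_eq (by rintro _ ⟨x, hx, rfl⟩; rw [Matrix.toLin'_apply]; exact hf i x hx)
        ((Submodule.equivMapOfInjective _ (fun a b h => mulVec_inj g (by simpa [Matrix.toLin'_apply] using h)) _).finrank_eq.symm.trans
          ((hD.decomp.finrank_eq i).trans (hD.decomp.finrank_eq _).symm))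
    have hinj : Function.Injective f := by
      intro i j hij
      by_contra hne'
      obtain ⟨a, ha, -, -, ha0, -, -⟩ := two_le hD hk i
      have hm1 : (g : Matrix _ _ F) *ᵥ a ∈ D (f j) := hij ▸ hf i a ha
      rw [← hfeq j] at hm1
      obtain ⟨z, hz, hzv⟩ := hm1
      rw [Matrix.toLin'_apply] at hzv
      exact ha0 (Submodule.disjoint_def.1 (hD.decomp.indep.pairwiseDisjoint hne') a ha (mulVec_inj g hzv ▸ hz))
    exact hg ⟨Equiv.ofBijective f (Finite.injective_iff_bijective.1 hinj), hfeq⟩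
  have hpair : ∀ n, ∀ s : Finset (Fin t), Good D M s → s.card = n + 2 → ∃ a b, a ≠ b ∧ Good D M {a, b} := by
    intro n
    induction n with
    | zero =>
      intro s hs hc
      obtain ⟨a, b, hab, rfl⟩ := Finset.card_eq_two.1 hc
      exact ⟨a, b, hab, hs⟩
    | succ n ih =>
      intro s hs hc
      obtain ⟨a, b, ha, hb, hab⟩ := Finset.one_lt_card_iff.1 (by omega : 1 < s.card)
      exact ih _ (shrink hD hk hex hHM hMS hs ha hb hab) (by rw [Finset.card_erase_of_mem ha]; omega)
  obtain ⟨a₀, b₀, hab₀, hpair₀⟩ := hpair (s.card - 2) s hs (by omega)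
  have hallpair : ∀ a b, a ≠ b → Good D M {a, b} := by
    intro a b hab
    let σ := Equiv.swap a₀ a
    let τ := Equiv.swap (σ b₀) b
    have h1 := permute hD hHM hMS hpair₀ (τ * σ)
    convert h1 using 1
    have hσb : σ b₀ ≠ a := fun h => hab₀ (σ.injective (h.trans (Equiv.swap_apply_left a₀ a).symm)).symm
    have hτa : τ a = a := Equiv.swap_apply_of_ne_of_ne hσb.symm hab
    have hτb : τ (σ b₀) = b := Equiv.swap_apply_left _ _
    rw [Finset.map_insert, Finset.map_singleton]
    simp only [Equiv.toEmbedding_apply, Equiv.Perm.mul_apply, show σ a₀ = a from Equiv.swap_apply_left _ _, hτa, hτb]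
  have hall : ∀ n, ∀ s : Finset (Fin t), s.card = n + 2 → Good D M s := by
    intro n
    induction n with
    | zero =>
      intro s hc
      obtain ⟨a, b, hab, rfl⟩ := Finset.card_eq_two.1 hc
      exact hallpair a b hab
    | succ n ih =>
      intro s hc
      obtain ⟨b, hb⟩ := Finset.card_pos.1 (by omega : 0 < s.card)
      have hc' : (s.erase b).card = n + 2 := by rw [Finset.card_erase_of_mem hb]; omega
      obtain ⟨a, ha⟩ := Finset.card_pos.1 (by omega : 0 < (s.erase b).card)
      have := grow hD hk hex hHM hMS (ih _ hc') ha (Finset.notMem_erase b s) (hallpair a b (Finset.ne_of_mem_erase ha))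
      rwa [Finset.insert_erase hb] at this
  intro x
  obtain ⟨v, hv, rfl⟩ := exists_parts hD x
  let S := Finset.univ.filter fun j => v j ≠ 0
  rcases le_or_gt S.card 1 with hS | hS
  · rcases Finset.eq_empty_or_nonempty S with h0 | ⟨j, hj⟩
    · have : ∀ i, v i = 0 := fun i => by
        by_contra h; exact Finset.notMem_empty i (h0 ▸ Finset.mem_filter.2 ⟨Finset.mem_univ i, h⟩)
      simp [this, SpFull.zero]
    · rw [Finset.sum_eq_single j (fun i _ hij => by
        by_contra h
        exact hij (Finset.card_le_one.1 hS i (Finset.mem_filter.2 ⟨Finset.mem_univ i, h⟩) j hj)) (by simp)]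
      exact base hD hHM (hv j)
  · exact of_good hD hHM hMS (hall (S.card - 2) S (by omega)) hv fun i => by simp [S]

end

/-- For a finite field F with q elements and m ≥ 7, let D be a decomposition of F^(2m) into t ≥ 2 pairwise orthogonal subspaces of equal dimension k on each of which the standard alternating form is non-degenerate, spanning F^(2m). Unless k = 2 and q = 2, the elements of Sp_2m(F) permuting the members of D form a maximal subgroup of Sp_2m(F). -/
theorem result {F : Type*} [Field F] [Fintype F] (m : ℕ) (hm : 7 ≤ m) {t : ℕ} (k : ℕ) (D : Fin t → Submodule F (Fin m ⊕ Fin m → F)) (hD : Cfsg.Geo.IsNondegenerateMDecomposition (Cfsg.sympForm m F) k D) (hex : ¬ (k = 2 ∧ Fintype.card F = 2)) : Cfsg.Geo.IsMaximalIn (Cfsg.spGL m F) (Cfsg.Geo.decompositionStabilizer D ⊓ Cfsg.spGL m F) := by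
  exact main hD hex hD.decomp.two_le

end Cfsg.Agent.S5647
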