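import Cfsg.Statements.S5648
import Cfsg.Agent.Lib.Maximal.SmallMonomial
import Cfsg.Agent.Lib.Geometry.Symplectic

set_option autoImplicit false
open Cfsg

namespace Cfsg.Agent.S5648

section
open scoped Matrix

variable {F : Type*} [Field F] {m : ℕ}

local notation "ff" => CfsgLib.Geometry.sympBilin m F

lemma field_two [Fintype F] (hq : Fintype.card F = 2) (a : F) : a = 0 ∨ a = 1 := by
  by_cases ha : a = 0
  · exact Or.inl ha
  · have := FiniteField.pow_card_sub_one_eq_one a ha
    rw [hq, pow_one] at this; exact Or.inr this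

lemma piece_polar [Fintype F] [CharP F 2] (hq : Fintype.card F = 2) (W : Submodule F (Fin m ⊕ Fin m → F))
    (hdim : Module.finrank F W = 2) (hW : Cfsg.Geo.IsNondegenerateOn (Cfsg.sympForm m F) W) [DecidableEq F]
    (a b : Fin m ⊕ Fin m → F) (ha : a ∈ W) (hb : b ∈ W) :
    (if a + b = 0 then (0 : F) else 1) = (if a = 0 then 0 else 1) + (if b = 0 then 0 else 1) +
      Cfsg.sympForm m F a b := by
  have halt : ∀ x, Cfsg.sympForm m F x x = 0 := fun x => CfsgLib.Geometry.sympBilin_isAlt m F x
  by_cases h1 : a = 0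
  · subst h1
    simp [← CfsgLib.Geometry.sympBilin_apply]
  by_cases h2 : b = 0
  · subst h2
    simp [← CfsgLib.Geometry.sympBilin_apply]
  by_cases h3 : a + b = 0
  · have hab : a = b := by
      funext i
      exact CharTwo.add_eq_zero.1 (congrFun h3 i)
    subst hab
    rw [if_pos h3, halt, if_neg h1, add_zero, CharTwo.add_self_eq_zero]
  · rw [if_neg h3, if_neg h1, if_neg h2, CharTwo.add_self_eq_zero, zero_add]
    rcases field_two hq (Cfsg.sympForm m F a b) with h | h
    · exfalso
      obtain ⟨y, hy, hay⟩ := (hW a ha h1).2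
      have hind : LinearIndependent F ![a, b] := by
        rw [LinearIndependent.pair_iff]
        intro s t hst
        rcases field_two hq s with rfl | rfl <;> rcases field_two hq t with rfl | rfl
        · exact ⟨rfl, rfl⟩
        · simp [h2] at hst
        · simp [h1] at hst
        · simp [h3] at hst
      have hspan : Submodule.span F {a, b} = W := by
        refine Submodule.eq_of_le_of_finrank_le
          (Submodule.span_le.2 (Set.insert_subset ha (Set.singleton_subset_iff.2 hb))) ?_
        rw [hdim, ← Matrix.range_cons_cons_empty, finrank_span_eq_card hind, Fintype.card_fin]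
      rw [← hspan, Submodule.mem_span_pair] at hy
      obtain ⟨s, t, rfl⟩ := hy
      apply hay
      rw [← CfsgLib.Geometry.sympBilin_apply, map_add, map_smul, map_smul,
        CfsgLib.Geometry.sympBilin_apply, CfsgLib.Geometry.sympBilin_apply, halt, h, smul_zero, smul_zero, add_zero]
    · exact h.symm

lemma main [Fintype F] [CharP F 2] (hm : 4 ≤ m) (hq : Fintype.card F = 2) {t : ℕ}
    (D : Fin t → Submodule F (Fin m ⊕ Fin m → F))
    (hD : Cfsg.Geo.IsNondegenerateMDecomposition (Cfsg.sympForm m F) 2 D) :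
    ∃ K : Subgroup (Matrix.GeneralLinearGroup (Fin m ⊕ Fin m) F),
      Cfsg.Geo.decompositionStabilizer D ⊓ Cfsg.spGL m F < K ∧ K < Cfsg.spGL m F := by
  classical
  obtain ⟨e, he⟩ := CfsgLib.Maximal.exists_coords D hD.decomp
  have ht : 4 ≤ t := by
    have hn := e.finrank_eq
    simp [Module.finrank_pi_fintype] at hn
    omega
  let c : Fin t → (Fin m ⊕ Fin m → F) →ₗ[F] (Fin m ⊕ Fin m → F) := fun i =>
    e.symm.toLinearMap ∘ₗ LinearMap.single F (fun _ => Fin 2 → F) i ∘ₗ LinearMap.proj i ∘ₗ e.toLinearMap
  have hc : ∀ i v, c i v = e.symm (Pi.single i (e v i)) := fun i v => rfl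
  have hcmem : ∀ i v, c i v ∈ D i := fun i v => (he i _).2 fun j hj => by simp [hc, Pi.single_eq_of_ne hj]
  have hsum : ∀ v, ∑ i, c i v = v := fun v => e.injective (by simp [hc, Finset.univ_sum_single])
  have hc0 : ∀ i v, c i v = 0 ↔ e v i = 0 := fun i v => by simp [hc, Pi.single_eq_zero_iff]
  have hnz : ∀ v, CfsgLib.Maximal.nzCount (e v) = ∑ i, if c i v = 0 then (0 : F) else 1 := fun v => by
    simp only [CfsgLib.Maximal.nzCount, hc0]
  have hpolar : ∀ u v, Cfsg.sympForm m F u v = CfsgLib.Maximal.nzCount (e (u + v)) +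
      CfsgLib.Maximal.nzCount (e u) + CfsgLib.Maximal.nzCount (e v) := by
    intro u v
    have hf : Cfsg.sympForm m F u v = ∑ i, Cfsg.sympForm m F (c i u) (c i v) := by
      conv_lhs => rw [← hsum u, ← hsum v, ← CfsgLib.Geometry.sympBilin_apply]
      simp only [map_sum, LinearMap.sum_apply, CfsgLib.Geometry.sympBilin_apply]
      rw [Finset.sum_comm]
      refine Finset.sum_congr rfl fun i _ => Finset.sum_eq_single i (fun j _ hj => ?_) (by simp)
      exact hD.orthogonal i j (Ne.symm hj) _ (hcmem i u) _ (hcmem j v)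
    rw [hf, hnz, hnz, hnz, ← Finset.sum_add_distrib, ← Finset.sum_add_distrib]
    refine Finset.sum_congr rfl fun i _ => ?_
    rw [map_add, piece_polar hq (D i) (hD.decomp.finrank_eq i) (hD.nondegenerate i) _ _ (hcmem i u) (hcmem i v)]
    linear_combination (-(if c i u = 0 then (0 : F) else 1) - (if c i v = 0 then (0 : F) else 1)) *
      (CharTwo.two_eq_zero : (2 : F) = 0)
  have hle : CfsgLib.Maximal.countGroup e ≤ Cfsg.spGL m F := fun g hg u v => by
    show Cfsg.sympForm m F ((g : Matrix _ _ F) *ᵥ u) ((g : Matrix _ _ F) *ᵥ v) = _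
    rw [hpolar, hpolar u v, ← Matrix.mulVec_add, hg, hg, hg]
  refine ⟨CfsgLib.Maximal.countGroup e, lt_of_le_of_ne (inf_le_left.trans
    (CfsgLib.Maximal.decomposition_le_countGroup D e he)) ?_, lt_of_le_of_ne hle ?_⟩
  · intro heq
    obtain ⟨g, hg, hgD, -⟩ :=
      CfsgLib.Maximal.exists_count_witness D e he ht (by norm_num) (Or.inr ⟨rfl, hq⟩)
    rw [← heq] at hg
    exact hgD hg.1
  · intro heq
    let i0 : Fin t := ⟨0, by omega⟩
    let i1 : Fin t := ⟨1, by omega⟩
    let f0 : Fin t → Fin 2 → F := Pi.single i0 (fun _ => 1)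
    let f1 : Fin t → Fin 2 → F := Pi.single i1 (fun _ => 1)
    have hne : i0 ≠ i1 := by simp [i0, i1, Fin.ext_iff]
    have hone : (fun _ => 1 : Fin 2 → F) ≠ 0 := fun h => one_ne_zero (congrFun h 0)
    set v := e.symm (f0 + f1) with hv
    have hQv : CfsgLib.Maximal.nzCount (e v) = 0 := by
      simp only [hv, LinearEquiv.apply_symm_apply, CfsgLib.Maximal.nzCount]
      rw [Finset.sum_eq_add i0 i1 hne (fun b _ hb => by simp [f0, f1, hb.1, hb.2]) (by simp) (by simp)]
      simp [f0, f1, hne, hne.symm, hone, CharTwo.add_self_eq_zero]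
    have hv0 : v ≠ 0 := by
      intro h
      have := congrFun (congrArg e h) i0
      simp [hv, f0, f1, hne, hone] at this
    obtain ⟨x, hx⟩ : ∃ x, Cfsg.sympForm m F x v ≠ 0 := by
      by_contra hcon
      push Not at hcon
      exact hv0 ((CfsgLib.Geometry.sympBilin_nondegenerate m F).2 v hcon)
    have hx1 : Cfsg.sympForm m F x v = 1 := (field_two hq _).resolve_left hx
    have hT := CfsgLib.Geometry.sympTransvection_mem m F v 1
    set T := Cfsg.sympTransvection m v (1 : F)
    have hTT : T * T = 1 := by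
      refine Matrix.ext_of_mulVec_single fun i => ?_
      have halt : ff v v = 0 := CfsgLib.Geometry.sympBilin_isAlt m F v
      rw [← Matrix.mulVec_mulVec, CfsgLib.Geometry.sympTransvection_mulVec,
        CfsgLib.Geometry.sympTransvection_mulVec, Matrix.one_mulVec]
      simp only [one_mul, ← CfsgLib.Geometry.sympBilin_apply, map_add, map_smul, LinearMap.add_apply,
        LinearMap.smul_apply, halt, smul_zero, add_zero]
      funext j
      simp [add_assoc, CharTwo.add_self_eq_zero]
    let g : Matrix.GeneralLinearGroup (Fin m ⊕ Fin m) F := ⟨T, T, hTT, hTT⟩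
    have hg : g ∈ Cfsg.spGL m F := (CfsgLib.Geometry.mem_sp_iff m F T).1 hT
    rw [← heq] at hg
    have h1 := hg x
    rw [show (g : Matrix _ _ F) = T from rfl, CfsgLib.Geometry.sympTransvection_mulVec, one_mul, hx1, one_smul] at h1
    have h2 := hpolar x v
    rw [hx1, h1, hQv, add_zero, CharTwo.add_self_eq_zero] at h2
    exact one_ne_zero h2

end

/-- Over the field with 2 elements and for m ≥ 7, let D be a decomposition of F^(2m) into t pairwise orthogonal non-degenerate 2-dimensional subspaces for the standard alternating form (t = m ≥ 2). Then the elements of Sp_2m(2) permuting the members of D form a subgroup that is not maximal: some subgroup lies strictly between it and Sp_2m(2). -/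
theorem result {F : Type*} [Field F] [Fintype F] (m : ℕ) (hm : 7 ≤ m) (hq : Fintype.card F = 2) {t : ℕ} (D : Fin t → Submodule F (Fin m ⊕ Fin m → F)) (hD : Cfsg.Geo.IsNondegenerateMDecomposition (Cfsg.sympForm m F) 2 D) : ∃ K : Subgroup (Matrix.GeneralLinearGroup (Fin m ⊕ Fin m) F), Cfsg.Geo.decompositionStabilizer D ⊓ Cfsg.spGL m F < K ∧ K < Cfsg.spGL m F := by
  haveI : CharP F 2 := charP_of_card_eq_prime hq
  exact main (by omega) hq D hD

end Cfsg.Agent.S5648
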