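import Cfsg.Statements.S5649
import Cfsg.Agent.Lib.Maximal.SpFull

set_option autoImplicit false
open Cfsg

namespace Cfsg.Agent.S5649

section
set_option maxHeartbeats 800000
open scoped Matrix
open CfsgLib.Maximal

variable {m : ℕ} {F : Type*} [Field F]

local notation "sf" => Cfsg.sympForm m F
local notation "MM" => Matrix (Fin m ⊕ Fin m) (Fin m ⊕ Fin m) F

/-- The element `x ↦ x + f(x,d) c + f(x,c) d`. -/
def pairElt (c d : Fin m ⊕ Fin m → F) : Matrix.GeneralLinearGroup (Fin m ⊕ Fin m) F :=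
  stv 1 (c + d) * stv (-1) c * stv (-1) d

lemma pairElt_mulVec {c d : Fin m ⊕ Fin m → F} (h : sf c d = 0) (x : Fin m ⊕ Fin m → F) :
    (pairElt c d : MM) *ᵥ x = x + sf x d • c + sf x c • d := by
  have hdc : sf d c = 0 := by rw [sf_skew, h, neg_zero]
  simp only [pairElt, Units.val_mul, ← Matrix.mulVec_mulVec, stv_mulVec, sf_add_left, sf_add_right, sf_smul_left,
    sf_alt, h, hdc]
  module

lemma pairElt_mem (c d : Fin m ⊕ Fin m → F) : pairElt c d ∈ Cfsg.spGL m F :=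
  mul_mem (mul_mem (stv_mem_spGL _ _) (stv_mem_spGL _ _)) (stv_mem_spGL _ _)

lemma pairElt_conj {g : Matrix.GeneralLinearGroup (Fin m ⊕ Fin m) F} (hg : g ∈ Cfsg.spGL m F)
    (c d : Fin m ⊕ Fin m → F) :
    g * pairElt c d * g⁻¹ = pairElt ((g : MM) *ᵥ c) ((g : MM) *ᵥ d) := by
  simp only [pairElt]
  rw [← Matrix.mulVec_add, ← stv_conj hg 1, ← stv_conj hg (-1) c, ← stv_conj hg (-1) d]
  group

/-- The commutator of two elements sharing `c` is a transvection with centre `c`. -/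
lemma pairElt_comm {c b b' : Fin m ⊕ Fin m → F} (hb : sf c b = 0) (hb' : sf c b' = 0) :
    pairElt c b * pairElt c b' = stv (2 * sf b' b) c * (pairElt c b' * pairElt c b) := by
  have e1 : sf b c = 0 := by rw [sf_skew, hb, neg_zero]
  have e2 : sf b' c = 0 := by rw [sf_skew, hb', neg_zero]
  refine Units.ext (CfsgLib.Geometry.matrix_eq_of_mulVec fun x => ?_)
  simp only [Units.val_mul, ← Matrix.mulVec_mulVec, pairElt_mulVec hb, pairElt_mulVec hb', stv_mulVec,
    sf_add_left, sf_smul_left, sf_alt, e1, e2, hb, hb', sf_skew b b']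
  module

/-- Two complementary totally isotropic halves. -/
structure Halves (U W : Submodule F (Fin m ⊕ Fin m → F)) : Prop where
  tsU : ∀ a ∈ U, ∀ b ∈ U, Cfsg.sympForm m F a b = 0
  tsW : ∀ a ∈ W, ∀ b ∈ W, Cfsg.sympForm m F a b = 0
  sup : U ⊔ W = ⊤
  dis : Disjoint U W
  dimU : Module.finrank F U = m
  dimW : Module.finrank F W = m

variable {U W : Submodule F (Fin m ⊕ Fin m → F)}

lemma Halves.symm (h : Halves U W) : Halves W U :=
  ⟨h.tsW, h.tsU, by rw [sup_comm]; exact h.sup, h.dis.symm, h.dimW, h.dimU⟩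

lemma Halves.split (h : Halves U W) (x : Fin m ⊕ Fin m → F) : ∃ a ∈ U, ∃ b ∈ W, a + b = x :=
  Submodule.mem_sup.1 (h.sup ▸ Submodule.mem_top : x ∈ U ⊔ W)

lemma Halves.eval (h : Halves U W) {y a : Fin m ⊕ Fin m → F} (hy : y ∈ U) (hy0 : y ≠ 0) (ha : a ∈ U)
    (hay : a ∉ Submodule.span F {y}) : ∃ w ∈ W, sf y w = 0 ∧ sf a w = 1 := by
  obtain ⟨b, hb, hb1⟩ := sf_eval hy0 hay
  obtain ⟨p, hp, q, hq, rfl⟩ := h.split b
  rw [sf_add_right, h.tsU y hy p hp, zero_add] at hb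
  rw [sf_add_right, h.tsU a ha p hp, zero_add] at hb1
  exact ⟨q, hq, hb, hb1⟩

lemma Halves.eval₂ (h : Halves U W) {y a a' : Fin m ⊕ Fin m → F} (hy : y ∈ U) (hy0 : y ≠ 0) (ha : a ∈ U)
    (hay : a ∉ Submodule.span F {y}) (ha' : a' ∈ U) (hay' : a' ∉ Submodule.span F {y}) :
    ∃ w ∈ W, sf y w = 0 ∧ sf a w ≠ 0 ∧ sf a' w ≠ 0 := by
  obtain ⟨p, hp, hp0, hp1⟩ := h.eval hy hy0 ha hay
  obtain ⟨r, hr, hr0, hr1⟩ := h.eval hy hy0 ha' hay'
  by_cases h1 : sf a' p = 0
  · by_cases h2 : sf a r = 0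
    · exact ⟨p + r, W.add_mem hp hr, by rw [sf_add_right, hp0, hr0, add_zero],
        by rw [sf_add_right, hp1, h2, add_zero]; exact one_ne_zero,
        by rw [sf_add_right, h1, hr1, zero_add]; exact one_ne_zero⟩
    · exact ⟨r, hr, hr0, h2, by rw [hr1]; exact one_ne_zero⟩
  · exact ⟨p, hp, hp0, by rw [hp1]; exact one_ne_zero, h1⟩

/-- `M` contains the pair elements of the two halves. -/
def HasPairs (M : Subgroup (Matrix.GeneralLinearGroup (Fin m ⊕ Fin m) F)) (U W : Submodule F (Fin m ⊕ Fin m → F)) : Prop :=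
  ∀ u ∈ U, ∀ w ∈ W, Cfsg.sympForm m F u w = 0 → pairElt u w ∈ M

variable {M : Subgroup (Matrix.GeneralLinearGroup (Fin m ⊕ Fin m) F)}

lemma pairElt_symm {c d : Fin m ⊕ Fin m → F} (h : sf c d = 0) : pairElt c d = pairElt d c := by
  have hdc : sf d c = 0 := by rw [sf_skew, h, neg_zero]
  refine Units.ext (CfsgLib.Geometry.matrix_eq_of_mulVec fun x => ?_)
  rw [pairElt_mulVec h, pairElt_mulVec hdc]
  module

lemma HasPairs.symm (h : HasPairs M U W) : HasPairs M W U := fun w hw u hu huw => by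
  have h0 : sf u w = 0 := by rw [sf_skew, huw, neg_zero]
  rw [← pairElt_symm h0]; exact h u hu w hw h0

/-- An element fixing `u` and moving `w` off `w^⊥` gives every transvection centred in `U`. -/
lemma full_of_fix (h2 : (2 : F) ≠ 0) (hm : 3 ≤ m) (hMS : M ≤ Cfsg.spGL m F) (hH : Halves U W)
    (hP : HasPairs M U W) {X : Matrix.GeneralLinearGroup (Fin m ⊕ Fin m) F} (hx : X ∈ M)
    {u w : Fin m ⊕ Fin m → F} (huU : u ∈ U) (hu0 : u ≠ 0) (hXu : (X : MM) *ᵥ u = u) (hw : w ∈ W)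
    (huw : sf u w = 0) (hne : sf ((X : MM) *ᵥ w) w ≠ 0) : ∀ u ∈ U, SpFull M u := by
  set b := (X : MM) *ᵥ w
  have hb : pairElt u b ∈ M := by
    have := mul_mem (mul_mem hx (hP u huU w hw huw)) (inv_mem hx)
    rwa [pairElt_conj (hMS hx), hXu] at this
  have hub : sf u b = 0 := by
    have h := (mem_spGL_iff X).1 (hMS hx) u w
    rwa [hXu, huw] at h
  have hbw' : sf b w ≠ 0 := hne
  have hk : stv (2 * sf w b) u ∈ M := by
    have hc := pairElt_comm hub huw
    rw [eq_mul_inv_iff_mul_eq.2 hc.symm]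
    exact mul_mem (mul_mem hb (hP u huU w hw huw)) (inv_mem (mul_mem (hP u huU w hw huw) hb))
  set k₀ := 2 * sf w b
  have hk₀ : k₀ ≠ 0 := mul_ne_zero h2 (by rw [sf_skew]; exact neg_ne_zero.2 hbw')
  have step : ∀ v ∈ U, v ≠ 0 → ∀ v' ∈ U, v' ∉ Submodule.span F {v} → stv k₀ v ∈ M → stv k₀ v' ∈ M := by
    intro v hv hv0 v' hv' hind hvM
    have hy0 : v' - v ≠ 0 := fun h => hind (by
      rw [sub_eq_zero.1 h]; exact Submodule.mem_span_singleton_self v)
    have hvy : v ∉ Submodule.span F {v' - v} := by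
      intro h
      obtain ⟨l, hl⟩ := Submodule.mem_span_singleton.1 h
      have hl0 : l ≠ 0 := fun h => hv0 (by rw [← hl, h, zero_smul])
      exact hind (Submodule.mem_span_singleton.2 ⟨l⁻¹ + 1, by
        rw [add_smul, one_smul]; nth_rewrite 1 [← hl]; rw [inv_smul_smul₀ hl0]; abel⟩)
    obtain ⟨z, hz, hz0, hz1⟩ := hH.eval (U.sub_mem hv' hv) hy0 hv hvy
    have hEM := hP _ (U.sub_mem hv' hv) z hz hz0
    have := mul_mem (mul_mem hEM hvM) (inv_mem hEM)
    rwa [stv_conj (hMS hEM), pairElt_mulVec hz0, hz1, hH.tsU v hv _ (U.sub_mem hv' hv), one_smul, zero_smul,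
      add_zero, add_sub_cancel] at this
  have hall : ∀ v ∈ U, stv k₀ v ∈ M := by
    intro v hv
    rcases eq_or_ne v 0 with rfl | hv0
    · rw [stv_zero]; exact one_mem M
    by_cases hind : v ∈ Submodule.span F {u}
    · obtain ⟨z, hz, hzu⟩ : ∃ z ∈ U, z ∉ Submodule.span F {u} := by
        by_contra hcon
        push Not at hcon
        have := Submodule.finrank_mono (fun z hz => hcon z hz : U ≤ Submodule.span F {u})
        rw [finrank_span_singleton hu0, hH.dimU] at this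
        omega
      have hz0 : z ≠ 0 := fun h => hzu (h ▸ zero_mem _)
      refine step z hz hz0 v hv (fun h => ?_) (step u huU hu0 z hz hzu hk)
      obtain ⟨l, hl⟩ := Submodule.mem_span_singleton.1 h
      obtain ⟨l', hl'⟩ := Submodule.mem_span_singleton.1 hind
      have hl0 : l ≠ 0 := fun h => hv0 (by rw [← hl, h, zero_smul])
      exact hzu (Submodule.mem_span_singleton.2 ⟨l⁻¹ * l', by rw [← smul_smul, hl', ← hl, inv_smul_smul₀ hl0]⟩)
    · exact step u huU hu0 v hv hind hk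
  intro v hv k
  have hsq : ∀ s : F, stv (k₀ * s * s) v ∈ M := fun s => by
    have := hall (s • v) (U.smul_mem _ hv)
    rwa [stv_scale] at this
  have hadd : ∀ a b : F, stv a v * stv b v = stv (a + b) v := fun a b => by
    refine Units.ext (CfsgLib.Geometry.matrix_eq_of_mulVec fun x => ?_)
    simp only [Units.val_mul, ← Matrix.mulVec_mulVec, stv_mulVec, sf_add_left, sf_smul_left, sf_alt]
    module
  set s := (k / k₀ + 1) / 2
  set t := (k / k₀ - 1) / 2
  have hinv : stv (-(k₀ * t * t)) v ∈ M := by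
    have h := inv_mem (hsq t)
    have hz : stv (0 : F) v = 1 := Units.ext (CfsgLib.Geometry.matrix_eq_of_mulVec fun x => by simp [stv_mulVec])
    have he : (stv (k₀ * t * t) v)⁻¹ = stv (-(k₀ * t * t)) v := by
      rw [inv_eq_iff_mul_eq_one, hadd, add_neg_cancel, hz]
    rwa [he] at h
  have := mul_mem (hsq s) hinv
  rw [hadd] at this
  convert this using 2
  simp only [s, t]
  field_simp
  ring

/-- A pair element in mixed position, with a good vector `u`. -/
lemma full_of_good (h2 : (2 : F) ≠ 0) (hm : 3 ≤ m) (hMS : M ≤ Cfsg.spGL m F) (hH : Halves U W)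
    (hP : HasPairs M U W) {a₁ a₂ b₁ b₂ u : Fin m ⊕ Fin m → F} (ha₁ : a₁ ∈ U) (ha₂ : a₂ ∈ W)
    (hb₁ : b₁ ∈ U) (hb₂ : b₂ ∈ W) (hcd : sf (a₁ + a₂) (b₁ + b₂) = 0)
    (hx : pairElt (a₁ + a₂) (b₁ + b₂) ∈ M) (huU : u ∈ U) (hu0 : u ≠ 0) (hua₂ : sf u a₂ = 0)
    (hub₂ : sf u b₂ = 0) (hna : a₁ ∉ Submodule.span F {u}) (hnb : b₁ ∉ Submodule.span F {u}) :
    ∀ u ∈ U, SpFull M u := by
  obtain ⟨w, hw, huw, haw, hbw⟩ := hH.eval₂ huU hu0 ha₁ hna hb₁ hnb
  refine full_of_fix h2 hm hMS hH hP hx huU hu0 ?_ hw huw ?_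
  · rw [pairElt_mulVec hcd, sf_add_right, sf_add_right, hH.tsU u huU b₁ hb₁, hH.tsU u huU a₁ ha₁, hub₂, hua₂]
    simp
  · rw [pairElt_mulVec hcd]
    simp only [sf_add_left, sf_add_right, sf_smul_left, sf_alt, hH.tsW a₂ ha₂ w hw, hH.tsW b₂ hb₂ w hw,
      hH.tsW w hw a₂ ha₂, hH.tsW w hw b₂ hb₂, sf_skew w b₁, sf_skew w a₁, zero_add, add_zero]
    rw [show -sf b₁ w * sf a₁ w + -sf a₁ w * sf b₁ w = -(2 * (sf a₁ w * sf b₁ w)) by ring]
    exact neg_ne_zero.2 (mul_ne_zero h2 (mul_ne_zero haw hbw))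

/-- The case in which `a₁` is orthogonal to both components in `W`. -/
lemma full_of_deg (h2 : (2 : F) ≠ 0) (hm : 3 ≤ m) (hMS : M ≤ Cfsg.spGL m F) (hH : Halves U W)
    (hP : HasPairs M U W) {a₁ a₂ b₁ b₂ : Fin m ⊕ Fin m → F} (ha₁ : a₁ ∈ U) (ha₁0 : a₁ ≠ 0) (ha₂ : a₂ ∈ W)
    (hb₁ : b₁ ∈ U) (hb₂ : b₂ ∈ W) (hcd : sf (a₁ + a₂) (b₁ + b₂) = 0)
    (hx : pairElt (a₁ + a₂) (b₁ + b₂) ∈ M) (haa : sf a₁ a₂ = 0) (hab : sf a₁ b₂ = 0)
    (ha2b : a₂ ∉ Submodule.span F {b₂}) (hb2a : b₂ ∉ Submodule.span F {a₂}) :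
    (∀ u ∈ U, SpFull M u) ∨ ∀ u ∈ W, SpFull M u := by
  have hba : sf b₁ a₂ = 0 := by
    rw [sf_add_left, sf_add_right, sf_add_right, hH.tsU a₁ ha₁ b₁ hb₁, hH.tsW a₂ ha₂ b₂ hb₂, hab] at hcd
    rw [sf_skew]
    simpa using hcd
  have hb20 : b₂ ≠ 0 := fun h => hb2a (h ▸ zero_mem _)
  have ha20 : a₂ ≠ 0 := fun h => ha2b (h ▸ zero_mem _)
  by_cases hdep : b₁ ∈ Submodule.span F {a₁}
  · obtain ⟨l, rfl⟩ := Submodule.mem_span_singleton.1 hdep
    refine Or.inr (full_of_good (u := a₂ + b₂) h2 hm hMS hH.symm hP.symm ha₂ ha₁ hb₂ hb₁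
      (by rwa [add_comm a₂, add_comm b₂]) (by rwa [add_comm a₂, add_comm b₂]) (W.add_mem ha₂ hb₂)
      (fun h => ha2b (Submodule.mem_span_singleton.2 ⟨-1, by rw [neg_one_smul, eq_neg_of_add_eq_zero_left h]⟩))
      ?_ ?_ ?_ ?_)
    · rw [sf_add_left, sf_skew a₂, sf_skew b₂, haa, hab, neg_zero, add_zero]
    · rw [sf_smul_right, sf_add_left, sf_skew a₂, sf_skew b₂, haa, hab, neg_zero, add_zero, mul_zero]
    · intro h
      obtain ⟨k, hk⟩ := Submodule.mem_span_singleton.1 h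
      have hk0 : k ≠ 0 := fun h' => ha20 (by rw [← hk, h', zero_smul])
      refine hb2a (Submodule.mem_span_singleton.2 ⟨k⁻¹ - 1, ?_⟩)
      rw [sub_smul, one_smul]
      nth_rewrite 1 [← hk]
      rw [inv_smul_smul₀ hk0, add_sub_cancel_left]
    · intro h
      obtain ⟨k, hk⟩ := Submodule.mem_span_singleton.1 h
      have hk0 : k ≠ 0 := fun h' => hb20 (by rw [← hk, h', zero_smul])
      refine ha2b (Submodule.mem_span_singleton.2 ⟨k⁻¹ - 1, ?_⟩)
      rw [sub_smul, one_smul]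
      nth_rewrite 1 [← hk]
      rw [inv_smul_smul₀ hk0, add_sub_cancel_right]
  obtain ⟨w, hw, haw, hbw⟩ := hH.eval ha₁ ha₁0 hb₁ hdep
  obtain ⟨u, hu, hau, hbu⟩ := hH.symm.eval ha₂ ha20 hb₂ hb2a
  have hua : sf u a₂ = 0 := by rw [sf_skew, hau, neg_zero]
  set h := pairElt a₁ w * pairElt u a₂ with hh
  have hhM : h ∈ M := mul_mem (hP a₁ ha₁ w hw haw) (hP u hu a₂ ha₂ hua)
  have hhc : (h : MM) *ᵥ (a₁ + a₂) = a₁ + a₂ := by
    rw [hh, Units.val_mul, ← Matrix.mulVec_mulVec, pairElt_mulVec hua]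
    simp only [sf_add_left, sf_alt, hH.tsU a₁ ha₁ u hu, haa, hau, zero_add, zero_smul, add_zero]
    rw [pairElt_mulVec haw]
    simp only [sf_add_left, sf_alt, haw, hH.tsW a₂ ha₂ w hw, sf_skew a₂ a₁, haa, neg_zero, zero_add, zero_smul,
      add_zero]
  have hhd : (h : MM) *ᵥ (b₁ + b₂) = (b₁ + b₂) + (a₁ + a₂) := by
    rw [hh, Units.val_mul, ← Matrix.mulVec_mulVec, pairElt_mulVec hua]
    simp only [sf_add_left, hH.tsU b₁ hb₁ u hu, hba, hH.tsW b₂ hb₂ a₂ ha₂, hbu, zero_add, zero_smul, add_zero,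
      one_smul]
    rw [pairElt_mulVec haw]
    simp only [sf_add_left, hH.tsU b₁ hb₁ a₁ ha₁, sf_skew b₂ a₁, hab, hH.tsW b₂ hb₂ w hw, hbw,
      hH.tsW a₂ ha₂ w hw, sf_skew a₂ a₁, haa, neg_zero, zero_add, zero_smul, add_zero, one_smul]
    abel
  have hY : pairElt (a₁ + a₂) ((b₁ + b₂) + (a₁ + a₂)) ∈ M := by
    have := mul_mem (mul_mem hhM hx) (inv_mem hhM)
    rwa [pairElt_conj (hMS hhM), hhc, hhd] at this
  have hT : stv 2 (a₁ + a₂) ∈ M := by
    have e : stv 2 (a₁ + a₂) * pairElt (a₁ + a₂) (b₁ + b₂) = pairElt (a₁ + a₂) ((b₁ + b₂) + (a₁ + a₂)) := by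
      have hcd' : sf (a₁ + a₂) ((b₁ + b₂) + (a₁ + a₂)) = 0 := by
        rw [sf_add_right, hcd, sf_alt, add_zero]
      refine Units.ext (CfsgLib.Geometry.matrix_eq_of_mulVec fun x => ?_)
      rw [Units.val_mul, ← Matrix.mulVec_mulVec, pairElt_mulVec hcd', pairElt_mulVec hcd, stv_mulVec]
      generalize ec : a₁ + a₂ = c at hcd hcd' ⊢
      generalize ed : b₁ + b₂ = d at hcd hcd' ⊢
      simp only [sf_add_left, sf_add_right, sf_smul_left, sf_alt, sf_skew d c, hcd, neg_zero, mul_zero, add_zero]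
      module
    rw [eq_mul_inv_iff_mul_eq.2 e]
    exact mul_mem hY (inv_mem hx)
  -- now the transvection with mixed centre
  refine Or.inl ?_
  obtain ⟨z, hz, hz0, hza⟩ : ∃ z ∈ U, z ∉ Submodule.span F {a₁} ∧ sf z a₂ = 0 := by
    refine ⟨u, hu, fun hmem => ?_, hua⟩
    obtain ⟨k, rfl⟩ := Submodule.mem_span_singleton.1 hmem
    rw [sf_smul_right, sf_skew, hab] at hbu
    simp at hbu
  obtain ⟨w', hw', hzw, ha1w⟩ := hH.eval hz (fun h => hz0 (h ▸ zero_mem _)) ha₁ (fun hmem => hz0 (by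
    obtain ⟨k, hk⟩ := Submodule.mem_span_singleton.1 hmem
    have hk0 : k ≠ 0 := fun h' => ha₁0 (by rw [← hk, h', zero_smul])
    exact Submodule.mem_span_singleton.2 ⟨k⁻¹, by rw [← hk, inv_smul_smul₀ hk0]⟩))
  refine full_of_fix h2 hm hMS hH hP hT hz (fun h => hz0 (h ▸ zero_mem _)) ?_ hw' hzw ?_
  · rw [stv_mulVec, sf_add_right, hH.tsU z hz a₁ ha₁, hza]
    simp
  · rw [stv_mulVec]
    simp only [sf_add_left, sf_add_right, sf_smul_left, sf_alt, hH.tsW w' hw' a₂ ha₂, hH.tsW a₂ ha₂ w' hw',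
      sf_skew w' a₁, ha1w, zero_add, add_zero]
    simpa using h2

/-- From an element moving a pair to mixed position, every transvection centred in `U`, or every one in `W`. -/
lemma full_of_mixed (h2 : (2 : F) ≠ 0) (hm : 3 ≤ m) (hMS : M ≤ Cfsg.spGL m F) (hH : Halves U W)
    (hP : HasPairs M U W) {a₁ a₂ b₁ b₂ : Fin m ⊕ Fin m → F} (ha₁ : a₁ ∈ U) (ha₁0 : a₁ ≠ 0) (ha₂ : a₂ ∈ W)
    (hb₁ : b₁ ∈ U) (hb₁0 : b₁ ≠ 0) (hb₂ : b₂ ∈ W) (hcd : sf (a₁ + a₂) (b₁ + b₂) = 0)
    (hx : pairElt (a₁ + a₂) (b₁ + b₂) ∈ M) : (∀ u ∈ U, SpFull M u) ∨ ∀ u ∈ W, SpFull M u := by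
  classical
  by_cases hex : ∃ u ∈ U, u ≠ 0 ∧ sf u a₂ = 0 ∧ sf u b₂ = 0 ∧ a₁ ∉ Submodule.span F {u} ∧
      b₁ ∉ Submodule.span F {u}
  · obtain ⟨u, huU, hu0, h1, h2', h3, h4⟩ := hex
    exact Or.inl (full_of_good h2 hm hMS hH hP ha₁ ha₂ hb₁ hb₂ hcd hx huU hu0 h1 h2' h3 h4)
  have hline : ∀ x ∈ U, sf x a₂ = 0 → sf x b₂ = 0 →
      x ∈ Submodule.span F {a₁} ∨ x ∈ Submodule.span F {b₁} := by
    intro x hxU hxa hxb
    rcases eq_or_ne x 0 with rfl | hx0
    · exact Or.inl (zero_mem _)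
    have flip : ∀ a : Fin m ⊕ Fin m → F, a ≠ 0 → a ∈ Submodule.span F {x} → x ∈ Submodule.span F {a} := by
      intro a ha hmem
      obtain ⟨k, hk⟩ := Submodule.mem_span_singleton.1 hmem
      have hk0 : k ≠ 0 := fun h' => ha (by rw [← hk, h', zero_smul])
      exact Submodule.mem_span_singleton.2 ⟨k⁻¹, by rw [← hk, inv_smul_smul₀ hk0]⟩
    by_contra hcon
    push Not at hcon
    exact hex ⟨x, hxU, hx0, hxa, hxb, fun h => hcon.1 (flip a₁ ha₁0 h), fun h => hcon.2 (flip b₁ hb₁0 h)⟩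
  have small : ∀ {n : ℕ} (L : (Fin m ⊕ Fin m → F) →ₗ[F] (Fin n → F)),
      (∀ x ∈ U, L x = 0 → sf x a₂ = 0 ∧ sf x b₂ = 0) → m ≤ n + 1 := by
    intro n L hL
    have h0 : U ⊓ LinearMap.ker L ≤ Submodule.span F {a₁} ∨ U ⊓ LinearMap.ker L ≤ Submodule.span F {b₁} := by
      have hu : ∀ x ∈ U ⊓ LinearMap.ker L, x ∈ Submodule.span F {a₁} ∨ x ∈ Submodule.span F {b₁} :=
        fun x hx => hline x hx.1 (hL x hx.1 hx.2).1 (hL x hx.1 hx.2).2
      by_contra hcon
      push Not at hcon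
      obtain ⟨p, hp, hp'⟩ := SetLike.not_le_iff_exists.1 hcon.1
      obtain ⟨r, hr, hr'⟩ := SetLike.not_le_iff_exists.1 hcon.2
      have hpb := (hu p hp).resolve_left hp'
      have hra := (hu r hr).resolve_right hr'
      rcases hu (p + r) (add_mem hp hr) with h | h
      · exact hp' (by simpa using sub_mem h hra)
      · exact hr' (by simpa using sub_mem h hpb)
    have h1 : Module.finrank F (U ⊓ LinearMap.ker L : Submodule F (Fin m ⊕ Fin m → F)) ≤ 1 := by
      rcases h0 with h | h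
      · exact (Submodule.finrank_mono h).trans (finrank_span_singleton ha₁0).le
      · exact (Submodule.finrank_mono h).trans (finrank_span_singleton hb₁0).le
    have h3 := Submodule.finrank_sup_add_finrank_inf_eq U (LinearMap.ker L)
    have h4 := L.finrank_range_add_finrank_ker
    have h5 := (LinearMap.range L).finrank_le
    have h6 := (U ⊔ LinearMap.ker L).finrank_le
    rw [hH.dimU] at h3
    simp at h4 h5 h6
    omega
  have hind : a₂ ∉ Submodule.span F {b₂} ∧ b₂ ∉ Submodule.span F {a₂} := by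
    constructor
    · intro h
      obtain ⟨k, hk⟩ := Submodule.mem_span_singleton.1 h
      have := small (LinearMap.pi fun _ : Fin 1 => (CfsgLib.Geometry.sympBilin m F).flip b₂) fun x _ hx => by
        have hxb : sf x b₂ = 0 := by simpa using congrFun hx 0
        exact ⟨by rw [← hk, sf_smul_right, hxb, mul_zero], hxb⟩
      omega
    · intro h
      obtain ⟨k, hk⟩ := Submodule.mem_span_singleton.1 h
      have := small (LinearMap.pi fun _ : Fin 1 => (CfsgLib.Geometry.sympBilin m F).flip a₂) fun x _ hx => by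
        have hxb : sf x a₂ = 0 := by simpa using congrFun hx 0
        exact ⟨hxb, by rw [← hk, sf_smul_right, hxb, mul_zero]⟩
      omega
  obtain ⟨x, hxU, hx0, hxa, hxb⟩ : ∃ x ∈ U, x ≠ 0 ∧ sf x a₂ = 0 ∧ sf x b₂ = 0 := by
    by_contra hcon
    push Not at hcon
    let L : U →ₗ[F] (Fin 2 → F) :=
      (LinearMap.pi fun i => (CfsgLib.Geometry.sympBilin m F).flip (![a₂, b₂] i)).comp U.subtype
    have hL : LinearMap.ker L = ⊥ := (Submodule.eq_bot_iff _).2 fun z hz => by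
      have h0 : sf (z : Fin m ⊕ Fin m → F) a₂ = 0 := by simpa [L] using congrFun hz 0
      have h1 : sf (z : Fin m ⊕ Fin m → F) b₂ = 0 := by simpa [L] using congrFun hz 1
      by_contra hne
      exact hcon z z.2 (fun h => hne (Subtype.ext h)) h0 h1
    have h4 := L.finrank_range_add_finrank_ker
    have h5 := (LinearMap.range L).finrank_le
    rw [hL, finrank_bot, hH.dimU] at h4
    simp at h5
    omega
  rcases hline x hxU hxa hxb with h | h
  · obtain ⟨k, rfl⟩ := Submodule.mem_span_singleton.1 h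
    rw [smul_ne_zero_iff] at hx0
    rw [sf_smul_left] at hxa hxb
    exact full_of_deg h2 hm hMS hH hP ha₁ ha₁0 ha₂ hb₁ hb₂ hcd hx
      ((mul_eq_zero.1 hxa).resolve_left hx0.1) ((mul_eq_zero.1 hxb).resolve_left hx0.1) hind.1 hind.2
  · obtain ⟨k, rfl⟩ := Submodule.mem_span_singleton.1 h
    rw [smul_ne_zero_iff] at hx0
    rw [sf_smul_left] at hxa hxb
    have hdc : sf (b₁ + b₂) (a₁ + a₂) = 0 := by rw [sf_skew, hcd, neg_zero]
    exact full_of_deg h2 hm hMS hH hP hb₁ hb₁0 hb₂ ha₁ ha₂ hdc (by rwa [← pairElt_symm hcd])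
      ((mul_eq_zero.1 hxb).resolve_left hx0.1) ((mul_eq_zero.1 hxa).resolve_left hx0.1) hind.2 hind.1

lemma exists_swap (hH : Halves U W) :
    ∃ g ∈ Cfsg.spGL m F, U.map (Matrix.toLin' (g : MM)) = W ∧ W.map (Matrix.toLin' (g : MM)) = U := by
  classical
  let b : Module.Basis (Fin m) F U := Module.finBasisOfFinrankEq F U hH.dimU
  let T : W →ₗ[F] (Fin m → F) := LinearMap.pi fun i => (CfsgLib.Geometry.sympBilin m F (b i : Fin m ⊕ Fin m → F)).comp W.subtype
  have hU : ∀ y, (∀ i, sf (b i : Fin m ⊕ Fin m → F) y = 0) → ∀ p ∈ U, sf p y = 0 := by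
    intro y hy p hp
    have hp' := congrArg Subtype.val (b.sum_repr ⟨p, hp⟩)
    simp only [Submodule.coe_sum, Submodule.coe_smul] at hp'
    rw [← hp', ← CfsgLib.Geometry.sympBilin_apply, map_sum, LinearMap.sum_apply]
    exact Finset.sum_eq_zero fun i _ => by rw [map_smul, LinearMap.smul_apply, CfsgLib.Geometry.sympBilin_apply, hy i, smul_zero]
  have hker : ∀ w : W, T w = 0 → w = 0 := by
    intro w hw
    by_contra h0
    obtain ⟨y, hy⟩ := sf_exists (w : Fin m ⊕ Fin m → F) (fun h => h0 (Subtype.ext h))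
    obtain ⟨p, hp, r, hr, rfl⟩ := hH.split y
    rw [sf_add_right, hH.tsW w w.2 r hr, add_zero, sf_skew, hU w (fun i => congrFun hw i) p hp, neg_zero] at hy
    exact zero_ne_one hy
  have hbij : Function.Bijective T := by
    have hinj : Function.Injective T := (injective_iff_map_eq_zero T).2 hker
    exact ⟨hinj, (LinearMap.injective_iff_surjective_of_finrank_eq_finrank (by rw [hH.dimW, Module.finrank_fin_fun])).1 hinj⟩
  choose c hc using fun i : Fin m => hbij.2 (Pi.single i 1)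
  let bu : Fin m → Fin m ⊕ Fin m → F := fun i => (b i : Fin m ⊕ Fin m → F)
  let bw : Fin m → Fin m ⊕ Fin m → F := fun i => (c i : Fin m ⊕ Fin m → F)
  have huw : ∀ i j, sf (bu i) (bw j) = if i = j then 1 else 0 := fun i j => by
    have := congrFun (hc j) i
    simpa [T, Pi.single_apply, bu, bw] using this
  have hwu : ∀ i j, sf (bw i) (bu j) = -(if j = i then 1 else 0) := fun i j => by rw [sf_skew, huw]
  have hsum : ∀ (y : Fin m ⊕ Fin m → F) (a : Fin m → F) (z : Fin m → Fin m ⊕ Fin m → F),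
      sf y (∑ i, a i • z i) = ∑ i, a i * sf y (z i) := fun y a z => by
    simp [← CfsgLib.Geometry.sympBilin_apply]
  have hsum' : ∀ (y : Fin m ⊕ Fin m → F) (a : Fin m → F) (z : Fin m → Fin m ⊕ Fin m → F),
      sf (∑ i, a i • z i) y = ∑ i, a i * sf (z i) y := fun y a z => by
    simp [← CfsgLib.Geometry.sympBilin_apply]
  have tuu : ∀ i j, sf (bu i) (bu j) = 0 := fun i j => hH.tsU _ (b i).2 _ (b j).2
  have tww : ∀ i j, sf (bw i) (bw j) = 0 := fun i j => hH.tsW _ (c i).2 _ (c j).2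
  have hexp : ∀ x, x = ∑ i, sf x (bw i) • bu i + ∑ i, sf (bu i) x • bw i := by
    intro x
    set y := ∑ i, sf x (bw i) • bu i + ∑ i, sf (bu i) x • bw i with hy
    have e1 : ∀ k, sf (bu k) y = sf (bu k) x := fun k => by
      rw [hy, sf_add_right, hsum, hsum]
      simp [tuu, huw]
    have e2 : ∀ k, sf y (bw k) = sf x (bw k) := fun k => by
      rw [hy, sf_add_left, hsum', hsum']
      simp [tww, huw]
    have d1 : ∀ p ∈ U, sf p (x - y) = 0 := hU _ fun i => by
      show sf (bu i) (x - y) = 0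
      rw [sf_sub_right, e1, sub_self]
    have d2 : ∀ r ∈ W, sf (x - y) r = 0 := by
      intro r hr
      let S : (Fin m → F) →ₗ[F] W := Fintype.linearCombination F c
      have hTS : ∀ a, T (S a) = a := fun a => by
        simp only [S, Fintype.linearCombination_apply, map_sum, map_smul, hc]
        exact (pi_eq_sum_univ' a).symm
      have hr' : (⟨r, hr⟩ : W) = S (T ⟨r, hr⟩) := hbij.1 (hTS _).symm
      have hr'' : r = ∑ i, T ⟨r, hr⟩ i • bw i := by
        have := congrArg Subtype.val hr'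
        simpa [S, Fintype.linearCombination_apply, bw] using this
      rw [hr'', hsum]
      refine Finset.sum_eq_zero fun i _ => ?_
      rw [sub_eq_add_neg, ← neg_one_smul F y, sf_add_left, sf_smul_left, e2]
      ring
    refine sub_eq_zero.1 ?_
    by_contra hne
    obtain ⟨z, hz⟩ := sf_exists _ hne
    obtain ⟨p, hp, r, hr, rfl⟩ := hH.split z
    rw [sf_add_right, sf_skew _ p, d1 p hp, d2 r hr, neg_zero, add_zero] at hz
    exact zero_ne_one hz
  let L : (Fin m ⊕ Fin m → F) →ₗ[F] (Fin m ⊕ Fin m → F) :=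
    ∑ i, ((CfsgLib.Geometry.sympBilin m F).flip (bw i)).smulRight (bw i) -
      ∑ i, (CfsgLib.Geometry.sympBilin m F (bu i)).smulRight (bu i)
  have hL : ∀ x, L x = ∑ i, sf x (bw i) • bw i + ∑ i, (-sf (bu i) x) • bu i := fun x => by
    simp [L, sub_eq_add_neg, Finset.sum_neg_distrib]
  have hiso : ∀ x y, sf (L x) (L y) = sf x y := by
    intro x y
    conv_rhs => rw [hexp x, hexp y]
    simp only [hL, sf_add_left, sf_add_right, hsum, hsum', tuu, tww, huw, hwu, mul_zero, Finset.sum_const_zero,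
      zero_add, add_zero, mul_ite, mul_one, mul_neg, neg_mul, Finset.sum_neg_distrib, Finset.sum_ite_eq,
      Finset.sum_ite_eq', Finset.mem_univ, if_true, neg_neg]
  have hinj : Function.Injective L := by
    rw [injective_iff_map_eq_zero]
    intro x hx
    by_contra h0
    obtain ⟨y, hy⟩ := sf_exists x h0
    rw [← hiso, hx, sf_zero_left] at hy
    exact zero_ne_one hy
  let g := CfsgLib.Geometry.glEquiv.symm (LinearEquiv.ofInjectiveEndo L hinj)
  have hg : ∀ x, (g : MM) *ᵥ x = L x := fun x => CfsgLib.Geometry.glEquiv_symm_mulVec _ x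
  have hlin : Matrix.toLin' (g : MM) = L := LinearMap.ext fun x => by rw [Matrix.toLin'_apply, hg]
  refine ⟨g, fun x y => ?_, ?_, ?_⟩
  · show sf ((g : MM) *ᵥ x) ((g : MM) *ᵥ y) = sf x y
    rw [hg, hg]; exact hiso x y
  · rw [hlin]
    refine Submodule.eq_of_le_of_finrank_eq ?_
      ((Submodule.equivMapOfInjective L hinj U).finrank_eq.symm.trans (hH.dimU.trans hH.dimW.symm))
    rintro _ ⟨x, hx, rfl⟩
    rw [hL]
    refine W.add_mem (W.sum_mem fun i _ => W.smul_mem _ (c i).2) ?_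
    rw [Finset.sum_eq_zero fun i _ => by rw [hH.tsU _ (b i).2 x hx, neg_zero, zero_smul]]
    exact W.zero_mem
  · rw [hlin]
    refine Submodule.eq_of_le_of_finrank_eq ?_
      ((Submodule.equivMapOfInjective L hinj W).finrank_eq.symm.trans (hH.dimW.trans hH.dimU.symm))
    rintro _ ⟨x, hx, rfl⟩
    rw [hL]
    refine U.add_mem ?_ (U.sum_mem fun i _ => U.smul_mem _ (b i).2)
    rw [Finset.sum_eq_zero fun i _ => by rw [hH.tsW x hx _ (c i).2, zero_smul]]
    exact U.zero_mem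

lemma main [Fintype F] (hm : 3 ≤ m) (hodd : Odd (Fintype.card F)) (D : Fin 2 → Submodule F (Fin m ⊕ Fin m → F))
    (hD : Cfsg.Geo.IsMDecomposition m D) (hts : ∀ i, Cfsg.Geo.IsTotallySingularFor (Cfsg.sympForm m F) (D i)) :
    Cfsg.Geo.IsMaximalIn (Cfsg.spGL m F) (Cfsg.Geo.decompositionStabilizer D ⊓ Cfsg.spGL m F) := by
  classical
  have h2 : (2 : F) ≠ 0 := by
    refine Ring.two_ne_zero fun h => ?_
    have heven := FiniteField.even_card_of_char_two h
    exact absurd (Nat.odd_iff.1 hodd) (by omega)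
  have hsup : D 0 ⊔ D 1 = ⊤ := by
    rw [← hD.iSup_eq_top]
    refine le_antisymm (sup_le (le_iSup D 0) (le_iSup D 1)) (iSup_le fun i => ?_)
    fin_cases i
    · exact le_sup_left
    · exact le_sup_right
  have hH : Halves (D 0) (D 1) :=
    ⟨hts 0, hts 1, hsup, hD.indep.pairwiseDisjoint (by decide), hD.finrank_eq 0, hD.finrank_eq 1⟩
  obtain ⟨S, hS, hS0, hS1⟩ := exists_swap hH
  have hSH : S ∈ Cfsg.Geo.decompositionStabilizer D ⊓ Cfsg.spGL m F := by
    refine ⟨⟨Equiv.swap 0 1, fun i => ?_⟩, hS⟩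
    fin_cases i
    · simpa using hS0
    · simpa using hS1
  constructor
  · refine lt_of_le_of_ne inf_le_right fun heq => ?_
    obtain ⟨u, hu, hu0⟩ := (D 0).exists_mem_ne_zero_of_ne_bot (fun h => by
      have := hH.dimU; rw [h, finrank_bot] at this; omega)
    obtain ⟨y, hy⟩ := sf_exists u hu0
    obtain ⟨p, hp, w, hw, rfl⟩ := hH.split y
    rw [sf_add_right, hH.tsU u hu p hp, zero_add] at hy
    have hmem : stv 1 (u + w) ∈ Cfsg.Geo.decompositionStabilizer D ⊓ Cfsg.spGL m F := by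
      rw [heq]; exact stv_mem_spGL _ _
    obtain ⟨σ, hσ⟩ := hmem.1
    have h1 : (stv 1 (u + w) : MM) *ᵥ u ∈ D (σ 0) := hσ 0 ▸ ⟨u, hu, Matrix.toLin'_apply _ _⟩
    rw [stv_mulVec, sf_add_right, sf_alt, zero_add, hy, one_mul, one_smul, ← add_assoc] at h1
    have hw0 : w ≠ 0 := fun h => by rw [h, sf_zero_right] at hy; exact zero_ne_one hy
    rcases (by decide : ∀ i : Fin 2, i = 0 ∨ i = 1) (σ 0) with h | h <;> rw [h] at h1
    · exact hw0 (Submodule.disjoint_def.1 hH.dis w (((D 0).add_mem_iff_right ((D 0).add_mem hu hu)).1 h1) hw)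
    · have h' := Submodule.disjoint_def.1 hH.dis _ ((D 0).add_mem hu hu) (((D 1).add_mem_iff_left hw).1 h1)
      rw [← two_smul F u] at h'
      exact hu0 ((smul_eq_zero.1 h').resolve_left h2)
  intro M hHM hMS
  refine or_iff_not_imp_left.2 fun hne => spGL_eq_of_full hMS ?_
  have hpres : ∀ u ∈ D 0, ∀ w ∈ D 1, sf u w = 0 → pairElt u w ∈ M := by
    intro u hu w hw huw
    refine hHM ⟨⟨1, fun i => ?_⟩, pairElt_mem u w⟩
    refine Submodule.eq_of_le_of_finrank_eq ?_ ?_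
    · rintro _ ⟨x, hx, rfl⟩
      rw [Matrix.toLin'_apply, pairElt_mulVec huw]
      fin_cases i
      · change x ∈ D 0 at hx
        show x + _ + _ ∈ D 0
        rw [hH.tsU x hx u hu, zero_smul, add_zero]
        exact (D 0).add_mem hx ((D 0).smul_mem _ hu)
      · change x ∈ D 1 at hx
        show x + _ + _ ∈ D 1
        rw [hH.tsW x hx w hw, zero_smul, add_zero]
        exact (D 1).add_mem hx ((D 1).smul_mem _ hw)
    · exact (Submodule.equivMapOfInjective _ (fun a b h => mulVec_inj (pairElt u w) (by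
        simpa [Matrix.toLin'_apply] using h)) _).finrank_eq.symm
  obtain ⟨g, hgM, hg⟩ : ∃ g ∈ M, g ∉ Cfsg.Geo.decompositionStabilizer D := by
    by_contra hcon
    push Not at hcon
    exact hne (le_antisymm (fun g hg => ⟨hcon g hg, hMS hg⟩) hHM)
  -- a vector of one half whose image is in mixed position
  obtain ⟨i, v, hv, hv0', hv1⟩ : ∃ i, ∃ v ∈ D i, (g : MM) *ᵥ v ∉ D 0 ∧ (g : MM) *ᵥ v ∉ D 1 := by
    by_contra hcon
    push Not at hcon
    have hone : ∀ i, ∃ j, (D i).map (Matrix.toLin' (g : MM)) = D j := by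
      intro i
      have hr : Module.finrank F ((D i).map (Matrix.toLin' (g : MM))) = m :=
        (Submodule.equivMapOfInjective _ (fun a b h => mulVec_inj g (by simpa [Matrix.toLin'_apply] using h))
          _).finrank_eq.symm.trans (hD.finrank_eq i)
      suffices h : ∃ j, (D i).map (Matrix.toLin' (g : MM)) ≤ D j by
        obtain ⟨j, hj⟩ := h
        exact ⟨j, Submodule.eq_of_le_of_finrank_eq hj (hr.trans (hD.finrank_eq j).symm)⟩
      have himg : ∀ z ∈ (D i).map (Matrix.toLin' (g : MM)), z ∈ D 0 ∨ z ∈ D 1 := by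
        rintro _ ⟨x, hx, rfl⟩
        rw [Matrix.toLin'_apply]
        exact or_iff_not_imp_left.2 (hcon i x hx)
      by_contra hh
      push Not at hh
      obtain ⟨a, ha, ha0⟩ := SetLike.not_le_iff_exists.1 (hh 0)
      obtain ⟨b, hb, hb1⟩ := SetLike.not_le_iff_exists.1 (hh 1)
      rcases himg (a + b) (add_mem ha hb) with h | h
      · exact ha0 (((D 0).add_mem_iff_left ((himg b hb).resolve_right hb1)).1 h)
      · exact hb1 (((D 1).add_mem_iff_right ((himg a ha).resolve_left ha0)).1 h)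
    choose σ hσ using hone
    have hinj : Function.Injective σ := by
      intro i j hij
      by_contra hne'
      have h1 : (D i).map (Matrix.toLin' (g : MM)) = (D j).map (Matrix.toLin' (g : MM)) := by rw [hσ, hσ, hij]
      have h2' := Submodule.map_injective_of_injective (f := Matrix.toLin' (g : MM))
        (fun a b h => mulVec_inj g (by simpa [Matrix.toLin'_apply] using h)) h1
      have h3 := hD.indep.pairwiseDisjoint hne'
      simp only [Function.onFun, h2', disjoint_self] at h3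
      have := hD.finrank_eq j
      rw [h3, finrank_bot] at this
      omega
    exact hg ⟨Equiv.ofBijective σ (Finite.injective_iff_bijective.1 hinj), hσ⟩
  obtain ⟨v', hv', hvv', hv'0, hxM⟩ : ∃ v', v' ≠ 0 ∧ sf v v' = 0 ∧ (g : MM) *ᵥ v' ≠ 0 ∧
      pairElt ((g : MM) *ᵥ v) ((g : MM) *ᵥ v') ∈ M := by
    obtain ⟨w, hw, hvw, hw0⟩ : ∃ w ∈ D (Equiv.swap 0 1 i), sf v w = 0 ∧ w ≠ 0 := by
      by_contra hcon
      push Not at hcon
      let T : D (Equiv.swap 0 1 i) →ₗ[F] F := (CfsgLib.Geometry.sympBilin m F v).comp (Submodule.subtype _)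
      have hT : LinearMap.ker T = ⊥ := (Submodule.eq_bot_iff _).2 fun w hw => Subtype.ext (hcon w w.2 hw)
      have h1 := T.finrank_range_add_finrank_ker
      have h3 := (LinearMap.range T).finrank_le
      rw [hT, finrank_bot, hD.finrank_eq] at h1
      simp at h3
      omega
    refine ⟨w, hw0, hvw, fun h => hw0 (mulVec_inj g (by simpa using h)), ?_⟩
    rw [← pairElt_conj (hMS hgM)]
    refine mul_mem (mul_mem hgM ?_) (inv_mem hgM)
    fin_cases i
    · exact hpres v hv w (by simpa using hw) hvw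
    · have hwv : sf w v = 0 := by rw [sf_skew, hvw, neg_zero]
      rw [← pairElt_symm hwv]
      exact hpres w (by simpa using hw) v hv hwv
  have hcd : sf ((g : MM) *ᵥ v) ((g : MM) *ᵥ v') = 0 := by rw [(mem_spGL_iff g).1 (hMS hgM), hvv']
  obtain ⟨a₁, ha₁, a₂, ha₂, hc⟩ := hH.split ((g : MM) *ᵥ v)
  obtain ⟨b₁, hb₁, b₂, hb₂, hd⟩ := hH.split ((g : MM) *ᵥ v')
  have ha₁0 : a₁ ≠ 0 := fun h => hv1 (by rw [← hc, h, zero_add]; exact ha₂)
  have ha₂0 : a₂ ≠ 0 := fun h => hv0' (by rw [← hc, h, add_zero]; exact ha₁)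
  rw [← hc, ← hd] at hxM hcd
  have hP : HasPairs M (D 0) (D 1) := hpres
  have hfull : (∀ u ∈ D 0, SpFull M u) ∨ ∀ u ∈ D 1, SpFull M u := by
    by_cases hb₁0 : b₁ = 0
    · refine (full_of_mixed h2 hm hMS hH.symm hP.symm ha₂ ha₂0 ha₁ hb₂ (fun h => hv'0 ?_) hb₁
        (by rwa [add_comm a₂, add_comm b₂]) (by rwa [add_comm a₂, add_comm b₂])).symm
      rw [← hd, hb₁0, h, add_zero]
    · exact full_of_mixed h2 hm hMS hH hP ha₁ ha₁0 ha₂ hb₁ hb₁0 hb₂ hcd hxM
  have hSM := hHM hSH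
  have hU : (∀ u ∈ D 0, SpFull M u) ∧ ∀ u ∈ D 1, SpFull M u := by
    rcases hfull with h | h
    · refine ⟨h, fun u hu => ?_⟩
      rw [← hS0] at hu
      obtain ⟨z, hz, rfl⟩ := hu
      rw [Matrix.toLin'_apply]; exact (h z hz).map hMS hSM
    · refine ⟨fun u hu => ?_, h⟩
      rw [← hS1] at hu
      obtain ⟨z, hz, rfl⟩ := hu
      rw [Matrix.toLin'_apply]; exact (h z hz).map hMS hSM
  intro x
  obtain ⟨a, ha, b, hb, rfl⟩ := hH.split x
  have base : ∀ a ∈ D 0, ∀ b ∈ D 1, sf a b ≠ 0 → SpFull M (a + b) := fun a ha b hb hab => by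
    simpa using SpFull.move hMS (hU.2 b hb) (hU.1 a ha) hab 1
  by_cases hab : sf a b ≠ 0
  · exact base a ha b hb hab
  push Not at hab
  rcases eq_or_ne a 0 with rfl | ha0
  · simpa using hU.2 b hb
  obtain ⟨y, hy⟩ := sf_exists a ha0
  obtain ⟨p, hp, b₀, hb₀, rfl⟩ := hH.split y
  rw [sf_add_right, hH.tsU a ha p hp, zero_add] at hy
  have h1 := base a ha (b - b₀) ((D 1).sub_mem hb hb₀) (by
    rw [sf_sub_right, hab, hy, zero_sub]; exact neg_ne_zero.2 one_ne_zero)
  have h3 : sf (a + (b - b₀)) b₀ ≠ 0 := by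
    rw [sf_add_left, hH.tsW _ ((D 1).sub_mem hb hb₀) b₀ hb₀, add_zero, hy]; exact one_ne_zero
  simpa [add_assoc] using SpFull.move hMS (hU.2 b₀ hb₀) h1 h3 1

end

/-- For a finite field F of odd order and m ≥ 7, let D be a decomposition of F^(2m) into two complementary subspaces of dimension m on each of which the standard alternating form vanishes identically. Then the elements of Sp_2m(F) preserving or interchanging the two subspaces form a maximal subgroup of Sp_2m(F). -/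
theorem result {F : Type*} [Field F] [Fintype F] (m : ℕ) (hm : 7 ≤ m) (hodd : Odd (Fintype.card F)) (D : Fin 2 → Submodule F (Fin m ⊕ Fin m → F)) (hD : Cfsg.Geo.IsMDecomposition m D) (hts : ∀ i, Cfsg.Geo.IsTotallySingularFor (Cfsg.sympForm m F) (D i)) : Cfsg.Geo.IsMaximalIn (Cfsg.spGL m F) (Cfsg.Geo.decompositionStabilizer D ⊓ Cfsg.spGL m F) := by
  exact main (by omega) hodd D hD hts

end Cfsg.Agent.S5649
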