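import Cfsg.Statements.S5652
import Cfsg.Agent.Lib.Maximal.SpTv

set_option autoImplicit false
open Cfsg

namespace Cfsg.Agent.S5652

section
open scoped Matrix
open CfsgLib.Maximal

variable {m : ℕ} {F : Type*} [Field F] {Q : (Fin m ⊕ Fin m → F) → F}

local notation "sf" => Cfsg.sympForm m F
local notation "B" => CfsgLib.Geometry.sympBilin m F

lemma Q_add (hpol : ∀ u v, QuadraticMap.polar Q u v = sf u v) (u v : Fin m ⊕ Fin m → F) :
    Q (u + v) = Q u + Q v + sf u v := by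
  have := hpol u v
  rw [QuadraticMap.polar] at this
  linear_combination this

variable [Fintype F] [CharP F 2]

lemma exists_sqrt (a : F) : ∃ s : F, s * s = a := by
  haveI : ExpChar F 2 := ExpChar.prime Nat.prime_two
  obtain ⟨s, hs⟩ := FiniteField.isSquare_of_char_two (ringChar.eq F 2 ▸ rfl) a
  exact ⟨s, hs.symm⟩

/-- The standing hypotheses on the quadratic form. -/
structure Ctx (Q : (Fin m ⊕ Fin m → F) → F) : Prop where
  smul : ∀ (c : F) v, Q (c • v) = c ^ 2 * Q v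
  pol : ∀ u v, QuadraticMap.polar Q u v = sf u v
  dim : 3 ≤ m

/-- Any value of `Q` occurs on a common perp which is not totally singular. -/
lemma perp_value_or (h : Ctx Q) {n : ℕ} (hn : n ≤ m) (v : Fin n → Fin m ⊕ Fin m → F) (a : F) :
    (∃ z, (∀ i, sf (v i) z = 0) ∧ Q z = a) ∨ n = m ∧ ∀ i, Q (v i) = 0 := by
  let L : (Fin m ⊕ Fin m → F) →ₗ[F] (Fin n → F) := LinearMap.pi fun i => B (v i)
  have hmem : ∀ z, z ∈ LinearMap.ker L ↔ ∀ i, sf (v i) z = 0 := fun z => by simp [L, funext_iff]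
  by_cases hne : ∃ z ∈ LinearMap.ker L, Q z ≠ 0
  · obtain ⟨z, hz, hQ⟩ := hne
    obtain ⟨s, hs⟩ := exists_sqrt (a / Q z)
    refine Or.inl ⟨s • z, fun i => by rw [sf_smul_right, (hmem z).1 hz i, mul_zero], ?_⟩
    rw [h.smul, sq, hs, div_mul_cancel₀ _ hQ]
  have hcon := hne
  push Not at hcon
  have hts : LinearMap.ker L ≤ LinearMap.BilinForm.orthogonal B (LinearMap.ker L) := fun z hz y hy => by
    show sf y z = 0
    have := Q_add h.pol y z
    rw [hcon _ (add_mem hy hz), hcon y hy, hcon z hz] at this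
    simpa using this.symm
  have h1 := Submodule.finrank_mono hts
  have h4 : Module.finrank F (LinearMap.BilinForm.orthogonal B (LinearMap.ker L)) =
      Module.finrank F (Fin m ⊕ Fin m → F) - Module.finrank F (LinearMap.ker L) :=
    LinearMap.BilinForm.finrank_orthogonal (CfsgLib.Geometry.sympBilin_nondegenerate m F) _
  have h2 := L.finrank_range_add_finrank_ker
  have h3 := (LinearMap.range L).finrank_le
  simp at h1 h2 h3 h4
  have hnm : n = m := by omega
  have heq := Submodule.eq_of_le_of_finrank_le hts (by omega)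
  refine Or.inr ⟨hnm, fun i => hcon _ ?_⟩
  rw [heq]
  intro z hz
  show sf z (v i) = 0
  rw [sf_skew, (hmem z).1 hz i, neg_zero]

/-- Any value of `Q` occurs on the common perp of two vectors. -/
lemma exists_perp_value (h : Ctx Q) (v : Fin 2 → Fin m ⊕ Fin m → F) (a : F) :
    ∃ z, (∀ i, sf (v i) z = 0) ∧ Q z = a :=
  (perp_value_or h (by have := h.dim; omega) v a).resolve_right fun h' => by have := h.dim; omega

lemma ne_zero_of_Q (h : Ctx Q) {v : Fin m ⊕ Fin m → F} (hv : Q v ≠ 0) : v ≠ 0 := fun h0 => by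
  rw [h0, show (0 : Fin m ⊕ Fin m → F) = (0 : F) • 0 by simp, h.smul] at hv
  simp at hv

lemma Q_stv (h : Ctx Q) (w x : Fin m ⊕ Fin m → F) :
    Q ((stv 1 w : Matrix (Fin m ⊕ Fin m) (Fin m ⊕ Fin m) F) *ᵥ x) = Q x + sf x w ^ 2 * (Q w + 1) := by
  rw [stv_mulVec, Q_add h.pol, h.smul, sf_smul_right]
  ring

lemma stv_mem_H (h : Ctx Q) {w : Fin m ⊕ Fin m → F} (hw : Q w = 1) :
    stv 1 w ∈ Cfsg.Geo.quadSimilarityGroup Q ⊓ Cfsg.spGL m F := by
  refine ⟨⟨1, fun x => ?_⟩, stv_mem_spGL _ _⟩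
  rw [Q_stv h, hw, Units.val_one, one_mul, CharTwo.add_self_eq_zero, mul_zero, add_zero]

lemma proper (h : Ctx Q) : Cfsg.Geo.quadSimilarityGroup Q ⊓ Cfsg.spGL m F < Cfsg.spGL m F := by
  refine lt_of_le_of_ne inf_le_right fun heq => ?_
  obtain ⟨z₁, -, h1⟩ := exists_perp_value h (fun _ => 0) 1
  obtain ⟨y, hy⟩ := sf_exists z₁ (ne_zero_of_Q h (h1 ▸ one_ne_zero))
  obtain ⟨z₂, hz2, h2⟩ := exists_perp_value h ![z₁, y] 1
  set w := z₁ + z₂ with hwdef
  have hw : Q w = 0 := by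
    rw [hwdef, Q_add h.pol, h1, h2, show sf z₁ z₂ = 0 from hz2 0, add_zero, CharTwo.add_self_eq_zero]
  have hwy : sf w y = 1 := by
    rw [hwdef, sf_add_left, hy, sf_skew z₂ y, show sf y z₂ = 0 from hz2 1, neg_zero, add_zero]
  have hmem : stv 1 w ∈ Cfsg.Geo.quadSimilarityGroup Q ⊓ Cfsg.spGL m F := by rw [heq]; exact stv_mem_spGL _ _
  obtain ⟨k, hk⟩ := hmem.1
  obtain ⟨x, hx, hQx⟩ := exists_perp_value h (fun _ => w) 1
  have hk1 := hk x
  rw [Q_stv h, hQx, sf_skew x w, hx 0, mul_one] at hk1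
  have hk' : (k : F) = 1 := by linear_combination -hk1
  have hy' := hk y
  rw [Q_stv h, hw, hk', one_mul, sf_skew y w, hwy] at hy'
  exact one_ne_zero (by linear_combination hy' : (1 : F) = 0)

variable {M : Subgroup (Matrix.GeneralLinearGroup (Fin m ⊕ Fin m) F)}

lemma closed (hMS : M ≤ Cfsg.spGL m F) {v w : Fin m ⊕ Fin m → F} (hv : stv 1 v ∈ M) (hw : stv 1 w ∈ M) :
    stv 1 (w + sf w v • v) ∈ M := by
  have := mul_mem (mul_mem hv hw) (inv_mem hv)
  rw [stv_conj (hMS hv), stv_mulVec, one_mul] at this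
  exact this

/-- Within a level set, membership spreads to vectors not orthogonal. -/
lemma level_step (h : Ctx Q) (hHM : Cfsg.Geo.quadSimilarityGroup Q ⊓ Cfsg.spGL m F ≤ M) (hMS : M ≤ Cfsg.spGL m F)
    {v v' : Fin m ⊕ Fin m → F} (hv : stv 1 v ∈ M) (hQ : Q v = Q v') (hf : sf v v' ≠ 0) : stv 1 v' ∈ M := by
  obtain ⟨s, hs⟩ := exists_sqrt (sf v v')
  have hs0 : s ≠ 0 := fun h0 => hf (by rw [← hs, h0, mul_zero])
  have hw : Q (s⁻¹ • (v + v')) = 1 := by
    rw [h.smul, Q_add h.pol, hQ, CharTwo.add_self_eq_zero, zero_add, ← hs]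
    field_simp
  have h1 := closed hMS (hHM (stv_mem_H h hw)) hv
  rw [sf_smul_right, sf_add_right, sf_alt, zero_add, ← hs, inv_mul_cancel_left₀ hs0, smul_inv_smul₀ hs0,
    ← add_assoc] at h1
  rwa [show v + v = 0 from funext fun i => CharTwo.add_self_eq_zero _, zero_add] at h1

lemma level (h : Ctx Q) (hHM : Cfsg.Geo.quadSimilarityGroup Q ⊓ Cfsg.spGL m F ≤ M) (hMS : M ≤ Cfsg.spGL m F)
    {v v' : Fin m ⊕ Fin m → F} (hv0 : v ≠ 0) (hv0' : v' ≠ 0) (hv : stv 1 v ∈ M) (hQ : Q v = Q v') :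
    stv 1 v' ∈ M := by
  obtain ⟨y, hy, hy'⟩ := sf_exists₂ v v' hv0 hv0'
  rcases perp_value_or h h.dim ![v, v', y] (Q v + Q y) with ⟨z, hz, hQz⟩ | ⟨-, hall⟩
  swap
  · have ev : Q v = 0 := hall 0
    have ey : Q y = 0 := hall 2
    refine level_step h hHM hMS (level_step h hHM hMS hv (ev.trans ey.symm) hy) (ey.trans (ev.symm.trans hQ)) ?_
    rwa [sf_skew, neg_ne_zero]
  have e1 : sf v (y + z) ≠ 0 := by rwa [sf_add_right, show sf v z = 0 from hz 0, add_zero]
  have e2 : sf (y + z) v' ≠ 0 := by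
    rwa [sf_skew, neg_ne_zero, sf_add_right, show sf v' z = 0 from hz 1, add_zero]
  have e3 : Q (y + z) = Q v := by
    rw [Q_add h.pol, hQz, show sf y z = 0 from hz 2]
    linear_combination CharTwo.add_self_eq_zero (Q y)
  exact level_step h hHM hMS (level_step h hHM hMS hv e3.symm e1) (e3.trans hQ) e2

lemma all_stv (h : Ctx Q) (hHM : Cfsg.Geo.quadSimilarityGroup Q ⊓ Cfsg.spGL m F ≤ M) (hMS : M ≤ Cfsg.spGL m F)
    {v : Fin m ⊕ Fin m → F} (hv0 : v ≠ 0) (hv : stv 1 v ∈ M) (ha : Q v ≠ 1) (k : F) (u : Fin m ⊕ Fin m → F) :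
    stv k u ∈ M := by
  have key : ∀ u, stv 1 u ∈ M := by
    intro u
    rcases eq_or_ne u 0 with rfl | hu
    · convert one_mem M using 1
      refine Units.ext (CfsgLib.Geometry.matrix_eq_of_mulVec fun x => ?_)
      simp [stv_mulVec]
    have hne : Q v + 1 ≠ 0 := fun h0 => ha (CharTwo.add_eq_zero.1 h0)
    obtain ⟨t, ht⟩ := exists_sqrt ((1 + Q u) / (Q v + 1))
    obtain ⟨y, hy⟩ := sf_exists v hv0
    obtain ⟨z, hz, hQz⟩ := exists_perp_value h ![v, y] (1 + t ^ 2 * Q y)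
    set w := t • y + z with hwdef
    have hw : Q w = 1 := by
      rw [hwdef, Q_add h.pol, h.smul, hQz, sf_smul_left, show sf y z = 0 from hz 1, mul_zero, add_zero]
      linear_combination CharTwo.add_self_eq_zero (t ^ 2 * Q y)
    have hwv : sf w v = t := by
      rw [hwdef, sf_add_left, sf_smul_left, sf_skew y v, hy, sf_skew z v, show sf v z = 0 from hz 0,
        CharTwo.neg_eq, neg_zero, mul_one, add_zero]
    have hx : stv 1 (w + t • v) ∈ M := by
      rw [← hwv]; exact closed hMS hv (hHM (stv_mem_H h hw))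
    have hQx : Q (w + t • v) = Q u := by
      rw [Q_add h.pol, hw, h.smul, sf_smul_right, hwv, sq, ht]
      field_simp
      linear_combination (1 + Q v) * (CharTwo.add_self_eq_zero (1 : F))
    have hx0 : w + t • v ≠ 0 := by
      intro h0
      have h1 := congrArg (fun z => sf z v) h0
      simp only [sf_add_left, sf_smul_left, sf_alt, mul_zero, add_zero, sf_zero_left, hwv] at h1
      rw [h1, zero_smul, add_zero] at h0
      exact ne_zero_of_Q h (hw ▸ one_ne_zero) h0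
    exact level h hHM hMS hx0 hu hx hQx
  obtain ⟨c, hc⟩ := exists_sqrt k
  have := key (c • u)
  rwa [stv_scale, one_mul, hc] at this

lemma main (h : Ctx Q) :
    Cfsg.Geo.IsMaximalIn (Cfsg.spGL m F) (Cfsg.Geo.quadSimilarityGroup Q ⊓ Cfsg.spGL m F) := by
  refine ⟨proper h, fun M hHM hMS => or_iff_not_imp_left.2 fun hne => le_antisymm hMS ?_⟩
  obtain ⟨g, hgM, hg⟩ : ∃ g ∈ M, g ∉ Cfsg.Geo.quadSimilarityGroup Q := by
    by_contra hcon
    push Not at hcon
    exact hne (le_antisymm (fun g hg => ⟨hcon g hg, hMS hg⟩) hHM)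
  suffices hex : ∃ w, Q w = 1 ∧ Q ((g : Matrix (Fin m ⊕ Fin m) (Fin m ⊕ Fin m) F) *ᵥ w) ≠ 1 by
    obtain ⟨w, hw, hgw⟩ := hex
    have hv : stv 1 ((g : Matrix (Fin m ⊕ Fin m) (Fin m ⊕ Fin m) F) *ᵥ w) ∈ M := by
      rw [← stv_conj (hMS hgM)]
      exact mul_mem (mul_mem hgM (hHM (stv_mem_H h hw))) (inv_mem hgM)
    have hv0 : (g : Matrix (Fin m ⊕ Fin m) (Fin m ⊕ Fin m) F) *ᵥ w ≠ 0 := fun h0 =>
      ne_zero_of_Q h (hw ▸ one_ne_zero) (mulVec_inj g (by simpa using h0))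
    exact spGL_le_of_stv (all_stv h hHM hMS hv0 hv hgw)
  by_contra hcon
  push Not at hcon
  refine hg ⟨1, fun x => ?_⟩
  rw [Units.val_one, one_mul]
  have hpos : ∀ x, Q x ≠ 0 → Q ((g : Matrix (Fin m ⊕ Fin m) (Fin m ⊕ Fin m) F) *ᵥ x) = Q x := by
    intro x hx
    obtain ⟨s, hs⟩ := exists_sqrt (Q x)
    have hs0 : s ≠ 0 := fun h0 => hx (by rw [← hs, h0, mul_zero])
    have h1 := hcon (s⁻¹ • x) (by rw [h.smul, ← hs]; field_simp)
    rw [Matrix.mulVec_smul, h.smul, inv_pow, inv_mul_eq_iff_eq_mul₀ (pow_ne_zero _ hs0), mul_one, sq, hs] at h1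
    exact h1
  by_cases hx : Q x = 0
  · by_contra hgx
    classical
    let S : Set (Fin m ⊕ Fin m → F) := {y | Q y ≠ 0}
    have hmaps : Set.MapsTo ((g : Matrix (Fin m ⊕ Fin m) (Fin m ⊕ Fin m) F) *ᵥ ·) S S := fun y hy => by
      show Q _ ≠ 0
      rw [hpos y hy]; exact hy
    have hsurj := (S.toFinite.injOn_iff_bijOn_of_mapsTo hmaps).1 ((mulVec_inj g).injOn)
    obtain ⟨y, hy, hyx⟩ := hsurj.surjOn (show Q _ ≠ 0 from fun h0 => hgx (h0.trans hx.symm))
    exact hy (by rw [mulVec_inj g hyx]; exact hx)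
  · exact hpos x hx

end

/-- For a finite field F of characteristic two and m ≥ 7, let Q be a non-degenerate quadratic form on F^(2m) whose polar form is the standard alternating form. Then the elements of Sp_2m(F) that are similarities of Q (they are exactly the isometries of Q) form a maximal subgroup of Sp_2m(F). -/
theorem result {F : Type*} [Field F] [Fintype F] (m : ℕ) (hm : 7 ≤ m) (heven : ¬ Odd (Fintype.card F)) (Q : (Fin m ⊕ Fin m → F) → F) (hQ : Cfsg.Geo.IsNondegenerateQuadraticForm Q) (hpol : ∀ u v, QuadraticMap.polar Q u v = Cfsg.sympForm m F u v) : Cfsg.Geo.IsMaximalIn (Cfsg.spGL m F) (Cfsg.Geo.quadSimilarityGroup Q ⊓ Cfsg.spGL m F) := by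
  have hchar : ringChar F = 2 := by
    by_contra hne
    exact heven (Nat.odd_iff.2 (FiniteField.odd_card_of_char_ne_two hne))
  haveI : CharP F 2 := ringChar.of_eq hchar
  exact main ⟨hQ.smul, hpol, by omega⟩

end Cfsg.Agent.S5652
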