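import Cfsg.Statements.S5653
import Cfsg.Agent.Lib.Maximal.HermTv

set_option autoImplicit false
open Cfsg

namespace Cfsg.Agent.S5653

section
set_option maxHeartbeats 800000
open scoped Matrix
open CfsgLib.Maximal

variable {F : Type*} [Field F] {n q : ℕ} {τ : F ≃+* F}

local notation "hh" => Cfsg.hermForm n F q
local notation "MM" => Matrix (Fin n) (Fin n) F

lemma stab_of_perp (hf : Cfsg.Geo.IsUnitaryForm τ hh) {W : Submodule F (Fin n → F)} {v : Fin n → F}
    (hv : ∀ w ∈ W, hh w v = 0) (hvv : hh v v = 0) {k : F} (hk : τ k = -k) :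
    tv (k • v) (fvec hh v) (un_tv_dot hf hvv k) ∈ Cfsg.Geo.subspaceStabilizer W ⊓ suGL n F q :=
  ⟨tv_mem_stab_of_ann W _ _ _ fun w hw => by rw [un_dot hf]; exact hv w hw, utv_mem_su hf hvv hk⟩

lemma stab_siegel (hf : Cfsg.Geo.IsUnitaryForm τ hh) {W : Submodule F (Fin n → F)}
    (hW : Cfsg.Geo.IsTotallySingularFor hh W) {d w : Fin n → F} (hdW : d ∈ W) (hwd : hh w d = 0) {c : F}
    (hc : c + τ c + hh w w = 0) :
    unSiegel hf (hW d hdW d hdW) hwd c ∈ Cfsg.Geo.subspaceStabilizer W ⊓ suGL n F q := by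
  refine ⟨(mem_subspaceStabilizer_iff W _).2 fun v => ?_, siegel_mem_su hf _ hwd hc⟩
  rw [unSiegel_mulVec]
  constructor
  · intro hv
    rw [hW v hv d hdW, zero_smul, add_zero]
    exact W.add_mem hv (W.smul_mem _ hdW)
  · intro hv
    have h0 := hW _ hv d hdW
    rw [hf.add_left, hf.add_left, hf.smul_left, hf.smul_left, hW d hdW d hdW, hwd, mul_zero, mul_zero, add_zero,
      add_zero] at h0
    rw [h0, zero_smul, add_zero] at hv
    exact (W.add_mem_iff_left (W.smul_mem _ hdW)).1 hv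

variable [Fintype F] {M : Subgroup (Matrix.GeneralLinearGroup (Fin n) F)}

lemma all_full (hf : Cfsg.Geo.IsUnitaryForm τ hh) (hn : 6 ≤ Fintype.card (Fin n)) (hMS : M ≤ suGL n F q)
    {W : Submodule F (Fin n → F)} (hW : Cfsg.Geo.IsTotallySingularFor hh W)
    (hHM : Cfsg.Geo.subspaceStabilizer W ⊓ suGL n F q ≤ M) {u d : Fin n → F} (hu : UFull τ q M u)
    (huu : hh u u = 0) (hdW : d ∈ W) (hud : hh u d ≠ 0) {x : Fin n → F} (hxx : hh x x = 0) : UFull τ q M x := by
  have hdd := hW d hdW d hdW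
  have same : ∀ x, hh x x = 0 → hh x d = hh u d → UFull τ q M x := by
    intro x hxx hxd
    set d' := (τ (hh u d))⁻¹ • d with hd'
    have hd'W : d' ∈ W := W.smul_mem _ hdW
    have hud' : hh u d' = 1 := by
      rw [hd', un_smul_right hf, map_inv₀, hf.involutive, inv_mul_cancel₀ hud]
    have hxd' : hh x d' = 1 := by
      rw [hd', un_smul_right hf, hxd, map_inv₀, hf.involutive, inv_mul_cancel₀ hud]
    have hwd : hh (x - u) d' = 0 := by
      rw [sub_eq_add_neg, ← neg_one_smul F u, hf.add_left, hf.smul_left, hxd', hud']; ring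
    have hc : hh u (x - u) + τ (hh u (x - u)) + hh (x - u) (x - u) = 0 := by
      rw [← hf.herm (x - u) u, sub_eq_add_neg x u, ← neg_one_smul F u]
      simp only [hf.add_left, un_add_right hf, hf.smul_left, un_smul_right hf, hxx, huu, map_neg, map_one]
      ring
    have := hu.map hf hMS (hHM (stab_siegel hf hW hd'W hwd hc))
    rw [unSiegel_mulVec, hud', one_smul, mul_one, sub_self, zero_smul, add_zero, add_sub_cancel] at this
    exact this
  have other : ∀ x, hh x x = 0 → hh x d ≠ 0 → UFull τ q M x := by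
    intro x hxx hxd
    set r := hh u d / hh x d
    have hr : r ≠ 0 := div_ne_zero hud hxd
    have h2 := (same (r • x) (by rw [hf.smul_left, un_smul_right hf, hxx, mul_zero, mul_zero])
      (by rw [hf.smul_left]; exact div_mul_cancel₀ _ hxd)).smul hf r⁻¹
    rwa [inv_smul_smul₀ hr] at h2
  by_cases hxd : hh x d ≠ 0
  · exact other x hxx hxd
  push Not at hxd
  rcases eq_or_ne x 0 with rfl | hx0
  · intro k _; exact has_of_zero (Or.inl (smul_zero k))
  have hd0 : d ≠ 0 := fun h => hud (by rw [h, un_zero_right hf])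
  obtain ⟨e, hee, hex, hed⟩ := un_supply₂' hf hn hx0 hd0
  obtain ⟨c, hc0, hy⟩ := un_iso_comb hf hxx hee
  have hyd : hh (x + c • e) d ≠ 0 := by
    rw [hf.add_left, hf.smul_left, hxd, zero_add]; exact mul_ne_zero hc0 hed
  have hye : hh (x + c • e) e ≠ 0 := by
    rw [hf.add_left, hf.smul_left, hee, mul_zero, add_zero, hf.herm]
    exact fun h => hex (τ.injective (by rw [h, map_zero]))
  have hback : x + c • e + (-c) • e = x := by module
  rw [← hback]
  exact UFull.move hf hMS (other _ hy hyd) (other e hee hed) hy hee hye (by rw [hback, hxx])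

lemma proper (hf : Cfsg.Geo.IsUnitaryForm τ hh) (hn : 6 ≤ Fintype.card (Fin n)) {W : Submodule F (Fin n → F)}
    (hW0 : W ≠ ⊥) (hW : Cfsg.Geo.IsTotallySingularFor hh W) :
    Cfsg.Geo.subspaceStabilizer W ⊓ suGL n F q < suGL n F q := by
  refine lt_of_le_of_ne inf_le_right fun heq => ?_
  obtain ⟨w, hw, hw0⟩ := W.exists_mem_ne_zero_of_ne_bot hW0
  obtain ⟨v, hvv, hvw, -⟩ := un_supply₂' hf hn hw0 hw0
  obtain ⟨k, hk0, hk⟩ := un_skew_exists hf
  have hmem : tv (k • v) (fvec hh v) (un_tv_dot hf hvv k) ∈ Cfsg.Geo.subspaceStabilizer W ⊓ suGL n F q := by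
    rw [heq]; exact utv_mem_su hf hvv hk
  have h1 := ((mem_subspaceStabilizer_iff W _).1 hmem.1 w).1 hw
  rw [tv_mulVec, un_dot hf, smul_smul] at h1
  have hne : hh w v ≠ 0 := by
    rw [hf.herm]; exact fun h => hvw (τ.injective (by rw [h, map_zero]))
  have hvW := (W.smul_mem_iff (mul_ne_zero hne hk0)).1 ((W.add_mem_iff_right hw).1 h1)
  exact hvw (hW v hvW w hw)

lemma exists_outside (hf : Cfsg.Geo.IsUnitaryForm τ hh) (hn : 6 ≤ Fintype.card (Fin n)) (hMS : M ≤ suGL n F q)
    {W : Submodule F (Fin n → F)} (hW : Cfsg.Geo.IsTotallySingularFor hh W)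
    (hHM : Cfsg.Geo.subspaceStabilizer W ⊓ suGL n F q ≤ M) {g : Matrix.GeneralLinearGroup (Fin n) F} (hgM : g ∈ M)
    (hg : g ∉ Cfsg.Geo.subspaceStabilizer W) :
    ∃ u d, UFull τ q M u ∧ hh u u = 0 ∧ d ∈ W ∧ hh u d ≠ 0 := by
  classical
  let P : Submodule F (Fin n → F) :=
    { carrier := {v | ∀ w ∈ W, hh w v = 0}
      zero_mem' := fun w _ => un_zero_right hf w
      add_mem' := fun {a b} ha hb w hw => by rw [un_add_right hf, ha w hw, hb w hw, add_zero]
      smul_mem' := fun c a ha w hw => by rw [un_smul_right hf, ha w hw, mul_zero] }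
  have hbase : ∀ v ∈ P, hh v v = 0 → UFull τ q M v := fun v hv hvv k hk =>
    ⟨_, hHM (stab_of_perp hf hv hvv hk)⟩
  have hgu := (mem_GU_iff g).1 (hMS hgM).1
  by_contra hcon
  push Not at hcon
  have hmap : ∀ v ∈ P, hh v v = 0 → (g : MM) *ᵥ v ∈ P := by
    intro v hv hvv w hw
    have h := hcon ((g : MM) *ᵥ v) w ((hbase v hv hvv).map hf hMS hgM) (by rw [hgu, hvv]) hw
    rw [hf.herm, h, map_zero]
  have hWP : W ≤ P := fun w hw z hz => hW z hz w hw
  -- the isotropic vectors of `P` span `P`, unless they all lie in `W`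
  by_cases hsmall : ∀ v ∈ P, hh v v = 0 → v ∈ W
  · refine hg ((mem_subspaceStabilizer_iff W g).2 fun v => ?_)
    have hmapW : ∀ v ∈ W, (g : MM) *ᵥ v ∈ W := fun v hv =>
      hsmall _ (hmap v (hWP hv) (hW v hv v hv)) (by rw [hgu]; exact hW v hv v hv)
    refine ⟨hmapW v, fun hv => ?_⟩
    have hbij := ((W : Set (Fin n → F)).toFinite.injOn_iff_bijOn_of_mapsTo hmapW).1 ((mulVec_inj g).injOn)
    obtain ⟨z, hz, hzv⟩ := hbij.surjOn hv
    rwa [mulVec_inj g hzv] at hz
  push Not at hsmall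
  obtain ⟨u, huP, huu, huW⟩ := hsmall
  obtain ⟨z, hzP, hzu⟩ : ∃ z ∈ P, hh z u ≠ 0 := by
    by_contra hc
    push Not at hc
    obtain ⟨y, hy, hyu⟩ := un_eval₀ hf (fun w : W => (w : Fin n → F)) (x := u) (by
      show u ∉ Submodule.span F (Set.range (Subtype.val : W → Fin n → F))
      rw [Subtype.range_coe, Submodule.span_eq]; exact huW)
    have hyP : y ∈ P := fun w hw => by rw [hf.herm, hy ⟨w, hw⟩, map_zero]
    rw [hc y hyP] at hyu
    exact zero_ne_one hyu
  let S : Submodule F (Fin n → F) := Submodule.span F {v | v ∈ P ∧ hh v v = 0}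
  have huS : u ∈ S := Submodule.subset_span ⟨huP, huu⟩
  have hcase : ∀ y ∈ P, hh y u ≠ 0 → y ∈ S := by
    intro y hy hyu
    obtain ⟨θ, hθ⟩ := CfsgLib.Geometry.exists_trace_one (σ := (τ : F →+* F))
      (fun h => hf.ne_refl (RingEquiv.ext fun a => RingHom.congr_fun h a)) (fun a => hf.involutive a)
    change θ + τ θ = 1 at hθ
    set t := τ (-(θ * hh y y) / hh y u) with ht
    have h0 : hh (y + t • u) (y + t • u) = 0 := by
      have e1 : τ t * hh y u = -(θ * hh y y) := by rw [ht, hf.involutive, div_mul_cancel₀ _ hyu]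
      have e2 : t * hh u y = τ (-(θ * hh y y)) := by
        rw [← e1, map_mul, hf.involutive, ← hf.herm u y]
      simp only [hf.add_left, un_add_right hf, hf.smul_left, un_smul_right hf, huu, mul_zero, add_zero]
      rw [e1, e2, map_neg, map_mul, ← hf.herm y y]
      linear_combination (-hh y y) * hθ
    have hmem : y + t • u ∈ S := Submodule.subset_span ⟨P.add_mem hy (P.smul_mem _ huP), h0⟩
    exact (S.add_mem_iff_left (S.smul_mem _ huS)).1 hmem
  have hPS : P ≤ S := by
    intro y hy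
    by_cases hyu : hh y u ≠ 0
    · exact hcase y hy hyu
    push Not at hyu
    have h1 := hcase (y + z) (P.add_mem hy hzP) (by rwa [hf.add_left, hyu, zero_add])
    exact (S.add_mem_iff_left (hcase z hzP hzu)).1 h1
  have hmapP : ∀ v ∈ P, (g : MM) *ᵥ v ∈ P := by
    intro v hv
    have hle : S ≤ P.comap (Matrix.toLin' (g : MM)) := Submodule.span_le.2 fun w hw => by
      show Matrix.toLin' (g : MM) w ∈ P
      rw [Matrix.toLin'_apply]; exact hmap w hw.1 hw.2
    have := hle (hPS hv)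
    rwa [Submodule.mem_comap, Matrix.toLin'_apply] at this
  have hsurj : ∀ v ∈ P, ∃ z ∈ P, (g : MM) *ᵥ z = v := fun v hv =>
    ((P : Set (Fin n → F)).toFinite.injOn_iff_bijOn_of_mapsTo hmapP).1 ((mulVec_inj g).injOn) |>.surjOn hv
  have hWiff : ∀ w, w ∈ W ↔ ∀ v ∈ P, hh w v = 0 := by
    refine fun w => ⟨fun hw v hv => hv w hw, fun h => ?_⟩
    by_contra hw
    obtain ⟨y, hy, hyw⟩ := un_eval₀ hf (fun a : W => (a : Fin n → F)) (x := w) (by
      show w ∉ Submodule.span F (Set.range (Subtype.val : W → Fin n → F))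
      rw [Subtype.range_coe, Submodule.span_eq]; exact hw)
    have hyP : y ∈ P := fun a ha => by rw [hf.herm, hy ⟨a, ha⟩, map_zero]
    rw [hf.herm, h y hyP, map_zero] at hyw
    exact zero_ne_one hyw
  refine hg ((mem_subspaceStabilizer_iff W g).2 fun v => ?_)
  rw [hWiff, hWiff]
  constructor
  · intro h y hy
    obtain ⟨z, hz, rfl⟩ := hsurj y hy
    rw [hgu]; exact h z hz
  · intro h y hy
    rw [← hgu]; exact h _ (hmapP y hy)

lemma main (hF : Fintype.card F = q ^ 2) (hn : 6 ≤ n) {W : Submodule F (Fin n → F)} (hW0 : W ≠ ⊥)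
    (hW : Cfsg.Geo.IsTotallySingularFor hh W) :
    Cfsg.Geo.IsMaximalIn (suGL n F q) (Cfsg.Geo.subspaceStabilizer W ⊓ suGL n F q) := by
  obtain ⟨τ, -, hf⟩ := exists_hermSigma hF n
  have hn' : 6 ≤ Fintype.card (Fin n) := by rw [Fintype.card_fin]; omega
  refine ⟨proper hf hn' hW0 hW, fun M hHM hMS => or_iff_not_imp_left.2 fun hne => le_antisymm hMS ?_⟩
  obtain ⟨g, hgM, hg⟩ : ∃ g ∈ M, g ∉ Cfsg.Geo.subspaceStabilizer W := by
    by_contra hcon
    push Not at hcon
    exact hne (le_antisymm (fun g hg => ⟨hcon g hg, hMS hg⟩) hHM)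
  obtain ⟨u, d, hu, huu, hdW, hud⟩ := exists_outside hf hn' hMS hW hHM hgM hg
  exact suGL_le_of_full hf hF (by omega) fun x hxx => all_full hf hn' hMS hW hHM hu huu hdW hud hxx

end

/-- Let F be the field with q² elements and n ≥ 13, and let SU_n(q) be the group of matrices of determinant one preserving the standard unitary form Σ u_i v_i^q on F^n (the intersection of the unitary group GU_n with the kernel of the determinant). The elements of SU_n(q) stabilising a non-zero subspace on which the form vanishes identically form a maximal subgroup of SU_n(q). -/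
theorem result {F : Type*} [Field F] [Fintype F] (n q : ℕ) (hF : Fintype.card F = q ^ 2) (hn : 13 ≤ n) (W : Submodule F (Fin n → F)) (hW0 : W ≠ ⊥) (hW : Cfsg.Geo.IsTotallySingularFor (Cfsg.hermForm n F q) W) : Cfsg.Geo.IsMaximalIn (Cfsg.GU n F q ⊓ Cfsg.Geo.specialLinear (Fin n) F) (Cfsg.Geo.subspaceStabilizer W ⊓ (Cfsg.GU n F q ⊓ Cfsg.Geo.specialLinear (Fin n) F)) := by
  exact main hF (by omega) hW0 hW

end Cfsg.Agent.S5653
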