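import Cfsg.Statements.S5654
import Cfsg.Agent.Lib.Maximal.HermTv

set_option autoImplicit false
open Cfsg

namespace Cfsg.Agent.S5654

section
set_option maxHeartbeats 800000
open scoped Matrix
open CfsgLib.Maximal

variable {F : Type*} [Field F] {n q : ℕ} {τ : F ≃+* F}

local notation "hh" => Cfsg.hermForm n F q
local notation "MM" => Matrix (Fin n) (Fin n) F

variable [Fintype F] {M : Subgroup (Matrix.GeneralLinearGroup (Fin n) F)}

lemma stab_of_mapsTo {W : Submodule F (Fin n → F)} {g : Matrix.GeneralLinearGroup (Fin n) F}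
    (h : ∀ v ∈ W, (g : MM) *ᵥ v ∈ W) : g ∈ Cfsg.Geo.subspaceStabilizer W := by
  classical
  refine (mem_subspaceStabilizer_iff W g).2 fun v => ⟨h v, fun hv => ?_⟩
  obtain ⟨z, hz, hzv⟩ :=
    ((W : Set (Fin n → F)).toFinite.injOn_iff_bijOn_of_mapsTo h).1 ((mulVec_inj g).injOn) |>.surjOn hv
  rwa [mulVec_inj g hzv] at hz

/-- The orthogonal space. -/
def perpOf (hf : Cfsg.Geo.IsUnitaryForm τ hh) (W : Submodule F (Fin n → F)) : Submodule F (Fin n → F) where
  carrier := {v | ∀ w ∈ W, hh w v = 0}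
  zero_mem' w _ := un_zero_right hf w
  add_mem' {a b} ha hb w hw := by rw [un_add_right hf, ha w hw, hb w hw, add_zero]
  smul_mem' c a ha w hw := by rw [un_smul_right hf, ha w hw, mul_zero]

variable (hf : Cfsg.Geo.IsUnitaryForm τ (Cfsg.hermForm n F q)) (W : Submodule F (Fin n → F))
  (hW : Cfsg.Geo.IsNondegenerateOn (Cfsg.hermForm n F q) W)
include hf

lemma perp_left {v w : Fin n → F} (hv : v ∈ perpOf hf W) (hw : w ∈ W) : hh v w = 0 := by
  rw [hf.herm, hv w hw, map_zero]

include hW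

lemma sup_perp : W ⊔ perpOf hf W = ⊤ := by
  classical
  haveI : Fintype W := Fintype.ofFinite W
  refine eq_top_iff.2 fun v _ => ?_
  let b := Module.finBasis F W
  let T : W → (Fin (Module.finrank F W) → F) := fun w j => hh (b j : Fin n → F) w
  have hinj : Function.Injective T := by
    intro x y hxy
    by_contra hne
    obtain ⟨z, hz, hzd⟩ := (hW _ (x - y).2 fun h => hne (sub_eq_zero.1 (Subtype.ext h))).1
    apply hzd
    have hz' := congrArg Subtype.val (b.sum_repr ⟨z, hz⟩)
    simp only [Submodule.coe_sum, Submodule.coe_smul] at hz'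
    rw [← hz', un_sum_left hf]
    refine Finset.sum_eq_zero fun j _ => ?_
    rw [hf.smul_left, Submodule.coe_sub, sub_eq_add_neg, ← neg_one_smul F (y : Fin n → F), un_add_right hf,
      un_smul_right hf, map_neg, map_one]
    have := congrFun hxy j
    simp only [T] at this
    rw [this]; ring
  obtain ⟨w, hw⟩ := (Fintype.bijective_iff_injective_and_card T).2 ⟨hinj, by
    rw [Fintype.card_fun, Fintype.card_fin]; exact Module.card_eq_pow_finrank⟩ |>.2 fun j => hh (b j : Fin n → F) v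
  refine Submodule.mem_sup.2 ⟨w, w.2, v - w, fun x hx => ?_, by abel⟩
  have hx' := congrArg Subtype.val (b.sum_repr ⟨x, hx⟩)
  simp only [Submodule.coe_sum, Submodule.coe_smul] at hx'
  rw [← hx', un_sum_left hf]
  refine Finset.sum_eq_zero fun j _ => ?_
  rw [hf.smul_left, sub_eq_add_neg, ← neg_one_smul F (w : Fin n → F), un_add_right hf, un_smul_right hf, map_neg,
    map_one]
  have := congrFun hw j
  simp only [T] at this
  rw [this]; ring

lemma disj_perp : Disjoint W (perpOf hf W) := Submodule.disjoint_def.2 fun w hw hp => by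
  by_contra h0
  obtain ⟨x, hx, hxw⟩ := (hW w hw h0).1
  exact hxw (hp x hx)

lemma nondeg_perp : Cfsg.Geo.IsNondegenerateOn hh (perpOf hf W) := by
  intro p hp hp0
  obtain ⟨y, hy⟩ := un_exists hf p hp0
  obtain ⟨w, hw, r, hr, hwr⟩ := Submodule.mem_sup.1 ((sup_perp hf W hW) ▸ Submodule.mem_top : y ∈ W ⊔ perpOf hf W)
  rw [← hwr, un_add_right hf, perp_left hf W hp hw, zero_add] at hy
  exact ⟨⟨r, hr, by rw [hf.herm, hy, map_one]; exact one_ne_zero⟩, ⟨r, hr, by rw [hy]; exact one_ne_zero⟩⟩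

lemma finrank_perp : Module.finrank F W + Module.finrank F (perpOf hf W) = n := by
  have h1 := Submodule.finrank_sup_add_finrank_inf_eq W (perpOf hf W)
  rw [sup_perp hf W hW, (disj_perp hf W hW).eq_bot, finrank_bot, finrank_top, Module.finrank_pi, Fintype.card_fin] at h1
  omega

omit hW in
/-- Isotropic vectors span a subspace containing a non-radical one. -/
lemma iso_span (P : Submodule F (Fin n → F)) {u z : Fin n → F} (hu : u ∈ P) (huu : hh u u = 0) (hzP : z ∈ P)
    (hzu : hh z u ≠ 0) : P ≤ Submodule.span F {v | v ∈ P ∧ hh v v = 0} := by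
  set S := Submodule.span F {v | v ∈ P ∧ hh v v = 0}
  have huS : u ∈ S := Submodule.subset_span ⟨hu, huu⟩
  have hcase : ∀ y ∈ P, hh y u ≠ 0 → y ∈ S := by
    intro y hy hyu
    obtain ⟨θ, hθ⟩ := CfsgLib.Geometry.exists_trace_one (σ := (τ : F →+* F))
      (fun h => hf.ne_refl (RingEquiv.ext fun a => RingHom.congr_fun h a)) (fun a => hf.involutive a)
    change θ + τ θ = 1 at hθ
    set t := τ (-(θ * hh y y) / hh y u) with ht
    have h0 : hh (y + t • u) (y + t • u) = 0 := by
      have e1 : τ t * hh y u = -(θ * hh y y) := by rw [ht, hf.involutive, div_mul_cancel₀ _ hyu]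
      have e2 : t * hh u y = τ (-(θ * hh y y)) := by
        rw [← e1, map_mul, hf.involutive, ← hf.herm u y]
      simp only [hf.add_left, un_add_right hf, hf.smul_left, un_smul_right hf, huu, mul_zero, add_zero]
      rw [e1, e2, map_neg, map_mul, ← hf.herm y y]
      linear_combination (-hh y y) * hθ
    have hmem : y + t • u ∈ S := Submodule.subset_span ⟨P.add_mem hy (P.smul_mem _ hu), h0⟩
    exact (S.add_mem_iff_left (S.smul_mem _ huS)).1 hmem
  intro y hy
  by_cases hyu : hh y u ≠ 0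
  · exact hcase y hy hyu
  push Not at hyu
  have h1 := hcase (y + z) (P.add_mem hy hzP) (by rwa [hf.add_left, hyu, zero_add])
  exact (S.add_mem_iff_left (hcase z hzP hzu)).1 h1

omit hW in
/-- Two non-zero vectors of a spanned subspace have a common isotropic non-perpendicular. -/
lemma iso_both (P : Submodule F (Fin n → F)) (hP : Cfsg.Geo.IsNondegenerateOn hh P)
    (hspan : P ≤ Submodule.span F {v | v ∈ P ∧ hh v v = 0}) {x y : Fin n → F} (hx : x ∈ P) (hx0 : x ≠ 0)
    (hy : y ∈ P) (hy0 : y ≠ 0) : ∃ e ∈ P, hh e e = 0 ∧ hh e x ≠ 0 ∧ hh e y ≠ 0 := by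
  have one : ∀ x ∈ P, x ≠ 0 → ∃ e ∈ P, hh e e = 0 ∧ hh e x ≠ 0 := by
    intro x hx hx0
    by_contra hcon
    push Not at hcon
    obtain ⟨z, hz, hzx⟩ := (hP x hx hx0).1
    let L : (Fin n → F) →ₗ[F] F := dotProductEquiv F (Fin n) (fvec hh x)
    have hle : Submodule.span F {v | v ∈ P ∧ hh v v = 0} ≤ LinearMap.ker L :=
      Submodule.span_le.2 fun v hv => (un_dot hf x v).trans (hcon v hv.1 hv.2)
    exact hzx ((un_dot hf x z).symm.trans (hle (hspan hz)))
  obtain ⟨a, haP, ha, hax⟩ := one x hx hx0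
  obtain ⟨b, hbP, hb, hby⟩ := one y hy hy0
  by_cases h1 : hh a y = 0
  · by_cases h2 : hh b x = 0
    · obtain ⟨c, hc, hab⟩ := un_iso_comb hf ha hb
      exact ⟨a + c • b, P.add_mem haP (P.smul_mem _ hbP), hab,
        by rw [hf.add_left, hf.smul_left, h2, mul_zero, add_zero]; exact hax,
        by rw [hf.add_left, hf.smul_left, h1, zero_add]; exact mul_ne_zero hc hby⟩
    · exact ⟨b, hbP, hb, h2, hby⟩
  · exact ⟨a, haP, ha, hax, h1⟩

variable (hn : 6 ≤ n) (hdim : 2 * Module.finrank F W < n)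
include hn hdim

lemma perp_large : 4 ≤ Module.finrank F (perpOf hf W) := by
  have := finrank_perp hf W hW; omega

lemma prescribed {p : Fin n → F} (hp : p ∈ perpOf hf W) (hp0 : p ≠ 0) (r : F) {ν : F} (hν : τ ν = ν) :
    ∃ x ∈ perpOf hf W, hh x p = r ∧ hh x x = ν := by
  have h7 := perp_large hf W hW hn hdim
  rcases eq_or_ne r 0 with rfl | hr
  · obtain ⟨z, hzP, hz, hzz⟩ := un_norm_perp hf (perpOf hf W) (nondeg_perp hf W hW) ![p] (by omega) hν
    exact ⟨z, hzP, hz 0, hzz⟩
  obtain ⟨a, haP, haa, -, hap⟩ := un_supply_sharp hf (perpOf hf W) (nondeg_perp hf W hW) W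
    (by rw [sup_comm]; exact sup_perp hf W hW) (fun a ha b hb => hb a ha) (![] : Fin 0 → Fin n → F)
    (fun i => i.elim0) (by omega) hp (by simpa using hp0) (ν := ν / (r * τ r))
    (by rw [map_div₀, hν, map_mul, hf.involutive, mul_comm (τ r) r])
  refine ⟨r • a, (perpOf hf W).smul_mem _ haP, by rw [hf.smul_left, hap, mul_one], ?_⟩
  rw [hf.smul_left, un_smul_right hf, haa, ← mul_assoc, mul_div_cancel₀]
  exact mul_ne_zero hr fun e => hr (τ.injective (e.trans (map_zero τ).symm))

lemma perp_span : perpOf hf W ≤ Submodule.span F {v | v ∈ perpOf hf W ∧ hh v v = 0} := by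
  have h7 := perp_large hf W hW hn hdim
  have hne : perpOf hf W ≠ ⊥ := fun h => by rw [h, finrank_bot] at h7; omega
  obtain ⟨x, hx, hx0⟩ := (perpOf hf W).exists_mem_ne_zero_of_ne_bot hne
  obtain ⟨a, ha, haa, -, hax⟩ := un_supply_sharp hf (perpOf hf W)
    (nondeg_perp hf W hW) W (by rw [sup_comm]; exact sup_perp hf W hW) (fun a ha b hb => hb a ha)
    (![] : Fin 0 → Fin n → F) (fun i => i.elim0) (by omega) hx (by simpa using hx0) (map_zero τ)
  exact iso_span hf _ ha haa hx (by rw [hf.herm, hax, map_one]; exact one_ne_zero)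

lemma orbit (hHM : Cfsg.Geo.subspaceStabilizer W ⊓ suGL n F q ≤ M) (hMS : M ≤ suGL n F q) {a p p' : Fin n → F}
    (ha : a ∈ W) (hp : p ∈ perpOf hf W) (hp0 : p ≠ 0) (hp' : p' ∈ perpOf hf W) (hp0' : p' ≠ 0)
    (hn' : hh p p = hh p' p') (hfull : UFull τ q M (a + p)) : UFull τ q M (a + p') := by
  classical
  have h7 := perp_large hf W hW hn hdim
  have step : ∀ p ∈ perpOf hf W, ∀ p' ∈ perpOf hf W, hh p p = hh p' p' → p ∉ Submodule.span F {p - p'} →
      UFull τ q M (a + p) → UFull τ q M (a + p') := by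
    intro p hp p' hp' hpp hspan hfull
    obtain ⟨d, hdP, hdd, hdv, hdp⟩ := un_supply_sharp hf (perpOf hf W) (nondeg_perp hf W hW) W
      (by rw [sup_comm]; exact sup_perp hf W hW) (fun a ha b hb => hb a ha) ![p - p']
      (fun i => by fin_cases i; exact (perpOf hf W).sub_mem hp hp') (by omega) hp (by simpa using hspan) (map_zero τ)
    have hpd : hh p d = 1 := by rw [hf.herm, hdp, map_one]
    set w := p' - p with hw
    have hwd : hh w d = 0 := by
      rw [hf.herm, show w = (-1 : F) • (p - p') by rw [hw]; module, un_smul_right hf,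
        show hh d (p - p') = 0 from hdv 0, mul_zero, map_zero]
    have hc : hh p w + τ (hh p w) + hh w w = 0 := by
      rw [← hf.herm w p, hw, sub_eq_add_neg p' p, ← neg_one_smul F p]
      simp only [hf.add_left, un_add_right hf, hf.smul_left, un_smul_right hf, hpp, map_neg, map_one]
      ring
    have hwP : w ∈ perpOf hf W := (perpOf hf W).sub_mem hp' hp
    have hmem : unSiegel hf hdd hwd (hh p w) ∈ Cfsg.Geo.subspaceStabilizer W ⊓ suGL n F q := by
      refine ⟨stab_of_mapsTo fun v hv => ?_, siegel_mem_su hf hdd hwd hc⟩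
      rw [unSiegel_mulVec, hdP v hv, hwP v hv]
      simpa using hv
    have := hfull.map hf hMS (hHM hmem)
    rw [unSiegel_mulVec, hf.add_left, hf.add_left, hdP a ha, hwP a ha, hpd, zero_add, zero_add, mul_one,
      sub_self, zero_smul, add_zero, one_smul, hw] at this
    convert this using 1
    abel
  by_cases hspan : p ∈ Submodule.span F {p - p'}
  swap
  · exact step p hp p' hp' hn' hspan hfull
  obtain ⟨l, hl⟩ := Submodule.mem_span_singleton.1 hspan
  have hl0 : l ≠ 0 := fun h => hp0 (by rw [← hl, h, zero_smul])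
  have hp'l : l • p' = (l - 1) • p := by
    conv_rhs => rw [sub_smul, one_smul]
    nth_rewrite 2 [← hl]
    rw [smul_sub]; abel
  -- pass through a vector off the line
  obtain ⟨x, hx, hxp, hxx⟩ := prescribed hf W hW hn hdim hp hp0 (if hh p p = 0 then 1 else 0) (ν := hh p p)
    (hf.herm p p).symm
  have hxs : x ∉ Submodule.span F {p} := by
    intro hh'
    obtain ⟨c, rfl⟩ := Submodule.mem_span_singleton.1 hh'
    split_ifs at hxp with h0
    · rw [hf.smul_left, h0, mul_zero] at hxp; exact zero_ne_one hxp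
    · rw [hf.smul_left] at hxp
      rcases mul_eq_zero.1 hxp with h | h
      · rw [h, zero_smul, un_zero_left hf] at hxx; exact h0 hxx.symm
      · exact h0 h
  have hx0 : x ≠ 0 := fun h => hxs (h ▸ zero_mem _)
  have s1 : p ∉ Submodule.span F {p - x} := by
    intro h
    obtain ⟨c, hc⟩ := Submodule.mem_span_singleton.1 h
    have hc0 : c ≠ 0 := fun h => hp0 (by rw [← hc, h, zero_smul])
    apply hxs
    refine Submodule.mem_span_singleton.2 ⟨(c - 1) / c, ?_⟩
    have h2 : c • x = (c - 1) • p := by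
      conv_rhs => rw [sub_smul, one_smul]
      nth_rewrite 2 [← hc]
      rw [smul_sub]; abel
    rw [div_eq_inv_mul, ← smul_smul, ← h2, inv_smul_smul₀ hc0]
  have s2 : x ∉ Submodule.span F {x - p'} := by
    intro h
    obtain ⟨c, hc⟩ := Submodule.mem_span_singleton.1 h
    have h2 : (c - 1) • x = c • p' := by
      rw [sub_smul, one_smul]
      nth_rewrite 2 [← hc]
      rw [smul_sub]; abel
    by_cases hc1 : c - 1 = 0
    · rw [hc1, zero_smul, eq_comm, smul_eq_zero] at h2
      rcases h2 with h2 | h2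
      · rw [h2, zero_smul] at hc; exact hx0 hc.symm
      · exact hp0' h2
    · apply hxs
      refine Submodule.mem_span_singleton.2 ⟨(c - 1)⁻¹ * (c * (l⁻¹ * (l - 1))), ?_⟩
      have hp'' : p' = (l⁻¹ * (l - 1)) • p := by rw [← smul_smul, ← hp'l, inv_smul_smul₀ hl0]
      rw [← smul_smul, ← smul_smul c, ← hp'', ← h2, inv_smul_smul₀ hc1]
  exact step x hx p' hp' (hxx.trans hn') s2 (step p hp x hx hxx.symm s1 hfull)

omit hW hn hdim in
lemma base (hHM : Cfsg.Geo.subspaceStabilizer W ⊓ suGL n F q ≤ M) {v : Fin n → F}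
    (hv : v ∈ W ∨ v ∈ perpOf hf W) (hvv : hh v v = 0) : UFull τ q M v := by
  intro k hk
  refine ⟨_, hHM ⟨?_, utv_mem_su hf hvv hk⟩⟩
  rcases hv with hv | hv
  · exact tv_mem_stab_of_mem W _ _ _ (W.smul_mem _ hv)
  · exact tv_mem_stab_of_ann W _ _ _ fun w hw => by rw [un_dot hf]; exact hv w hw

omit hW hn hdim in
/-- Good components: every isotropic vector with this component is full. -/
def Good (M : Subgroup (Matrix.GeneralLinearGroup (Fin n) F)) (a : Fin n → F) : Prop :=
  a ∈ W ∧ ∀ p ∈ perpOf hf W, hh (a + p) (a + p) = 0 → UFull τ q M (a + p)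

lemma good_add (hHM : Cfsg.Geo.subspaceStabilizer W ⊓ suGL n F q ≤ M) (hMS : M ≤ suGL n F q) {a b : Fin n → F}
    (ha : Good hf W M a) (hb : Good hf W M b) : Good hf W M (a + b) := by
  refine ⟨W.add_mem ha.1 hb.1, fun p hp hx => ?_⟩
  rcases eq_or_ne p 0 with rfl | hp0
  · rw [add_zero] at hx ⊢
    exact base hf W hHM (Or.inl (W.add_mem ha.1 hb.1)) hx
  obtain ⟨k, hk0, hk⟩ := un_skew_exists hf
  obtain ⟨r, hr, hrp, hrr⟩ := prescribed hf W hW hn hdim hp hp0 (k - hh a (a + b)) (ν := -hh a a)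
    (by rw [map_neg, ← hf.herm])
  set x := a + b + p with hxdef
  set u := a + r with hudef
  have huu : hh u u = 0 := by
    rw [hudef, hf.add_left, un_add_right hf, un_add_right hf, hr a ha.1, perp_left hf W hr ha.1, hrr]; ring
  have hux : hh u x = k := by
    rw [hudef, hxdef, hf.add_left, un_add_right hf a (a + b) p, un_add_right hf r (a + b) p, hp a ha.1,
      perp_left hf W hr (W.add_mem ha.1 hb.1), hrp]
    ring
  have hxu : hh x u = -k := by rw [hf.herm, hux, hk]
  set v := b + (p - r) with hvdef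
  have hv' : v = x + (-1 : F) • u := by rw [hvdef, hxdef, hudef]; module
  have hvv : hh v v = 0 := by
    rw [hv']
    simp only [hf.add_left, un_add_right hf, hf.smul_left, un_smul_right hf, hx, huu, hux, hxu, map_neg, map_one]
    ring
  have huv : hh u v ≠ 0 := by
    rw [hv', un_add_right hf, un_smul_right hf, huu, hux, mul_zero, add_zero]; exact hk0
  have hsum : u + (1 : F) • v = x := by rw [one_smul, hudef, hvdef, hxdef]; abel
  rw [← hsum]
  exact UFull.move hf hMS (ha.2 r hr huu) (hb.2 (p - r) ((perpOf hf W).sub_mem hp hr) hvv) huu hvv huv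
    (by rw [hsum]; exact hx)

lemma all_full (hHM : Cfsg.Geo.subspaceStabilizer W ⊓ suGL n F q ≤ M) (hMS : M ≤ suGL n F q) {a p : Fin n → F}
    (ha : a ∈ W) (ha0 : a ≠ 0) (hp : p ∈ perpOf hf W) (hp0 : p ≠ 0) (hap : hh (a + p) (a + p) = 0)
    (hfull : UFull τ q M (a + p)) {x : Fin n → F} (hx : hh x x = 0) : UFull τ q M x := by
  let A : Submodule F (Fin n → F) :=
    { carrier := {b | Good hf W M b}
      zero_mem' := ⟨W.zero_mem, fun p hp h => by
        rw [zero_add] at h ⊢; exact base hf W hHM (Or.inr hp) h⟩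
      add_mem' := fun {a b} ha hb => good_add hf W hW hn hdim hHM hMS ha hb
      smul_mem' := fun c b hb => by
        refine ⟨W.smul_mem c hb.1, fun p hp h => ?_⟩
        rcases eq_or_ne c 0 with rfl | hc
        · rw [zero_smul, zero_add] at h ⊢; exact base hf W hHM (Or.inr hp) h
        have h1 : c • b + p = c • (b + c⁻¹ • p) := by rw [smul_add, smul_inv_smul₀ hc]
        rw [h1, hf.smul_left, un_smul_right hf] at h
        rw [h1]
        refine (hb.2 _ ((perpOf hf W).smul_mem _ hp) ?_).smul hf c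
        rcases mul_eq_zero.1 h with h | h
        · exact absurd h hc
        · rcases mul_eq_zero.1 h with h | h
          · exact absurd (τ.injective (h.trans (map_zero τ).symm)) hc
          · exact h }
  have haA : a ∈ A := by
    refine ⟨ha, fun p' hp' h => ?_⟩
    rcases eq_or_ne p' 0 with rfl | hp0'
    · rw [add_zero] at h ⊢; exact base hf W hHM (Or.inl ha) h
    refine orbit hf W hW hn hdim hHM hMS ha hp hp0 hp' hp0' ?_ hfull
    rw [hf.add_left, un_add_right hf, un_add_right hf, hp a ha, perp_left hf W hp ha] at hap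
    rw [hf.add_left, un_add_right hf, un_add_right hf, hp' a ha, perp_left hf W hp' ha] at h
    linear_combination hap - h
  have hAW : W ≤ A := by
    by_cases hspan : W ≤ Submodule.span F {a}
    · exact hspan.trans ((Submodule.span_singleton_le_iff_mem _ _).2 haA)
    obtain ⟨y, hy, hya⟩ := SetLike.not_le_iff_exists.1 hspan
    obtain ⟨d₀, hd₀W, hd₀0, hd₀⟩ : ∃ d ∈ W, d ≠ 0 ∧ hh d d = 0 := by
      by_cases haa : hh a a = 0
      · exact ⟨a, ha, ha0, haa⟩
      set z := y - (hh y a / hh a a) • a with hz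
      have hzW : z ∈ W := W.sub_mem hy (W.smul_mem _ ha)
      have hz0 : z ≠ 0 := fun h => hya (Submodule.mem_span_singleton.2 ⟨_, (sub_eq_zero.1 h).symm⟩)
      have hza : hh z a = 0 := by
        rw [hz, sub_eq_add_neg, ← neg_smul, hf.add_left, hf.smul_left, neg_mul, div_mul_cancel₀ _ haa]; ring
      by_cases hzz : hh z z = 0
      · exact ⟨z, hzW, hz0, hzz⟩
      obtain ⟨c, hc⟩ := CfsgLib.Geometry.exists_norm_eq (σ := (τ : F →+* F))
        (fun h => hf.ne_refl (RingEquiv.ext fun a => RingHom.congr_fun h a)) (fun a => hf.involutive a)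
        (c := -hh a a / hh z z) (by
          show τ (-hh a a / hh z z) = _
          rw [map_div₀, map_neg, ← hf.herm a a, ← hf.herm z z])
      change c * τ c = _ at hc
      have haz : hh a z = 0 := by rw [hf.herm, hza, map_zero]
      refine ⟨a + c • z, W.add_mem ha (W.smul_mem _ hzW), fun h => haa ?_, ?_⟩
      · have := congrArg (fun v => hh v a) h
        simp only [hf.add_left, hf.smul_left, hza, mul_zero, add_zero, un_zero_left hf] at this
        exact this
      · have hc2 : c * τ c * hh z z = -hh a a := by rw [hc, div_mul_cancel₀ _ hzz]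
        simp only [hf.add_left, un_add_right hf, hf.smul_left, un_smul_right hf, hza, haz]
        linear_combination hc2
    obtain ⟨z, hz, hzd⟩ := (hW d₀ hd₀W hd₀0).1
    have hsp := iso_span hf W hd₀W hd₀ hz hzd
    obtain ⟨k, hk0, hk⟩ := un_skew_exists hf
    have hnext : ∀ b ∈ A, ∀ d ∈ W, hh d d = 0 → hh b d ≠ 0 → d ∈ A := by
      intro b hb d hd hdd hbd
      have hT : tv (k • d) (fvec hh d) (un_tv_dot hf hdd k) ∈ Cfsg.Geo.subspaceStabilizer W ⊓ suGL n F q :=
        ⟨tv_mem_stab_of_mem W _ _ _ (W.smul_mem _ hd), utv_mem_su hf hdd hk⟩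
      have hbA : b + (hh b d * k) • d ∈ A := by
        refine ⟨W.add_mem hb.1 (W.smul_mem _ hd), fun r hr h => ?_⟩
        have hTb : (tv (k • d) (fvec hh d) (un_tv_dot hf hdd k) : MM) *ᵥ (b + r) = b + (hh b d * k) • d + r := by
          rw [tv_mulVec, un_dot hf, smul_smul, hf.add_left, perp_left hf W hr hd, add_zero]; abel
        rw [← hTb]
        refine (hb.2 r hr ?_).map hf hMS (hHM hT)
        rw [← (mem_GU_iff _).1 (utv_mem_su hf hdd hk).1, hTb, h]
      exact (A.smul_mem_iff (mul_ne_zero hbd hk0)).1 ((A.add_mem_iff_right hb).1 hbA)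
    have hswap : ∀ {e b : Fin n → F}, hh e b ≠ 0 → hh b e ≠ 0 := fun {e b} h h0 => h (by
      rw [hf.herm, h0, map_zero])
    intro v hv
    refine (Submodule.span_le (p := A)).2 (fun e he => ?_) (hsp hv)
    rcases eq_or_ne e 0 with rfl | he0
    · exact A.zero_mem
    obtain ⟨d, hd, hdd, hda, hde⟩ := iso_both hf W hW hsp ha ha0 he.1 he0
    exact hnext d (hnext a haA d hd hdd (hswap hda)) e he.1 he.2 hde
  obtain ⟨b, hb, r, hr, rfl⟩ := Submodule.mem_sup.1 ((sup_perp hf W hW) ▸ Submodule.mem_top : x ∈ W ⊔ perpOf hf W)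
  exact (hAW hb).2 r hr hx

lemma exists_mixed (hHM : Cfsg.Geo.subspaceStabilizer W ⊓ suGL n F q ≤ M) (hMS : M ≤ suGL n F q)
    {g : Matrix.GeneralLinearGroup (Fin n) F} (hgM : g ∈ M) (hg : g ∉ Cfsg.Geo.subspaceStabilizer W) :
    ∃ a ∈ W, ∃ p ∈ perpOf hf W, a ≠ 0 ∧ p ≠ 0 ∧ hh (a + p) (a + p) = 0 ∧ UFull τ q M (a + p) := by
  have hgu := (mem_GU_iff g).1 (hMS hgM).1
  have hdis := disj_perp hf W hW
  have hsp := perp_span hf W hW hn hdim
  have hP := nondeg_perp hf W hW
  by_contra hcon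
  push Not at hcon
  have himg : ∀ e ∈ perpOf hf W, hh e e = 0 → (g : MM) *ᵥ e ∈ W ∨ (g : MM) *ᵥ e ∈ perpOf hf W := by
    intro e he hee
    have hfull := (base hf W hHM (Or.inr he) hee).map hf hMS hgM
    obtain ⟨a, ha, p, hp, hsum⟩ := Submodule.mem_sup.1
      ((sup_perp hf W hW) ▸ Submodule.mem_top : (g : MM) *ᵥ e ∈ W ⊔ perpOf hf W)
    by_cases ha0 : a = 0
    · right; rw [← hsum, ha0, zero_add]; exact hp
    by_cases hp0 : p = 0
    · left; rw [← hsum, hp0, add_zero]; exact ha
    exact absurd hfull (by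
      rw [← hsum]
      exact hcon a ha p hp ha0 hp0 (by rw [hsum, hgu, hee]))
  have hlink : ∀ (R : Submodule F (Fin n → F)), R = W ∨ R = perpOf hf W → ∀ e ∈ perpOf hf W, hh e e = 0 →
      e ≠ 0 → (g : MM) *ᵥ e ∈ R → perpOf hf W ≤ R.comap (Matrix.toLin' (g : MM)) := by
    intro R hR e he hee he0 hge
    have hnear : ∀ e₁ ∈ perpOf hf W, (g : MM) *ᵥ e₁ ∈ R → ∀ e₂ ∈ perpOf hf W, hh e₂ e₂ = 0 → hh e₁ e₂ ≠ 0 →
        (g : MM) *ᵥ e₂ ∈ R := by
      intro e₁ h1 h1g e₂ h2 h22 h12
      rw [← hgu] at h12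
      rcases hR with rfl | rfl
      · refine (himg e₂ h2 h22).resolve_right fun h => h12 ?_
        exact h _ h1g
      · refine (himg e₂ h2 h22).resolve_left fun h => h12 ?_
        exact perp_left hf W h1g h
    refine hsp.trans (Submodule.span_le.2 fun v hv => ?_)
    show Matrix.toLin' (g : MM) v ∈ R
    rw [Matrix.toLin'_apply]
    rcases eq_or_ne v 0 with rfl | hv0
    · rw [Matrix.mulVec_zero]; exact R.zero_mem
    obtain ⟨m, hm, hmm, hme, hmv⟩ := iso_both hf _ hP hsp he he0 hv.1 hv0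
    exact hnear m hm (hnear e he hge m hm hmm (by rw [hf.herm]; exact fun h => hme (τ.injective (by rw [h, map_zero]))))
      v hv.1 hv.2 hmv
  have h7 := perp_large hf W hW hn hdim
  obtain ⟨e, he, hee, he0⟩ : ∃ e ∈ perpOf hf W, hh e e = 0 ∧ e ≠ 0 := by
    by_contra hh'
    push Not at hh'
    have : perpOf hf W ≤ ⊥ := hsp.trans (Submodule.span_le.2 fun v hv => hh' v hv.1 hv.2)
    rw [le_bot_iff] at this
    rw [this, finrank_bot] at h7
    omega
  have hinj : Function.Injective (Matrix.toLin' (g : MM)) := fun x y h => by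
    simp only [Matrix.toLin'_apply] at h; exact mulVec_inj g h
  have hrank : ∀ R : Submodule F (Fin n → F), perpOf hf W ≤ R.comap (Matrix.toLin' (g : MM)) →
      Module.finrank F (perpOf hf W) ≤ Module.finrank F R := fun R hR => by
    rw [(Submodule.equivMapOfInjective _ hinj (perpOf hf W)).finrank_eq]
    exact Submodule.finrank_mono (Submodule.map_le_iff_le_comap.2 hR)
  rcases himg e he hee with hR | hR
  · have := hrank W (hlink W (Or.inl rfl) e he hee he0 hR)
    have := finrank_perp hf W hW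
    omega
  · have hPmap : ∀ v ∈ perpOf hf W, (g : MM) *ᵥ v ∈ perpOf hf W := fun v hv => by
      have := hlink _ (Or.inr rfl) e he hee he0 hR hv
      rwa [Submodule.mem_comap, Matrix.toLin'_apply] at this
    refine hg (stab_of_mapsTo fun v hv => ?_)
    obtain ⟨a, ha, p, hp, hsum⟩ := Submodule.mem_sup.1
      ((sup_perp hf W hW) ▸ Submodule.mem_top : (g : MM) *ᵥ v ∈ W ⊔ perpOf hf W)
    suffices hp0 : p = 0 by rw [← hsum, hp0, add_zero]; exact ha
    by_contra hp0
    obtain ⟨y, hy, hpy⟩ := (hP p hp hp0).2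
    classical
    obtain ⟨z, hz, rfl⟩ := ((perpOf hf W : Set (Fin n → F)).toFinite.injOn_iff_bijOn_of_mapsTo hPmap).1
      ((mulVec_inj g).injOn) |>.surjOn hy
    have := congrArg (fun x => hh x ((g : MM) *ᵥ z)) hsum
    simp only [hf.add_left, hgu, hy a ha, hz v hv, zero_add] at this
    exact hpy this

lemma proper (hW0 : W ≠ ⊥) : Cfsg.Geo.subspaceStabilizer W ⊓ suGL n F q < suGL n F q := by
  refine lt_of_le_of_ne inf_le_right fun heq => ?_
  obtain ⟨w, hw, hw0⟩ := W.exists_mem_ne_zero_of_ne_bot hW0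
  have h7 := perp_large hf W hW hn hdim
  have hne : perpOf hf W ≠ ⊥ := fun h => by rw [h, finrank_bot] at h7; omega
  obtain ⟨p₀, hp₀, hp₀0⟩ := (perpOf hf W).exists_mem_ne_zero_of_ne_bot hne
  obtain ⟨p, hp, hpp₀, hpp⟩ := prescribed hf W hW hn hdim hp₀ hp₀0 1 (ν := -hh w w) (by rw [map_neg, ← hf.herm])
  have hp0 : p ≠ 0 := fun h => by rw [h, un_zero_left hf] at hpp₀; exact zero_ne_one hpp₀
  have hvv : hh (w + p) (w + p) = 0 := by
    rw [hf.add_left, un_add_right hf, un_add_right hf, hp w hw, perp_left hf W hp hw, hpp]; ring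
  obtain ⟨k, hk0, hk⟩ := un_skew_exists hf
  have hmem : tv (k • (w + p)) (fvec hh (w + p)) (un_tv_dot hf hvv k) ∈
      Cfsg.Geo.subspaceStabilizer W ⊓ suGL n F q := by
    rw [heq]; exact utv_mem_su hf hvv hk
  obtain ⟨x, hx, hxw⟩ := (hW w hw hw0).1
  have h1 := ((mem_subspaceStabilizer_iff W _).1 hmem.1 x).1 hx
  rw [tv_mulVec, un_dot hf, smul_smul, un_add_right hf, hp x hx, add_zero] at h1
  have h2 := (W.add_mem_iff_right hw).1 ((W.smul_mem_iff (mul_ne_zero hxw hk0)).1 ((W.add_mem_iff_right hx).1 h1))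
  exact hp0 (Submodule.disjoint_def.1 (disj_perp hf W hW) p h2 hp)

omit hW hn hdim hf in
lemma main (hF : Fintype.card F = q ^ 2) (hn : 6 ≤ n) {W : Submodule F (Fin n → F)} (hW0 : W ≠ ⊥)
    (hW : Cfsg.Geo.IsNondegenerateOn hh W) (hdim : 2 * Module.finrank F W < n) :
    Cfsg.Geo.IsMaximalIn (suGL n F q) (Cfsg.Geo.subspaceStabilizer W ⊓ suGL n F q) := by
  obtain ⟨τ, -, hf⟩ := exists_hermSigma hF n
  refine ⟨proper hf W hW hn hdim hW0, fun M hHM hMS => or_iff_not_imp_left.2 fun hne => le_antisymm hMS ?_⟩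
  obtain ⟨g, hgM, hg⟩ : ∃ g ∈ M, g ∉ Cfsg.Geo.subspaceStabilizer W := by
    by_contra hcon
    push Not at hcon
    exact hne (le_antisymm (fun g hg => ⟨hcon g hg, hMS hg⟩) hHM)
  obtain ⟨a, ha, p, hp, ha0, hp0, hap, hfull⟩ := exists_mixed hf W hW hn hdim hHM hMS hgM hg
  exact suGL_le_of_full hf hF (by omega) fun x hx => all_full hf W hW hn hdim hHM hMS ha ha0 hp hp0 hap hfull hx

end

/-- Let F be the field with q² elements and n ≥ 13. In SU_n(q) (determinant-one isometries of the standard unitary form on F^n) the stabiliser of a non-zero subspace W on which the form is non-degenerate and with 2 dim W < n is a maximal subgroup. -/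
theorem result {F : Type*} [Field F] [Fintype F] (n q : ℕ) (hF : Fintype.card F = q ^ 2) (hn : 13 ≤ n) (W : Submodule F (Fin n → F)) (hW0 : W ≠ ⊥) (hW : Cfsg.Geo.IsNondegenerateOn (Cfsg.hermForm n F q) W) (hdim : 2 * Module.finrank F W < n) : Cfsg.Geo.IsMaximalIn (Cfsg.GU n F q ⊓ Cfsg.Geo.specialLinear (Fin n) F) (Cfsg.Geo.subspaceStabilizer W ⊓ (Cfsg.GU n F q ⊓ Cfsg.Geo.specialLinear (Fin n) F)) := by
  exact main hF (by omega) hW0 hW hdim

end Cfsg.Agent.S5654
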