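import Cfsg.Statements.S5656
import Cfsg.Agent.Lib.Maximal.Transvec

set_option autoImplicit false
open Cfsg

namespace Cfsg.Agent.S5656

section
open scoped Matrix

variable {F : Type*} [Field F] {n : ℕ}

local notation "hh" => Cfsg.hermForm n F 2

lemma hh_add_left (x y z : Fin n → F) : hh (x + y) z = hh x z + hh y z := by
  simp [Cfsg.hermForm, add_mul, Finset.sum_add_distrib]

lemma hh_zero_left (z : Fin n → F) : hh 0 z = 0 := by simp [Cfsg.hermForm]

lemma hh_smul_left (a : F) (x z : Fin n → F) : hh (a • x) z = a * hh x z := by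
  simp [Cfsg.hermForm, Finset.mul_sum, mul_assoc]

variable [CharP F 2]

lemma hh_add_right (x y z : Fin n → F) : hh x (y + z) = hh x y + hh x z := by
  simp [Cfsg.hermForm, CharTwo.add_sq, mul_add, Finset.sum_add_distrib]

lemma hh_smul_right (a : F) (x z : Fin n → F) : hh x (a • z) = a ^ 2 * hh x z := by
  simp [Cfsg.hermForm, Finset.mul_sum, mul_pow, mul_left_comm]

lemma vadd_self (x : Fin n → F) : x + x = 0 := funext fun _ => CharTwo.add_self_eq_zero _

lemma veq_of_add (x y : Fin n → F) (h : x + y = 0) : x = y := by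
  rw [← add_zero x, ← vadd_self y, ← add_assoc, h, zero_add]

variable [Fintype F] (hF : Fintype.card F = 4)

include hF

lemma pow_four (a : F) : a ^ 4 = a := by
  rw [← hF]; exact FiniteField.pow_card a

lemma hh_symm (x y : Fin n → F) : hh y x = hh x y ^ 2 := by
  simp only [Cfsg.hermForm, CharTwo.sum_sq]
  refine Finset.sum_congr rfl fun i _ => ?_
  rw [mul_pow, ← pow_mul]
  norm_num [pow_four hF, mul_comm]

lemma hh_self (x : Fin n → F) : hh x x = 0 ∨ hh x x = 1 := by
  have h := hh_symm hF x x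
  have h2 : hh x x * (hh x x - 1) = 0 := by linear_combination -h
  rcases mul_eq_zero.1 h2 with h3 | h3
  · exact Or.inl h3
  · exact Or.inr (sub_eq_zero.1 h3)

lemma exists_unit_vector (W : Submodule F (Fin n → F)) (hW0 : W ≠ ⊥) (hW : Cfsg.Geo.IsNondegenerateOn hh W) :
    ∃ a ∈ W, hh a a = 1 := by
  by_contra hcon
  push Not at hcon
  have h0 : ∀ x ∈ W, hh x x = 0 := fun x hx => (hh_self hF x).resolve_right (hcon x hx)
  obtain ⟨x, hx, hx0⟩ := (Submodule.ne_bot_iff _).1 hW0
  obtain ⟨z, hz⟩ : ∃ z : F, z + z ^ 2 ≠ 0 := by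
    by_contra hh'
    push Not at hh'
    have h01 : ∀ z : F, z = 0 ∨ z = 1 := fun z => by
      have h2 : z * (1 + z) = 0 := by linear_combination hh' z
      rcases mul_eq_zero.1 h2 with h3 | h3
      · exact Or.inl h3
      · exact Or.inr (CharTwo.add_eq_zero.1 h3).symm
    classical
    have : (Finset.univ : Finset F) ⊆ {0, 1} := fun z _ => by simpa using h01 z
    have := Finset.card_le_card this
    rw [Finset.card_univ, hF] at this
    exact absurd (this.trans Finset.card_le_two) (by norm_num)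
  obtain ⟨y, hy, hxy⟩ := (hW x hx hx0).2
  apply hz
  have hs := h0 ((z / hh x y) • x + y) (W.add_mem (W.smul_mem _ hx) hy)
  simp only [hh_add_left, hh_add_right, hh_smul_left, hh_smul_right, h0 x hx, h0 y hy,
    hh_symm hF x y] at hs
  field_simp at hs
  have h3 := FiniteField.pow_card_sub_one_eq_one _ hxy
  rw [hF] at h3; norm_num at h3
  linear_combination hs - (z + z ^ 2) * h3

omit hF in
/-- The union of the sets of unit vectors of the members, with zero. -/
def unitSet {t : ℕ} (D : Fin t → Submodule F (Fin n → F)) : Set (Fin n → F) :=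
  {x | ∃ i, x ∈ D i ∧ hh x x = 1}

omit hF in
def setGroup (S : Set (Fin n → F)) : Subgroup (Matrix.GeneralLinearGroup (Fin n) F) where
  carrier := {g | ∀ x, (g : Matrix (Fin n) (Fin n) F) *ᵥ x ∈ S ↔ x ∈ S}
  one_mem' := fun x => by simp
  mul_mem' := fun {a b} ha hb x => by rw [Units.val_mul, ← Matrix.mulVec_mulVec, ha, hb]
  inv_mem' := fun {a} ha x => by
    rw [← ha, Matrix.mulVec_mulVec, ← Units.val_mul, mul_inv_cancel, Units.val_one, Matrix.one_mulVec]

omit hF in
lemma mem_GU_iff (g : Matrix.GeneralLinearGroup (Fin n) F) :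
    g ∈ Cfsg.GU n F 2 ↔ ∀ u v, hh ((g : Matrix (Fin n) (Fin n) F) *ᵥ u) ((g : Matrix (Fin n) (Fin n) F) *ᵥ v)
      = hh u v := Iff.rfl

omit hF in
lemma stab_le {t : ℕ} (D : Fin t → Submodule F (Fin n → F)) :
    Cfsg.Geo.decompositionStabilizer D ⊓ Cfsg.GU n F 2 ≤ setGroup (unitSet D) := by
  rintro g ⟨⟨σ, hσ⟩, hg⟩ x
  have hg' := (mem_GU_iff g).1 hg x x
  constructor
  · rintro ⟨i, hi, h1⟩
    obtain ⟨j, rfl⟩ := σ.surjective i
    rw [← hσ j] at hi
    obtain ⟨y, hy, hyx⟩ := hi
    have : y = x := by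
      have := congrArg (((g⁻¹ : Matrix.GeneralLinearGroup (Fin n) F) : Matrix (Fin n) (Fin n) F) *ᵥ ·) hyx
      simpa [Matrix.toLin'_apply, Matrix.mulVec_mulVec, ← Units.val_mul] using this
    exact ⟨j, this ▸ hy, by rw [← hg', h1]⟩
  · rintro ⟨i, hi, h1⟩
    exact ⟨σ i, hσ i ▸ ⟨x, hi, Matrix.toLin'_apply _ _⟩, by rw [hg', h1]⟩

omit hF in
lemma tv_unitary_form (c : Fin n → F) (hc : hh c c = 0) : (fun j => c j ^ 2) ⬝ᵥ c = 0 := by
  rw [← hc]; simp [dotProduct, Cfsg.hermForm, mul_comm]

omit hF [Fintype F] [CharP F 2] in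
lemma tv_apply (c x : Fin n → F) (h : (fun j => c j ^ 2) ⬝ᵥ c = 0) :
    (CfsgLib.Maximal.tv c _ h : Matrix (Fin n) (Fin n) F) *ᵥ x = x + hh x c • c := by
  rw [CfsgLib.Maximal.tv_mulVec]; simp [dotProduct, Cfsg.hermForm, mul_comm]

lemma tv_mem (c : Fin n → F) (hc : hh c c = 0) :
    CfsgLib.Maximal.tv c _ (tv_unitary_form c hc) ∈ Cfsg.GU n F 2 ⊓ Cfsg.Geo.specialLinear (Fin n) F := by
  refine ⟨(mem_GU_iff _).2 fun u v => ?_, CfsgLib.Maximal.tv_mem_specialLinear _ _ _⟩
  simp only [tv_apply, hh_add_left, hh_add_right, hh_smul_left, hh_smul_right, hc, hh_symm hF v c]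
  linear_combination (hh u c * hh v c ^ 2) * (CharTwo.two_eq_zero : (2 : F) = 0)

lemma main {t : ℕ} (D : Fin t → Submodule F (Fin n → F))
    (hD : Cfsg.Geo.IsNondegenerateMDecomposition hh 2 D) (ht : 4 ≤ t) :
    ∃ K : Subgroup (Matrix.GeneralLinearGroup (Fin n) F),
      Cfsg.Geo.decompositionStabilizer D ⊓ (Cfsg.GU n F 2 ⊓ Cfsg.Geo.specialLinear (Fin n) F) < K ∧
      K < (Cfsg.GU n F 2 ⊓ Cfsg.Geo.specialLinear (Fin n) F) := by
  have hne : ∀ i, D i ≠ ⊥ := fun i hi => by
    have h := hD.decomp.finrank_eq i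
    rw [hi, finrank_bot] at h
    exact absurd h (by norm_num)
  choose a ha ha1 using fun i => exists_unit_vector hF (D i) (hne i) (hD.nondegenerate i)
  have horth : ∀ i j, i ≠ j → ∀ u ∈ D i, ∀ v ∈ D j, hh u v = 0 := fun i j h u hu v hv => hD.orthogonal i j h u hu v hv
  have haa : ∀ i j, i ≠ j → hh (a i) (a j) = 0 := fun i j h => horth i j h _ (ha i) _ (ha j)
  have huniq : ∀ x i j, x ∈ D i → x ∈ D j → i ≠ j → x = 0 := fun x i j hi hj h =>
    Submodule.disjoint_def.1 (hD.decomp.indep.pairwiseDisjoint h) x hi hj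
  let z : Fin t := ⟨0, by omega⟩
  let o : Fin t := ⟨1, by omega⟩
  let p : Fin t := ⟨2, by omega⟩
  let r : Fin t := ⟨3, by omega⟩
  have hzo : z ≠ o := by simp [z, o, Fin.ext_iff]
  have hc2 : hh (a z + a o) (a z + a o) = 0 := by
    simp [hh_add_left, hh_add_right, ha1, haa _ _ hzo, haa _ _ hzo.symm, CharTwo.add_self_eq_zero]
  refine ⟨setGroup (unitSet D) ⊓ (Cfsg.GU n F 2 ⊓ Cfsg.Geo.specialLinear (Fin n) F),
    lt_of_le_of_ne (le_inf ((inf_le_inf_left _ inf_le_left).trans (stab_le D)) inf_le_right) ?_,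
    lt_of_le_of_ne inf_le_right ?_⟩
  · intro heq
    set g := CfsgLib.Maximal.tv (a z + a o) _ (tv_unitary_form _ hc2) with hg
    have hg2 : ∀ x, (g : Matrix (Fin n) (Fin n) F) *ᵥ ((g : Matrix (Fin n) (Fin n) F) *ᵥ x) = x := fun x => by
      rw [hg, tv_apply, tv_apply, hh_add_left, hh_smul_left, hc2, mul_zero, add_zero, add_assoc,
        ← add_smul, CharTwo.add_self_eq_zero, zero_smul, add_zero]
    have hstep : ∀ x ∈ unitSet D, (g : Matrix (Fin n) (Fin n) F) *ᵥ x ∈ unitSet D := by
      rintro x ⟨i, hi, h1⟩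
      have hgx : (g : Matrix (Fin n) (Fin n) F) *ᵥ x = x + hh x (a z + a o) • (a z + a o) := tv_apply _ _ _
      by_cases h0 : hh x (a z + a o) = 0
      · exact ⟨i, by rw [hgx, h0, zero_smul, add_zero]; exact hi, by rw [hgx, h0, zero_smul, add_zero, h1]⟩
      -- x is a multiple of the chosen unit vector of its member
      obtain ⟨k, l, hki, hkl, hc⟩ : ∃ k l, k = i ∧ k ≠ l ∧ a z + a o = a k + a l := by
        by_cases hiz : i = z
        · exact ⟨z, o, hiz.symm, hzo, rfl⟩
        by_cases hio : i = o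
        · exact ⟨o, z, hio.symm, hzo.symm, add_comm _ _⟩
        exact absurd (by rw [hh_add_right, horth i z hiz x hi _ (ha z), horth i o hio x hi _ (ha o), add_zero]) h0
      subst hki
      have hxc : hh x (a z + a o) = hh x (a k) := by
        rw [hc, hh_add_right, horth k l hkl x hi _ (ha l), add_zero]
      rw [hxc] at h0 hgx
      have h01 : hh x (a k) ^ 3 = 1 := by
        have := FiniteField.pow_card_sub_one_eq_one _ h0; rwa [hF] at this
      let y := x + hh x (a k) • a k
      have hyk : y ∈ D k := (D k).add_mem hi ((D k).smul_mem _ (ha k))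
      have hya : hh y (a k) = 0 := by
        simp [y, hh_add_left, hh_smul_left, ha1, CharTwo.add_self_eq_zero]
      have hyy : hh y y = 0 := by
        simp only [y, hh_add_left, hh_add_right, hh_smul_left, hh_smul_right, ha1, h1, hh_symm hF x (a k)]
        linear_combination 3 * h01 + 2 * (CharTwo.two_eq_zero : (2 : F) = 0)
      have hy0 : y = 0 := by
        by_contra hy0
        obtain ⟨w, hw, hne'⟩ := (hD.nondegenerate k y hyk hy0).2
        apply hne' 
        have hind : LinearIndependent F ![a k, y] := by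
          rw [LinearIndependent.pair_iff]
          intro s u hsu
          have h := congrArg (fun v => hh v (a k)) hsu
          simp only [hh_add_left, hh_smul_left, hh_zero_left, ha1, hya, mul_one, mul_zero, add_zero] at h
          have hs : s = 0 := h
          subst hs
          simpa [hy0] using hsu
        have hspan : Submodule.span F {a k, y} = D k := by
          refine Submodule.eq_of_le_of_finrank_le
            (Submodule.span_le.2 (Set.insert_subset (ha k) (Set.singleton_subset_iff.2 hyk))) ?_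
          rw [hD.decomp.finrank_eq k, ← Matrix.range_cons_cons_empty, finrank_span_eq_card hind, Fintype.card_fin]
        rw [← hspan, Submodule.mem_span_pair] at hw
        obtain ⟨s, u, rfl⟩ := hw
        simp [hh_add_right, hh_smul_right, hya, hyy]
      have hx : x = hh x (a k) • a k := veq_of_add _ _ hy0
      have hgx' : (g : Matrix (Fin n) (Fin n) F) *ᵥ x = hh x (a k) • a l := by
        rw [hgx, hc]
        conv_lhs => arg 1; rw [hx]
        rw [smul_add, ← add_assoc, ← add_smul, CharTwo.add_self_eq_zero, zero_smul, zero_add]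
      refine ⟨l, by rw [hgx']; exact (D l).smul_mem _ (ha l), ?_⟩
      rw [hgx', hh_smul_left, hh_smul_right, ha1]
      linear_combination h01
    have hgK : g ∈ setGroup (unitSet D) ⊓ (Cfsg.GU n F 2 ⊓ Cfsg.Geo.specialLinear (Fin n) F) :=
      ⟨fun x => ⟨fun h => by simpa [hg2] using hstep _ h, hstep x⟩, tv_mem hF _ hc2⟩
    rw [← heq] at hgK
    obtain ⟨σ, hσ⟩ := hgK.1
    have hg0 : (g : Matrix (Fin n) (Fin n) F) *ᵥ a z = a o := by
      rw [hg, tv_apply, hh_add_right, ha1, haa _ _ hzo, add_zero, one_smul, ← add_assoc,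
        vadd_self, zero_add]
    obtain ⟨w, hw, hw0, hwa⟩ : ∃ w ∈ D z, w ≠ 0 ∧ hh w (a z) = 0 := by
      by_contra hcon
      push Not at hcon
      have hle : D z ≤ Submodule.span F {a z} := by
        intro v hv
        have hv' : v + hh v (a z) • a z = 0 := by
          by_contra hne'
          refine hcon _ ((D z).add_mem hv ((D z).smul_mem _ (ha z))) hne' ?_
          simp [hh_add_left, hh_smul_left, ha1, CharTwo.add_self_eq_zero]
        exact Submodule.mem_span_singleton.2 ⟨_, (veq_of_add _ _ hv').symm⟩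
      have h := (Submodule.finrank_mono hle).trans (finrank_span_le_card ({a z} : Set (Fin n → F)))
      rw [hD.decomp.finrank_eq z] at h
      simp at h
    have hgw : (g : Matrix (Fin n) (Fin n) F) *ᵥ w = w := by
      rw [hg, tv_apply, hh_add_right, hwa, horth z o hzo w hw _ (ha o), add_zero, zero_smul, add_zero]
    have ha0 : a o ≠ 0 := fun h => by
      have := ha1 o; rw [h] at this; simp [Cfsg.hermForm] at this
    have h1 : σ z = o := by
      by_contra hne'
      exact ha0 (huniq _ _ _ (hσ z ▸ ⟨a z, ha z, by rw [Matrix.toLin'_apply, hg0]⟩) (ha o) hne')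
    have h2 : σ z = z := by
      by_contra hne'
      exact hw0 (huniq _ _ _ (hσ z ▸ ⟨w, hw, by rw [Matrix.toLin'_apply, hgw]⟩) hw hne')
    exact hzo (h2.symm.trans h1)
  · intro heq
    have hne' : p ≠ r ∧ z ≠ p ∧ z ≠ r ∧ o ≠ p ∧ o ≠ r := by simp [z, o, p, r, Fin.ext_iff]
    obtain ⟨hpr, hzp, hzr, hop, hor⟩ := hne'
    set c := a z + a o + a p + a r
    have hc : hh c c = 0 := by
      simp [c, hh_add_left, hh_add_right, ha1, haa _ _ hzo, haa _ _ hzo.symm, haa _ _ hzp, haa _ _ hzp.symm,
        haa _ _ hzr, haa _ _ hzr.symm, haa _ _ hop, haa _ _ hop.symm, haa _ _ hor, haa _ _ hor.symm,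
        haa _ _ hpr, haa _ _ hpr.symm, CharTwo.add_self_eq_zero, add_assoc]
    have hmem := tv_mem hF c hc
    rw [← heq] at hmem
    obtain ⟨i, hi, -⟩ := (hmem.1 (a z)).2 ⟨z, ha z, ha1 z⟩
    rw [tv_apply] at hi
    have h1 : ∀ k, k ≠ i → hh (a z + hh (a z) c • c) (a k) = 0 := fun k hk => horth i k (Ne.symm hk) _ hi _ (ha k)
    have hzc : hh (a z) c = 1 := by
      simp [c, hh_add_right, ha1, haa _ _ hzo, haa _ _ hzp, haa _ _ hzr]
    by_cases hio : o = i
    · have := h1 p (hio ▸ hop.symm)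
      simp [hzc, c, hh_add_left, haa _ _ hzp, haa _ _ hop, haa _ _ hpr.symm, ha1] at this
    · have := h1 o hio
      simp [hzc, c, hh_add_left, haa _ _ hzo, haa _ _ hop.symm, haa _ _ hor.symm, ha1] at this

end

/-- Let F be the field with 4 elements (q = 2) and n ≥ 13. Let D be a decomposition of F^n into t pairwise orthogonal 2-dimensional subspaces, each non-degenerate for the standard unitary form Σ u_i v_i². Then the elements of SU_n(2) permuting the members of D form a subgroup that is not maximal: some subgroup lies strictly between it and SU_n(2). -/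
theorem result {F : Type*} [Field F] [Fintype F] (n : ℕ) (hF : Fintype.card F = 4) (hn : 13 ≤ n) {t : ℕ} (D : Fin t → Submodule F (Fin n → F)) (hD : Cfsg.Geo.IsNondegenerateMDecomposition (Cfsg.hermForm n F 2) 2 D) : ∃ K : Subgroup (Matrix.GeneralLinearGroup (Fin n) F), Cfsg.Geo.decompositionStabilizer D ⊓ (Cfsg.GU n F 2 ⊓ Cfsg.Geo.specialLinear (Fin n) F) < K ∧ K < (Cfsg.GU n F 2 ⊓ Cfsg.Geo.specialLinear (Fin n) F) := by
  haveI : CharP F 2 := charP_of_card_eq_prime_pow (p := 2) (f := 2) (by rw [hF]; norm_num)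
  refine main hF D hD ?_
  have hint : DirectSum.IsInternal D :=
    DirectSum.isInternal_submodule_of_iSupIndep_of_iSup_eq_top hD.decomp.indep hD.decomp.iSup_eq_top
  have h := (LinearEquiv.ofBijective (DirectSum.coeLinearMap D) hint).finrank_eq
  rw [Module.finrank_directSum, Module.finrank_pi] at h
  simp [hD.decomp.finrank_eq] at h
  omega

end Cfsg.Agent.S5656
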