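import Cfsg.Statements.S5657
import Cfsg.Agent.Lib.Maximal.HermTv

set_option autoImplicit false
open Cfsg

namespace Cfsg.Agent.S5657

section
set_option maxHeartbeats 1600000
open scoped Matrix
open CfsgLib.Maximal

variable {F : Type*} [Field F] {n q k : ℕ} {τ : F ≃+* F}

local notation "hh" => Cfsg.hermForm n F q
local notation "MM" => Matrix (Fin n) (Fin n) F

variable [Fintype F] {M : Subgroup (Matrix.GeneralLinearGroup (Fin n) F)}

lemma hh_sub_right (hf : Cfsg.Geo.IsUnitaryForm τ hh) (v x y : Fin n → F) : hh v (x - y) = hh v x - hh v y := by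
  rw [sub_eq_add_neg, ← neg_one_smul F y, un_add_right hf, un_smul_right hf, map_neg, map_one]; ring

lemma hh_sub_left (hf : Cfsg.Geo.IsUnitaryForm τ hh) (v x y : Fin n → F) : hh (x - y) v = hh x v - hh y v := by
  rw [sub_eq_add_neg, ← neg_one_smul F y, hf.add_left, hf.smul_left]; ring

/-- The element `x ↦ x + h(x,d) c - h(x,c) d`. -/
def pairU (hf : Cfsg.Geo.IsUnitaryForm τ hh) {c d : Fin n → F} (hc : hh c c = 0) (hcd : hh c d = 0) :
    Matrix.GeneralLinearGroup (Fin n) F :=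
  unSiegel hf hc (w := -d) (by
    rw [← neg_one_smul F d, hf.smul_left, hf.herm d c, hcd, map_zero, mul_zero]) 0

lemma pairU_mulVec (hf : Cfsg.Geo.IsUnitaryForm τ hh) {c d : Fin n → F} (hc : hh c c = 0) (hcd : hh c d = 0)
    (x : Fin n → F) : (pairU hf hc hcd : MM) *ᵥ x = x + hh x d • c - hh x c • d := by
  rw [pairU, unSiegel_mulVec, ← neg_one_smul F d, un_smul_right hf, map_neg, map_one]
  module

lemma pairU_mem (hf : Cfsg.Geo.IsUnitaryForm τ hh) {c d : Fin n → F} (hc : hh c c = 0) (hcd : hh c d = 0)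
    (hd : hh d d = 0) : pairU hf hc hcd ∈ suGL n F q := by
  refine siegel_mem_su hf hc _ ?_
  rw [← neg_one_smul F d, hf.smul_left, un_smul_right hf, hd, map_zero]; ring

/-- The pair element lies in `M`. -/
def HasPair (τ : F ≃+* F) (q : ℕ) (M : Subgroup (Matrix.GeneralLinearGroup (Fin n) F)) (c d : Fin n → F) : Prop :=
  ∃ g ∈ M, ∀ x, (g : MM) *ᵥ x = x + Cfsg.hermForm n F q x d • c - Cfsg.hermForm n F q x c • d

lemma HasPair.conj (hf : Cfsg.Geo.IsUnitaryForm τ hh) (hMS : M ≤ suGL n F q) {c d : Fin n → F}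
    (h : HasPair τ q M c d) {g : Matrix.GeneralLinearGroup (Fin n) F} (hg : g ∈ M) :
    HasPair τ q M ((g : MM) *ᵥ c) ((g : MM) *ᵥ d) := by
  obtain ⟨e, he, hev⟩ := h
  refine ⟨g * e * g⁻¹, mul_mem (mul_mem hg he) (inv_mem hg), fun y => ?_⟩
  obtain ⟨x, rfl⟩ := mulVec_surj g y
  have hi : ((g⁻¹ : Matrix.GeneralLinearGroup (Fin n) F) : MM) *ᵥ ((g : MM) *ᵥ x) = x := by
    rw [Matrix.mulVec_mulVec, ← Units.val_mul, inv_mul_cancel, Units.val_one, Matrix.one_mulVec]
  simp only [Units.val_mul, ← Matrix.mulVec_mulVec, hi, hev, Matrix.mulVec_add, Matrix.mulVec_sub,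
    Matrix.mulVec_smul, (mem_GU_iff g).1 (hMS hg).1]

lemma HasPair.flip (hf : Cfsg.Geo.IsUnitaryForm τ hh) {c d : Fin n → F} (hc : hh c c = 0) (hd : hh d d = 0)
    (hcd : hh c d = 0) (h : HasPair τ q M c d) : HasPair τ q M d c := by
  have hdc : hh d c = 0 := by rw [hf.herm, hcd, map_zero]
  obtain ⟨e, he, hev⟩ := h
  refine ⟨e⁻¹, inv_mem he, fun x => mulVec_inj e ?_⟩
  show (e : MM) *ᵥ _ = (e : MM) *ᵥ _
  rw [Matrix.mulVec_mulVec, ← Units.val_mul, mul_inv_cancel, Units.val_one, Matrix.one_mulVec,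
    Matrix.mulVec_sub, Matrix.mulVec_add, Matrix.mulVec_smul, Matrix.mulVec_smul, hev x, hev c, hev d, hc, hd, hcd, hdc]
  module

/-- Two complementary totally isotropic halves of dimension `k`. -/
structure Halves (q : ℕ) (k : ℕ) (U W : Submodule F (Fin n → F)) : Prop where
  tsU : ∀ a ∈ U, ∀ b ∈ U, Cfsg.hermForm n F q a b = 0
  tsW : ∀ a ∈ W, ∀ b ∈ W, Cfsg.hermForm n F q a b = 0
  sup : U ⊔ W = ⊤
  dis : Disjoint U W
  dimU : Module.finrank F U = k
  dimW : Module.finrank F W = k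

variable {U W : Submodule F (Fin n → F)}

lemma Halves.symm (h : Halves q k U W) : Halves q k W U :=
  ⟨h.tsW, h.tsU, by rw [sup_comm]; exact h.sup, h.dis.symm, h.dimW, h.dimU⟩

lemma Halves.split (h : Halves q k U W) (x : Fin n → F) : ∃ a ∈ U, ∃ b ∈ W, a + b = x :=
  Submodule.mem_sup.1 (h.sup ▸ Submodule.mem_top : x ∈ U ⊔ W)

lemma Halves.eval (hf : Cfsg.Geo.IsUnitaryForm τ hh) (h : Halves q k U W)
    {y a : Fin n → F} (hy : y ∈ U) (ha : a ∈ U) (hay : a ∉ Submodule.span F {y}) :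
    ∃ w ∈ W, hh w y = 0 ∧ hh w a = 1 := by
  obtain ⟨b, hb, hb1⟩ := un_eval₀ hf (fun _ : Unit => y) (x := a) (by simpa using hay)
  obtain ⟨p, hp, r, hr, rfl⟩ := h.split b
  have hb0 := hb ()
  rw [hf.add_left, h.tsU p hp y hy, zero_add] at hb0
  rw [hf.add_left, h.tsU p hp a ha, zero_add] at hb1
  exact ⟨r, hr, hb0, hb1⟩

/-- `M` contains the pair elements of the two halves. -/
def HasPairs (τ : F ≃+* F) (q : ℕ) (M : Subgroup (Matrix.GeneralLinearGroup (Fin n) F))
    (U W : Submodule F (Fin n → F)) : Prop :=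
  ∀ u ∈ U, ∀ w ∈ W, Cfsg.hermForm n F q u w = 0 → HasPair τ q M u w

/-- An element fixing `u` and moving `w'` off `w^⊥` gives all transvections centred in `U`. -/
lemma full_of_fix (hf : Cfsg.Geo.IsUnitaryForm τ hh) (hk : 3 ≤ k) (hMS : M ≤ suGL n F q) (hH : Halves q k U W)
    (hP : HasPairs τ q M U W) {e : Matrix.GeneralLinearGroup (Fin n) F} (he : e ∈ M) {u w w' : Fin n → F}
    (huU : u ∈ U) (hu0 : u ≠ 0) (heu : (e : MM) *ᵥ u = u) (hw : w ∈ W) (hw' : w' ∈ W) (hwu : hh w u = 0)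
    (hwu' : hh w' u = 0) (hbw : hh ((e : MM) *ᵥ w') w ≠ 0) : ∀ u ∈ U, UFull τ q M u := by
  have hsm : ∀ (x y : Fin n → F) (c : F), hh x (c • y) = τ c * hh x y := fun x y c => un_smul_right hf c x y
  set b := (e : MM) *ᵥ w'
  have hgu := (mem_GU_iff e).1 (hMS he).1
  have huw' : hh u w' = 0 := by rw [hf.herm, hwu', map_zero]
  have huw : hh u w = 0 := by rw [hf.herm, hwu, map_zero]
  have hub : hh u b = 0 := by rw [← heu, hgu]; exact huw'
  have hbb : hh b b = 0 := by rw [hgu]; exact hH.tsW w' hw' w' hw'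
  have hbu : hh b u = 0 := by rw [hf.herm, hub, map_zero]
  have hpb : HasPair τ q M u b := by
    have := (hP u huU w' hw' huw').conj hf hMS he
    rwa [heu] at this
  obtain ⟨c, hc⟩ : ∃ c : F, c ≠ τ c := by
    by_contra hh'
    push Not at hh'
    exact hf.ne_refl (RingEquiv.ext fun a => (hh' a).symm)
  set t := τ (c / hh b w) with ht
  set b' := t • w
  set κ := hh b b' - hh b' b with hκ
  have hκskew : τ κ = -κ := by rw [hκ, map_sub, ← hf.herm, ← hf.herm]; ring
  have hκ0 : κ ≠ 0 := by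
    have e : hh b b' = c := by rw [hsm, ht, hf.involutive, div_mul_cancel₀ _ hbw]
    rw [hκ, hf.herm b' b, e]
    exact sub_ne_zero.2 hc
  have hub' : hh u b' = 0 := by rw [hsm, huw, mul_zero]
  have hb'u : hh b' u = 0 := by rw [hf.herm, hub', map_zero]
  have huu : hh u u = 0 := hH.tsU u huU u huU
  obtain ⟨e₁, he₁, hev₁⟩ := hpb
  obtain ⟨e₂, he₂, hev₂⟩ := hP u huU b' (W.smul_mem _ hw) hub'
  have hdot : fvec hh u ⬝ᵥ (κ • u) = 0 := un_tv_dot hf huu κ
  have hK : Has M (κ • u) (fvec hh u) := by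
    refine ⟨hdot, ?_⟩
    have hT : tv (κ • u) (fvec hh u) hdot * (e₂ * e₁) = e₁ * e₂ := by
      refine Units.ext (CfsgLib.Geometry.matrix_eq_of_mulVec fun x => ?_)
      simp only [Units.val_mul, ← Matrix.mulVec_mulVec, tv_mulVec, un_dot hf, hev₁, hev₂, hh_sub_left hf,
        hf.add_left, hf.smul_left, huu, hub, hub', hbu, hb'u, mul_zero, add_zero, sub_zero, hκ]
      module
    rw [eq_mul_inv_iff_mul_eq.2 hT]
    exact mul_mem (mul_mem he₁ he₂) (inv_mem (mul_mem he₂ he₁))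
  have step : ∀ v ∈ U, v ≠ 0 → ∀ v' ∈ U, v' ∉ Submodule.span F {v} → Has M (κ • v) (fvec hh v) →
      Has M (κ • v') (fvec hh v') := by
    intro v hv hv0 v' hv' hind hvM
    have hvy : v ∉ Submodule.span F {v' - v} := by
      intro h
      obtain ⟨a, ha⟩ := Submodule.mem_span_singleton.1 h
      have ha0 : a ≠ 0 := fun h => hv0 (by rw [← ha, h, zero_smul])
      exact hind (Submodule.mem_span_singleton.2 ⟨a⁻¹ + 1, by
        rw [add_smul, one_smul]; nth_rewrite 1 [← ha]; rw [inv_smul_smul₀ ha0]; abel⟩)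
    obtain ⟨z, hz, hzy, hzv⟩ := hH.eval hf (U.sub_mem hv' hv) hv hvy
    have hvz : hh v z = 1 := by rw [hf.herm, hzv, map_one]
    obtain ⟨g, hg, hgv⟩ := hP _ (U.sub_mem hv' hv) z hz (by rw [hf.herm, hzy, map_zero])
    have hg' : (g : MM) *ᵥ v = v' := by
      rw [hgv, hvz, hH.tsU v hv _ (U.sub_mem hv' hv)]
      simp
    have := hvM.conj hg
    rw [Matrix.mulVec_smul, hg'] at this
    convert this using 1
    refine dot_ext fun y => ?_
    obtain ⟨x, rfl⟩ := mulVec_surj g y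
    rw [dot_vecMul_inv, un_dot hf, un_dot hf, ← hg']
    exact (mem_GU_iff g).1 (hMS hg).1 x v
  have hall : ∀ v ∈ U, Has M (κ • v) (fvec hh v) := by
    intro v hv
    rcases eq_or_ne v 0 with rfl | hv0
    · exact has_of_zero (Or.inl (smul_zero κ))
    by_cases hind : v ∈ Submodule.span F {u}
    · obtain ⟨z, hz, hzu⟩ : ∃ z ∈ U, z ∉ Submodule.span F {u} := by
        by_contra hcon
        push Not at hcon
        have := Submodule.finrank_mono (fun z hz => hcon z hz : U ≤ Submodule.span F {u})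
        rw [finrank_span_singleton hu0, hH.dimU] at this
        omega
      have hz0 : z ≠ 0 := fun h => hzu (h ▸ zero_mem _)
      refine step z hz hz0 v hv (fun h => ?_) (step u huU hu0 z hz hzu hK)
      obtain ⟨a, ha⟩ := Submodule.mem_span_singleton.1 h
      obtain ⟨a', ha'⟩ := Submodule.mem_span_singleton.1 hind
      have ha0 : a ≠ 0 := fun h => hv0 (by rw [← ha, h, zero_smul])
      exact hzu (Submodule.mem_span_singleton.2 ⟨a⁻¹ * a', by rw [← smul_smul, ha', ← ha, inv_smul_smul₀ ha0]⟩)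
    · exact step u huU hu0 v hv hind hK
  intro v hv K hK'
  obtain ⟨r, hr⟩ := CfsgLib.Geometry.exists_norm_eq (σ := (τ : F →+* F))
    (fun h => hf.ne_refl (RingEquiv.ext fun a => RingHom.congr_fun h a)) (fun a => hf.involutive a)
    (c := K / κ) (by
      show τ (K / κ) = _
      rw [map_div₀, hK', hκskew, neg_div_neg_eq])
  change r * τ r = _ at hr
  have hr' := hall (r • v) (U.smul_mem _ hv)
  rw [smul_smul, un_fvec_smul hf, ← Has.smul_iff, smul_smul,
    show τ r * (κ * r) = K by rw [← mul_div_cancel₀ K hκ0, ← hr]; ring] at hr'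
  exact hr'


/-- Elements in mixed position, with a good vector `u`. -/
lemma full_of_good (hf : Cfsg.Geo.IsUnitaryForm τ hh) (hk : 3 ≤ k) (hMS : M ≤ suGL n F q) (hH : Halves q k U W)
    (hP : HasPairs τ q M U W) {a₁ a₂ b₁ b₂ u : Fin n → F} (ha₁ : a₁ ∈ U) (ha₂ : a₂ ∈ W) (hb₁ : b₁ ∈ U)
    (hb₂ : b₂ ∈ W) (hx : ∀ l : F, HasPair τ q M (a₁ + a₂) (l • (b₁ + b₂))) (huU : u ∈ U) (hu0 : u ≠ 0)
    (hua₂ : hh u a₂ = 0) (hub₂ : hh u b₂ = 0) (hna : a₁ ∉ Submodule.span F {u}) (hnb : b₁ ∉ Submodule.span F {u}) :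
    ∀ u ∈ U, UFull τ q M u := by
  have hsm : ∀ (x y : Fin n → F) (c : F), hh x (c • y) = τ c * hh x y := fun x y c => un_smul_right hf c x y
  -- vectors of `W` with a non-zero value
  obtain ⟨l, w, hw, w', hw', hwu, hwu', hval⟩ : ∃ l, ∃ w ∈ W, ∃ w' ∈ W, hh w u = 0 ∧ hh w' u = 0 ∧
      τ l * hh w' b₁ * hh a₁ w - hh w' a₁ * (l * hh b₁ w) ≠ 0 := by
    by_cases hb : b₁ ∈ Submodule.span F (Set.range ![u, a₁])
    · obtain ⟨p, hp⟩ := (Submodule.mem_span_range_iff_exists_fun F).1 hb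
      simp [Fin.sum_univ_two] at hp
      have hp1 : p 1 ≠ 0 := fun h => hnb (Submodule.mem_span_singleton.2 ⟨p 0, by
        rw [h, zero_smul, add_zero] at hp; exact hp⟩)
      obtain ⟨r, hr0, hr⟩ := un_skew_exists hf
      obtain ⟨l₀, hl₀⟩ : ∃ l : F, τ l ≠ l := by
        by_contra hh'
        push Not at hh'
        exact hf.ne_refl (RingEquiv.ext fun a => hh' a)
      obtain ⟨w, hw, hwu, hwa⟩ := hH.eval hf huU ha₁ hna
      refine ⟨l₀ / p 1, w, hw, w, hw, hwu, hwu, ?_⟩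
      have e1 : hh w b₁ = τ (p 1) := by
        rw [← hp, un_add_right hf, hsm, hsm, hwu, hwa]; ring
      have e2 : hh b₁ w = p 1 := by rw [hf.herm, e1, hf.involutive]
      rw [e1, e2, hf.herm a₁ w, hwa, map_one, map_div₀, div_mul_cancel₀ _ hp1, mul_one, one_mul,
        div_mul_cancel₀ _ (fun h => hp1 (τ.injective (h.trans (map_zero τ).symm)))]
      exact sub_ne_zero.2 hl₀
    · obtain ⟨w', hw'', hw'b⟩ := un_eval₀ hf ![u, a₁] hb
      obtain ⟨p, hp, r, hr, rfl⟩ := hH.split w'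
      obtain ⟨w, hw, hwu, hwa⟩ := hH.eval hf huU ha₁ hna
      have e0 : hh r u = 0 := by
        have := hw'' 0
        rwa [hf.add_left, hH.tsU p hp _ (show (![u, a₁] 0) ∈ U from huU), zero_add] at this
      have e1 : hh r a₁ = 0 := by
        have := hw'' 1
        rwa [hf.add_left, hH.tsU p hp _ (show (![u, a₁] 1) ∈ U from ha₁), zero_add] at this
      rw [hf.add_left, hH.tsU p hp b₁ hb₁, zero_add] at hw'b
      refine ⟨1, w, hw, r, hr, hwu, e0, ?_⟩
      rw [hw'b, e1, hf.herm a₁ w, hwa, map_one]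
      simp
  obtain ⟨e, he, hev⟩ := hx l
  refine full_of_fix hf hk hMS hH hP he huU hu0 ?_ hw hw' hwu hwu' ?_
  · rw [hev, hsm, un_add_right hf, un_add_right hf, hub₂, hua₂, hH.tsU u huU b₁ hb₁, hH.tsU u huU a₁ ha₁]
    simp
  · rw [hev, hsm, hh_sub_left hf]
    simp only [hf.add_left, un_add_right hf, hf.smul_left, hH.tsW w' hw' w hw, hH.tsW a₂ ha₂ w hw,
      hH.tsW b₂ hb₂ w hw, hH.tsW w' hw' a₂ ha₂, hH.tsW w' hw' b₂ hb₂, zero_add, add_zero]
    exact hval

/-- The case in which `a₁` is orthogonal to both components in `W`. -/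
lemma full_of_deg (hf : Cfsg.Geo.IsUnitaryForm τ hh) (hk : 3 ≤ k) (hMS : M ≤ suGL n F q) (hH : Halves q k U W)
    (hP : HasPairs τ q M U W) {a₁ a₂ b₁ b₂ : Fin n → F} (ha₁ : a₁ ∈ U) (ha₁0 : a₁ ≠ 0) (ha₂ : a₂ ∈ W)
    (hb₁ : b₁ ∈ U) (hb₂ : b₂ ∈ W) (hcc : hh (a₁ + a₂) (b₁ + b₂) = 0)
    (hx : ∀ l : F, HasPair τ q M (a₁ + a₂) (l • (b₁ + b₂))) (haa : hh a₁ a₂ = 0) (hab : hh a₁ b₂ = 0)
    (ha2b : a₂ ∉ Submodule.span F {b₂}) (hb2a : b₂ ∉ Submodule.span F {a₂}) :
    (∀ u ∈ U, UFull τ q M u) ∨ ∀ u ∈ W, UFull τ q M u := by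
  have hsm : ∀ (x y : Fin n → F) (c : F), hh x (c • y) = τ c * hh x y := fun x y c => un_smul_right hf c x y
  have ha2b1 : hh a₂ b₁ = 0 := by
    rw [hf.add_left, un_add_right hf, un_add_right hf, hH.tsU a₁ ha₁ b₁ hb₁, hH.tsW a₂ ha₂ b₂ hb₂, hab] at hcc
    simpa using hcc
  have hba : hh b₁ a₂ = 0 := by rw [hf.herm, ha2b1, map_zero]
  have hba1 : hh b₂ a₁ = 0 := by rw [hf.herm, hab, map_zero]
  have haa' : hh a₂ a₁ = 0 := by rw [hf.herm, haa, map_zero]
  have hb20 : b₂ ≠ 0 := fun h => hb2a (h ▸ zero_mem _)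
  have ha20 : a₂ ≠ 0 := fun h => ha2b (h ▸ zero_mem _)
  by_cases hdep : b₁ ∈ Submodule.span F {a₁}
  · obtain ⟨l, rfl⟩ := Submodule.mem_span_singleton.1 hdep
    refine Or.inr (full_of_good (u := a₂ + b₂) hf hk hMS hH.symm
      (fun w hw u hu hwu => ((hP u hu w hw (by rw [hf.herm, hwu, map_zero])).flip hf (hH.tsU u hu u hu)
        (hH.tsW w hw w hw) (by rw [hf.herm, hwu, map_zero]))) ha₂ ha₁ hb₂ hb₁
      (fun m => by rw [add_comm a₂, add_comm b₂]; exact hx m) (W.add_mem ha₂ hb₂)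
      (fun h => ha2b (Submodule.mem_span_singleton.2 ⟨-1, by rw [neg_one_smul, eq_neg_of_add_eq_zero_left h]⟩))
      ?_ ?_ ?_ ?_)
    · rw [hf.add_left, haa', hba1, add_zero]
    · rw [hsm, hf.add_left, haa', hba1, add_zero, mul_zero]
    · intro h
      obtain ⟨k, hk⟩ := Submodule.mem_span_singleton.1 h
      have hk0 : k ≠ 0 := fun h' => ha20 (by rw [← hk, h', zero_smul])
      refine hb2a (Submodule.mem_span_singleton.2 ⟨k⁻¹ - 1, ?_⟩)
      rw [sub_smul, one_smul]
      nth_rewrite 1 [← hk]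
      rw [inv_smul_smul₀ hk0, add_sub_cancel_left]
    · intro h
      obtain ⟨k, hk⟩ := Submodule.mem_span_singleton.1 h
      have hk0 : k ≠ 0 := fun h' => hb20 (by rw [← hk, h', zero_smul])
      refine ha2b (Submodule.mem_span_singleton.2 ⟨k⁻¹ - 1, ?_⟩)
      rw [sub_smul, one_smul]
      nth_rewrite 1 [← hk]
      rw [inv_smul_smul₀ hk0, add_sub_cancel_right]
  obtain ⟨w, hw, hwa, hwb⟩ := hH.eval hf ha₁ hb₁ hdep
  obtain ⟨u₀, hu₀, hua₀, hub₀⟩ := hH.symm.eval hf ha₂ hb₂ hb2a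
  have hbw : hh b₁ w = 1 := by rw [hf.herm, hwb, map_one]
  have haw : hh a₁ w = 0 := by rw [hf.herm, hwa, map_zero]
  set u := (-1 : F) • u₀ with hudef
  have hu : u ∈ U := U.smul_mem _ hu₀
  have hua : hh u a₂ = 0 := by rw [hudef, hf.smul_left, hua₀, mul_zero]
  have hbu : hh b₂ u = -1 := by rw [hudef, hsm, hf.herm b₂ u₀, hub₀, map_neg, map_one, mul_one]
  have hau : hh a₂ u = 0 := by rw [hf.herm, hua, map_zero]
  obtain ⟨g₁, hg₁, hg₁v⟩ := hP a₁ ha₁ w hw haw
  obtain ⟨g₂, hg₂, hg₂v⟩ := hP u hu a₂ ha₂ hua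
  have hgM : g₁ * g₂ ∈ M := mul_mem hg₁ hg₂
  have hgc : ((g₁ * g₂ : Matrix.GeneralLinearGroup (Fin n) F) : MM) *ᵥ (a₁ + a₂) = a₁ + a₂ := by
    rw [Units.val_mul, ← Matrix.mulVec_mulVec, hg₂v]
    simp only [hf.add_left, haa, hH.tsW a₂ ha₂ a₂ ha₂, hH.tsU a₁ ha₁ u hu, hau, add_zero, zero_smul, sub_zero]
    rw [hg₁v]
    simp only [hf.add_left, haw, hH.tsW a₂ ha₂ w hw, hH.tsU a₁ ha₁ a₁ ha₁, haa', add_zero, zero_smul, sub_zero]
  have hgd : ((g₁ * g₂ : Matrix.GeneralLinearGroup (Fin n) F) : MM) *ᵥ (b₁ + b₂) = (b₁ + b₂) + (a₁ + a₂) := by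
    rw [Units.val_mul, ← Matrix.mulVec_mulVec, hg₂v]
    simp only [hf.add_left, hba, hH.tsW b₂ hb₂ a₂ ha₂, hH.tsU b₁ hb₁ u hu, hbu, add_zero, zero_add, zero_smul,
      neg_smul, one_smul, sub_neg_eq_add]
    rw [hg₁v]
    simp only [hf.add_left, hbw, hH.tsW b₂ hb₂ w hw, hH.tsW a₂ ha₂ w hw, hH.tsU b₁ hb₁ a₁ ha₁, hba1, haa', add_zero,
      zero_smul, sub_zero, one_smul]
    abel
  obtain ⟨l, hl⟩ : ∃ l : F, τ l ≠ l := by
    by_contra hh'
    push Not at hh'
    exact hf.ne_refl (RingEquiv.ext fun a => hh' a)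
  obtain ⟨e₀, he₀, he₀v⟩ := hx l
  obtain ⟨e₁, he₁, he₁v⟩ := (hx l).conj hf hMS hgM
  simp only [Matrix.mulVec_smul, hgc, hgd] at he₁v
  -- the transvection centred at `a₁ + a₂`
  set c := a₁ + a₂ with hcdef
  have hc0 : hh c c = 0 := by
    rw [hcdef, hf.add_left, un_add_right hf, un_add_right hf, hH.tsU a₁ ha₁ a₁ ha₁, hH.tsW a₂ ha₂ a₂ ha₂, haa, haa']
    ring
  set d := b₁ + b₂ with hddef
  have hdc : hh d c = 0 := by rw [hf.herm, hcc, map_zero]
  have hT : ∀ x, ((e₁ * e₀⁻¹ : Matrix.GeneralLinearGroup (Fin n) F) : MM) *ᵥ x = x + ((τ l - l) * hh x c) • c := by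
    intro x
    obtain ⟨y, rfl⟩ := mulVec_surj e₀ x
    show _ = (e₀ : MM) *ᵥ y + _
    rw [Matrix.mulVec_mulVec, ← Units.val_mul, inv_mul_cancel_right, he₁v]
    dsimp only
    rw [he₀v]
    simp only [hh_sub_left hf, hf.add_left, hf.smul_left, hsm, un_add_right hf, hdc, hc0]
    module
  refine Or.inl ?_
  have hna : a₁ ∉ Submodule.span F {u} := by
    intro h
    obtain ⟨z, hz⟩ := Submodule.mem_span_singleton.1 h
    have h1 := hba1
    rw [← hz, hsm, hbu, mul_neg, mul_one, neg_eq_zero] at h1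
    exact ha₁0 (by rw [← hz, show z = 0 from τ.injective (h1.trans (map_zero τ).symm), zero_smul])
  have hu0 : u ≠ 0 := fun h => by
    rw [h, un_zero_right hf] at hbu
    exact neg_ne_zero.2 one_ne_zero hbu.symm
  obtain ⟨w', hw', hwu', hwa'⟩ := hH.eval hf hu ha₁ hna
  refine full_of_fix hf hk hMS hH hP (mul_mem he₁ (inv_mem he₀)) hu hu0 ?_ hw' hw' hwu' hwu' ?_
  · rw [hT, hcdef, un_add_right hf, hH.tsU u hu a₁ ha₁, hua]
    simp
  · rw [hT, hf.add_left, hf.smul_left, hH.tsW w' hw' w' hw', hcdef, un_add_right hf, hwa',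
      hH.tsW w' hw' a₂ ha₂, hf.add_left, hH.tsW a₂ ha₂ w' hw', hf.herm a₁ w', hwa', map_one]
    simpa using sub_ne_zero.2 hl

/-- From elements in mixed position, all transvections centred in `U`, or all those centred in `W`. -/
lemma full_of_mixed (hf : Cfsg.Geo.IsUnitaryForm τ hh) (hk : 3 ≤ k) (hMS : M ≤ suGL n F q) (hH : Halves q k U W)
    (hP : HasPairs τ q M U W) {a₁ a₂ b₁ b₂ : Fin n → F} (ha₁ : a₁ ∈ U) (ha₁0 : a₁ ≠ 0) (ha₂ : a₂ ∈ W)
    (hb₁ : b₁ ∈ U) (hb₁0 : b₁ ≠ 0) (hb₂ : b₂ ∈ W)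
    (hx : ∀ l : F, HasPair τ q M (a₁ + a₂) (l • (b₁ + b₂))) (hcc : hh (a₁ + a₂) (b₁ + b₂) = 0)
    (hflip : ∀ l : F, HasPair τ q M (b₁ + b₂) (l • (a₁ + a₂))) :
    (∀ u ∈ U, UFull τ q M u) ∨ ∀ u ∈ W, UFull τ q M u := by
  classical
  by_cases hex : ∃ u ∈ U, u ≠ 0 ∧ hh u a₂ = 0 ∧ hh u b₂ = 0 ∧ a₁ ∉ Submodule.span F {u} ∧
      b₁ ∉ Submodule.span F {u}
  · obtain ⟨u, huU, hu0, h1, h2', h3, h4⟩ := hex
    exact Or.inl (full_of_good hf hk hMS hH hP ha₁ ha₂ hb₁ hb₂ hx huU hu0 h1 h2' h3 h4)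
  have hline : ∀ x ∈ U, hh x a₂ = 0 → hh x b₂ = 0 →
      x ∈ Submodule.span F {a₁} ∨ x ∈ Submodule.span F {b₁} := by
    intro x hxU hxa hxb
    rcases eq_or_ne x 0 with rfl | hx0
    · exact Or.inl (zero_mem _)
    have flip : ∀ a : Fin n → F, a ≠ 0 → a ∈ Submodule.span F {x} → x ∈ Submodule.span F {a} := by
      intro a ha hmem
      obtain ⟨k, hk⟩ := Submodule.mem_span_singleton.1 hmem
      have hk0 : k ≠ 0 := fun h' => ha (by rw [← hk, h', zero_smul])
      exact Submodule.mem_span_singleton.2 ⟨k⁻¹, by rw [← hk, inv_smul_smul₀ hk0]⟩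
    by_contra hcon
    push Not at hcon
    exact hex ⟨x, hxU, hx0, hxa, hxb, fun h => hcon.1 (flip a₁ ha₁0 h), fun h => hcon.2 (flip b₁ hb₁0 h)⟩
  have small : ∀ {m : ℕ} (L : (Fin n → F) →ₗ[F] (Fin m → F)),
      (∀ x ∈ U, L x = 0 → hh x a₂ = 0 ∧ hh x b₂ = 0) → k ≤ m + 1 := by
    intro m L hL
    have h0 : U ⊓ LinearMap.ker L ≤ Submodule.span F {a₁} ∨ U ⊓ LinearMap.ker L ≤ Submodule.span F {b₁} := by
      have hu : ∀ x ∈ U ⊓ LinearMap.ker L, x ∈ Submodule.span F {a₁} ∨ x ∈ Submodule.span F {b₁} :=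
        fun x hx => hline x hx.1 (hL x hx.1 hx.2).1 (hL x hx.1 hx.2).2
      by_contra hcon
      push Not at hcon
      obtain ⟨p, hp, hp'⟩ := SetLike.not_le_iff_exists.1 hcon.1
      obtain ⟨r, hr, hr'⟩ := SetLike.not_le_iff_exists.1 hcon.2
      have hpb := (hu p hp).resolve_left hp'
      have hra := (hu r hr).resolve_right hr'
      rcases hu (p + r) (add_mem hp hr) with h | h
      · exact hp' (by simpa using sub_mem h hra)
      · exact hr' (by simpa using sub_mem h hpb)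
    have h1 : Module.finrank F (U ⊓ LinearMap.ker L : Submodule F (Fin n → F)) ≤ 1 := by
      rcases h0 with h | h
      · exact (Submodule.finrank_mono h).trans (finrank_span_singleton ha₁0).le
      · exact (Submodule.finrank_mono h).trans (finrank_span_singleton hb₁0).le
    have h3 := Submodule.finrank_sup_add_finrank_inf_eq U (LinearMap.ker L)
    have h4 := L.finrank_range_add_finrank_ker
    have h5 := (LinearMap.range L).finrank_le
    have h6 := (U ⊔ LinearMap.ker L).finrank_le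
    rw [hH.dimU] at h3
    simp at h4 h5 h6
    omega
  have hind : a₂ ∉ Submodule.span F {b₂} ∧ b₂ ∉ Submodule.span F {a₂} := by
    constructor <;> intro h <;> obtain ⟨c, hc⟩ := Submodule.mem_span_singleton.1 h
    · have := small (LinearMap.pi fun _ : Fin 1 => dotProductEquiv F (Fin n) (fvec hh b₂)) fun x _ hx => by
        have hxb : hh x b₂ = 0 := (un_dot hf b₂ x).symm.trans (congrFun hx 0)
        exact ⟨by rw [← hc, un_smul_right hf, hxb, mul_zero], hxb⟩
      omega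
    · have := small (LinearMap.pi fun _ : Fin 1 => dotProductEquiv F (Fin n) (fvec hh a₂)) fun x _ hx => by
        have hxb : hh x a₂ = 0 := (un_dot hf a₂ x).symm.trans (congrFun hx 0)
        exact ⟨hxb, by rw [← hc, un_smul_right hf, hxb, mul_zero]⟩
      omega
  obtain ⟨x, hxU, hx0, hxa, hxb⟩ : ∃ x ∈ U, x ≠ 0 ∧ hh x a₂ = 0 ∧ hh x b₂ = 0 := by
    by_contra hcon
    push Not at hcon
    let L : U →ₗ[F] (Fin 2 → F) :=
      (LinearMap.pi fun i => dotProductEquiv F (Fin n) (fvec hh (![a₂, b₂] i))).comp U.subtype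
    have hL : LinearMap.ker L = ⊥ := (Submodule.eq_bot_iff _).2 fun z hz => by
      have h0 : hh (z : Fin n → F) a₂ = 0 := (un_dot hf a₂ _).symm.trans (congrFun hz 0)
      have h1 : hh (z : Fin n → F) b₂ = 0 := (un_dot hf b₂ _).symm.trans (congrFun hz 1)
      by_contra hne
      exact hcon z z.2 (fun h => hne (Subtype.ext h)) h0 h1
    have h4 := L.finrank_range_add_finrank_ker
    have h5 := (LinearMap.range L).finrank_le
    rw [hL, finrank_bot, hH.dimU] at h4
    simp at h5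
    omega
  rcases hline x hxU hxa hxb with h | h <;> obtain ⟨c, rfl⟩ := Submodule.mem_span_singleton.1 h <;>
    rw [smul_ne_zero_iff] at hx0 <;> rw [hf.smul_left] at hxa hxb
  · exact full_of_deg hf hk hMS hH hP ha₁ ha₁0 ha₂ hb₁ hb₂ hcc hx
      ((mul_eq_zero.1 hxa).resolve_left hx0.1) ((mul_eq_zero.1 hxb).resolve_left hx0.1) hind.1 hind.2
  · exact full_of_deg hf hk hMS hH hP hb₁ hb₁0 hb₂ ha₁ ha₂ (by rw [hf.herm, hcc, map_zero]) hflip
      ((mul_eq_zero.1 hxb).resolve_left hx0.1) ((mul_eq_zero.1 hxa).resolve_left hx0.1) hind.2 hind.1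

lemma exists_weyl (hf : Cfsg.Geo.IsUnitaryForm τ hh) {k : ℕ} {r : F} (hr0 : r ≠ 0) (hr : τ r = -r)
    (bu bw : Fin k → Fin n → F) (huu : ∀ i j, hh (bu i) (bu j) = 0) (hww : ∀ i j, hh (bw i) (bw j) = 0)
    (hwu : ∀ i j, hh (bw i) (bu j) = if i = j then 1 else 0) (s : Finset (Fin k)) :
    ∃ g ∈ suGL n F q, ∀ j, (g : MM) *ᵥ bu j = (if j ∈ s then (-r⁻¹) • bw j else bu j) ∧
      (g : MM) *ᵥ bw j = (if j ∈ s then r • bu j else bw j) := by
  classical
  induction s using Finset.induction with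
  | empty => exact ⟨1, one_mem _, fun j => by simp⟩
  | @insert a s ha ih =>
    obtain ⟨g, hg, hgv⟩ := ih
    have hl : τ (-r⁻¹) = -(-r⁻¹) := by rw [map_neg, map_inv₀, hr]; field_simp
    have huw : ∀ i j, hh (bu i) (bw j) = if j = i then 1 else 0 := fun i j => by
      rw [hf.herm, hwu]; split_ifs <;> simp
    let tu := tv (r • bu a) (fvec hh (bu a)) (un_tv_dot hf (huu a a) r)
    let tw := tv ((-r⁻¹) • bw a) (fvec hh (bw a)) (un_tv_dot hf (hww a a) _)
    refine ⟨tu * tw * tu * g, mul_mem (mul_mem (mul_mem (utv_mem_su hf (huu a a) hr) (utv_mem_su hf (hww a a) hl))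
      (utv_mem_su hf (huu a a) hr)) hg, fun j => ?_⟩
    rcases eq_or_ne j a with rfl | hja
    · constructor
      · simp only [Units.val_mul, ← Matrix.mulVec_mulVec, (hgv j).1, ha, if_false, tu, tw, tv_mulVec, un_dot hf,
          hf.add_left, hf.smul_left, huu, hww, hwu, huw, if_true, Finset.mem_insert_self, zero_smul, add_zero,
          mul_zero, mul_one]
        match_scalars <;> field_simp <;> ring
      · simp only [Units.val_mul, ← Matrix.mulVec_mulVec, (hgv j).2, ha, if_false, tu, tw, tv_mulVec, un_dot hf,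
          hf.add_left, hf.smul_left, huu, hww, hwu, huw, if_true, Finset.mem_insert_self, zero_smul, add_zero,
          zero_add, mul_zero, mul_one]
        match_scalars <;> field_simp <;> ring
    · have hiff : j ∈ insert a s ↔ j ∈ s := by simp [hja]
      have hfix : ∀ x, hh x (bu a) = 0 → hh x (bw a) = 0 → ((tu * tw * tu : Matrix.GeneralLinearGroup (Fin n) F) : MM) *ᵥ x = x := by
        intro x h1 h2
        simp only [Units.val_mul, ← Matrix.mulVec_mulVec, tu, tw, tv_mulVec, un_dot hf, h1, h2, zero_smul, add_zero]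
      constructor
      · rw [Units.val_mul, ← Matrix.mulVec_mulVec, (hgv j).1]
        simp only [hiff]
        refine hfix _ ?_ ?_ <;> split_ifs <;> (try rw [hf.smul_left]) <;> simp [huu, hww, hwu, huw, hja, Ne.symm hja]
      · rw [Units.val_mul, ← Matrix.mulVec_mulVec, (hgv j).2]
        simp only [hiff]
        refine hfix _ ?_ ?_ <;> split_ifs <;> (try rw [hf.smul_left]) <;> simp [huu, hww, hwu, huw, hja, Ne.symm hja]

lemma exists_swap (hf : Cfsg.Geo.IsUnitaryForm τ hh) (hH : Halves q k U W) :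
    ∃ g ∈ suGL n F q, U.map (Matrix.toLin' (g : MM)) = W ∧ W.map (Matrix.toLin' (g : MM)) = U := by
  classical
  obtain ⟨r, hr0, hr⟩ := un_skew_exists hf
  let b : Module.Basis (Fin k) F U := Module.finBasisOfFinrankEq F U hH.dimU
  let T : W →ₗ[F] (Fin k → F) :=
    LinearMap.pi fun i => (dotProductEquiv F (Fin n) (fvec hh (b i : Fin n → F))).comp W.subtype
  have hT : ∀ w i, T w i = hh (w : Fin n → F) (b i : Fin n → F) := fun w i => un_dot hf _ _
  have hker : ∀ w : W, T w = 0 → w = 0 := by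
    intro w hw
    by_contra h0
    obtain ⟨y, hy⟩ := un_exists hf (w : Fin n → F) (fun h => h0 (Subtype.ext h))
    obtain ⟨p, hp, z, hz, rfl⟩ := hH.split y
    have hp' := congrArg Subtype.val (b.sum_repr ⟨p, hp⟩)
    simp only [Submodule.coe_sum, Submodule.coe_smul] at hp'
    have hwp : hh (w : Fin n → F) p = 0 := by
      rw [hf.herm, ← hp', un_sum_left hf, map_sum]
      exact Finset.sum_eq_zero fun i _ => by
        rw [hf.smul_left, map_mul, ← hf.herm, ← hT, hw, Pi.zero_apply, mul_zero]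
    rw [un_add_right hf, hwp, hH.tsW w w.2 z hz, add_zero] at hy
    exact zero_ne_one hy
  have hinj : Function.Injective T := (injective_iff_map_eq_zero T).2 hker
  have hsurj : Function.Surjective T := (LinearMap.injective_iff_surjective_of_finrank_eq_finrank
    (by rw [hH.dimW, Module.finrank_fin_fun])).1 hinj
  choose c hc using fun i : Fin k => hsurj (Pi.single i 1)
  obtain ⟨g, hg, hgv⟩ := exists_weyl hf hr0 hr (fun i => (b i : Fin n → F)) (fun i => (c i : Fin n → F))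
    (fun i j => hH.tsU _ (b i).2 _ (b j).2) (fun i j => hH.tsW _ (c i).2 _ (c j).2)
    (fun i j => by rw [← hT, hc, Pi.single_apply]; simp [eq_comm]) Finset.univ
  have hLinj : Function.Injective (Matrix.toLin' (g : MM)) := fun x y h => mulVec_inj g (by
    simpa [Matrix.toLin'_apply] using h)
  have hle1 : U.map (Matrix.toLin' (g : MM)) ≤ W := by
    rintro _ ⟨x, hx, rfl⟩
    have hx' := congrArg Subtype.val (b.sum_repr ⟨x, hx⟩)
    simp only [Submodule.coe_sum, Submodule.coe_smul] at hx'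
    rw [← hx', map_sum]
    refine W.sum_mem fun i _ => ?_
    rw [map_smul, Matrix.toLin'_apply, (hgv i).1, if_pos (Finset.mem_univ i)]
    exact W.smul_mem _ (W.smul_mem _ (c i).2)
  have hle2 : W.map (Matrix.toLin' (g : MM)) ≤ U := by
    rintro _ ⟨x, hx, rfl⟩
    have hx' : (⟨x, hx⟩ : W) = ∑ i, T ⟨x, hx⟩ i • c i := hinj (by
      rw [map_sum]; simp only [map_smul, hc]; exact pi_eq_sum_univ' _)
    have hx'' := congrArg Subtype.val hx'
    simp only [Submodule.coe_sum, Submodule.coe_smul] at hx''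
    rw [hx'', map_sum]
    refine U.sum_mem fun i _ => ?_
    rw [map_smul, Matrix.toLin'_apply, (hgv i).2, if_pos (Finset.mem_univ i)]
    exact U.smul_mem _ (U.smul_mem _ (b i).2)
  exact ⟨g, hg,
    Submodule.eq_of_le_of_finrank_eq hle1
      ((Submodule.equivMapOfInjective _ hLinj U).finrank_eq.symm.trans (hH.dimU.trans hH.dimW.symm)),
    Submodule.eq_of_le_of_finrank_eq hle2
      ((Submodule.equivMapOfInjective _ hLinj W).finrank_eq.symm.trans (hH.dimW.trans hH.dimU.symm))⟩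

lemma proper (hf : Cfsg.Geo.IsUnitaryForm τ hh) (hn : 6 ≤ Fintype.card (Fin n)) (hk : 2 ≤ k)
    (D : Fin 2 → Submodule F (Fin n → F)) (hH : Halves q k (D 0) (D 1)) :
    Cfsg.Geo.decompositionStabilizer D ⊓ suGL n F q < suGL n F q := by
  refine lt_of_le_of_ne inf_le_right fun heq => ?_
  obtain ⟨u, hu, hu0⟩ := (D 0).exists_mem_ne_zero_of_ne_bot (fun h => by
    have := hH.dimU; rw [h, finrank_bot] at this; omega)
  obtain ⟨u', hu', hu'u⟩ : ∃ z ∈ D 0, z ∉ Submodule.span F {u} := by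
    by_contra hcon
    push Not at hcon
    have := Submodule.finrank_mono (fun z hz => hcon z hz : D 0 ≤ Submodule.span F {u})
    rw [finrank_span_singleton hu0, hH.dimU] at this
    omega
  have hu'0 : u' ≠ 0 := fun h => hu'u (h ▸ zero_mem _)
  have huu' : u ∉ Submodule.span F {u'} := by
    intro h
    obtain ⟨a, ha⟩ := Submodule.mem_span_singleton.1 h
    have ha0 : a ≠ 0 := fun h => hu0 (by rw [← ha, h, zero_smul])
    exact hu'u (Submodule.mem_span_singleton.2 ⟨a⁻¹, by rw [← ha, inv_smul_smul₀ ha0]⟩)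
  obtain ⟨w, hw, hwu', hwu⟩ := hH.eval hf hu' hu huu'
  obtain ⟨r, hr0, hr⟩ := un_skew_exists hf
  have huw : hh u w = 1 := by rw [hf.herm, hwu, map_one]
  set z := τ r • w with hz
  have hvv : hh (u + z) (u + z) = 0 := by
    simp only [hz, hf.add_left, un_add_right hf, hf.smul_left, un_smul_right hf, hH.tsU u hu u hu, hH.tsW w hw w hw,
      huw, hwu, hf.involutive, hr, map_neg]
    ring
  have hmem : tv (r • (u + z)) (fvec hh (u + z)) (un_tv_dot hf hvv r) ∈
      Cfsg.Geo.decompositionStabilizer D ⊓ suGL n F q := by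
    rw [heq]; exact utv_mem_su hf hvv hr
  obtain ⟨σ, hσ⟩ := hmem.1
  have h1 : (tv (r • (u + z)) (fvec hh (u + z)) (un_tv_dot hf hvv r) : MM) *ᵥ u ∈ D (σ 0) :=
    hσ 0 ▸ ⟨u, hu, Matrix.toLin'_apply _ _⟩
  have h2 : (tv (r • (u + z)) (fvec hh (u + z)) (un_tv_dot hf hvv r) : MM) *ᵥ u' ∈ D (σ 0) :=
    hσ 0 ▸ ⟨u', hu', Matrix.toLin'_apply _ _⟩
  have huw' : hh u' w = 0 := by rw [hf.herm, hwu', map_zero]
  rw [tv_mulVec, un_dot hf, un_add_right hf, hz, un_smul_right hf, huw', hH.tsU u' hu' u hu, mul_zero, add_zero,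
    zero_smul, add_zero] at h2
  rw [tv_mulVec, un_dot hf, un_add_right hf, hz, un_smul_right hf, huw, hH.tsU u hu u hu, hf.involutive, mul_one,
    zero_add, smul_smul, smul_add, smul_smul, ← add_assoc] at h1
  have hs : σ 0 = 0 := by
    rcases (by decide : ∀ i : Fin 2, i = 0 ∨ i = 1) (σ 0) with h | h
    · exact h
    · rw [h] at h2
      exact absurd (Submodule.disjoint_def.1 hH.dis u' hu' h2) hu'0
  rw [hs] at h1
  have hwU := ((D 0).smul_mem_iff (mul_ne_zero (mul_ne_zero hr0 hr0) (fun h => hr0 (τ.injective (by rw [h, map_zero]))))).1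
    (((D 0).add_mem_iff_right ((D 0).add_mem hu ((D 0).smul_mem _ hu))).1 h1)
  rw [Submodule.disjoint_def.1 hH.dis w hwU hw, un_zero_left hf] at hwu
  exact zero_ne_one hwu

lemma main (hF : Fintype.card F = q ^ 2) (hn : 6 ≤ n) (hk : 2 * k = n) (D : Fin 2 → Submodule F (Fin n → F))
    (hD : Cfsg.Geo.IsMDecomposition k D) (hts : ∀ i, Cfsg.Geo.IsTotallySingularFor hh (D i)) :
    Cfsg.Geo.IsMaximalIn (suGL n F q) (Cfsg.Geo.decompositionStabilizer D ⊓ suGL n F q) := by
  classical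
  obtain ⟨τ, -, hf⟩ := exists_hermSigma hF n
  have hn' : 6 ≤ Fintype.card (Fin n) := by rw [Fintype.card_fin]; omega
  have hsup : D 0 ⊔ D 1 = ⊤ := by
    rw [← hD.iSup_eq_top]
    refine le_antisymm (sup_le (le_iSup D 0) (le_iSup D 1)) (iSup_le fun i => ?_)
    fin_cases i
    · exact le_sup_left
    · exact le_sup_right
  have hH : Halves q k (D 0) (D 1) :=
    ⟨hts 0, hts 1, hsup, hD.indep.pairwiseDisjoint (by decide), hD.finrank_eq 0, hD.finrank_eq 1⟩
  obtain ⟨S, hS, hS0, hS1⟩ := exists_swap hf hH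
  have hSH : S ∈ Cfsg.Geo.decompositionStabilizer D ⊓ suGL n F q := by
    refine ⟨⟨Equiv.swap 0 1, fun i => ?_⟩, hS⟩
    fin_cases i
    · simpa using hS0
    · simpa using hS1
  refine ⟨proper hf hn' (by omega) D hH, fun M hHM hMS => or_iff_not_imp_left.2 fun hne => le_antisymm hMS ?_⟩
  have hpres : HasPairs τ q M (D 0) (D 1) := by
    intro u hu w hw huw
    have huu := hH.tsU u hu u hu
    refine ⟨pairU hf huu huw, hHM ⟨⟨1, fun i => ?_⟩, pairU_mem hf huu huw (hH.tsW w hw w hw)⟩, pairU_mulVec hf huu huw⟩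
    refine Submodule.eq_of_le_of_finrank_eq ?_ ?_
    · rintro _ ⟨x, hx, rfl⟩
      rw [Matrix.toLin'_apply, pairU_mulVec]
      fin_cases i
      · change x ∈ D 0 at hx
        show x + _ - _ ∈ D 0
        rw [hH.tsU x hx u hu, zero_smul, sub_zero]
        exact (D 0).add_mem hx ((D 0).smul_mem _ hu)
      · change x ∈ D 1 at hx
        show x + _ - _ ∈ D 1
        rw [hH.tsW x hx w hw, zero_smul, add_zero]
        exact (D 1).sub_mem hx ((D 1).smul_mem _ hw)
    · exact (Submodule.equivMapOfInjective _ (fun a b h => mulVec_inj (pairU hf huu huw) (by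
        simpa [Matrix.toLin'_apply] using h)) _).finrank_eq.symm
  obtain ⟨g, hgM, hg⟩ : ∃ g ∈ M, g ∉ Cfsg.Geo.decompositionStabilizer D := by
    by_contra hcon
    push Not at hcon
    exact hne (le_antisymm (fun g hg => ⟨hcon g hg, hMS hg⟩) hHM)
  obtain ⟨i, v, hv, hv0', hv1⟩ : ∃ i, ∃ v ∈ D i, (g : MM) *ᵥ v ∉ D 0 ∧ (g : MM) *ᵥ v ∉ D 1 := by
    by_contra hcon
    push Not at hcon
    have hgi : Function.Injective (Matrix.toLin' (g : MM)) := fun a b h => mulVec_inj g (by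
      simpa [Matrix.toLin'_apply] using h)
    have hone : ∀ i, ∃ j, (D i).map (Matrix.toLin' (g : MM)) = D j := by
      intro i
      have hr : Module.finrank F ((D i).map (Matrix.toLin' (g : MM))) = k :=
        (Submodule.equivMapOfInjective _ hgi _).finrank_eq.symm.trans (hD.finrank_eq i)
      suffices h : ∃ j, (D i).map (Matrix.toLin' (g : MM)) ≤ D j by
        obtain ⟨j, hj⟩ := h
        exact ⟨j, Submodule.eq_of_le_of_finrank_eq hj (hr.trans (hD.finrank_eq j).symm)⟩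
      have himg : ∀ z ∈ (D i).map (Matrix.toLin' (g : MM)), z ∈ D 0 ∨ z ∈ D 1 := by
        rintro _ ⟨x, hx, rfl⟩
        rw [Matrix.toLin'_apply]
        exact or_iff_not_imp_left.2 (hcon i x hx)
      by_contra hc2
      push Not at hc2
      obtain ⟨a, ha, ha0⟩ := SetLike.not_le_iff_exists.1 (hc2 0)
      obtain ⟨b, hb, hb1⟩ := SetLike.not_le_iff_exists.1 (hc2 1)
      rcases himg (a + b) (add_mem ha hb) with h | h
      · exact ha0 (((D 0).add_mem_iff_left ((himg b hb).resolve_right hb1)).1 h)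
      · exact hb1 (((D 1).add_mem_iff_right ((himg a ha).resolve_left ha0)).1 h)
    choose σ hσ using hone
    have hinj : Function.Injective σ := by
      intro i j hij
      by_contra hne'
      have h1 : (D i).map (Matrix.toLin' (g : MM)) = (D j).map (Matrix.toLin' (g : MM)) := by rw [hσ, hσ, hij]
      have h3 := hD.indep.pairwiseDisjoint hne'
      simp only [Function.onFun, Submodule.map_injective_of_injective hgi h1, disjoint_self] at h3
      have := hD.finrank_eq j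
      rw [h3, finrank_bot] at this
      omega
    exact hg ⟨Equiv.ofBijective σ (Finite.injective_iff_bijective.1 hinj), hσ⟩
  set j := Equiv.swap (0 : Fin 2) 1 i
  obtain ⟨v', hv', hvv', hv'0⟩ : ∃ w ∈ D j, hh v w = 0 ∧ w ≠ 0 := by
    by_contra hcon
    push Not at hcon
    let T : D j →ₗ[F] F := (dotProductEquiv F (Fin n) (fvec hh v)).comp (Submodule.subtype _)
    have hT : LinearMap.ker T = ⊥ := (Submodule.eq_bot_iff _).2 fun w hw => Subtype.ext
      (hcon w w.2 (by rw [hf.herm, show hh (w : Fin n → F) v = 0 from (un_dot hf v w).symm.trans hw, map_zero]))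
    have h1 := T.finrank_range_add_finrank_ker
    have h3 := (LinearMap.range T).finrank_le
    rw [hT, finrank_bot, hD.finrank_eq] at h1
    simp at h3
    omega
  have hgu := (mem_GU_iff g).1 (hMS hgM).1
  have hpair : ∀ l : F, HasPair τ q M ((g : MM) *ᵥ v) (l • ((g : MM) *ᵥ v')) := by
    intro l
    rw [← Matrix.mulVec_smul]
    refine HasPair.conj hf hMS ?_ hgM
    have hl : l • v' ∈ D j := Submodule.smul_mem _ _ hv'
    have hvl : hh v (l • v') = 0 := by rw [un_smul_right hf, hvv', mul_zero]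
    rcases (by decide : ∀ i : Fin 2, i = 0 ∨ i = 1) i with h | h
    · simp only [j, h, Equiv.swap_apply_left] at hl
      exact hpres v (h ▸ hv) _ hl hvl
    · simp only [j, h, Equiv.swap_apply_right] at hl
      have hlv : hh (l • v') v = 0 := by rw [hf.herm, hvl, map_zero]
      exact (hpres _ hl v (h ▸ hv) hlv).flip hf (hts 0 _ hl _ hl) (hts i v hv v hv) hlv
  have hPsymm : HasPairs τ q M (D 1) (D 0) := fun w hw u hu hwu => by
    have huw : hh u w = 0 := by rw [hf.herm, hwu, map_zero]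
    exact (hpres u hu w hw huw).flip hf (hH.tsU u hu u hu) (hH.tsW w hw w hw) huw
  obtain ⟨a₁, ha₁, a₂, ha₂, hc⟩ := hH.split ((g : MM) *ᵥ v)
  obtain ⟨b₁, hb₁, b₂, hb₂, hd⟩ := hH.split ((g : MM) *ᵥ v')
  have ha₁0 : a₁ ≠ 0 := fun h => hv1 (by rw [← hc, h, zero_add]; exact ha₂)
  have ha₂0 : a₂ ≠ 0 := fun h => hv0' (by rw [← hc, h, add_zero]; exact ha₁)
  rw [← hc, ← hd] at hpair
  have hSM := hHM hSH
  have hfull : (∀ u ∈ D 0, UFull τ q M u) ∧ ∀ u ∈ D 1, UFull τ q M u := by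
    have key : (∀ u ∈ D 0, UFull τ q M u) ∨ ∀ u ∈ D 1, UFull τ q M u := by
      have hcc : hh (a₁ + a₂) (b₁ + b₂) = 0 := by rw [hc, hd, hgu, hvv']
      have hc0 : hh (a₁ + a₂) (a₁ + a₂) = 0 := by rw [hc, hgu]; exact hts i v hv v hv
      have hd0 : hh (b₁ + b₂) (b₁ + b₂) = 0 := by rw [hd, hgu]; exact hts j v' hv' v' hv'
      have hflip : ∀ l : F, HasPair τ q M (b₁ + b₂) (l • (a₁ + a₂)) := by
        intro l
        obtain ⟨e, he, hev⟩ := (hpair (τ l)).flip hf hc0
          (by rw [hf.smul_left, un_smul_right hf, hd0, mul_zero, mul_zero]) (by rw [un_smul_right hf, hcc, mul_zero])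
        refine ⟨e, he, fun x => ?_⟩
        rw [hev, un_smul_right hf, un_smul_right hf, hf.involutive]
        module
      by_cases hb₁0 : b₁ = 0
      · refine (full_of_mixed hf (by omega) hMS hH.symm hPsymm ha₂ ha₂0 ha₁ hb₂ (fun h => hv'0 ?_) hb₁
          (fun l => by rw [add_comm a₂, add_comm b₂]; exact hpair l) (by rwa [add_comm a₂, add_comm b₂])
          (fun l => by rw [add_comm a₂, add_comm b₂]; exact hflip l)).symm
        refine mulVec_inj g ?_
        show (g : MM) *ᵥ v' = (g : MM) *ᵥ 0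
        rw [← hd, hb₁0, h, add_zero, Matrix.mulVec_zero]
      · exact full_of_mixed hf (by omega) hMS hH hpres ha₁ ha₁0 ha₂ hb₁ hb₁0 hb₂ hpair hcc hflip
    rcases key with h | h
    · refine ⟨h, fun u hu => ?_⟩
      rw [← hS0] at hu
      obtain ⟨z, hz, rfl⟩ := hu
      rw [Matrix.toLin'_apply]; exact (h z hz).map hf hMS hSM
    · refine ⟨fun u hu => ?_, h⟩
      rw [← hS1] at hu
      obtain ⟨z, hz, rfl⟩ := hu
      rw [Matrix.toLin'_apply]; exact (h z hz).map hf hMS hSM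
  have base : ∀ a ∈ D 0, ∀ b ∈ D 1, hh a b ≠ 0 → hh (a + b) (a + b) = 0 → UFull τ q M (a + b) := by
    intro a ha b hb hab hx
    have h := UFull.move hf hMS (hfull.1 a ha) (hfull.2 b hb) (hH.tsU a ha a ha) (hH.tsW b hb b hb) hab
      (s := 1) (by rwa [one_smul])
    rwa [one_smul] at h
  refine suGL_le_of_full hf hF (by omega) fun x hx => ?_
  obtain ⟨a, ha, b, hb, rfl⟩ := hH.split x
  by_cases hab : hh a b ≠ 0
  · exact base a ha b hb hab hx
  push Not at hab
  rcases eq_or_ne a 0 with rfl | ha0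
  · simpa using hfull.2 b hb
  obtain ⟨r, hr0, hr⟩ := un_skew_exists hf
  obtain ⟨y, hy⟩ := un_exists hf a ha0
  obtain ⟨p, hp, b₀, hb₀, rfl⟩ := hH.split y
  rw [un_add_right hf, hH.tsU a ha p hp, zero_add] at hy
  set b₁' := τ r • b₀
  have hb1 : b₁' ∈ D 1 := (D 1).smul_mem _ hb₀
  have hab1 : hh a b₁' = r := by rw [un_smul_right hf, hy, hf.involutive, mul_one]
  have hb1a : hh b₁' a = -r := by rw [hf.herm, hab1, hr]
  have hba : hh b a = 0 := by rw [hf.herm, hab, map_zero]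
  have hy1 : hh (a + (b - b₁')) (a + (b - b₁')) = 0 := by
    simp only [hf.add_left, un_add_right hf, hh_sub_left hf, hh_sub_right hf, hH.tsU a ha a ha, hH.tsW b hb b hb,
      hH.tsW _ hb1 _ hb1, hH.tsW b hb _ hb1, hH.tsW _ hb1 b hb, hab, hba, hab1, hb1a]
    ring
  have h1 := base a ha (b - b₁') ((D 1).sub_mem hb hb1) (by
    rw [hh_sub_right hf, hab, hab1, zero_sub]; exact neg_ne_zero.2 hr0) hy1
  have h3 : hh (a + (b - b₁')) b₁' ≠ 0 := by
    rw [hf.add_left, hH.tsW _ ((D 1).sub_mem hb hb1) _ hb1, add_zero, hab1]; exact hr0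
  have hsum : a + (b - b₁') + (1 : F) • b₁' = a + b := by rw [one_smul]; abel
  rw [← hsum]
  exact UFull.move hf hMS h1 (hfull.2 _ hb1) hy1 (hH.tsW _ hb1 _ hb1) h3 (by rw [hsum]; exact hx)

end

/-- Let F be the field with q² elements and n = 2k ≥ 13. Let D be a decomposition of F^n into two complementary subspaces of dimension k on each of which the standard unitary form vanishes identically. Then the elements of SU_n(q) preserving or interchanging the two subspaces form a maximal subgroup of SU_n(q). -/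
theorem result {F : Type*} [Field F] [Fintype F] (n q : ℕ) (hF : Fintype.card F = q ^ 2) (hn : 13 ≤ n) (k : ℕ) (hk : 2 * k = n) (D : Fin 2 → Submodule F (Fin n → F)) (hD : Cfsg.Geo.IsMDecomposition k D) (hts : ∀ i, Cfsg.Geo.IsTotallySingularFor (Cfsg.hermForm n F q) (D i)) : Cfsg.Geo.IsMaximalIn (Cfsg.GU n F q ⊓ Cfsg.Geo.specialLinear (Fin n) F) (Cfsg.Geo.decompositionStabilizer D ⊓ (Cfsg.GU n F q ⊓ Cfsg.Geo.specialLinear (Fin n) F)) := by
  exact main hF (by omega) hk D hD hts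

end Cfsg.Agent.S5657
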