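import Cfsg.Statements.S5665
import Cfsg.Agent.Lib.OrthMax.SpUnitary
import Cfsg.Agent.Lib.OrthMax.SpUnitary3
import Cfsg.Agent.Lib.AschbacherOrth.Field

set_option autoImplicit false
open Cfsg CfsgLib CfsgLib.AschbacherOrth

namespace Cfsg.Agent.S5665

/-- The normaliser of a unitary field extension is maximal from dimension ten on. -/
theorem main' {F : Type*} [Field F] [Fintype F] (m : ℕ) (hm : m = 3 ∨ 5 ≤ m) (hodd : Odd (Fintype.card F)) (K : Subalgebra F (Matrix (Fin m ⊕ Fin m) (Fin m ⊕ Fin m) F)) (hK : Cfsg.Geo.IsFieldSubalgebra 2 K) (hac : Cfsg.Geo.IsAdjointClosedFor (Cfsg.sympForm m F) K) (hnsa : ¬ Cfsg.Geo.IsSelfAdjointFor (Cfsg.sympForm m F) K) : Cfsg.Geo.IsMaximalIn (Cfsg.spGL m F) (Cfsg.Geo.subalgebraNormalizer K ⊓ Cfsg.spGL m F) := by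
  classical
  haveI : Nonempty (Fin m) := ⟨⟨0, by omega⟩⟩
  have h2 : (2 : F) ≠ 0 := by
    refine Ring.two_ne_zero fun h => ?_
    have heven := FiniteField.even_card_of_char_two h
    exact absurd (Nat.odd_iff.1 hodd) (by omega)
  obtain ⟨x, x', hxK, hx'K, hxx', u₀, v₀, hne⟩ : ∃ x x', x ∈ K ∧ x' ∈ K ∧
      (∀ u v, sympForm m F (Matrix.mulVec x u) v = sympForm m F u (Matrix.mulVec x' v)) ∧
      ∃ u₀ v₀, sympForm m F (Matrix.mulVec x u₀) v₀ ≠ sympForm m F u₀ (Matrix.mulVec x v₀) := by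
    by_contra hc
    push Not at hc
    refine hnsa fun k hk u v => ?_
    obtain ⟨k', hk', h⟩ := hac k hk
    exact hc k k' hk hk' h u v
  obtain ⟨y, hydef⟩ : ∃ y, y = x - x' := ⟨_, rfl⟩
  have hyK : y ∈ K := hydef ▸ K.sub_mem hxK hx'K
  obtain ⟨θ, hθdef⟩ : ∃ θ : (Fin m ⊕ Fin m → F) →ₗ[F] (Fin m ⊕ Fin m → F), θ = Matrix.toLin' y := ⟨_, rfl⟩
  have hθ : ∀ v, θ v = y.mulVec v := fun v => by rw [hθdef, Matrix.toLin'_apply]
  have hskew : ∀ u v, sympForm m F (θ u) v = - sympForm m F u (θ v) := by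
    intro u v
    have e : sympForm m F (Matrix.mulVec x' u) v = sympForm m F u (Matrix.mulVec x v) := by
      rw [Maximal.sf_skew (Matrix.mulVec x' u) v, ← hxx', ← Maximal.sf_skew u (Matrix.mulVec x v)]
    rw [hθ, hθ, hydef, Matrix.sub_mulVec, Matrix.sub_mulVec, Maximal.sf_sub_right,
      show Matrix.mulVec x u - Matrix.mulVec x' u = Matrix.mulVec x u + (-1 : F) • Matrix.mulVec x' u by module,
      Maximal.sf_add_left, Maximal.sf_smul_left, hxx', e]
    ring
  have hy0 : y ≠ 0 := fun h => hne (by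
    rw [hydef, sub_eq_zero] at h
    rw [hxx', h])
  have hpair : ∀ a b : F, a • (1 : Matrix (Fin m ⊕ Fin m) (Fin m ⊕ Fin m) F) + b • y = 0 → a = 0 ∧ b = 0 := by
    intro a b hab
    by_cases hb : b = 0
    · subst hb
      rw [zero_smul, add_zero] at hab
      exact ⟨(smul_eq_zero.1 hab).resolve_right one_ne_zero, rfl⟩
    exfalso
    have hs : ∀ v, θ v = (-(b⁻¹ * a)) • v := fun v => by
      have h1 := congrArg (fun M => Matrix.mulVec M v) hab
      simp only [Matrix.add_mulVec, Matrix.smul_mulVec, Matrix.one_mulVec, Matrix.zero_mulVec, ← hθ] at h1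
      rw [neg_smul, mul_smul, ← smul_neg, ← eq_neg_of_add_eq_zero_right h1, smul_smul, inv_mul_cancel₀ hb, one_smul]
    have ha : b⁻¹ * a = 0 := by
      obtain ⟨v, hv⟩ := exists_ne (0 : Fin m ⊕ Fin m → F)
      obtain ⟨w, hw⟩ := Maximal.sf_exists v hv
      have h1 := hskew v w
      rw [hs, hs, Maximal.sf_smul_left, Maximal.sf_smul_right, hw] at h1
      have : 2 * (b⁻¹ * a) = 0 := by linear_combination -h1
      exact (mul_eq_zero.1 this).resolve_left h2
    refine hy0 (Matrix.toLin'.injective (LinearMap.ext fun v => ?_))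
    rw [← hθdef, hs, ha]; simp
  have hspan : ∀ k ∈ K, ∃ a b : F, a • (1 : Matrix (Fin m ⊕ Fin m) (Fin m ⊕ Fin m) F) + b • y = k := by
    intro k hk
    have he : Submodule.span F ({1, y} : Set (Matrix (Fin m ⊕ Fin m) (Fin m ⊕ Fin m) F)) = Subalgebra.toSubmodule K := by
      refine Submodule.eq_of_le_of_finrank_le (Submodule.span_le.2 ?_) ?_
      · rintro _ (rfl | rfl)
        exacts [K.one_mem, hyK]
      · have hli : LinearIndependent F ![(1 : Matrix (Fin m ⊕ Fin m) (Fin m ⊕ Fin m) F), y] :=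
          LinearIndependent.pair_iff.2 hpair
        have h1 := finrank_span_eq_card hli
        rw [Matrix.range_cons_cons_empty, Fintype.card_fin] at h1
        rw [h1]; exact hK.finrank_eq.le
    exact Submodule.mem_span_pair.1 (he.ge hk)
  obtain ⟨δ, β, hδ⟩ := hspan (y * y) (K.mul_mem hyK hyK)
  have hyy : ∀ v, θ (θ v) = δ • v + β • θ v := fun v => by
    rw [hθ, hθ, Matrix.mulVec_mulVec, ← hδ, Matrix.add_mulVec, Matrix.smul_mulVec, Matrix.smul_mulVec, Matrix.one_mulVec]
  have hβ : β = 0 := by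
    by_contra hb
    refine hy0 (Matrix.toLin'.injective (LinearMap.ext fun v => ?_))
    rw [← hθdef]
    simp only [map_zero, LinearMap.zero_apply]
    by_contra hv
    obtain ⟨u, hu⟩ := Maximal.sf_exists _ hv
    have h1 := hskew (θ v) u
    rw [hyy v, ← neg_neg (sympForm m F (θ v) (θ u)), hskew v (θ u), hyy u] at h1
    simp only [Maximal.sf_add_left, Maximal.sf_add_right, Maximal.sf_smul_left, Maximal.sf_smul_right, hu] at h1
    have h3 : sympForm m F v (θ u) = -1 := by rw [← neg_neg (sympForm m F v (θ u)), ← hskew, hu]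
    rw [h3] at h1
    have : 2 * β = 0 := by linear_combination h1
    exact hb ((mul_eq_zero.1 this).resolve_left h2)
  subst hβ
  have hstr : OrthMax.SpUnitaryStr θ δ := by
    refine ⟨fun v => by rw [hyy, zero_smul, add_zero], fun a b v hv hab => hpair a b ?_, hskew⟩
    refine field_mulVec_eq_zero hK (K.add_mem (K.smul_mem K.one_mem a) (K.smul_mem hyK b)) hv ?_
    rw [Matrix.add_mulVec, Matrix.smul_mulVec, Matrix.smul_mulVec, Matrix.one_mulVec, ← hθ, hab]
  have hmem : ∀ g : Matrix.GeneralLinearGroup (Fin m ⊕ Fin m) F, g ∈ Geo.subalgebraNormalizer K ↔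
      ∃ a b : F, ∀ v, Matrix.mulVec (g : Matrix (Fin m ⊕ Fin m) (Fin m ⊕ Fin m) F) (θ v) =
        a • Matrix.mulVec (g : Matrix (Fin m ⊕ Fin m) (Fin m ⊕ Fin m) F) v +
        b • θ (Matrix.mulVec (g : Matrix (Fin m ⊕ Fin m) (Fin m ⊕ Fin m) F) v) := by
    intro g
    constructor
    · intro hg
      obtain ⟨a, b, hab⟩ := hspan _ ((hg y).1 hyK)
      refine ⟨a, b, fun v => ?_⟩
      have h1 := congrArg (fun M => Matrix.mulVec M (Matrix.mulVec (g : Matrix (Fin m ⊕ Fin m) (Fin m ⊕ Fin m) F) v)) hab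
      simp only [Matrix.add_mulVec, Matrix.smul_mulVec, Matrix.one_mulVec] at h1
      rw [Matrix.mulVec_mulVec, Matrix.mulVec_mulVec, mul_assoc, ← Units.val_mul, inv_mul_cancel, Units.val_one,
        mul_one, ← Matrix.mulVec_mulVec, ← Matrix.mulVec_mulVec, ← hθ, ← hθ] at h1
      exact h1.symm
    · rintro ⟨a, b, hab⟩
      have hgy : (g : Matrix (Fin m ⊕ Fin m) (Fin m ⊕ Fin m) F) * y =
          (a • 1 + b • y) * (g : Matrix (Fin m ⊕ Fin m) (Fin m ⊕ Fin m) F) := by
        refine Matrix.toLin'.injective (LinearMap.ext fun v => ?_)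
        rw [Matrix.toLin'_apply, Matrix.toLin'_apply, ← Matrix.mulVec_mulVec, ← Matrix.mulVec_mulVec, ← hθ, hab,
          Matrix.add_mulVec, Matrix.smul_mulVec, Matrix.smul_mulVec, Matrix.one_mulVec, ← hθ]
      let c : K →ₗ[F] K := {
        toFun := fun k => ⟨(g : Matrix (Fin m ⊕ Fin m) (Fin m ⊕ Fin m) F) * (k : Matrix (Fin m ⊕ Fin m) (Fin m ⊕ Fin m) F) *
          ((g⁻¹ : Matrix.GeneralLinearGroup (Fin m ⊕ Fin m) F) : Matrix (Fin m ⊕ Fin m) (Fin m ⊕ Fin m) F), by
          obtain ⟨a', b', hk⟩ := hspan _ k.2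
          rw [← hk, mul_add, add_mul, Matrix.mul_smul, Matrix.smul_mul, Matrix.mul_smul, Matrix.smul_mul, mul_one,
            ← Units.val_mul, mul_inv_cancel, Units.val_one, hgy, mul_assoc, ← Units.val_mul, mul_inv_cancel,
            Units.val_one, mul_one]
          exact K.add_mem (K.smul_mem K.one_mem a') (K.smul_mem (K.add_mem (K.smul_mem K.one_mem a) (K.smul_mem hyK b)) b')⟩
        map_add' := fun k l => Subtype.ext (by simp [mul_add, add_mul])
        map_smul' := fun r k => Subtype.ext (by simp) }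
      have hinj : Function.Injective c := fun k l hkl => Subtype.ext (by
        have h1 := congrArg (fun z : K => ((g⁻¹ : Matrix.GeneralLinearGroup (Fin m ⊕ Fin m) F) :
          Matrix (Fin m ⊕ Fin m) (Fin m ⊕ Fin m) F) * (z : Matrix (Fin m ⊕ Fin m) (Fin m ⊕ Fin m) F) *
          (g : Matrix (Fin m ⊕ Fin m) (Fin m ⊕ Fin m) F)) hkl
        simpa [c, mul_assoc] using h1)
      haveI : FiniteDimensional F K := Module.finite_of_finrank_pos (by rw [hK.finrank_eq]; norm_num)
      intro k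
      refine ⟨fun hk => (c ⟨k, hk⟩).2, fun hk => ?_⟩
      obtain ⟨l, hl⟩ := LinearMap.surjective_of_injective hinj ⟨_, hk⟩
      have hl' := congrArg (fun z : K => ((g⁻¹ : Matrix.GeneralLinearGroup (Fin m ⊕ Fin m) F) :
          Matrix (Fin m ⊕ Fin m) (Fin m ⊕ Fin m) F) * (z : Matrix (Fin m ⊕ Fin m) (Fin m ⊕ Fin m) F) *
          (g : Matrix (Fin m ⊕ Fin m) (Fin m ⊕ Fin m) F)) hl
      have : (l : Matrix (Fin m ⊕ Fin m) (Fin m ⊕ Fin m) F) = k := by simpa [c, mul_assoc] using hl'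
      exact this ▸ l.2
  refine ⟨lt_of_le_of_ne inf_le_right fun h => ?_, fun M hHM hMK => ?_⟩
  · -- a transvection does not normalise the field
    obtain ⟨w, hw⟩ := exists_ne (0 : Fin m ⊕ Fin m → F)
    have hT : Maximal.stv (1 : F) w ∈ Geo.subalgebraNormalizer K ⊓ Cfsg.spGL m F := by rw [h]; exact Maximal.stv_mem_spGL _ _
    obtain ⟨a, b, hab⟩ := (hmem _).1 hT.1
    let L : (Fin m ⊕ Fin m → F) →ₗ[F] F × F :=
      ((Geometry.sympBilin m F).flip w).prod ((Geometry.sympBilin m F).flip (θ w))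
    obtain ⟨v, hv, hv0⟩ : ∃ v ∈ LinearMap.ker L, v ≠ 0 := by
      refine Submodule.exists_mem_ne_zero_of_ne_bot fun e => ?_
      have h1 := L.finrank_range_add_finrank_ker
      rw [e, finrank_bot] at h1
      have h3 := (LinearMap.range L).finrank_le
      simp at h1 h3
      omega
    have hv1 : sympForm m F v w = 0 := (Prod.ext_iff.1 hv).1
    have hv2 : sympForm m F v (θ w) = 0 := (Prod.ext_iff.1 hv).2
    have key := hab v
    rw [Maximal.stv_mulVec, Maximal.stv_mulVec, hskew, hv1, hv2] at key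
    simp only [neg_zero, mul_zero, zero_smul, add_zero] at key
    obtain ⟨ha, hb⟩ := hstr.aniso (-a) (1 - b) v hv0 (by linear_combination (norm := module) key)
    obtain ⟨u, hu⟩ := Maximal.sf_exists w hw
    have key2 := hab u
    rw [Maximal.stv_mulVec, Maximal.stv_mulVec, map_add, map_smul, show a = 0 by linear_combination -ha,
      show b = 1 by linear_combination -hb, Maximal.sf_skew u w, hu] at key2
    obtain ⟨-, h1⟩ := hstr.aniso (sympForm m F (θ u) w) 1 w hw (by linear_combination (norm := module) key2)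
    exact one_ne_zero h1
  · have hst : ∀ u c, OrthMax.hermQ θ u = 0 → OrthMax.utv θ δ c u ∈ M := fun u c hu =>
      hHM ⟨(hmem _).2 ⟨0, 1, fun v => by rw [zero_smul, one_smul, zero_add]; exact hstr.utv_comm hu c v⟩,
        OrthMax.utv_mem c u⟩
    by_cases hmv : ∃ g ∈ M, g ∉ Geo.subalgebraNormalizer K
    · obtain ⟨g, hg, hgn⟩ := hmv
      rcases hm with hm | hm
      · exact Or.inr (hstr.stab_max₃ h2 hm hMK hst
          (fun k hk hkθ => hHM ⟨(hmem _).2 ⟨0, 1, fun v => by rw [zero_smul, one_smul, zero_add]; exact hkθ v⟩, hk⟩)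
          ⟨g, hg, fun e => hgn ((hmem g).2 e)⟩)
      · exact Or.inr (hstr.stab_max h2 hm hMK hst ⟨g, hg, fun e => hgn ((hmem g).2 e)⟩)
    · push Not at hmv
      exact Or.inl (le_antisymm (fun g hg => ⟨hmv g hg, hMK hg⟩) hHM)

/-- The normaliser of a unitary field extension is maximal from dimension ten on. -/
theorem main {F : Type*} [Field F] [Fintype F] (m : ℕ) (hm : 5 ≤ m) (hodd : Odd (Fintype.card F)) (K : Subalgebra F (Matrix (Fin m ⊕ Fin m) (Fin m ⊕ Fin m) F)) (hK : Cfsg.Geo.IsFieldSubalgebra 2 K) (hac : Cfsg.Geo.IsAdjointClosedFor (Cfsg.sympForm m F) K) (hnsa : ¬ Cfsg.Geo.IsSelfAdjointFor (Cfsg.sympForm m F) K) : Cfsg.Geo.IsMaximalIn (Cfsg.spGL m F) (Cfsg.Geo.subalgebraNormalizer K ⊓ Cfsg.spGL m F) :=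
  main' m (Or.inr hm) hodd K hK hac hnsa

/-- For a finite field F of odd order and m ≥ 7, let K be a subfield of the algebra of 2m × 2m matrices over F containing the scalars, of degree 2 over F, that is closed under adjoints for the standard alternating form on F^(2m) but whose elements are not all self-adjoint (so the adjoint map induces the automorphism of order two of K). Then the elements of Sp_2m(F) normalising K form a maximal subgroup of Sp_2m(F). -/
theorem result {F : Type*} [Field F] [Fintype F] (m : ℕ) (hm : 7 ≤ m) (hodd : Odd (Fintype.card F)) (K : Subalgebra F (Matrix (Fin m ⊕ Fin m) (Fin m ⊕ Fin m) F)) (hK : Cfsg.Geo.IsFieldSubalgebra 2 K) (hac : Cfsg.Geo.IsAdjointClosedFor (Cfsg.sympForm m F) K) (hnsa : ¬ Cfsg.Geo.IsSelfAdjointFor (Cfsg.sympForm m F) K) : Cfsg.Geo.IsMaximalIn (Cfsg.spGL m F) (Cfsg.Geo.subalgebraNormalizer K ⊓ Cfsg.spGL m F) := by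
  exact main m (by omega) hodd K hK hac hnsa

end Cfsg.Agent.S5665
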