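import Cfsg.Statements.S5668
import Cfsg.Agent.Lib.TensorWreath.SpMain
import Cfsg.Agent.Lib.TensorWreath.RepThree
import Cfsg.Agent.Lib.Aschbacher.Forms
-- import your own Cfsg.Agent.* helpers here

set_option autoImplicit false
open Cfsg

namespace Cfsg.Agent.S5668

/-- For a finite field F of odd order q and m ≥ 7, suppose the standard alternating form on F^(2m) is similar, through a change of basis P and a bijection of index sets e, to the t-fold tensor power of a non-degenerate symplectic form f₁ on F^k, with t odd, t ≥ 3 and (q, k) ≠ (3, 2). Then the elements of Sp_2m(F) in the stabiliser of this decomposition (the conjugate by P of the standard tensor-wreath subgroup transported along e) form a maximal subgroup of Sp_2m(F). -/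
theorem result {F : Type*} [Field F] [Fintype F] (m : ℕ) (hm : 7 ≤ m) (hodd : Odd (Fintype.card F)) (k t : ℕ) (ht : Odd t) (ht3 : 3 ≤ t) (hex : ¬ (Fintype.card F = 3 ∧ k = 2)) (e : (Fin m ⊕ Fin m) ≃ (Fin t → Fin k)) (P : Matrix.GeneralLinearGroup (Fin m ⊕ Fin m) F) (f₁ : (Fin k → F) → (Fin k → F) → F) (hf₁ : Cfsg.Geo.IsSymplecticForm f₁) (hT : Cfsg.Geo.IsTensorPowerFormStructure id (Cfsg.sympForm m F) f₁ e P) : Cfsg.Geo.IsMaximalIn (Cfsg.spGL m F) (Cfsg.Geo.tensorWreathSubgroup k t e P ⊓ Cfsg.spGL m F) := by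
  classical
  obtain ⟨c, hc, hform⟩ := hT
  have hcard : 2 * m = k ^ t := by
    have := Fintype.card_congr e
    simp only [Fintype.card_sum, Fintype.card_fin, Fintype.card_fun] at this
    omega
  have hk : 2 ≤ k := by
    have hev := CfsgLib.Aschbacher.even_of_symplectic hf₁
    rw [Fintype.card_fin] at hev
    obtain ⟨j, rfl⟩ := hev
    rcases Nat.eq_zero_or_pos j with rfl | hj
    · rw [Nat.add_zero, zero_pow (by omega)] at hcard
      omega
    · omega
  haveI : NeZero k := ⟨by omega⟩
  have hGu : IsUnit (Cfsg.Geo.gramMatrix f₁) := CfsgLib.Aschbacher.isUnit_of_nondeg (RingEquiv.refl F)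
    (CfsgLib.Aschbacher.bilinear_eq_gram hf₁.bilinear ▸ hf₁.nondegenerate)
  have hJ : (hGu.unit : Matrix (Fin k) (Fin k) F).transpose = -(hGu.unit : Matrix (Fin k) (Fin k) F) := by
    ext a b
    exact hf₁.skew _ _
  have h2 : (2 : F) ≠ 0 := by
    refine Ring.two_ne_zero fun h => ?_
    have := FiniteField.even_card_of_char_two h
    obtain ⟨j, hj⟩ := hodd
    omega
  refine CfsgLib.TensorWreath.sp_maximal hGu.unit (c := c) (by omega) hJ h2 hk ht ht3 ⟨hc, fun x y => ?_⟩
    fun M hM hn => ?_
  · rw [hform x y]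
    rfl
  · rcases Nat.lt_or_ge (Fintype.card F) 5 with h5 | h5
    · have h1 := Fintype.one_lt_card (α := F)
      have h3 : Fintype.card F = 3 := by obtain ⟨j, hj⟩ := hodd; omega
      refine hM.singles_three _ (by rw [Nat.card_eq_fintype_card, h3]) ?_ hn
      rcases eq_or_ne k 2 with rfl | h
      · exact absurd ⟨h3, rfl⟩ hex
      · omega
    · exact hM.singles _ (by rw [Nat.card_eq_fintype_card]; exact h5) hn

end Cfsg.Agent.S5668
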