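import Cfsg.Statements.S5673
import Cfsg.Agent.Lib.AschbacherOrth.OddRows

set_option autoImplicit false
open Cfsg CfsgLib CfsgLib.AschbacherOrth

namespace Cfsg.Agent.S5673

/-- Subgroup structure of the odd-dimensional orthogonal groups. Let F be a finite field of odd order and m ≥ 3, let Q be the standard quadratic form x₀² + Σ x_i y_i on F^(2m+1), and let Ω be the commutator subgroup of its isometry group, viewed inside GL_(2m+1)(F). Let H be a subgroup of Ω whose product with the scalar matrices in Ω is not all of Ω. Then either H is contained in a member of one of the geometric classes of subgroups of the isometry group (with the conditions built into InOrthogonalOddClass), or H is in the residual class: modulo scalars it is almost simple, and the perfect preimage of its socle acts absolutely irreducibly, is realisable over no proper subfield, and fixes no non-degenerate unitary form. -/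
theorem result {F : Type*} [Field F] [Fintype F] (hodd : Odd (Fintype.card F)) (m : ℕ) (hm : 3 ≤ m) (H : Subgroup (Matrix.GeneralLinearGroup (Unit ⊕ (Fin m ⊕ Fin m)) F)) (hH : H ≤ Cfsg.Geo.omegaGL (Cfsg.quadFormOdd m F)) (hproper : H ⊔ (Cfsg.Geo.scalars (Unit ⊕ (Fin m ⊕ Fin m)) F ⊓ Cfsg.Geo.omegaGL (Cfsg.quadFormOdd m F)) ≠ Cfsg.Geo.omegaGL (Cfsg.quadFormOdd m F)) : (∃ M : Subgroup (Matrix.GeneralLinearGroup (Unit ⊕ (Fin m ⊕ Fin m)) F), Cfsg.Geo.InOrthogonalOddClass m F M ∧ H ≤ M) ∨ Cfsg.Geo.InOrthogonalResidualClass H := by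
  classical
  have h2 := two_ne_of_odd hodd
  obtain ⟨Q, hQc, hQ, hstd⟩ := exists_std_odd h2 m
  have hI : H ≤ isometryGroup F (Cfsg.quadFormOdd m F) := hH.trans (omega_le_isometry _)
  have hι : Fintype.card (Unit ⊕ (Fin m ⊕ Fin m)) = 2 * m + 1 := by simp; omega
  rcases odd_cases hQ h2 hι ⟨m, rfl⟩ (by omega) (H := H) (hQc ▸ hI) with
    ⟨U, hU0, hU, hle⟩ | ⟨U, hU0, hU1, -, hU, -, hle⟩ | ⟨t, k, D, hk, -, hD, hle⟩ | ⟨hq, D, hD, hle⟩ |
    ⟨r, K, hr, -, hne, hK, hsa, hle⟩ | ⟨n₁, n₂, e, P, f₁, f₂, h3, h12, hf₁, hf₂, hT, hle⟩ |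
    ⟨d, s, hd, hs, -, hbad, hp⟩ | h | h
  · rw [hQc] at hU
    exact Or.inl ⟨_, Or.inl ⟨U, hU0, hU, rfl⟩, le_inf hle hI⟩
  · rw [hQc] at hU
    exact Or.inl ⟨_, Or.inr (Or.inl ⟨U, hU0, hU1, hU, rfl⟩), le_inf hle hI⟩
  · rw [hQc] at hD
    exact Or.inl ⟨_, Or.inr (Or.inr (Or.inl ⟨t, k, D, hk, hD, rfl⟩)), le_inf hle hI⟩
  · rw [hQc] at hD
    exact Or.inl ⟨_, Or.inr (Or.inr (Or.inr (Or.inl ⟨_, D, hq, hD, rfl⟩))), le_inf hle hI⟩
  · rw [hQc] at hsa
    exact Or.inl ⟨_, Or.inr (Or.inr (Or.inr (Or.inr (Or.inl ⟨r, K, hr, hne, hK, hsa, rfl⟩)))), le_inf hle hI⟩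
  · rw [hQc] at hT
    exact Or.inl ⟨_, Or.inr (Or.inr (Or.inr (Or.inr (Or.inr (Or.inl ⟨n₁, n₂, e, P, f₁, f₂, h3, h12, hf₁, hf₂, hT, rfl⟩))))),
      le_inf hle hI⟩
  · obtain ⟨e, P, f₁, hf₁, hT, hle⟩ := hp.member
    rw [hQc] at hT
    exact Or.inl ⟨_, Or.inr (Or.inr (Or.inr (Or.inr (Or.inr (Or.inr (Or.inr ⟨d, s, e, P, f₁, hd, hs, hbad, hf₁, hT, rfl⟩)))))),
      le_inf hle hI⟩
  · obtain ⟨F₁, r, B, hr, hc, hB, hle⟩ := h.strong h2 ⟨m, hι⟩ hQ hstd
    rw [hQc] at hB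
    exact Or.inl ⟨_, Or.inr (Or.inr (Or.inr (Or.inr (Or.inr (Or.inr (Or.inl ⟨F₁, r, B, hr, hc, hB, rfl⟩)))))),
      le_inf hle hI⟩
  · exact Or.inr h

end Cfsg.Agent.S5673
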