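import Cfsg.Statements.S5675
import Cfsg.Agent.Lib.OrthMax.Apps

set_option autoImplicit false
open Cfsg

namespace Cfsg.Agent.S5675

/-- Let F be a finite field of odd order q, m ≥ 6, Q the standard quadratic form on F^(2m+1) and Ω the commutator subgroup of its isometry group. Let W be a non-zero subspace of even dimension on which the polar form of Q is non-degenerate; exclude the case q = 3, dim W = 2 with Q vanishing on some line of W (a plus-type plane). Then the elements of Ω stabilising W (equivalently, stabilising its orthogonal complement, of odd dimension) form a maximal subgroup of Ω. -/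
theorem result {F : Type*} [Field F] [Fintype F] (hodd : Odd (Fintype.card F)) (m : ℕ) (hm : 6 ≤ m) (W : Submodule F (Unit ⊕ (Fin m ⊕ Fin m) → F)) (hW0 : W ≠ ⊥) (hev : Even (Module.finrank F W)) (hW : Cfsg.Geo.IsNondegenerateOn (QuadraticMap.polar (Cfsg.quadFormOdd m F)) W) (hex : ¬ (Fintype.card F = 3 ∧ Module.finrank F W = 2 ∧ Cfsg.Geo.IsPlusTypeOn (Cfsg.quadFormOdd m F) W)) : Cfsg.Geo.IsMaximalIn (Cfsg.Geo.omegaGL (Cfsg.quadFormOdd m F)) (Cfsg.Geo.subspaceStabilizer W ⊓ Cfsg.Geo.omegaGL (Cfsg.quadFormOdd m F)) := by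
  have h2 : (2 : F) ≠ 0 := CfsgLib.Geometry.two_ne_zero_of_odd_card rfl hodd
  have hQ : (QuadraticMap.polarBilin (CfsgLib.Geometry.matQuad (CfsgLib.Geometry.oddMat m F))).Nondegenerate :=
    CfsgLib.Geometry.nondegenerate_matQuad (by
      rw [CfsgLib.Geometry.det_odd_gram]; exact mul_ne_zero h2 (pow_ne_zero _ (neg_ne_zero.2 one_ne_zero)))
  rw [← CfsgLib.Geometry.coe_matQuad_odd] at hW hex ⊢
  have hd := CfsgLib.Geometry.finrank_polarPerp hQ W
  simp only [Module.finrank_pi, Fintype.card_sum, Fintype.card_unit, Fintype.card_fin] at hd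
  obtain ⟨k, hk⟩ := hev
  refine CfsgLib.OrthMax.nondeg_maximal hQ (by simp; omega) hW0 (fun h => ?_)
    (CfsgLib.OrthMax.nd_of_isNondegenerateOn hW) (fun h => by simp at h; omega) ?_ ?_
  · rw [h, finrank_top] at hk; simp at hk; omega
  · rintro ⟨hc, hd2, z, hz, hz0, hQz⟩
    rw [Nat.card_eq_fintype_card] at hc
    have h1 := Fintype.one_lt_card (α := F)
    obtain ⟨j, hj⟩ := hodd
    refine hex ⟨by omega, hd2, Submodule.span F {z}, by rwa [Submodule.span_singleton_le_iff_mem],
      fun w hw => ?_, ?_⟩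
    · obtain ⟨c, rfl⟩ := Submodule.mem_span_singleton.1 hw
      rw [CfsgLib.Geometry.map_smul', hQz, mul_zero]
    · rw [finrank_span_singleton hz0, hd2]
  · rintro ⟨-, hd2, -⟩
    omega

end Cfsg.Agent.S5675
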