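import Cfsg.Statements.S5677
import Cfsg.Agent.Lib.AschbacherOrth.OddRows
import Cfsg.Agent.Lib.OrthMax.DecompBridge

set_option autoImplicit false
open Cfsg CfsgLib CfsgLib.AschbacherOrth

namespace Cfsg.Agent.S5677

/-- Let F be a finite field of odd order q, m ≥ 6, Q the standard quadratic form on F^(2m+1) and Ω the commutator subgroup of its isometry group. Let D be a decomposition of F^(2m+1) into t ≥ 2 pairwise orthogonal, pairwise Q-isometric subspaces of equal dimension k > 1 on which the polar form is non-degenerate. Unless q = 3 and k = 3, the elements of Ω permuting the members of D form a maximal subgroup of Ω. -/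
theorem result {F : Type*} [Field F] [Fintype F] (hodd : Odd (Fintype.card F)) (m : ℕ) (hm : 6 ≤ m) {t : ℕ} (k : ℕ) (hk : 1 < k) (D : Fin t → Submodule F (Unit ⊕ (Fin m ⊕ Fin m) → F)) (hD : Cfsg.Geo.IsOrthogonalMDecomposition (Cfsg.quadFormOdd m F) k D) (hex : ¬ (Fintype.card F = 3 ∧ k = 3)) : Cfsg.Geo.IsMaximalIn (Cfsg.Geo.omegaGL (Cfsg.quadFormOdd m F)) (Cfsg.Geo.decompositionStabilizer D ⊓ Cfsg.Geo.omegaGL (Cfsg.quadFormOdd m F)) := by
  classical
  have h2 := two_ne_of_odd hodd
  obtain ⟨Q, hQc, hQ, -⟩ := exists_std_odd h2 m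
  rw [← hQc] at hD ⊢
  have hcard := OrthMax.decomp_card hD.decomp.decomp
  simp only [Fintype.card_sum, Fintype.card_unit, Fintype.card_fin] at hcard
  have hko : k % 2 = 1 ∧ t % 2 = 1 := by
    have : (t * k) % 2 = 1 := by omega
    rw [Nat.mul_mod] at this
    rcases Nat.mod_two_eq_zero_or_one k with e | e <;> rcases Nat.mod_two_eq_zero_or_one t with e' | e' <;>
      simp [e, e'] at this ⊢
  have ht := hD.decomp.decomp.two_le
  have hι : 5 ≤ Fintype.card (Unit ⊕ (Fin m ⊕ Fin m)) := by simp; omega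
  have hn : 5 ≤ Module.finrank F (Unit ⊕ (Fin m ⊕ Fin m) → F) := by simpa using hι
  refine OrthMax.decomp_maximal hQ hι hD (Or.inl (by omega)) fun hP hiso N hN hst hne => ?_
  by_cases hk3 : k = 3
  · have h3 : Fintype.card F ≠ 3 := fun e => hex ⟨e, hk3⟩
    have h4 : 4 ≤ Fintype.card F := by
      have := Fintype.one_lt_card (α := F)
      rcases hodd with ⟨c, hc⟩
      omega
    exact OrthMax.decomp_three_stab_max hP hN hst hn hiso
      (fun l => by rw [hD.decomp.decomp.finrank_eq l]; omega) h2 (OrthMax.exists_sq_ne_one h4) (by simp; omega) hne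
  · exact OrthMax.decomp_stab_max hP hN hst hn hiso (fun l => by rw [hD.decomp.decomp.finrank_eq l]; omega)
      (fun l => Or.inl (by rw [hD.decomp.decomp.finrank_eq l]; omega)) hne

end Cfsg.Agent.S5677
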