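import Cfsg.Statements.S5680
import Cfsg.Agent.Lib.OrthField.Bridge
import Cfsg.Agent.Lib.Geometry.POmegaStd
import Cfsg.Agent.Lib.Geometry.StdForms
import Cfsg.Agent.Lib.AschbacherOrth.Field

set_option autoImplicit false
open Cfsg

namespace Cfsg.Agent.S5680

/-- Let F be a finite field of odd order, m ≥ 6, Q the standard quadratic form on F^(2m+1) and Ω the commutator subgroup of its isometry group. Let K be a subfield of the algebra of (2m+1) × (2m+1) matrices over F containing the scalars, of prime degree r over F with r ≠ 2m + 1, whose elements are self-adjoint for the polar form of Q. Then the elements of Ω normalising K form a maximal subgroup of Ω. -/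
theorem result {F : Type*} [Field F] [Fintype F] (hodd : Odd (Fintype.card F)) (m : ℕ) (hm : 6 ≤ m) (r : ℕ) (hr : r.Prime) (hrn : 2 * m + 1 ≠ r) (K : Subalgebra F (Matrix (Unit ⊕ (Fin m ⊕ Fin m)) (Unit ⊕ (Fin m ⊕ Fin m)) F)) (hK : Cfsg.Geo.IsFieldSubalgebra r K) (hsa : Cfsg.Geo.IsSelfAdjointFor (QuadraticMap.polar (Cfsg.quadFormOdd m F)) K) : Cfsg.Geo.IsMaximalIn (Cfsg.Geo.omegaGL (Cfsg.quadFormOdd m F)) (Cfsg.Geo.subalgebraNormalizer K ⊓ Cfsg.Geo.omegaGL (Cfsg.quadFormOdd m F)) := by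
  have h2 : (2 : F) ≠ 0 := Ring.two_ne_zero fun h => by
    have := FiniteField.even_card_of_char_two h
    rw [Nat.odd_iff] at hodd
    omega
  obtain ⟨k, hk⟩ := CfsgLib.AschbacherOrth.dvd_card_of_field hK
  have hn : Fintype.card (Unit ⊕ (Fin m ⊕ Fin m)) = 2 * m + 1 := by simp; omega
  rw [hn] at hk
  have hk3 : 3 ≤ k := by
    by_contra hlt
    interval_cases k <;> omega
  have h2r := hr.two_le
  rw [← CfsgLib.Geometry.coe_matQuad_odd (F := F) m] at hsa ⊢
  refine CfsgLib.OrthField.orth_field_maximal ?_ h2 hr hK hsa (by rw [hn, hk, mul_comm 3 r]; exact Nat.mul_le_mul_left r hk3) ?_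
  · exact CfsgLib.Geometry.nondegenerate_matQuad (by rw [CfsgLib.Geometry.det_odd_gram]; exact mul_ne_zero h2 (pow_ne_zero _ (neg_ne_zero.2 one_ne_zero)))
  rw [hn]
  have hr2 : r ≠ 2 := by rintro rfl; omega
  rcases eq_or_lt_of_le hk3 with rfl | hk4
  · refine Or.inr ?_
    rcases hr.eq_two_or_odd with h | h <;> omega
  · refine Or.inl ⟨by rw [hk, mul_comm 4 r]; exact Nat.mul_le_mul_left r hk4, Or.inl (by omega)⟩

end Cfsg.Agent.S5680
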