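import Cfsg.Statements.S5686
import Cfsg.Agent.Lib.Geometry.GeoOmega
import Cfsg.Agent.Lib.Geometry.POmegaStd

set_option autoImplicit false
open Cfsg CfsgLib.Geometry

namespace Cfsg.Agent.S5686

/-- Let F be a finite field with q elements, n ≥ 13 even, Q a non-degenerate quadratic form on F^n of plus type (some subspace of dimension n/2 is totally singular), and Ω the commutator subgroup of the isometry group of Q, viewed inside GL_n(F). The elements of Ω stabilising a subspace of dimension n/2 − 1 on which Q vanishes form a subgroup that is not maximal: some subgroup lies strictly between it and Ω. -/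
theorem result {F : Type*} [Field F] [Fintype F] {n : ℕ} (hn : 13 ≤ n) (heven : Even n) (Q : (Fin n → F) → F) (hQ : Cfsg.Geo.IsNondegenerateQuadraticForm Q) (hplus : Cfsg.Geo.IsPlusTypeOn Q ⊤) (W : Submodule F (Fin n → F)) (hW : Cfsg.Geo.IsTotallySingularQuad Q W) (hdim : 2 * (Module.finrank F W + 1) = n) : ∃ K : Subgroup (Matrix.GeneralLinearGroup (Fin n) F), Cfsg.Geo.subspaceStabilizer W ⊓ Cfsg.Geo.omegaGL Q < K ∧ K < Cfsg.Geo.omegaGL Q := by
  obtain ⟨Q', rfl, hQ'⟩ := exists_quadraticForm hQ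
  obtain ⟨U, -, hU, hUd⟩ := hplus
  obtain ⟨m, hm⟩ : ∃ m, Module.finrank F W + 1 = m := ⟨_, rfl⟩
  have hV : Module.finrank F (Fin n → F) = 2 * m := by simp; omega
  have hR := reflGroup_eq_orth hQ' (Or.inl (by omega))
  rw [finrank_top, hV] at hUd
  have hUm : IsMaxSing Q' m U := ⟨by omega, hU⟩
  -- a maximal singular subspace through `W`
  obtain ⟨fam, hfam⟩ := exists_linearIndependent_of_le_finrank (R := F) (M := U)
    (show Module.finrank F W ≤ Module.finrank F U by omega)
  let b := Module.finBasis F W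
  obtain ⟨g, hg, hgi⟩ := quad_extend hQ' (fun i => (fam i : Fin n → F)) (fun i => (b i : Fin n → F))
    (hfam.map' U.subtype (Submodule.ker_subtype U))
    (b.linearIndependent.map' W.subtype (Submodule.ker_subtype W))
    (fun i => (hU _ (fam i).2).trans (hW _ (b i).2).symm)
    (fun i j => (polar_eq_zero_of_singular hU (fam i).2 (fam j).2).trans
      (polar_eq_zero_of_singular hW (b i).2 (b j).2).symm)
  obtain ⟨U₁, hU₁def⟩ : ∃ U₁, U₁ = U.map g.toLinearMap := ⟨_, rfl⟩
  have hU₁ : IsMaxSing Q' m U₁ := by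
    subst hU₁def
    refine ⟨by rw [LinearEquiv.finrank_map_eq]; exact hUm.1, ?_⟩
    rintro _ ⟨z, hz, rfl⟩
    rw [LinearEquiv.coe_coe, hg z, hU z hz]
  have hWU : W ≤ U₁ := by
    intro w hw
    have hsum := congrArg W.subtype (b.sum_repr ⟨w, hw⟩)
    rw [map_sum] at hsum
    simp only [Submodule.subtype_apply, Submodule.coe_smul] at hsum
    rw [← hsum, hU₁def]
    exact Submodule.sum_mem _ fun i _ => Submodule.smul_mem _ _ ⟨_, (fam i).2, hgi i⟩
  obtain ⟨u, huU, huW⟩ := SetLike.exists_of_lt (lt_of_le_of_ne hWU (fun h => by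
    have := hU₁.1; rw [← h] at this; omega))
  obtain ⟨f, hf, huf, hfW⟩ := exists_partner hQ' W huW (hU₁.2 u huU)
    (fun w hw => polar_eq_zero_of_singular hU₁.2 huU (hWU hw))
  have hfU : f ∉ U₁ := fun h => by
    rw [polar_eq_zero_of_singular hU₁.2 huU h] at huf; exact zero_ne_one huf
  have hU₁eq : W ⊔ Submodule.span F {u} = U₁ := by
    refine Submodule.eq_of_le_of_finrank_le
      (sup_le hWU ((Submodule.span_singleton_le_iff_mem u U₁).2 huU)) ?_
    have hlt : W < W ⊔ Submodule.span F {u} := lt_of_le_of_ne le_sup_left fun h =>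
      huW (h ▸ Submodule.mem_sup_right (Submodule.mem_span_singleton_self u))
    have := Submodule.finrank_lt_finrank_of_lt hlt
    have := hU₁.1
    omega
  obtain ⟨x, hxW, hx0⟩ := Submodule.exists_mem_ne_zero_of_ne_bot
    (show W ≠ ⊥ from fun h => by rw [h, finrank_bot] at hdim; omega)
  have hxu : x ∉ Submodule.span F {u} := fun h => by
    obtain ⟨c, rfl⟩ := Submodule.mem_span_singleton.1 h
    have hc : c ≠ 0 := fun h0 => hx0 (by rw [h0, zero_smul])
    exact huW (by simpa [hc] using W.smul_mem c⁻¹ hxW)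
  have hxf : x ∉ Submodule.span F {f} := fun h => by
    obtain ⟨c, rfl⟩ := Submodule.mem_span_singleton.1 h
    have hc : c ≠ 0 := fun h0 => hx0 (by rw [h0, zero_smul])
    exact hfU (hWU (by simpa [hc] using W.smul_mem c⁻¹ hxW))
  have hu0 : u ≠ 0 := fun h => huW (h ▸ W.zero_mem)
  have hf0 : f ≠ 0 := fun h => hfU (h ▸ U₁.zero_mem)
  obtain ⟨s₁, hs₁, hs₁x, hs₁U⟩ := exists_separating hQ' (by simp; omega) hu0 (hU₁.2 u huU)
    (polar_eq_zero_of_singular hU₁.2 (hWU hxW) huU) hxu W hxW huW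
  obtain ⟨s₂, hs₂, hs₂x, -⟩ := exists_separating hQ' (by simp; omega) hf0 hf
    (by rw [QuadraticMap.polar_comm]; exact hfW x hxW) hxf U₁ (hWU hxW) hfU
  refine exists_between_map Q' (orthStab Q' U₁) ?_ s₁
    (hs₁U U₁ huU fun z hz => polar_eq_zero_of_singular hU₁.2 hz huU) hs₁ ?_ s₂ hs₂
    (fun h => hs₂x ((h x).1 (hWU hxW)))
  · rw [stab_omegaGL_eq_map]
    refine Subgroup.map_mono fun h hh => ⟨mem_orthStab_of_map_le fun z hz => ?_, hh.2⟩
    obtain ⟨V', hV'⟩ : ∃ V', V' = U₁.map (h : (Fin n → F) ≃ₗ[F] (Fin n → F)).toLinearMap := ⟨_, rfl⟩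
    have heven' : Even (m - Module.finrank F ↥(U₁ ⊓ V')) := by
      rw [hV', maxSing_class_iff hQ' hR hV hU₁]
      exact congrArg Prod.snd ((mem_commutator_orth_iff hQ' hR h).1 hh.2)
    suffices hle : V' ≤ U₁ from hle (hV' ▸ ⟨z, hz, rfl⟩)
    by_contra hne
    obtain ⟨y, hyV, hyU⟩ := SetLike.not_le_iff_exists.1 hne
    have hWV : W ≤ V' := fun w hw => by
      obtain ⟨w', hw', rfl⟩ := (map_eq_of_mem_orthStab hh.1).ge hw
      exact hV' ▸ ⟨w', hWU hw', rfl⟩
    have hle : W ≤ U₁ ⊓ V' := le_inf hWU hWV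
    have hlt : U₁ ⊓ V' < V' := lt_of_le_of_ne inf_le_right fun h => hyU (h.symm ▸ hyV : y ∈ U₁ ⊓ V').1
    have h1 := Submodule.finrank_mono hle
    have h2 := Submodule.finrank_lt_finrank_of_lt hlt
    have h3 : Module.finrank F V' = m := by rw [hV', LinearEquiv.finrank_map_eq]; exact hU₁.1
    have h4 : m - Module.finrank F ↥(U₁ ⊓ V') = 1 := by omega
    rw [h4] at heven'
    exact Nat.not_even_one heven'
  · intro h
    have := (h.1 x).1 hxW
    change ((orthToGL Q' s₁ : Matrix.GeneralLinearGroup (Fin n) F) : Matrix (Fin n) (Fin n) F).mulVec x ∈ W at this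
    rw [orthToGL_mulVec] at this
    exact hs₁x this

end Cfsg.Agent.S5686
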