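import Cfsg.Statements.S5687
import Cfsg.Agent.Lib.OrthMax.Apps

set_option autoImplicit false
open Cfsg

namespace Cfsg.Agent.S5687

/-- Let F be a finite field with q elements, n ≥ 13 even, Q a non-degenerate quadratic form on F^n of minus type (no subspace of dimension n/2 is totally singular), and Ω the commutator subgroup of the isometry group of Q, viewed inside GL_n(F). The elements of Ω stabilising a non-zero subspace on which Q vanishes form a maximal subgroup of Ω. -/
theorem result {F : Type*} [Field F] [Fintype F] {n : ℕ} (hn : 13 ≤ n) (heven : Even n) (Q : (Fin n → F) → F) (hQ : Cfsg.Geo.IsNondegenerateQuadraticForm Q) (hminus : ¬ Cfsg.Geo.IsPlusTypeOn Q ⊤) (W : Submodule F (Fin n → F)) (hW0 : W ≠ ⊥) (hW : Cfsg.Geo.IsTotallySingularQuad Q W) : Cfsg.Geo.IsMaximalIn (Cfsg.Geo.omegaGL Q) (Cfsg.Geo.subspaceStabilizer W ⊓ Cfsg.Geo.omegaGL Q) := by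
  obtain ⟨Q', rfl, hQ'⟩ := CfsgLib.Geometry.exists_quadraticForm hQ
  refine CfsgLib.OrthMax.singular_maximal hQ' (by simp; omega) hW0 hW fun u hu hQu huW h => ?_
  refine hminus ⟨W ⊔ Submodule.span F {u}, le_top, fun x hx => ?_, ?_⟩
  · obtain ⟨a, ha, b, hb, rfl⟩ := Submodule.mem_sup.1 hx
    obtain ⟨c, rfl⟩ := Submodule.mem_span_singleton.1 hb
    rw [CfsgLib.Geometry.map_add', CfsgLib.Geometry.map_smul', CfsgLib.Geometry.polar_smul_right', hW a ha, hQu, huW a ha]
    ring
  · have h1 : W < W ⊔ Submodule.span F {u} := lt_of_le_of_ne le_sup_left fun e =>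
      hu (e ▸ Submodule.mem_sup_right (Submodule.mem_span_singleton_self u))
    have h2 := Submodule.finrank_lt_finrank_of_lt h1
    have h3 := Submodule.finrank_add_le_finrank_add_finrank W (Submodule.span F {u})
    have h4 : Module.finrank F (Submodule.span F {u}) ≤ 1 := by
      refine le_trans (finrank_span_le_card ({u} : Set (Fin n → F))) ?_
      simp
    rw [finrank_top]
    simp at h ⊢
    omega

end Cfsg.Agent.S5687
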