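import Cfsg.Statements.S5698
import Cfsg.Agent.Lib.Geometry.GeoOmega
import Cfsg.Agent.Lib.Geometry.POmegaStd

set_option autoImplicit false
open Cfsg CfsgLib.Geometry

namespace Cfsg.Agent.S5698

/-- Let F be a finite field with q elements, n ≥ 13 even, Q a non-degenerate quadratic form on F^n of plus type (some subspace of dimension n/2 is totally singular), and Ω the commutator subgroup of the isometry group of Q, viewed inside GL_n(F). Suppose n/2 is odd and let D be a decomposition of F^n into two complementary subspaces of dimension n/2 on each of which Q vanishes. Then the elements of Ω preserving or interchanging the two subspaces form a subgroup that is not maximal: some subgroup lies strictly between it and Ω. -/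
theorem result {F : Type*} [Field F] [Fintype F] {n : ℕ} (hn : 13 ≤ n) (heven : Even n) (Q : (Fin n → F) → F) (hQ : Cfsg.Geo.IsNondegenerateQuadraticForm Q) (hplus : Cfsg.Geo.IsPlusTypeOn Q ⊤) (k : ℕ) (hk : 2 * k = n) (hko : Odd k) (D : Fin 2 → Submodule F (Fin n → F)) (hD : Cfsg.Geo.IsMDecomposition k D) (hts : ∀ i, Cfsg.Geo.IsTotallySingularQuad Q (D i)) : ∃ K : Subgroup (Matrix.GeneralLinearGroup (Fin n) F), Cfsg.Geo.decompositionStabilizer D ⊓ Cfsg.Geo.omegaGL Q < K ∧ K < Cfsg.Geo.omegaGL Q := by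
  obtain ⟨Q', rfl, hQ'⟩ := exists_quadraticForm hQ
  have hV : Module.finrank F (Fin n → F) = 2 * k := by simp; omega
  have hR := reflGroup_eq_orth hQ' (Or.inl (by omega))
  have hdisj : D 0 ⊓ D 1 = ⊥ := disjoint_iff.1 (hD.indep.pairwiseDisjoint (by decide : (0 : Fin 2) ≠ 1))
  have hmax : ∀ i, IsMaxSing Q' k (D i) := fun i => ⟨hD.finrank_eq i, hts i⟩
  have sep : ∀ i j : Fin 2, i ≠ j → ∃ u x, u ∈ D i ∧ u ≠ 0 ∧ x ∈ D j ∧ QuadraticMap.polar Q' x u = 0 ∧
      x ∉ Submodule.span F {u} ∧ u ∉ D j := by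
    intro i j hij
    have hd : D i ⊓ D j = ⊥ := disjoint_iff.1 (hD.indep.pairwiseDisjoint hij)
    obtain ⟨u, hu, hu0⟩ := Submodule.exists_mem_ne_zero_of_ne_bot
      (show D i ≠ ⊥ from fun h => by
        have := hD.finrank_eq i
        rw [h, finrank_bot] at this
        omega)
    have huj : u ∉ D j := fun h => hu0 (by
      have : u ∈ D i ⊓ D j := ⟨hu, h⟩
      rwa [hd, Submodule.mem_bot] at this)
    have h1 := LinearMap.finrank_range_add_finrank_ker ((QuadraticMap.polarBilin Q' u).comp (D j).subtype)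
    have h2 : Module.finrank F (LinearMap.range ((QuadraticMap.polarBilin Q' u).comp (D j).subtype)) ≤ 1 :=
      le_trans (Submodule.finrank_le _) (by simp)
    rw [hD.finrank_eq j] at h1
    haveI : Nontrivial (LinearMap.ker ((QuadraticMap.polarBilin Q' u).comp (D j).subtype)) :=
      Module.nontrivial_of_finrank_pos (R := F) (by omega)
    obtain ⟨x, hx⟩ := exists_ne (0 : LinearMap.ker ((QuadraticMap.polarBilin Q' u).comp (D j).subtype))
    refine ⟨u, ((x : D j) : Fin n → F), hu, hu0, (x : D j).2,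
      by rw [QuadraticMap.polar_comm]; exact x.2, fun h => ?_, huj⟩
    obtain ⟨c, hc⟩ := Submodule.mem_span_singleton.1 h
    have : ((x : D j) : Fin n → F) ∈ D i ⊓ D j := ⟨hc ▸ (D i).smul_mem c hu, (x : D j).2⟩
    rw [hd, Submodule.mem_bot] at this
    exact hx (Subtype.ext (Subtype.ext this))
  obtain ⟨u, x, hu, hu0, hx, hxu, hxs, huj⟩ := sep 0 1 (by decide)
  obtain ⟨s₁, hs₁, hs₁x, hs₁U⟩ := exists_separating hQ' (by simp; omega) hu0 (hts 0 u hu) hxu hxs
    (D 1) hx huj
  obtain ⟨u', x', hu', hu0', hx', hxu', hxs', huj'⟩ := sep 1 0 (by decide)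
  obtain ⟨s₂, hs₂, hs₂x, -⟩ := exists_separating hQ' (by simp; omega) hu0' (hts 1 u' hu') hxu' hxs'
    (D 0) hx' huj'
  have hst := hs₁U (D 0) hu fun z hz => polar_eq_zero_of_singular (hts 0) hz hu
  have htl : ∀ y : orth Q', Matrix.toLin' ((orthToGL Q' y : Matrix.GeneralLinearGroup (Fin n) F) :
      Matrix (Fin n) (Fin n) F) = (y : (Fin n → F) ≃ₗ[F] (Fin n → F)).toLinearMap := fun y =>
    LinearMap.ext fun v => orthToGL_mulVec Q' y v
  refine exists_between_map Q' (orthStab Q' (D 0)) ?_ s₁ hst hs₁ ?_ s₂ hs₂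
    (fun h => hs₂x ((h x').1 hx'))
  · rintro _ ⟨hg, hgo⟩
    rw [SetLike.mem_coe, omegaGL_eq_map] at hgo
    obtain ⟨h, hh, rfl⟩ := hgo
    obtain ⟨σ, hσ⟩ := hg
    have h0 := hσ 0
    rw [htl] at h0
    refine ⟨h, ⟨mem_orthStab_of_map_le fun z hz => ?_, hh⟩, rfl⟩
    rcases (show σ 0 = 0 ∨ σ 0 = 1 by omega) with e | e <;> rw [e] at h0
    · exact h0 ▸ ⟨z, hz, rfl⟩
    · have := (maxSing_class_iff hQ' hR hV (hmax 0) h).2
        (congrArg Prod.snd ((mem_commutator_orth_iff hQ' hR h).1 hh))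
      rw [h0, hdisj, finrank_bot, Nat.sub_zero] at this
      exact absurd this (Nat.not_even_iff_odd.2 hko)
  · rintro ⟨⟨σ, hσ⟩, -⟩
    have h0 := hσ 0
    have h1 := hσ 1
    rw [htl] at h0 h1
    rw [map_eq_of_mem_orthStab hst] at h0
    have hinj : ∀ a, D 0 = D a → a = 0 := fun a ha => by
      by_contra hne
      have ha1 : a = 1 := by omega
      rw [ha1] at ha
      rw [← ha, inf_idem] at hdisj
      have := hD.finrank_eq 0
      rw [hdisj, finrank_bot] at this
      omega
    have e0 : σ 0 = 0 := hinj _ h0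
    have e1 : σ 1 = 1 := by
      have : σ 1 ≠ σ 0 := fun h => absurd (σ.injective h) (by decide)
      omega
    rw [e1] at h1
    exact hs₁x (h1 ▸ ⟨x, hx, rfl⟩)

end Cfsg.Agent.S5698
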