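import Cfsg.Statements.S5699
import Cfsg.Agent.Lib.OrthMax.Apps
import Cfsg.Agent.Lib.AschbacherOrth.Ten

set_option autoImplicit false
open Cfsg CfsgLib CfsgLib.AschbacherOrth

namespace Cfsg.Agent.S5699

/-- Let F be a finite field with q elements, n ≥ 13 even, Q a non-degenerate quadratic form on F^n (of either type), and Ω the commutator subgroup of the isometry group of Q, viewed inside GL_n(F). Let D be a decomposition of F^n into two orthogonal subspaces of odd dimension n/2 on which the polar form is non-degenerate and which are not Q-isometric to each other. Then the elements of Ω permuting (necessarily fixing) the two subspaces form a maximal subgroup of Ω. -/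
theorem result {F : Type*} [Field F] [Fintype F] {n : ℕ} (hn : 13 ≤ n) (heven : Even n) (Q : (Fin n → F) → F) (hQ : Cfsg.Geo.IsNondegenerateQuadraticForm Q) (k : ℕ) (hk : 2 * k = n) (hko : Odd k) (D : Fin 2 → Submodule F (Fin n → F)) (hD : Cfsg.Geo.IsNondegenerateMDecomposition (QuadraticMap.polar Q) k D) (hni : ¬ Cfsg.Geo.AreIsometricFor Q (D 0) (D 1)) : Cfsg.Geo.IsMaximalIn (Cfsg.Geo.omegaGL Q) (Cfsg.Geo.decompositionStabilizer D ⊓ Cfsg.Geo.omegaGL Q) := by
  classical
  obtain ⟨Q', rfl, hQ'⟩ := Geometry.exists_quadraticForm hQ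
  have hk7 : 7 ≤ k := by omega
  have hW : D 0 ⊓ Geometry.polarPerp Q' (D 0) = ⊥ := OrthMax.nd_of_isNondegenerateOn (hD.nondegenerate 0)
  have hd : ∀ i, Module.finrank F (D i) = k := hD.decomp.finrank_eq
  have hperp : D 1 = Geometry.polarPerp Q' (D 0) := by
    refine Submodule.eq_of_le_of_finrank_le (fun w hw => Geometry.mem_polarPerp.2 fun u hu =>
      hD.orthogonal 0 1 (by decide) u hu w hw) ?_
    have := Geometry.finrank_polarPerp hQ' (D 0)
    simp [hd] at this ⊢
    omega
  have heq : Geo.decompositionStabilizer D ⊓ Geo.omegaGL ⇑Q' =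
      Geo.subspaceStabilizer (D 0) ⊓ Geo.omegaGL ⇑Q' := by
    ext g
    constructor
    · rintro ⟨⟨σ, hσ⟩, hg⟩
      have hiso := omega_le_isometry _ hg
      have h0 : σ 0 = 0 := by
        by_contra hc
        have h1 : σ 0 = 1 := by omega
        have hm := hσ 0
        rw [h1] at hm
        let L : (Fin n → F) ≃ₗ[F] (Fin n → F) := Matrix.GeneralLinearGroup.toLin g |>.toLinearEquiv
        refine hni ⟨(L.submoduleMap (D 0)).trans (LinearEquiv.ofEq _ _ ?_), fun w => ?_⟩
        · rw [← hm]; rfl
        · exact hiso w 0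
      refine ⟨fun w => ?_, hg⟩
      show w ∈ D 0 ↔ (g : Matrix (Fin n) (Fin n) F).mulVec w ∈ D 0
      conv_rhs => rw [← h0, ← hσ 0]
      exact (Function.Injective.mem_set_image (f := Matrix.toLin' (g : Matrix (Fin n) (Fin n) F)) (fun a b h => by
        simpa using congrArg ((g⁻¹ : Matrix.GeneralLinearGroup (Fin n) F) : Matrix (Fin n) (Fin n) F).mulVec h)).symm
    · rintro ⟨hs, hg⟩
      have hiso := omega_le_isometry _ hg
      refine ⟨⟨1, fun i => ?_⟩, hg⟩
      refine Submodule.eq_of_le_of_finrank_le ?_ (le_of_eq ?_)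
      · rintro _ ⟨w, hw, rfl⟩
        show (g : Matrix (Fin n) (Fin n) F).mulVec w ∈ D i
        match i, hw with
        | 0, hw => exact (hs w).1 hw
        | 1, hw =>
          rw [hperp] at hw ⊢
          refine Geometry.mem_polarPerp.2 fun u hu => ?_
          have hm : Submodule.map (Matrix.toLin' (g : Matrix (Fin n) (Fin n) F)) (D 0) = D 0 := by
            refine Submodule.eq_of_le_of_finrank_le ?_ (le_of_eq ?_)
            · rintro _ ⟨v, hv, rfl⟩; exact (hs v).1 hv
            · exact (LinearEquiv.finrank_map_eq (Matrix.GeneralLinearGroup.toLin g).toLinearEquiv (D 0)).symm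
          have hu' : u ∈ Submodule.map (Matrix.toLin' (g : Matrix (Fin n) (Fin n) F)) (D 0) := by rwa [hm]
          obtain ⟨v, hv, rfl⟩ := hu'
          show QuadraticMap.polar ⇑Q' _ _ = 0
          rw [Matrix.toLin'_apply, isom_polar hiso]
          exact Geometry.mem_polarPerp.1 hw v hv
      · exact (LinearEquiv.finrank_map_eq (Matrix.GeneralLinearGroup.toLin g).toLinearEquiv (D i)).symm
  rw [heq]
  refine OrthMax.isMaximalIn_of_siegel hQ' (by simp; omega) (fun h => ?_) (fun h => ?_) fun M hle hst hne => ?_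
  · have := hd 0; rw [h, finrank_bot] at this; omega
  · have := hd 0; rw [h, finrank_top] at this; simp at this; omega
  refine OrthMax.nondeg_stab_max hQ' hW (by rw [hd]; omega) (fun g hg hgU => hni ?_) (fun h => ?_) hle hst hne
  · refine ⟨(g.submoduleMap (D 0)).trans (LinearEquiv.ofEq _ _ ?_), fun w => Geometry.mem_orth.1 hg w⟩
    refine Submodule.eq_of_le_of_finrank_le ?_ (le_of_eq ?_)
    · rintro _ ⟨u, hu, rfl⟩; rw [hperp]; exact hgU u hu
    · rw [LinearEquiv.finrank_map_eq, hd, hd]
  · rw [← hperp, hd] at h; omega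

end Cfsg.Agent.S5699
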