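import Cfsg.Statements.S5701
import Cfsg.Agent.Lib.OrthField.Bridge
import Cfsg.Agent.Lib.AschbacherOrth.Field

set_option autoImplicit false
open Cfsg

namespace Cfsg.Agent.S5701

/-- Let F be a finite field with q elements, n ≥ 13 even, Q a non-degenerate quadratic form on F^n (of either type), and Ω the commutator subgroup of the isometry group of Q, viewed inside GL_n(F). Suppose q is odd. Let K be a subfield of the algebra of n × n matrices over F containing the scalars, of prime degree r over F with n/r ≥ 3, whose elements are self-adjoint for the polar form of Q. Then the elements of Ω normalising K form a maximal subgroup of Ω. -/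
theorem result {F : Type*} [Field F] [Fintype F] {n : ℕ} (hn : 13 ≤ n) (heven : Even n) (Q : (Fin n → F) → F) (hQ : Cfsg.Geo.IsNondegenerateQuadraticForm Q) (hodd : Odd (Fintype.card F)) (r : ℕ) (hr : r.Prime) (hnr : 3 * r ≤ n) (K : Subalgebra F (Matrix (Fin n) (Fin n) F)) (hK : Cfsg.Geo.IsFieldSubalgebra r K) (hsa : Cfsg.Geo.IsSelfAdjointFor (QuadraticMap.polar Q) K) : Cfsg.Geo.IsMaximalIn (Cfsg.Geo.omegaGL Q) (Cfsg.Geo.subalgebraNormalizer K ⊓ Cfsg.Geo.omegaGL Q) := by
  obtain ⟨Q', rfl, hQ'⟩ := CfsgLib.Geometry.exists_quadraticForm hQ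
  have h2 : (2 : F) ≠ 0 := Ring.two_ne_zero fun h => by
    have := FiniteField.even_card_of_char_two h
    rw [Nat.odd_iff] at hodd
    omega
  have h5 : 5 ≤ Fintype.card (Fin n) := by simp; omega
  haveI : Nonempty (Fin n) := ⟨⟨0, by omega⟩⟩
  obtain ⟨k, hk⟩ := CfsgLib.AschbacherOrth.dvd_card_of_field hK
  rw [Fintype.card_fin] at hk
  obtain ⟨d, hd⟩ := heven
  have h2r := hr.two_le
  have hk3 : 3 ≤ k := Nat.le_of_mul_le_mul_left (by rw [← hk, mul_comm]; exact hnr) hr.pos
  refine CfsgLib.OrthField.orth_field_maximal hQ' h2 hr hK hsa (by rw [Fintype.card_fin]; exact hnr) ?_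
  rw [Fintype.card_fin]
  rcases eq_or_lt_of_le hk3 with rfl | hk4
  · refine Or.inr ?_
    rcases hr.eq_two_or_odd with h | h <;> omega
  refine Or.inl ⟨by rw [hk, mul_comm r k]; exact Nat.mul_le_mul_right r hk4, ?_⟩
  rcases hr.eq_two_or_odd with rfl | h
  · exact Or.inr (by omega)
  · exact Or.inl (by omega)

end Cfsg.Agent.S5701
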