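import Cfsg.Statements.S5712
import Cfsg.Agent.Lib.Geometry.SpTwoOver.Main
import Cfsg.Agent.Lib.Geometry.OmegaCharTwo
import Cfsg.Agent.Lib.Geometry.OrthMatrix
import Cfsg.Agent.Lib.Base.Cores
import Cfsg.Agent.Lib.Geometry.SemiSim
import Cfsg.Agent.Lib.Maximal.SpTv
import Cfsg.Agent.Lib.Classical.SympFourTwo
import Cfsg.Agent.Lib.MinIdx.SpTwoBase
import Cfsg.Agent.Lib.KnownA.IndexSix

set_option autoImplicit false
open Cfsg

namespace Cfsg.Agent.S5712

open CfsgLib.Geometry CfsgLib.Geometry.SpTwoOver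

section
variable {F : Type*} [Field F]

theorem rank_eq_one {n : ℕ} (B : LinearMap.BilinForm F (Fin n ⊕ Fin n → F)) (hnd : B.Nondegenerate)
    {a : Fin n ⊕ Fin n → F} (ha : a ≠ 0) {k : F} (hk : k ≠ 0) {g : GL (Fin n ⊕ Fin n) F}
    (hg : ∀ x, Matrix.mulVec (g : Matrix (Fin n ⊕ Fin n) (Fin n ⊕ Fin n) F) x = x + (k * B x a) • a) :
    ((g : Matrix (Fin n ⊕ Fin n) (Fin n ⊕ Fin n) F) - 1).rank = 1 := by
  have e : LinearMap.range (Matrix.mulVecLin ((g : Matrix (Fin n ⊕ Fin n) (Fin n ⊕ Fin n) F) - 1)) =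
      Submodule.span F {a} := by
    have h : ∀ x, Matrix.mulVecLin ((g : Matrix (Fin n ⊕ Fin n) (Fin n ⊕ Fin n) F) - 1) x = (k * B x a) • a :=
      fun x => by rw [Matrix.mulVecLin_apply, Matrix.sub_mulVec, Matrix.one_mulVec, hg, add_sub_cancel_left]
    refine le_antisymm ?_ ((Submodule.span_singleton_le_iff_mem _ _).2 ?_)
    · rintro _ ⟨x, rfl⟩
      rw [h]
      exact Submodule.smul_mem _ _ (Submodule.mem_span_singleton_self a)
    · obtain ⟨b, -, hab⟩ := exists_perp (σ := RingHom.id F) Function.surjective_id _ hnd.1 ⊥ (x := a)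
        (by simpa using ha) 1
      exact ⟨k⁻¹ • b, by rw [h, map_smul, LinearMap.smul_apply, hab, smul_eq_mul, mul_one, mul_inv_cancel₀ hk,
        one_smul]⟩
  rw [Matrix.rank, e, finrank_span_singleton ha]

/-- Membership of a matrix group element in a mapped group. -/
theorem mem_map_glEquiv {n : ℕ} {M : Subgroup (GL (Fin n ⊕ Fin n) F)} {g : GL (Fin n ⊕ Fin n) F} :
    glEquiv g ∈ M.map glEquiv.toMonoidHom ↔ g ∈ M :=
  Subgroup.mem_map_iff_mem glEquiv.injective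

theorem symp_equiv_spGL (n : ℕ) : Nonempty (Matrix.symplecticGroup (Fin n) F ≃* Cfsg.spGL n F) := by
  let f : Matrix.symplecticGroup (Fin n) F →* Cfsg.spGL n F := MonoidHom.mk'
    (fun s => ⟨⟨s.1, (s⁻¹).1, congrArg Subtype.val (mul_inv_cancel s), congrArg Subtype.val (inv_mul_cancel s)⟩,
      fun u v => CfsgLib.Classical.mem_symplecticGroup_iff_sbil.1 s.2 u v⟩)
    fun s t => Subtype.ext (Units.ext rfl)
  exact ⟨MulEquiv.ofBijective f ⟨fun s t h => Subtype.ext (congrArg (fun x : Cfsg.spGL n F => x.1.1) h),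
    fun g => ⟨⟨g.1.1, CfsgLib.Classical.mem_symplecticGroup_iff_sbil.2 fun u v => g.2 u v⟩,
      Subtype.ext (Units.ext rfl)⟩⟩⟩

theorem small_case [Finite F] [CharP F 2] (h2 : Nat.card F = 2) {n : ℕ} (hn : n = 2)
    {L : Subgroup (GL (Fin n ⊕ Fin n) F)} (hL : L ≤ Cfsg.spGL n F) {k : ℕ} (hc : Nat.card L = 15 * k)
    (h4 : 4 ∣ k) (hk : 4 < k) :
    L = Cfsg.spGL n F ∨ Nonempty (↥L ≃* ↥(alternatingGroup (Fin 6))) ∨ Nonempty (↥L ≃* Equiv.Perm (Fin 5)) := by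
  subst hn
  obtain ⟨e₁⟩ := CfsgLib.Classical.FourTwo.equiv_perm_six h2
  obtain ⟨e₂⟩ := symp_equiv_spGL (F := F) 2
  let e : Cfsg.spGL 2 F ≃* Equiv.Perm (Fin 6) := e₂.symm.trans e₁
  set M := (L.subgroupOf (Cfsg.spGL 2 F)).map e.toMonoidHom with hM
  let f : L ≃* M := (Subgroup.subgroupOfEquivOfLe hL).symm.trans (e.subgroupMap _)
  have hcM : Nat.card M = 15 * k := (Nat.card_congr f.toEquiv).symm.trans hc
  have hmul := M.card_mul_index
  rw [hcM, Nat.card_perm, Nat.card_fin, show Nat.factorial 6 = 720 from rfl] at hmul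
  obtain ⟨j, rfl⟩ := h4
  have hj : j * M.index = 12 := by linarith
  have hj2 : 2 ≤ j := by omega
  have hi : M.index ≤ 6 := by nlinarith
  rcases CfsgLib.MinIdx.SpF2.perm_six_index M with h | h
  · have h0 : M.index ≠ 0 := fun e => by rw [e, mul_zero] at hj; omega
    rcases (show M.index = 1 ∨ M.index = 2 by omega) with h' | h'
    · refine Or.inl (le_antisymm hL fun g hg => ?_)
      have hm : (⟨g, hg⟩ : Cfsg.spGL 2 F) ∈ L.subgroupOf (Cfsg.spGL 2 F) :=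
        (Subgroup.mem_map_iff_mem e.injective).1 (show e.toMonoidHom ⟨g, hg⟩ ∈ M by
          rw [Subgroup.index_eq_one.1 h']; exact Subgroup.mem_top _)
      exact hm
    · exact Or.inr (Or.inl ⟨f.trans (MulEquiv.subgroupCongr (Equiv.Perm.eq_alternatingGroup_of_index_eq_two h'))⟩)
  · obtain ⟨ι, hι, hr⟩ := CfsgLib.KnownA.Six.exists_hom (Fintype.card_fin 6) M (le_antisymm hi h)
    exact Or.inr (Or.inr ⟨f.trans ((MulEquiv.subgroupCongr hr).symm.trans (MonoidHom.ofInjective hι).symm)⟩)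

end


/-- Let F be a finite field of characteristic two, n ≥ 2, V = F^{2n} with the non-degenerate alternating form f(u, v) = Σ (u_i v_{n+i} + u_{n+i} v_i), and G the group of invertible matrices preserving f. Let a ≠ 0 be a vector, H its stabilizer in G, and X a subgroup of O₂(H) of order |F|^{2n−2} no element of which is a transvection (no element g has g − 1 of rank one). If L is a subgroup of G containing X that acts irreducibly on V (no proper non-zero L-invariant subspace), then L = G, or, for some quadratic form Q on V whose polar form is f, L is the isometry group of Q or its subgroup of the isometries g for which g − 1 has even rank, or |F| = 2, n = 2 and L is isomorphic to the alternating group of degree 6 or to the symmetric group of degree 5. -/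
theorem result {F : Type*} [Field F] [Fintype F] [CharP F 2] {n : ℕ} (hn : 2 ≤ n) (a : (Fin n ⊕ Fin n → F)) (ha : a ≠ 0)
    (X : Subgroup (GL (Fin n ⊕ Fin n) F)) (hXG : X ≤ Cfsg.preserving (Units.coeHom (Matrix (Fin n ⊕ Fin n) (Fin n ⊕ Fin n) F)) (fun u v : (Fin n ⊕ Fin n → F) => ∑ i : Fin n, (u (Sum.inl i) * v (Sum.inr i) + u (Sum.inr i) * v (Sum.inl i))))
    (hXO : ∀ H : Subgroup (GL (Fin n ⊕ Fin n) F),
      (∀ g : GL (Fin n ⊕ Fin n) F, g ∈ H ↔ (g ∈ Cfsg.preserving (Units.coeHom (Matrix (Fin n ⊕ Fin n) (Fin n ⊕ Fin n) F)) (fun u v : (Fin n ⊕ Fin n → F) => ∑ i : Fin n, (u (Sum.inl i) * v (Sum.inr i) + u (Sum.inr i) * v (Sum.inl i))) ∧ Matrix.mulVec (g : Matrix (Fin n ⊕ Fin n) (Fin n ⊕ Fin n) F) a = a)) →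
      X ≤ (Cfsg.pCore 2 ↥H).map H.subtype)
    (hcard : Nat.card ↥X = Fintype.card F ^ (2 * n - 2))
    (hntv : ∀ x ∈ X, ((x : Matrix (Fin n ⊕ Fin n) (Fin n ⊕ Fin n) F) - 1).rank ≠ 1)
    (L : Subgroup (GL (Fin n ⊕ Fin n) F)) (hXL : X ≤ L) (hLG : L ≤ Cfsg.preserving (Units.coeHom (Matrix (Fin n ⊕ Fin n) (Fin n ⊕ Fin n) F)) (fun u v : (Fin n ⊕ Fin n → F) => ∑ i : Fin n, (u (Sum.inl i) * v (Sum.inr i) + u (Sum.inr i) * v (Sum.inl i))))
    (hirr : ∀ W : Submodule F (Fin n ⊕ Fin n → F), (∀ g ∈ L, ∀ w ∈ W, Matrix.mulVec (g : Matrix (Fin n ⊕ Fin n) (Fin n ⊕ Fin n) F) w ∈ W) → W = ⊥ ∨ W = ⊤) :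
    L = Cfsg.preserving (Units.coeHom (Matrix (Fin n ⊕ Fin n) (Fin n ⊕ Fin n) F)) (fun u v : (Fin n ⊕ Fin n → F) => ∑ i : Fin n, (u (Sum.inl i) * v (Sum.inr i) + u (Sum.inr i) * v (Sum.inl i))) ∨
    (∃ Q : QuadraticForm F (Fin n ⊕ Fin n → F), (∀ u v, QuadraticMap.polar ⇑Q u v = (fun u v : (Fin n ⊕ Fin n → F) => ∑ i : Fin n, (u (Sum.inl i) * v (Sum.inr i) + u (Sum.inr i) * v (Sum.inl i))) u v) ∧
      (L = Cfsg.isometryGroup F ⇑Q ∨
        ∀ g : GL (Fin n ⊕ Fin n) F, g ∈ L ↔ (g ∈ Cfsg.isometryGroup F ⇑Q ∧ Even ((g : Matrix (Fin n ⊕ Fin n) (Fin n ⊕ Fin n) F) - 1).rank))) ∨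
    (Fintype.card F = 2 ∧ n = 2 ∧ (Nonempty (↥L ≃* ↥(alternatingGroup (Fin 6))) ∨ Nonempty (↥L ≃* Equiv.Perm (Fin 5)))) := by
  classical
  set f : (Fin n ⊕ Fin n → F) → (Fin n ⊕ Fin n → F) → F :=
    fun u v => ∑ i : Fin n, (u (Sum.inl i) * v (Sum.inr i) + u (Sum.inr i) * v (Sum.inl i)) with hf
  set B := sympBilin n F
  have hBf : ∀ u v, B u v = f u v := fun u v => by
    rw [sympBilin_apply, sympForm_eq, hf]
    exact Finset.sum_congr rfl fun i _ => by rw [CharTwo.sub_eq_add, add_comm]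
  have hG : Cfsg.preserving (Units.coeHom (Matrix (Fin n ⊕ Fin n) (Fin n ⊕ Fin n) F)) f = Cfsg.spGL n F := by
    rw [show f = Cfsg.sympForm n F from funext₂ fun u v => (hBf u v).symm]
    rfl
  rw [hG] at hXG hLG hXO ⊢
  have halt := sympBilin_isAlt n F
  have hnd := sympBilin_nondegenerate n F
  have hdim : Module.finrank F (Fin n ⊕ Fin n → F) = 2 * n := by
    rw [Module.finrank_fintype_fun_eq_card, Fintype.card_sum, Fintype.card_fin, two_mul]
  set e := (glEquiv (ι := Fin n ⊕ Fin n) (F := F)) with he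
  have hpres : ∀ g, g ∈ Cfsg.spGL n F ↔ ∀ x y, B (e g x) (e g y) = B x y := fun g => Iff.rfl
  -- the point stabiliser
  let H : Subgroup (GL (Fin n ⊕ Fin n) F) :=
    Cfsg.spGL n F ⊓ (MulAction.stabilizer ((Fin n ⊕ Fin n → F) ≃ₗ[F] (Fin n ⊕ Fin n → F)) a).comap e.toMonoidHom
  have hHX := hXO H fun g => Iff.rfl
  set P : Subgroup ((Fin n ⊕ Fin n → F) ≃ₗ[F] (Fin n ⊕ Fin n → F)) :=
    (Cfsg.pCore 2 ↥H).map (e.toMonoidHom.comp H.subtype) with hP
  have hPp : IsPGroup 2 P := (CfsgLib.Base.isPGroup_pCore 2 H).map _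
  have hPmem : ∀ g ∈ P, ∃ h : H, h ∈ Cfsg.pCore 2 ↥H ∧ e (h : GL (Fin n ⊕ Fin n) F) = g := fun g hg => hg
  have hPnorm : ∀ h : (Fin n ⊕ Fin n → F) ≃ₗ[F] (Fin n ⊕ Fin n → F), (∀ x y, B (h x) (h y) = B x y) → h a = a →
      ∀ g ∈ P, h * g * h⁻¹ ∈ P := by
    intro h hh ha' g hg
    obtain ⟨g₀, hg₀, rfl⟩ := hPmem g hg
    have hhH : e.symm h ∈ H := ⟨(hpres _).2 (by simpa using hh), by
      show e (e.symm h) a = a
      rw [e.apply_symm_apply, ha']⟩
    refine ⟨⟨_, hhH⟩ * g₀ * ⟨_, hhH⟩⁻¹, (Cfsg.pCore_normal 2 H).conj_mem _ hg₀ _, ?_⟩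
    simp [map_mul, map_inv]
  set X' := X.map e.toMonoidHom with hX'
  set L' := L.map e.toMonoidHom with hL'
  have hX'P : X' ≤ P := by
    rw [hP, ← Subgroup.map_map]
    exact Subgroup.map_mono hHX
  have hel : ∀ g ∈ X', ∃ (w : Fin n ⊕ Fin n → F) (k : F), B w a = 0 ∧
      ∀ x, g x = x + B x a • w + (B x w + k * B x a) • a := fun g hg =>
    el_of_two halt hnd ha hPp (fun g hg => by obtain ⟨h, -, rfl⟩ := hPmem g hg; exact h.2.2)
      (fun g hg => by obtain ⟨h, -, rfl⟩ := hPmem g hg; exact (hpres _).1 h.2.1) hPnorm (hX'P hg)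
  have hXL' : X' ≤ L' := Subgroup.map_mono hXL
  have hc' : Nat.card X' = Nat.card F ^ (2 * n - 2) := by
    rw [hX', Nat.card_congr (Subgroup.equivMapOfInjective X _ e.injective).toEquiv.symm, hcard,
      Nat.card_eq_fintype_card]
  obtain ⟨hpt, hsel⟩ := sel_of_card (n := 2 * n - 2) halt hnd ha (by omega) hc' hel (fun g hg k hk hgk => by
    obtain ⟨g₀, hg₀, rfl⟩ := hg
    exact hntv g₀ hg₀ (rank_eq_one B hnd ha hk hgk)) hXL'
  have Ho : Orb B L' a := ⟨halt, hnd, fun g hg => by obtain ⟨g₀, hg₀, rfl⟩ := hg; exact (hpres _).1 (hLG hg₀),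
    ha, hpt, fun W hW => hirr W fun g hg w hw => hW (e g) (mem_map_glEquiv.2 hg) w hw⟩
  rcases Ho.classify hsel hn hdim hXL' hc' hel with hfull | hQ | ⟨h2, hn2, k, hk, h4, hk4⟩
  · refine Or.inl (le_antisymm hLG (CfsgLib.Maximal.spGL_le_of_stv fun k c => mem_map_glEquiv.1 ?_))
    obtain ⟨g, hg, hgx⟩ := hfull c k
    convert hg using 1
    refine LinearEquiv.ext fun x => ?_
    rw [hgx, glEquiv_apply, CfsgLib.Maximal.stv_mulVec, map_zero, smul_zero, add_zero, zero_add,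
      ← sympBilin_apply]
  · obtain ⟨Q, hQp, hQL⟩ := hQ
    refine Or.inr (Or.inl ⟨Q, fun u v => (hQp u v).trans (hBf u v), ?_⟩)
    have hiso : ∀ g, g ∈ Cfsg.isometryGroup F ⇑Q ↔ e g ∈ orth Q :=
      fun g => (mem_isometryGroup_iff g).trans (mem_orth (g := e g)).symm
    refine hQL.imp (fun h => SetLike.ext fun g => ?_) fun h g => ?_
    · rw [hiso, ← h, hL', mem_map_glEquiv]
    · rw [← mem_map_glEquiv (M := L), hiso, h]
      refine and_congr_right fun hg => ?_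
      rw [dickson, ZMod.natCast_eq_zero_iff_even, ← finrank_movSpace_eq_rank Q ⟨g, (hiso g).2 hg⟩]
      rfl
  · have hk' : Nat.card L = 15 * k := by
      rwa [hL', Nat.card_congr (Subgroup.equivMapOfInjective L _ e.injective).toEquiv.symm] at hk
    rcases small_case (by rw [Nat.card_eq_fintype_card, h2]) hn2 hLG hk' h4 hk4 with h | h
    · exact Or.inl h
    · exact Or.inr (Or.inr ⟨h2, hn2, h⟩)

end Cfsg.Agent.S5712
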