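import Cfsg.Statements.S5713
import Cfsg.Agent.Lib.Maximal.MinDegree

set_option autoImplicit false
open Cfsg

namespace Cfsg.Agent.S5713

/-- A classification-free minimal-degree bound. Let G be a finite group acting faithfully and primitively on a finite set Ω with n elements, and suppose that the image of G in the symmetric group on Ω does not contain the alternating group on Ω. Then every non-identity element of G moves at least (√n − 1)/2 points of Ω, that is, it fixes at most n − (√n − 1)/2 points. -/
theorem result {G Ω : Type*} [Group G] [Finite G] [MulAction G Ω] [FaithfulSMul G Ω] [Fintype Ω] [DecidableEq Ω]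
    (hprim : MulAction.IsPreprimitive G Ω)
    (hA : ¬ alternatingGroup Ω ≤ (MulAction.toPermHom G Ω).range)
    (g : G) (hg : g ≠ 1) :
    (Real.sqrt (Fintype.card Ω) - 1) / 2 ≤ (Fintype.card Ω : ℝ) - Nat.card (MulAction.fixedBy Ω g) := by
  classical
  set K := (MulAction.toPermHom G Ω).range with hKdef
  haveI : MulAction.IsPreprimitive K Ω := by
    let f : Ω →ₑ[(MulAction.toPermHom G Ω).rangeRestrict] Ω :=
      { toFun := id, map_smul' := fun g x => rfl }
    exact MulAction.IsPreprimitive.of_surjective (f := f) Function.surjective_id
  have hg1 : (MulAction.toPermHom G Ω) g ≠ 1 := fun e => hg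
    (MulAction.toPerm_injective (α := G) (β := Ω) (e.trans (map_one (MulAction.toPermHom G Ω)).symm))
  have hb := CfsgLib.Maximal.MinDegree.card_le K hA ⟨g, rfl⟩ hg1
  have hfix : Nat.card (MulAction.fixedBy Ω g) + ((MulAction.toPermHom G Ω) g).support.card = Fintype.card Ω := by
    have h1 : Nat.card (MulAction.fixedBy Ω g) = ((MulAction.toPermHom G Ω) g).supportᶜ.card := by
      rw [Nat.card_eq_fintype_card, ← Fintype.card_coe]
      exact Fintype.card_congr (Equiv.subtypeEquivRight fun x => by simp)
    rw [h1, Finset.card_compl_add_card]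
  have h2 : Real.sqrt (Fintype.card Ω) ≤ 2 * (((MulAction.toPermHom G Ω) g).support.card : ℝ) + 1 := by
    rw [Real.sqrt_le_iff]
    refine ⟨by positivity, ?_⟩
    exact_mod_cast hb
  have h3 : (Nat.card (MulAction.fixedBy Ω g) : ℝ) + ((MulAction.toPermHom G Ω) g).support.card = Fintype.card Ω := by
    exact_mod_cast hfix
  linarith

end Cfsg.Agent.S5713
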