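import Cfsg.Statements.S5722
import Cfsg.Agent.Lib.CompLength.Main

set_option autoImplicit false
open Cfsg

namespace Cfsg.Agent.S5722

/-- If a finite group G acts faithfully on a finite set with n points and r orbits, then the composition length of G is at most 4(n − r)/3. Here the composition length is expressed through chains: the conclusion bounds the length l of every chain of subgroups 1 = H₀ < H₁ < ⋯ < H_l = G in which each term is normal in the next (the longest such chains are exactly the composition series). -/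
theorem result {G Ω : Type*} [Group G] [Finite G] [MulAction G Ω] [FaithfulSMul G Ω] [Fintype Ω]
    (l : ℕ) (H : Fin (l + 1) → Subgroup G) (h0 : H 0 = ⊥) (hl : H (Fin.last l) = ⊤)
    (hchain : ∀ i : Fin l, H i.castSucc < H i.succ ∧ ((H i.castSucc).subgroupOf (H i.succ)).Normal) :
    3 * l ≤ 4 * (Fintype.card Ω - Nat.card (Quotient (MulAction.orbitRel G Ω))) := by
  classical
  haveI : Finite Ω := Finite.of_fintype Ω
  let H' : ℕ → Subgroup G := fun i => if hi : i < l + 1 then H ⟨i, hi⟩ else ⊤
  have hH' : ∀ i (hi : i < l + 1), H' i = H ⟨i, hi⟩ := fun i hi => dif_pos hi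
  have hstep : ∀ i (hi : i < l), H' i = H (⟨i, hi⟩ : Fin l).castSucc ∧ H' (i + 1) = H (⟨i, hi⟩ : Fin l).succ :=
    fun i hi => ⟨hH' i (by omega), hH' (i + 1) (by omega)⟩
  have h := CfsgLib.CompLength.lenLE_perm (G := G) (X := Ω) l H' (fun i hi => by
    obtain ⟨e1, e2⟩ := hstep i hi
    obtain ⟨hlt, hn⟩ := hchain ⟨i, hi⟩
    rw [e1, e2]
    exact ⟨hlt.le, fun x hx y hy => by
      simpa [Subgroup.mem_subgroupOf] using hn.conj_mem ⟨x, hlt.le hx⟩ hx ⟨y, hy⟩⟩)
    ((hH' l (Nat.lt_succ_self l)).trans hl)
  rw [Nat.card_eq_fintype_card] at h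
  have hfil : (Finset.range l).filter (fun i => H' i ≠ H' (i + 1)) = Finset.range l := by
    refine Finset.filter_true_of_mem fun i hi => ?_
    obtain ⟨e1, e2⟩ := hstep i (Finset.mem_range.1 hi)
    rw [e1, e2]
    exact (hchain ⟨i, _⟩).1.ne
  rw [hfil, Finset.card_range] at h
  exact h

end Cfsg.Agent.S5722
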