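import Cfsg.Statements.S5728

set_option autoImplicit false
open Cfsg

namespace Cfsg.Agent.S5728

/-- An elusive transitive action. Let p = 2^s − 1 be a prime and let F be the field with p² elements. Inside the group of affine maps x ↦ a·x + b of F (a ≠ 0), consider the subgroup of maps with both coefficients in the prime field. Then every element of prime order of the affine group is conjugate, within the affine group, to an element of that subgroup; equivalently, in the transitive action of the affine group on the cosets of that subgroup (of degree p(p + 1)) every element of prime order fixes a point. -/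
theorem result (p s : ℕ) [Fact p.Prime] (hs : p = 2 ^ s - 1)
    (g : Equiv.Perm (GaloisField p 2)) (hg : g ∈ Cfsg.affineGroup (GaloisField p 2)) (hord : (orderOf g).Prime) :
    ∃ x ∈ Cfsg.affineGroup (GaloisField p 2), ∃ a b : ZMod p, a ≠ 0 ∧
      ∀ y : GaloisField p 2, (x * g * x⁻¹) y = algebraMap (ZMod p) (GaloisField p 2) a * y + algebraMap (ZMod p) (GaloisField p 2) b := by
  obtain ⟨a, b, hab⟩ := hg
  haveI : Finite (GaloisField p 2) := inferInstance
  have hcard : Nat.card (GaloisField p 2) = p ^ 2 := GaloisField.card p 2 (by norm_num)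
  by_cases h1 : (a : GaloisField p 2) = 1
  · have hb : b ≠ 0 := by
      intro hb
      have : g = 1 := Equiv.ext fun y => by rw [hab, h1, hb]; simp
      rw [this, orderOf_one] at hord
      exact Nat.not_prime_one hord
    refine ⟨Equiv.mulLeft₀ b⁻¹ (inv_ne_zero hb), ⟨Units.mk0 _ (inv_ne_zero hb), 0, fun y => by simp⟩,
      1, 1, one_ne_zero, fun y => ?_⟩
    simp only [Equiv.Perm.mul_apply, hab, h1, map_one]
    rw [Equiv.Perm.inv_def, Equiv.mulLeft₀_symm_apply]
    show b⁻¹ * _ = _
    field_simp
  -- non-translation: move the fixed point to the origin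
  set y0 : GaloisField p 2 := b / (1 - (a : GaloisField p 2)) with hy0
  have hne : 1 - (a : GaloisField p 2) ≠ 0 := sub_ne_zero.2 (Ne.symm h1)
  have hfix : (a : GaloisField p 2) * y0 + b = y0 := by rw [hy0]; field_simp; ring
  have hgpow : ∀ k : ℕ, ∀ y, (g ^ k) y = (a : GaloisField p 2) ^ k * (y - y0) + y0 := by
    intro k
    induction k with
    | zero => intro y; simp
    | succ k ih =>
      intro y
      rw [pow_succ', Equiv.Perm.mul_apply, ih, hab, pow_succ]
      linear_combination hfix
  set l := orderOf g with hl
  have hal : (a : GaloisField p 2) ^ l = 1 := by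
    have := hgpow l (y0 + 1)
    rw [hl, pow_orderOf_eq_one, Equiv.Perm.one_apply, ← hl] at this
    linear_combination -this
  have hap : (a : GaloisField p 2) ^ (p - 1) = 1 := by
    have hord' : orderOf (a : GaloisField p 2) = l := by
      rcases (Nat.dvd_prime hord).1 (orderOf_dvd_of_pow_eq_one hal) with h | h
      · exact absurd (orderOf_eq_one_iff.1 h) h1
      · exact h
    have hdvd : l ∣ p ^ 2 - 1 := by
      rw [← hord', ← hcard]
      refine orderOf_dvd_of_pow_eq_one ?_
      haveI := Fintype.ofFinite (GaloisField p 2)
      rw [Nat.card_eq_fintype_card]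
      exact FiniteField.pow_card_sub_one_eq_one _ (Units.ne_zero a)
    have hp := (Fact.out : p.Prime)
    have hdvd' : l ∣ p - 1 := by
      have hfac : p ^ 2 - 1 = (p + 1) * (p - 1) := by
        have := Nat.sq_sub_sq p 1; rw [one_pow] at this; exact this
      rcases hord.dvd_mul.1 (hfac ▸ hdvd) with h | h
      · have hps : p + 1 = 2 ^ s := by have := Nat.one_le_two_pow (n := s); omega
        have h2 : l = 2 := (Nat.prime_dvd_prime_iff_eq hord Nat.prime_two).1 (hord.dvd_of_dvd_pow (hps ▸ h))
        rw [h2]
        have hs0 : s ≠ 0 := by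
          rintro rfl
          have := hp.two_le
          simp at hps
          omega
        have : 2 ∣ p + 1 := hps ▸ dvd_pow_self 2 hs0
        omega
      · exact h
    obtain ⟨c, hc⟩ := hdvd'
    rw [hc, pow_mul, hal, one_pow]
  have hafix : (a : GaloisField p 2) ^ p = (a : GaloisField p 2) := by
    have hp := (Fact.out : p.Prime)
    calc (a : GaloisField p 2) ^ p = (a : GaloisField p 2) ^ (p - 1) * (a : GaloisField p 2) := by
          rw [← pow_succ, Nat.sub_add_cancel hp.one_le]
      _ = _ := by rw [hap, one_mul]
  have hmem : (a : GaloisField p 2) ∈ (⊥ : Subfield (GaloisField p 2)) :=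
    (Subfield.mem_bot_iff_pow_eq_self (F := GaloisField p 2) (p := p)).2 hafix
  rw [← ZMod.fieldRange_castHom_eq_bot p] at hmem
  obtain ⟨a', ha'⟩ := hmem
  refine ⟨Equiv.addRight (-y0), ⟨1, -y0, fun y => by simp⟩, a', 0, ?_, fun y => ?_⟩
  · rintro rfl
    exact Units.ne_zero a (by rw [← ha']; simp)
  · have hinv : ((Equiv.addRight (-y0) : Equiv.Perm (GaloisField p 2))⁻¹) y = y + y0 := by
      rw [Equiv.Perm.inv_def, Equiv.addRight_symm]; simp
    simp only [Equiv.Perm.mul_apply, hinv, hab, map_zero, add_zero, Equiv.coe_addRight]
    rw [show (algebraMap (ZMod p) (GaloisField p 2)) a' = (a : GaloisField p 2) by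
      rw [← ha']; exact congrArg (fun r : ZMod p →+* GaloisField p 2 => r a') (RingHom.ext_zmod _ _)]
    linear_combination hfix

end Cfsg.Agent.S5728
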