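import Cfsg.Statements.S5730
import Cfsg.Agent.Lib.Perm.DerangeTwo.Main

set_option autoImplicit false
open Cfsg

namespace Cfsg.Agent.S5730

/-- Let a finite group G act faithfully and transitively on a set with n ≥ 7 points. Then either G is a Frobenius permutation group (Frobenius as a permutation group: transitive, some non-identity element fixes a point, and no non-identity element fixes two points) of order n(n − 1)/a with a ∈ {1, 2}, in which case exactly a|G|/n of its elements are derangements, or the number of derangements is at least 2|G|/n. (Equality does occur: PSL₃(2) acting on the 7 points of the Fano plane has exactly 2|G|/7 derangements.) -/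
theorem result {G Ω : Type*} [Group G] [Finite G] [MulAction G Ω] [FaithfulSMul G Ω] [Fintype Ω] (htr : MulAction.IsPretransitive G Ω) (hn : 7 ≤ Fintype.card Ω) :
    (∃ a : ℕ, (a = 1 ∨ a = 2) ∧ (MulAction.IsPretransitive G Ω ∧ (∃ g : G, g ≠ 1 ∧ ∃ ω : Ω, g • ω = ω) ∧ ∀ g : G, g ≠ 1 → Nat.card (MulAction.fixedBy Ω g) ≤ 1) ∧ a * Nat.card G = Fintype.card Ω * (Fintype.card Ω - 1) ∧ Fintype.card Ω * Nat.card {g : G // ∀ ω : Ω, g • ω ≠ ω} = a * Nat.card G) ∨
    2 * Nat.card G ≤ Fintype.card Ω * Nat.card {g : G // ∀ ω : Ω, g • ω ≠ ω} := by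
  classical
  haveI := Fintype.ofFinite G
  by_cases h2 : MulAction.IsMultiplyPretransitive G Ω 2
  · obtain ⟨a, b, hab⟩ := Fintype.one_lt_card_iff.1 (show 1 < Fintype.card Ω by omega)
    haveI := Fintype.ofFinite (CfsgLib.Perm.DerangeTwo.H2 G a b)
    rcases Nat.lt_or_ge 1 (Nat.card (CfsgLib.Perm.DerangeTwo.H2 G a b)) with h1 | h1
    · exact Or.inr (CfsgLib.Perm.DerangeTwo.bound_of_two h2 hn hab h1)
    have h1 : Nat.card (CfsgLib.Perm.DerangeTwo.H2 G a b) = 1 := le_antisymm h1 Nat.card_pos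
    obtain ⟨hD, hG⟩ := CfsgLib.Perm.DerangeTwo.card_formulas h2 hab
    rw [h1, Nat.cast_one, mul_one] at hG
    have hcast : ((Fintype.card Ω * (Fintype.card Ω - 1) : ℕ) : ℚ) = (Fintype.card G : ℚ) := by
      rw [hG]; push_cast [Nat.cast_sub (show 1 ≤ Fintype.card Ω by omega)]; ring
    have hGn : Fintype.card Ω * (Fintype.card Ω - 1) = Nat.card G := by
      rw [Nat.card_eq_fintype_card]; exact_mod_cast hcast
    refine Or.inl ⟨1, Or.inl rfl, ⟨htr, ?_, ?_⟩, by rw [one_mul, hGn], ?_⟩
    · haveI := htr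
      have hst : 1 < Nat.card (MulAction.stabilizer G a) := by
        have h3 := Subgroup.card_mul_index (MulAction.stabilizer G a)
        rw [MulAction.index_stabilizer_of_transitive G a, Nat.card_eq_fintype_card (α := Ω), ← hGn,
          mul_comm (Fintype.card Ω)] at h3
        have := Nat.eq_of_mul_eq_mul_right (by omega) h3
        omega
      haveI := Finite.one_lt_card_iff_nontrivial.1 hst
      obtain ⟨g, hg⟩ := exists_ne (1 : MulAction.stabilizer G a)
      exact ⟨g, fun h => hg (Subtype.ext h), a, g.2⟩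
    · intro g hg
      by_contra hc
      push Not at hc
      haveI := Finite.one_lt_card_iff_nontrivial.1 hc
      obtain ⟨⟨p, hp⟩, ⟨q, hq⟩, hpq⟩ := exists_pair_ne (MulAction.fixedBy Ω g)
      have hpq' : p ≠ q := fun h => hpq (Subtype.ext h)
      have h3 := CfsgLib.Perm.DerangeTwo.card_H2_eq h2 hab hpq'
      rw [h1] at h3
      have h4 : g ∈ CfsgLib.Perm.DerangeTwo.H2 G p q := ⟨hp, hq⟩
      rw [Subgroup.eq_bot_of_card_eq _ h3.symm, Subgroup.mem_bot] at h4
      exact hg h4
    · have hsum : (∑ x : CfsgLib.Perm.DerangeTwo.H2 G a b, (1 / (CfsgLib.Perm.DerangeTwo.f Ω (x : G)) : ℚ)) =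
          1 / (Fintype.card Ω : ℚ) := by
        haveI : Subsingleton (CfsgLib.Perm.DerangeTwo.H2 G a b) := (Nat.card_eq_one_iff_unique.1 h1).1
        rw [Fintype.sum_subsingleton _ 1, OneMemClass.coe_one, CfsgLib.Perm.DerangeTwo.f_one]
      rw [hsum] at hD
      have hn0 : (Fintype.card Ω : ℚ) ≠ 0 := by exact_mod_cast (show Fintype.card Ω ≠ 0 by omega)
      have : ((Fintype.card Ω * Nat.card {g : G // ∀ ω : Ω, g • ω ≠ ω} : ℕ) : ℚ) = ((1 * Nat.card G : ℕ) : ℚ) := by
        rw [Nat.cast_mul, hD, one_mul, Nat.card_eq_fintype_card (α := G), hG]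
        field_simp
      exact_mod_cast this
  · haveI := htr
    exact Or.inr (CfsgLib.Perm.DerangeTwo.bound_of_not_two (by omega) h2)

end Cfsg.Agent.S5730
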