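import Cfsg.Statements.S5732
import Cfsg.Agent.Lib.Derangements.IndexBound

set_option autoImplicit false
open Cfsg

namespace Cfsg.Agent.S5732

/-- There is a bound N such that for every finite group G acting faithfully and transitively on a set with n ≥ N points, either G is primitive and a Frobenius permutation group (Frobenius as a permutation group: transitive, some non-identity element fixes a point, and no non-identity element fixes two points), or the subgroup generated by the derangements of G has index at most √n − 1 in G. -/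
theorem result : ∃ N : ℕ, ∀ (G Ω : Type*) [Group G] [Finite G] [MulAction G Ω] [FaithfulSMul G Ω] [Fintype Ω],
      MulAction.IsPretransitive G Ω → N ≤ Fintype.card Ω →
      (MulAction.IsPreprimitive G Ω ∧ (MulAction.IsPretransitive G Ω ∧ (∃ g : G, g ≠ 1 ∧ ∃ ω : Ω, g • ω = ω) ∧ ∀ g : G, g ≠ 1 → Nat.card (MulAction.fixedBy Ω g) ≤ 1)) ∨
      ((Subgroup.closure {g : G | ∀ ω : Ω, g • ω ≠ ω}).index : ℝ) ≤ Real.sqrt (Fintype.card Ω) - 1 := by
  refine ⟨2 ^ 10000, ?_⟩
  intro G Ω _ _ _ _ _ htrans hn
  haveI := htrans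
  have hn4 : 4 ≤ Fintype.card Ω :=
    le_trans (le_trans (by norm_num : 4 ≤ 2 ^ 2) (Nat.pow_le_pow_right (by norm_num) (by norm_num))) hn
  haveI : Nontrivial Ω := Fintype.one_lt_card_iff_nontrivial.mp (by omega)
  set D := Subgroup.closure {g : G | ∀ ω : Ω, g • ω ≠ ω} with hD
  have key : ∀ h : (D.index + 1) ^ 2 ≤ Fintype.card Ω,
      (D.index : ℝ) ≤ Real.sqrt (Fintype.card Ω) - 1 := by
    intro h
    have h1 : ((D.index : ℝ) + 1) ≤ Real.sqrt (Fintype.card Ω) := by
      rw [Real.le_sqrt (by positivity) (by positivity)]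
      exact_mod_cast h
    linarith
  by_cases hb : (D.index + 1) ^ 2 ≤ Fintype.card Ω
  · exact Or.inr (key hb)
  have hm : 2 ≤ (CfsgLib.Derangements.derSubgroup G Ω).index := by
    show 2 ≤ D.index
    by_contra hlt
    have : (D.index + 1) ^ 2 ≤ 2 ^ 2 := Nat.pow_le_pow_left (by omega) 2
    omega
  have hnb : ¬ ((CfsgLib.Derangements.derSubgroup G Ω).index + 1) ^ 2 ≤ Nat.card Ω := by
    rw [Nat.card_eq_fintype_card]; exact hb
  have hprim : MulAction.IsPreprimitive G Ω := by
    by_contra h
    exact hnb (CfsgLib.Derangements.bound_of_not_primitive h)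
  obtain ⟨a⟩ : Nonempty Ω := inferInstance
  refine Or.inl ⟨hprim, htrans, ?_, ?_⟩
  · obtain ⟨g, hg, hgD⟩ := CfsgLib.Derangements.exists_out
      (CfsgLib.Derangements.covers_stabilizer (G := G) a) hm
    exact ⟨g, fun h => hgD (h ▸ Subgroup.one_mem _), a, hg⟩
  · intro g hg
    by_contra hlt
    obtain ⟨p, P, c, cfg⟩ := CfsgLib.Derangements.exists_regularConfig hm hnb
    refine cfg.false_of_two_fixed hm hnb (Or.inr ?_)
    obtain ⟨⟨b, hb⟩, ⟨b', hb'⟩, hne⟩ :=
      Finite.one_lt_card_iff_nontrivial.mp (show 1 < Nat.card (MulAction.fixedBy Ω g) by omega)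
    exact ⟨g, hg, b, b', fun h => hne (Subtype.ext h), hb, hb'⟩

end Cfsg.Agent.S5732
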