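import Cfsg.Statements.S5736
import Cfsg.Agent.Lib.CharsMore.BinaryPSL2.Main

set_option autoImplicit false
open Cfsg
open CfsgLib.CharsMore.BinaryPSL2

namespace Cfsg.Agent.S5736

/-- Let F be a finite field with q ≥ 4 elements, q ≠ 5, let G = PSL₂(F) and let H be a proper subgroup of G. Then the action of G on the cosets of H is binary if and only if H is trivial, or q is a power of 2 and H is a Sylow 2-subgroup, or q = 2^a with a odd and H has order 3. Here an action is binary (relational complexity 2) when, for every n ≥ 2 and all n-tuples I, J of points, if for every pair of positions some group element carries the corresponding pair of entries of I to those of J, then a single group element carries I to J. -/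
theorem result {F : Type*} [Field F] [Fintype F] (h4 : 4 ≤ Fintype.card F) (h5 : Fintype.card F ≠ 5)
    (H : Subgroup (Matrix.ProjectiveSpecialLinearGroup (Fin 2) F)) (hH : H ≠ ⊤) :
    (∀ (n : ℕ) (I J : Fin n → Matrix.ProjectiveSpecialLinearGroup (Fin 2) F ⧸ H), 2 ≤ n →
        (∀ i j : Fin n, i ≠ j → ∃ g : Matrix.ProjectiveSpecialLinearGroup (Fin 2) F, g • I i = J i ∧ g • I j = J j) → ∃ g : Matrix.ProjectiveSpecialLinearGroup (Fin 2) F, ∀ i, g • I i = J i) ↔
      (H = ⊥ ∨ ((∃ a : ℕ, Fintype.card F = 2 ^ a) ∧ ∃ P : Sylow 2 (Matrix.ProjectiveSpecialLinearGroup (Fin 2) F), H = P) ∨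
        ((∃ a : ℕ, Odd a ∧ Fintype.card F = 2 ^ a) ∧ Nat.card H = 3)) := by
  have hc := Nat.card_eq_fintype_card (α := F)
  have hq : 3 < Nat.card F := by omega
  constructor
  · intro hbin
    rcases exceptions_of_binary hq (by omega) hH hbin with h | ⟨he, hcard⟩ | ⟨⟨a, ha, hqa⟩, h3⟩
    · exact .inl h
    · obtain ⟨p, hp⟩ := CharP.exists F
      haveI : Fact p.Prime := ⟨CharP.char_is_prime F p⟩
      obtain ⟨a, ha, hqa⟩ := CfsgLib.Classical.card_eq_charPow (F := F) (p := p)
      obtain rfl := (p_eq_two_iff (F := F) p).2 he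
      have hidx : ¬ 2 ∣ H.index := by
        have h := CfsgLib.CharsMore.BinaryPSL2.card_PS (F := F)
        rw [← H.card_mul_index, hcard, CfsgLib.Classical.gcd_two_card_sub_one_of_even he, one_mul,
          mul_comm (Nat.card F + 1), mul_assoc] at h
        rw [Nat.eq_of_mul_eq_mul_left (by omega) h, Nat.Prime.dvd_mul Nat.prime_two]
        obtain ⟨j, hj⟩ := he
        omega
      exact .inr (.inl ⟨⟨a, hc ▸ hqa⟩, (IsPGroup.of_card (hcard.trans hqa)).toSylow hidx, rfl⟩)
    · exact .inr (.inr ⟨⟨a, ha, hc ▸ hqa⟩, h3⟩)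
  · rintro (rfl | ⟨⟨a, ha⟩, P, rfl⟩ | ⟨⟨a, hodd, ha⟩, h3⟩)
    · exact isBinary_bot
    · exact binary_sylow (hc.trans ha) P
    · exact binary_three hodd (hc.trans ha) h3

end Cfsg.Agent.S5736
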