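import Cfsg.Statements.S5742
import Cfsg.Agent.Lib.Chev.E62Fi22.Classes
import Cfsg.Agent.Lib.Spor.Fi22.Order
import Cfsg.Agent.Lib.Spor.Fi22Out.Main

set_option autoImplicit false
open Cfsg

namespace Cfsg.Agent.S5742

/-- The simple group ²E₆(2) (the twisted group of type E₆ over the field with 4 elements) contains at least three pairwise non-conjugate subgroups isomorphic to the Fischer group Fi₂₂. -/
theorem result {K : Type*} [Field K] [Fintype K] (hK : Fintype.card K = 4) :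
    ∃ H : Fin 3 → Subgroup (Cfsg.Lie.twistedE6 K 2),
      (∀ i, Cfsg.Spor.IsoFi22 (H i)) ∧
      (∀ i j, i ≠ j → ∀ g : (Cfsg.Lie.twistedE6 K 2), (H i).map (MulAut.conj g).toMonoidHom ≠ H j) := by
  haveI : Fact (Nat.Prime 2) := ⟨Nat.prime_two⟩
  haveI : CharP K 2 := charP_of_card_eq_prime_pow (p := 2) (f := 2) hK
  let e : ↥(⊤ : Subgroup Cfsg.Spor.Fi22) ≃* Cfsg.Spor.Fi22 := Subgroup.topEquiv
  obtain ⟨H, h1, h3⟩ := CfsgLib.Chev.E62Fi22.classes hK ⊤ (fun _ _ _ => Subgroup.mem_top _)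
    ((CfsgLib.Chev.E62Fi22.natCard_out_congr e).trans
      (CfsgLib.SporOut.Fi22.card_out CfsgLib.Spor.Fi22.natCard))
  exact ⟨H, fun i => (h1 i).map fun f => f.trans e, h3⟩

end Cfsg.Agent.S5742
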