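import Cfsg.Statements.S5751
import Cfsg.Agent.Lib.Chev.Levels.Cores
import Cfsg.Agent.Lib.Chev.Simple


set_option autoImplicit false
open Cfsg

namespace Cfsg.Agent.S5751

/-- An extremal example for iterated cores of conjugate maximal subgroups: there exist a finite group G and two distinct conjugate maximal subgroups M₁, M₂ of G, with M₁ having trivial core in G, such that, if we define two descending sequences of subgroups by A₀ = M₁, B₀ = M₂ and, for every i, A_{i+1} = the core in M₁ of A_i ∩ B_i and B_{i+1} = the core in M₂ of A_i ∩ B_i (the core in M of a subgroup Y ≤ M is the largest normal subgroup of M contained in Y), the subgroup A₆ is trivial while A₅ is not (so the index 6 cannot be lowered to 5). (One example is a maximal parabolic subgroup of the Chevalley group of type E₈ over a finite field and a suitable conjugate of it.) -/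
theorem result :
    ∃ (G : Type) (_ : Group G) (_ : Finite G) (M₁ M₂ : Subgroup G) (g : G) (A B : ℕ → Subgroup G),
      IsCoatom M₁ ∧ M₂ = M₁.map (MulAut.conj g).toMonoidHom ∧ M₁ ≠ M₂ ∧ M₁.normalCore = ⊥ ∧ A 0 = M₁ ∧ B 0 = M₂ ∧
      (∀ i, A (i + 1) = ((A i ⊓ B i).subgroupOf M₁).normalCore.map M₁.subtype) ∧
      (∀ i, B (i + 1) = ((A i ⊓ B i).subgroupOf M₂).normalCore.map M₂.subtype) ∧ A 6 = ⊥ ∧ A 5 ≠ ⊥ := by
  have hPara : CfsgLib.Chev.Para Cfsg.Lie.chevE8 CfsgLib.Chev.auxE8 :=
    ⟨CfsgLib.Chev.stdE8, by decide +kernel, by decide +kernel⟩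
  haveI := (CfsgLib.Chev.simple_group (F := ZMod 2) CfsgLib.Chev.stdE8 (by decide +kernel)
    CfsgLib.Chev.conn_E8
    (CfsgLib.Chev.perfect_of_perfA CfsgLib.Chev.stdE8 CfsgLib.Chev.perfA_E8)).1
  obtain ⟨M₁, M₂, g, A, B, h⟩ := CfsgLib.Chev.Levels.iterated_cores (F := ZMod 2) hPara (j := 3)
    (by decide +kernel) CfsgLib.Chev.Levels.levCheck_E8 CfsgLib.Chev.Levels.spanCheck_E8
    ⟨by decide⟩ CfsgLib.Chev.Levels.six_E8
  exact ⟨↥(Cfsg.Lie.chevE8.group (ZMod 2)), inferInstance, inferInstance, M₁, M₂, g, A, B, h⟩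

end Cfsg.Agent.S5751
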