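import Cfsg.Statements.S5752
import Cfsg.Agent.Lib.Recog.ThompsonWielandtResidual

set_option autoImplicit false
open Cfsg

namespace Cfsg.Agent.S5752

/-- A form of the Thompson–Wielandt Theorem on primitive permutation groups. Let G be a finite group and M₁, M₂ two distinct conjugate maximal subgroups of G with trivial core in G; define two descending sequences of subgroups by A₀ = M₁, B₀ = M₂ and, for every i, A_{i+1} = the core in M₁ of A_i ∩ B_i and B_{i+1} = the core in M₂ of A_i ∩ B_i (the core in M of a subgroup Y ≤ M is the largest normal subgroup of M contained in Y). If A₂ and B₂ are both non-trivial, then for some prime p the subgroup generated by A₂ and B₂ is a p-group, and for each j the generalized Fitting subgroups of M_j and of its first core (A₁, resp. B₁) are their largest normal p-subgroups. -/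
theorem result {G : Type*} [Group G] [Finite G] (M₁ M₂ : Subgroup G) (hmax : IsCoatom M₁) (g : G)
    (hconj : M₂ = M₁.map (MulAut.conj g).toMonoidHom) (hne : M₁ ≠ M₂) (hcore : M₁.normalCore = ⊥)
    (A B : ℕ → Subgroup G) (hA0 : A 0 = M₁) (hB0 : B 0 = M₂)
    (hA : ∀ i, A (i + 1) = ((A i ⊓ B i).subgroupOf M₁).normalCore.map M₁.subtype)
    (hB : ∀ i, B (i + 1) = ((A i ⊓ B i).subgroupOf M₂).normalCore.map M₂.subtype) (hA2 : A 2 ≠ ⊥) (hB2 : B 2 ≠ ⊥) :
    ∃ p : ℕ, p.Prime ∧ IsPGroup p ↥(A 2 ⊔ B 2) ∧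
      Cfsg.generalizedFittingSubgroup ↥M₁ = Cfsg.pCore p ↥M₁ ∧ Cfsg.generalizedFittingSubgroup ↥(A 1) = Cfsg.pCore p ↥(A 1) ∧
      Cfsg.generalizedFittingSubgroup ↥M₂ = Cfsg.pCore p ↥M₂ ∧ Cfsg.generalizedFittingSubgroup ↥(B 1) = Cfsg.pCore p ↥(B 1) := by
  have hcN : M₂.normalCore = ⊥ := by
    rw [eq_bot_iff]
    intro x hx
    haveI : M₂.normalCore.Normal := Subgroup.normalCore_normal M₂
    have h1 : (M₂.normalCore.map (MulAut.conj g⁻¹).toMonoidHom) ≤ M₁.normalCore := by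
      refine (Subgroup.normal_le_normalCore (hN := Subgroup.Normal.map inferInstance _
        (MulEquiv.surjective _))).mpr ?_
      refine (Subgroup.map_mono (Subgroup.normalCore_le _)).trans ?_
      rw [hconj, Subgroup.map_map]
      rintro _ ⟨y, hy, rfl⟩
      simpa [mul_assoc] using hy
    rw [hcore] at h1
    have h2 := Subgroup.mem_bot.mp (h1 (Subgroup.mem_map_of_mem _ hx))
    exact Subgroup.mem_bot.mpr ((MulAut.conj g⁻¹).injective (h2.trans (map_one _).symm))
  have hmax2 : IsCoatom M₂ := by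
    rw [hconj]
    exact ((MulAut.conj g).mapSubgroup.isCoatom_iff _).mpr hmax
  have h : CfsgLib.Recog.TW.Hyp M₁ M₂ :=
    ⟨hmax, hmax2, hcore, hcN, hne,
      hconj ▸ ⟨Subgroup.equivMapOfInjective _ _ (MulEquiv.injective _)⟩⟩
  have eA1 : A 1 = CfsgLib.Recog.TW.cA M₁ M₂ := by
    rw [show A 1 = _ from hA 0, hA0, hB0]
  have eB1 : B 1 = CfsgLib.Recog.TW.cA M₂ M₁ := by
    rw [show B 1 = _ from hB 0, hA0, hB0, inf_comm]
  have eA2 : A 2 = CfsgLib.Recog.TW.cA2 M₁ M₂ := by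
    rw [show A 2 = _ from hA 1, eA1, eB1]
  have eB2 : B 2 = CfsgLib.Recog.TW.cA2 M₂ M₁ := by
    rw [show B 2 = _ from hB 1, eA1, eB1, inf_comm]
  rw [eA2] at hA2 ⊢
  rw [eB2] at hB2 ⊢
  rw [eA1, eB1]
  obtain ⟨r, hr, h1, h2, h3, h4, hT, hU⟩ := h.exists_prime hA2 hB2
  haveI := Fact.mk hr
  refine ⟨r, hr, ?_, h1, h2, h3, h4⟩
  refine (h.isPGroup_cA2 hT).to_sup_of_normal_left' (h.symm.isPGroup_cA2 hU) ?_
  exact ((CfsgLib.Recog.TW.cA2_le_cA' M₂ M₁).trans (CfsgLib.Recog.TW.nCore_le_left _ _)).trans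
    (CfsgLib.Recog.TW.le_normalizer_nCore _ _)

end Cfsg.Agent.S5752
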