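import Cfsg.Statements.S5753
import Cfsg.Agent.Lib.KnownA.BinaryAffine.Main
-- import your own Cfsg.Agent.* helpers here

set_option autoImplicit false
open Cfsg

namespace Cfsg.Agent.S5753

/-- The binary primitive permutation groups of affine type (the known proof uses the classification of the finite simple groups). Let a finite group G act faithfully and primitively on a finite set Ω, with a non-trivial abelian normal subgroup, and suppose the action is binary: for every n ≥ 2 and all n-tuples I, J of points, if for every pair of positions some element of G carries the corresponding pair of entries of I to those of J, then a single element carries I to J. Then either Ω has a prime number of points and every point stabilizer has order at most 2, or Ω can be identified with a field E that is a quadratic extension of a subfield F in such a way that the permutations induced by G are exactly the maps x ↦ a·φ(x) + b with a ∈ E of norm 1 over F, φ an automorphism of E over F and b ∈ E (the affine group of the anisotropic plane orthogonal group). -/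
theorem result {G Ω : Type*} [Group G] [Finite G] [MulAction G Ω] [FaithfulSMul G Ω] [Fintype Ω]
    (hprim : MulAction.IsPreprimitive G Ω)
    (haff : ∃ N : Subgroup G, N.Normal ∧ N ≠ ⊥ ∧ IsMulCommutative ↥N)
    (hbin : ∀ (n : ℕ) (I J : Fin n → Ω), 2 ≤ n →
      (∀ i j : Fin n, i ≠ j → ∃ g : G, g • I i = J i ∧ g • I j = J j) → ∃ g : G, ∀ i, g • I i = J i) :
    ((Fintype.card Ω).Prime ∧ ∀ ω : Ω, Nat.card ↥(MulAction.stabilizer G ω) ≤ 2) ∨
    (∃ (F E : Type) (_ : Field F) (_ : Fintype F) (_ : Field E) (_ : Fintype E) (_ : Algebra F E) (e : Ω ≃ E),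
        Module.finrank F E = 2 ∧
        ∀ σ : Equiv.Perm Ω, σ ∈ (MulAction.toPermHom G Ω).range ↔
          ∃ (a b : E) (φ : E ≃ₐ[F] E), Algebra.norm F a = 1 ∧ ∀ ω : Ω, e (σ ω) = a * φ (e ω) + b) := by
  classical
  have key := fun ω => CfsgLib.KnownA.BinaryAffine.affine_dichotomy hprim haff hbin ω
  by_cases h : ∀ ω : Ω, (Fintype.card Ω).Prime ∧ Nat.card ↥(MulAction.stabilizer G ω) ≤ 2
  · left
    refine ⟨?_, fun ω => (h ω).2⟩
    obtain ⟨N, -, hN1, -⟩ := haff
    rcases isEmpty_or_nonempty Ω with hΩ | ⟨⟨ω⟩⟩
    · refine absurd ((Subgroup.eq_bot_iff_forall N).2 fun n _ => ?_) hN1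
      exact eq_of_smul_eq_smul (α := Ω) fun z => isEmptyElim z
    · exact (h ω).1
  · right
    obtain ⟨ω, hω⟩ := not_forall.1 h
    obtain ⟨F, E, i1, i2, i3, i4, i5, e, hrank, hrest⟩ := (key ω).resolve_left hω
    exact ⟨F, E, i1, i2, i3, i4, i5, e, hrank, hrest⟩

end Cfsg.Agent.S5753
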