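import Cfsg.Statements.S5754

set_option autoImplicit false
open Cfsg

namespace Cfsg.Agent.S5754

open QuadraticMap

/-- Reflection in a non-singular vector. -/
private lemma exists_reflection {F V : Type*} [Field F] [AddCommGroup V] [Module F V]
    (Q : QuadraticForm F V) (d : V) (hd : Q d ≠ 0) :
    ∃ R : Q.IsometryEquiv Q, ∀ x, R x = x - (polar Q x d / Q d) • d := by
  let B := Q.polarBilin
  have hB : ∀ x y, B x y = polar Q x y := fun x y => rfl
  let f : V →ₗ[F] V := LinearMap.id - ((Q d)⁻¹ • B.flip d).smulRight d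
  have hf : ∀ x, f x = x - (polar Q x d / Q d) • d := fun x => by
    simp [f, hB, div_eq_inv_mul]
  have hdd : polar Q d d = 2 * Q d := by rw [polar_self]; simp
  have hinv : ∀ x, f (f x) = x := by
    intro x
    rw [hf, hf, polar_sub_left, polar_smul_left, hdd]
    have : (polar Q x d - (polar Q x d / Q d) • (2 * Q d)) / Q d = -(polar Q x d / Q d) := by
      rw [smul_eq_mul]; field_simp; ring
    rw [this]; module
  refine ⟨⟨LinearEquiv.ofInvolutive f hinv, fun x => ?_⟩, hf⟩
  show Q (f x) = Q x
  rw [hf, sub_eq_add_neg, ← neg_smul, QuadraticMap.map_add Q, QuadraticMap.map_smul, polar_smul_right]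
  simp only [smul_eq_mul]
  field_simp
  ring

/-- Witt-type extension for anisotropic forms. -/
private lemma exists_isometry_of_dist {F V ι : Type*} [Field F] [AddCommGroup V] [Module F V]
    (Q : QuadraticForm F V) (hQ : Q.Anisotropic) (v v' : ι → V) (s : Finset ι)
    (h1 : ∀ i ∈ s, Q (v i) = Q (v' i))
    (h2 : ∀ i ∈ s, ∀ j ∈ s, polar Q (v i) (v j) = polar Q (v' i) (v' j)) :
    ∃ φ : Q.IsometryEquiv Q, ∀ i ∈ s, φ (v i) = v' i := by
  classical
  induction s using Finset.induction with
  | empty => exact ⟨QuadraticMap.IsometryEquiv.refl Q, by simp⟩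
  | @insert j s hj ih =>
    obtain ⟨φ, hφ⟩ := ih (fun i hi => h1 i (Finset.mem_insert_of_mem hi))
      (fun i hi k hk => h2 i (Finset.mem_insert_of_mem hi) k (Finset.mem_insert_of_mem hk))
    set w := φ (v j) with hw
    have hQw : Q w = Q (v' j) := by rw [hw, φ.map_app, h1 j (Finset.mem_insert_self j s)]
    rcases eq_or_ne (w - v' j) 0 with hd | hd
    · refine ⟨φ, fun i hi => ?_⟩
      rcases Finset.mem_insert.1 hi with rfl | hi
      · exact sub_eq_zero.1 hd
      · exact hφ i hi
    have hd' : Q (w - v' j) ≠ 0 := fun h => hd (hQ _ h)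
    obtain ⟨R, hR⟩ := exists_reflection Q _ hd'
    refine ⟨φ.trans R, fun i hi => ?_⟩
    show R (φ (v i)) = v' i
    rcases Finset.mem_insert.1 hi with rfl | hi
    · rw [← hw, hR]
      have : polar Q w (w - v' i) = Q (w - v' i) := by
        rw [polar_sub_right, polar_self, sub_eq_add_neg w (v' i), QuadraticMap.map_add Q,
          QuadraticMap.map_neg, polar_neg_right, two_nsmul, ← hQw]
        ring
      rw [this, div_self hd', one_smul, sub_sub_cancel]
    · have hpres : ∀ x y, polar Q (φ x) (φ y) = polar Q x y := fun x y => by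
        simp only [polar]
        rw [show φ x + φ y = φ (x + y) from (_root_.map_add φ.toLinearEquiv x y).symm]
        simp only [φ.map_app]
      rw [hR, hφ i hi, polar_sub_right]
      have h3 : polar Q (v' i) w = polar Q (v i) (v j) := by
        rw [hw, ← hφ i hi, hpres]
      rw [h3, h2 i (Finset.mem_insert_of_mem hi) j (Finset.mem_insert_self j s), sub_self, zero_div,
        zero_smul, sub_zero]


/-- Let V be a finite-dimensional vector space over a finite field F carrying an anisotropic quadratic form Q (Q(v) = 0 only for v = 0). Then the group of all maps v ↦ φ(v) + c, with φ an isometry of Q and c ∈ V, acts on V as a binary permutation group: given n ≥ 2 and two n-tuples u, u' of vectors such that every pair of corresponding entries of u is carried to that of u' by such a map, one such map carries u to u'. -/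
theorem result {F V : Type*} [Field F] [Finite F] [AddCommGroup V] [Module F V] [Module.Finite F V]
    (Q : QuadraticForm F V) (hQ : Q.Anisotropic) (n : ℕ) (hn : 2 ≤ n) (u u' : Fin n → V)
    (h2 : ∀ i j : Fin n, i ≠ j → ∃ (φ : Q.IsometryEquiv Q) (c : V), φ (u i) + c = u' i ∧ φ (u j) + c = u' j) :
    ∃ (φ : Q.IsometryEquiv Q) (c : V), ∀ i, φ (u i) + c = u' i := by
  set i₀ : Fin n := ⟨0, by omega⟩
  have hQsub : ∀ i j, Q (u i - u j) = Q (u' i - u' j) := by
    intro i j
    by_cases hij : i = j
    · subst hij; simp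
    obtain ⟨φ, c, hi, hj⟩ := h2 i j hij
    rw [← hi, ← hj, add_sub_add_right_eq_sub, ← φ.map_app (u i - u j)]
    congr 1
    exact map_sub φ.toLinearEquiv (u i) (u j)
  have hpol : ∀ a b : V, QuadraticMap.polar Q a b = Q a + Q b - Q (a - b) := by
    intro a b
    rw [sub_eq_add_neg a b, QuadraticMap.map_add Q, QuadraticMap.map_neg, QuadraticMap.polar_neg_right]
    ring
  obtain ⟨φ, hφ⟩ := exists_isometry_of_dist Q hQ (fun i => u i - u i₀) (fun i => u' i - u' i₀)
    Finset.univ (fun i _ => hQsub i i₀) (fun i _ j _ => by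
      simp only [hpol, hQsub, sub_sub_sub_cancel_right])
  refine ⟨φ, u' i₀ - φ (u i₀), fun i => ?_⟩
  have h := hφ i (Finset.mem_univ i)
  have h' : φ (u i - u i₀) = φ (u i) - φ (u i₀) := map_sub φ.toLinearEquiv (u i) (u i₀)
  simp only [h'] at h
  rw [← sub_eq_zero] at h ⊢
  rw [← h]; abel

end Cfsg.Agent.S5754
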