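import Cfsg.Statements.S5763
import Cfsg.Agent.Lib.Maximal.SylowS8

set_option autoImplicit false
open Cfsg

namespace Cfsg.Agent.S5763

open CfsgLib.Maximal.SylowEight

private lemma normal_form (f : Equiv.Perm (Fin 8)) :
    ∃ p ∈ treeGroup, (f * p) 0 = 0 ∧ (f * p) 2 < (f * p) 3 ∧ (f * p) 4 < (f * p) 5 ∧
      (f * p) 6 < (f * p) 7 ∧ (f * p) 4 < (f * p) 6 := by
  obtain ⟨p1, hp1, h1⟩ : ∃ p ∈ treeGroup, (f * p) 0 = 0 := by
    have key : ∀ j : Fin 8, ∃ p : Equiv.Perm (Fin 8), TreePres p ∧ p 0 = j := by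
      intro j
      fin_cases j
      · exact ⟨1, fun i => ⟨rfl, qd_x2 i⟩, rfl⟩
      · exact ⟨Equiv.swap 0 1, by decide, by decide⟩
      · exact ⟨Equiv.swap 0 2 * Equiv.swap 1 3, by decide, by decide⟩
      · exact ⟨Equiv.swap 0 3 * Equiv.swap 1 2, by decide, by decide⟩
      · exact ⟨Equiv.swap 0 4 * Equiv.swap 1 5 * (Equiv.swap 2 6 * Equiv.swap 3 7), by decide, by decide⟩
      · exact ⟨Equiv.swap 0 5 * Equiv.swap 1 4 * (Equiv.swap 2 6 * Equiv.swap 3 7), by decide, by decide⟩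
      · exact ⟨Equiv.swap 0 6 * Equiv.swap 1 7 * (Equiv.swap 2 4 * Equiv.swap 3 5), by decide, by decide⟩
      · exact ⟨Equiv.swap 0 7 * Equiv.swap 1 6 * (Equiv.swap 2 4 * Equiv.swap 3 5), by decide, by decide⟩
    obtain ⟨p, hp, hp0⟩ := key (f.symm 0)
    exact ⟨p, hp, by simp [hp0]⟩
  -- order inside the three remaining pairs
  have fix : ∀ (F : Equiv.Perm (Fin 8)) (s : Equiv.Perm (Fin 8)) (a b : Fin 8), a ≠ b → s a = b → s b = a →
      ∃ r, (r = 1 ∨ r = s) ∧ (F * r) a < (F * r) b := by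
    intro F s a b hab hsa hsb
    rcases lt_or_gt_of_ne (F.injective.ne hab) with h | h
    · exact ⟨1, Or.inl rfl, by simpa using h⟩
    · exact ⟨s, Or.inr rfl, by simpa [hsa, hsb] using h⟩
  obtain ⟨r2, hr2, h2⟩ := fix (f * p1) (Equiv.swap 2 3) 2 3 (by decide) (by decide) (by decide)
  obtain ⟨r4, hr4, h4⟩ := fix (f * p1 * r2) (Equiv.swap 4 5) 4 5 (by decide) (by decide) (by decide)
  obtain ⟨r6, hr6, h6⟩ := fix (f * p1 * r2 * r4) (Equiv.swap 6 7) 6 7 (by decide) (by decide) (by decide)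
  obtain ⟨r8, hr8, h8⟩ := fix (f * p1 * r2 * r4 * r6) (Equiv.swap 4 6 * Equiv.swap 5 7) 4 6 (by decide) (by decide) (by decide)
  have m2 : r2 ∈ treeGroup := by rcases hr2 with rfl | rfl; exacts [one_mem _, show TreePres _ by decide]
  have m4 : r4 ∈ treeGroup := by rcases hr4 with rfl | rfl; exacts [one_mem _, show TreePres _ by decide]
  have m6 : r6 ∈ treeGroup := by rcases hr6 with rfl | rfl; exacts [one_mem _, show TreePres _ by decide]
  have m8 : r8 ∈ treeGroup := by rcases hr8 with rfl | rfl; exacts [one_mem _, show TreePres _ by decide]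
  refine ⟨p1 * r2 * r4 * r6 * r8, mul_mem (mul_mem (mul_mem (mul_mem hp1 m2) m4) m6) m8, ?_⟩
  simp only [← mul_assoc]
  rcases hr2 with rfl | rfl <;> rcases hr4 with rfl | rfl <;> rcases hr6 with rfl | rfl <;>
    rcases hr8 with rfl | rfl <;>
    simp [Equiv.swap_apply_def] at h1 h2 h4 h6 h8 ⊢ <;> simp [h1, h2, h4, h6, h8]

private lemma exists_common (f : Equiv.Perm (Fin 8)) :
    ∃ w ∈ treeGroup, w ≠ 1 ∧ f⁻¹ * w * f ∈ treeGroup := by
  obtain ⟨p, hp, h0, h23, h45, h67, h46⟩ := normal_form f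
  set g := f * p with hg
  obtain ⟨k, hk⟩ := exists_witness (g 1) (fun h => absurd (g.injective (h.trans h0.symm)) (by decide))
    (g 2) (fun h => absurd (g.injective (h.trans h0.symm)) (by decide)) (g.injective.ne (by decide))
    (g 3) (fun h => absurd (g.injective (h.trans h0.symm)) (by decide)) (g.injective.ne (by decide)) h23
    (g 4) (fun h => absurd (g.injective (h.trans h0.symm)) (by decide)) (g.injective.ne (by decide)) (g.injective.ne (by decide)) (g.injective.ne (by decide))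
    (g 5) (fun h => absurd (g.injective (h.trans h0.symm)) (by decide)) (g.injective.ne (by decide)) (g.injective.ne (by decide)) (g.injective.ne (by decide)) h45
    (g 6) (fun h => absurd (g.injective (h.trans h0.symm)) (by decide)) (g.injective.ne (by decide)) (g.injective.ne (by decide)) (g.injective.ne (by decide)) (g.injective.ne (by decide)) h46
    (g 7) (fun h => absurd (g.injective (h.trans h0.symm)) (by decide)) (g.injective.ne (by decide)) (g.injective.ne (by decide)) (g.injective.ne (by decide)) (g.injective.ne (by decide)) (g.injective.ne (by decide)) h67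
  obtain ⟨hwP, hwI, i₀, hi₀⟩ := cand_spec k
  let w : Equiv.Perm (Fin 8) := ⟨cand k, cand k, hwI, hwI⟩
  refine ⟨w, hwP, fun h => hi₀ (by simpa [w] using congrArg (fun q : Equiv.Perm (Fin 8) => q i₀) h), ?_⟩
  have hpos : ∀ j : Fin 8, pos (g 1) (g 2) (g 3) (g 4) (g 5) (g 6) (g 7) (g j) = j := by
    intro j
    simp only [pos, g.injective.eq_iff]
    revert j; decide
  have hlist : ∀ i : Fin 8, (![0, g 1, g 2, g 3, g 4, g 5, g 6, g 7] : Fin 8 → Fin 8) i = g i := by
    intro i; fin_cases i <;> simp [h0]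
  have hgw : g⁻¹ * w * g ∈ treeGroup := by
    have heq : ((g⁻¹ * w * g : Equiv.Perm (Fin 8)) : Fin 8 → Fin 8) =
        fun i => pos (g 1) (g 2) (g 3) (g 4) (g 5) (g 6) (g 7) (cand k (![0, g 1, g 2, g 3, g 4, g 5, g 6, g 7] i)) := by
      funext i
      have := hpos (g⁻¹ (cand k (g i)))
      rw [Equiv.Perm.inv_def, Equiv.apply_symm_apply] at this
      rw [hlist, this]; rfl
    show TreePres ((g⁻¹ * w * g : Equiv.Perm (Fin 8)) : Fin 8 → Fin 8)
    rw [heq]; exact hk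
  have : f⁻¹ * w * f = p * (g⁻¹ * w * g) * p⁻¹ := by rw [hg]; group
  rw [this]
  exact mul_mem (mul_mem hp hgw) (inv_mem hp)


/-- In the symmetric group on 8 letters any two Sylow 2-subgroups have non-trivial intersection: for a Sylow 2-subgroup H and every element x, H ∩ xHx⁻¹ ≠ 1. -/
theorem result (H : Sylow 2 (Equiv.Perm (Fin 8))) (x : Equiv.Perm (Fin 8)) :
    (H : Subgroup (Equiv.Perm (Fin 8))) ⊓ (H : Subgroup (Equiv.Perm (Fin 8))).map (MulAut.conj x).toMonoidHom ≠ ⊥ := by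
  obtain ⟨S, hS⟩ := treeGroup_isPGroup.exists_le_sylow
  obtain ⟨c, rfl⟩ := MulAction.exists_smul_eq (Equiv.Perm (Fin 8)) S H
  obtain ⟨w, hw, hw1, hw2⟩ := exists_common (c⁻¹ * x * c)
  intro h
  have hm : c * w * c⁻¹ ∈ ((c • S : Sylow 2 (Equiv.Perm (Fin 8))) : Subgroup (Equiv.Perm (Fin 8))) :=
    ⟨w, hS hw, by simp⟩
  have hm2 : c * ((c⁻¹ * x * c)⁻¹ * w * (c⁻¹ * x * c)) * c⁻¹ ∈
      ((c • S : Sylow 2 (Equiv.Perm (Fin 8))) : Subgroup (Equiv.Perm (Fin 8))) :=
    ⟨_, hS hw2, rfl⟩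
  have hmem : c * w * c⁻¹ ∈ ((c • S : Sylow 2 (Equiv.Perm (Fin 8))) : Subgroup (Equiv.Perm (Fin 8))) ⊓
      ((c • S : Sylow 2 (Equiv.Perm (Fin 8))) : Subgroup (Equiv.Perm (Fin 8))).map (MulAut.conj x).toMonoidHom := by
    refine ⟨hm, _, hm2, ?_⟩
    simp only [MulEquiv.coe_toMonoidHom, MulAut.conj_apply]
    group
  rw [h, Subgroup.mem_bot] at hmem
  exact hw1 (conj_eq_one_iff.1 hmem)

end Cfsg.Agent.S5763
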