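import Cfsg.Statements.S5775
import Cfsg.Agent.Lib.Aschbacher.Cases.Rows
-- import your own Cfsg.Agent.* helpers here

set_option autoImplicit false
open Cfsg
open CfsgLib.Aschbacher.Cases

namespace Cfsg.Agent.S5775

/-- Every maximal subgroup of SL_3(q) is of one of the listed geometric types or lies in the residual class. Let F be a finite field with q elements and H a maximal subgroup of SL_3(F) (viewed inside GL_3(F)). Then H is the intersection with SL_3(F) of one of: the stabiliser of a proper non-zero subspace; for q ≥ 5, the stabiliser of a decomposition of F^3 into three independent lines; for q ≠ 4, the normaliser of a degree-3 subfield of the matrix algebra; a subfield group for a subfield F₀ with |F| = |F₀|^r, r prime; for q = p ≡ 1 mod 3 prime, the normaliser of an absolutely irreducible 3-subgroup R of exponent 3 with centre of order 3, all of whose characteristic abelian subgroups are cyclic, of order 3^(1+2m) for some m ≥ 1, with F the smallest field of characteristic p containing the cube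 roots of unity (so R is extraspecial of order 27); for q odd, the similarity group of a non-degenerate quadratic form; the similarity group of a non-degenerate unitary form — or else H lies in the residual class of the linear case (modulo scalars H is almost simple, with absolutely irreducible perfect socle preimage realisable over no proper subfield and fixing no non-degenerate quadratic, symplectic or unitary form). -/
theorem result {F : Type*} [Field F] [Fintype F] (H : Subgroup (Matrix.GeneralLinearGroup (Fin 3) F)) (hH : Cfsg.Geo.IsMaximalIn (Cfsg.Geo.specialLinear (Fin 3) F) H) :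
    (∃ W : Submodule F (Fin 3 → F), W ≠ ⊥ ∧ W ≠ ⊤ ∧ H = Cfsg.Geo.subspaceStabilizer W ⊓ Cfsg.Geo.specialLinear (Fin 3) F) ∨
    (5 ≤ Fintype.card F ∧ ∃ D : Fin 3 → Submodule F (Fin 3 → F), Cfsg.Geo.IsMDecomposition 1 D ∧ H = Cfsg.Geo.decompositionStabilizer D ⊓ Cfsg.Geo.specialLinear (Fin 3) F) ∨
    (Fintype.card F ≠ 4 ∧ ∃ K : Subalgebra F (Matrix (Fin 3) (Fin 3) F), Cfsg.Geo.IsFieldSubalgebra 3 K ∧ H = Cfsg.Geo.subalgebraNormalizer K ⊓ Cfsg.Geo.specialLinear (Fin 3) F) ∨
    (∃ (F₀ : Subfield F) (r : ℕ) (P : Matrix.GeneralLinearGroup (Fin 3) F), r.Prime ∧ Fintype.card F = Nat.card F₀ ^ r ∧ H = Cfsg.Geo.subfieldSubgroup F₀ P ⊓ Cfsg.Geo.specialLinear (Fin 3) F) ∨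
    (∃ (p : ℕ) (R : Subgroup (Matrix.GeneralLinearGroup (Fin 3) F)), p.Prime ∧ Fintype.card F = p ∧ p % 3 = 1 ∧ Cfsg.Geo.IsLinearSymplecticTypeData 3 R ∧ H = Cfsg.Geo.subgroupNormalizer R ⊓ Cfsg.Geo.specialLinear (Fin 3) F) ∨
    (Odd (Fintype.card F) ∧ ∃ Q : (Fin 3 → F) → F, Cfsg.Geo.IsNondegenerateQuadraticForm Q ∧ H = Cfsg.Geo.quadSimilarityGroup Q ⊓ Cfsg.Geo.specialLinear (Fin 3) F) ∨
    (∃ (σ : F ≃+* F) (f : (Fin 3 → F) → (Fin 3 → F) → F), Cfsg.Geo.IsUnitaryForm σ f ∧ H = Cfsg.Geo.similarityGroup f ⊓ Cfsg.Geo.specialLinear (Fin 3) F) ∨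
    Cfsg.Geo.InLinearResidualClass H := by

  rcases shape (by norm_num) (by norm_num) hH with h | ⟨t, m, D, htm, hD, he⟩ | ⟨r, K, hr, hrn, hK, he⟩ |
    ⟨n₁, n₂, e, P, h1, h2, h12, -⟩ | h | ⟨r, R, hR, hsix, he⟩ | ⟨m, e, P, hm, hm2, -⟩ | ⟨f, -, hev, -⟩ | h | h | h
  · exact Or.inl h
  · obtain ⟨-, ht2, htn, hm⟩ := decomp_cases D hD
    obtain rfl : t = 3 := by interval_cases t <;> omega
    obtain rfl : m = 1 := by omega
    by_cases h5 : 5 ≤ Fintype.card F
    · exact Or.inr (Or.inl ⟨h5, D, hD, he⟩)
    rcases lines_small (by norm_num) hH hD he (by omega) with h | h | h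
    · exact Or.inl h
    · iterate 5 right
      exact Or.inl h
    · iterate 6 right
      exact Or.inl h
  · obtain rfl := (Nat.prime_dvd_prime_iff_eq hr Nat.prime_three).1 hrn
    by_cases h4 : Fintype.card F = 4
    · iterate 3 right
      exact Or.inl (field_four hH hK he h4)
    · exact Or.inr (Or.inr (Or.inl ⟨h4, K, hK, he⟩))
  · have := Nat.mul_le_mul h1 (show 3 ≤ n₂ by omega)
    omega
  · iterate 3 right
    exact Or.inl h
  · obtain ⟨hr, -, p, e, m, hp, -, hq, hodd, hm, hnm, hlt, hmod, -⟩ := hsix.odd_case (not_odd_two le_rfl (by norm_num))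
    obtain rfl : r = 3 := eq_of_pow_eq hr Nat.prime_three hm (l := 1) (by rw [pow_one]; exact hnm)
    obtain ⟨k, rfl⟩ := hodd
    obtain rfl : k = 0 := by omega
    simp only [Nat.mul_zero, Nat.zero_add, pow_one] at hq hmod
    iterate 4 right
    exact Or.inl ⟨p, R, hp, hq, by omega, hR, he⟩
  · have := Nat.pow_le_pow_left hm 2
    omega
  · exact absurd hev (by decide)
  · iterate 6 right
    exact Or.inl h
  · iterate 5 right
    exact Or.inl h
  · iterate 7 right
    exact h

end Cfsg.Agent.S5775
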