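import Cfsg.Statements.S5778
import Cfsg.Agent.Lib.AschbacherForm.Cases.UnitThreeSix
import Cfsg.Agent.Lib.AschbacherForm.Cases.UnitThreeField
import Cfsg.Agent.Lib.AschbacherForm.Cases.UnitThreeRat
import Cfsg.Agent.Lib.AschbacherForm.Cases.UnitNum
-- import your own Cfsg.Agent.* helpers here

set_option autoImplicit false
open Cfsg

namespace Cfsg.Agent.S5778

open Cfsg Cfsg.Geo CfsgLib.AschbacherForm CfsgLib.AschbacherForm.Cases

/-- Every maximal subgroup of SU_3(q), q ≥ 3, is of one of the listed geometric types or lies in the residual class. Let F be the field with q² elements, f the standard unitary form Σ u_i v_i^q on F^3, and H a maximal subgroup of SU_3(q) (the determinant-one isometries of f, inside GL_3(F)). Then H is the intersection with SU_3(q) of one of: the stabiliser of a non-zero subspace on which f vanishes; the stabiliser of a non-degenerate 1-space; for q ≠ 5, the stabiliser of a decomposition into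 three mutually orthogonal non-degenerate 1-spaces; for q ≠ 3, 5, the normaliser of an adjoint-closed degree-3 subfield of the matrix algebra; a subfield group of odd prime index whose F₀-structure carries f; for q odd, q ≥ 7, a subfield group of index 2 whose F₀-structure carries f; for q = p ≡ 2 mod 3 prime with p ≥ 11, the normaliser of an absolutely irreducible subgroup of order 27 with centre of order 3, exponent 3 and all characteristic abelian subgroups cyclic, contained in the similarity group of f — or else H lies in the residual class of the unitary case. -/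
theorem result {F : Type*} [Field F] [Fintype F] (q : ℕ) (hF : Fintype.card F = q ^ 2) (hq : 3 ≤ q) (H : Subgroup (Matrix.GeneralLinearGroup (Fin 3) F)) (hH : Cfsg.Geo.IsMaximalIn (Cfsg.GU 3 F q ⊓ Cfsg.Geo.specialLinear (Fin 3) F) H) :
    (∃ W : Submodule F (Fin 3 → F), W ≠ ⊥ ∧ Cfsg.Geo.IsTotallySingularFor (Cfsg.hermForm 3 F q) W ∧ H = Cfsg.Geo.subspaceStabilizer W ⊓ (Cfsg.GU 3 F q ⊓ Cfsg.Geo.specialLinear (Fin 3) F)) ∨
    (∃ W : Submodule F (Fin 3 → F), W ≠ ⊥ ∧ Cfsg.Geo.IsNondegenerateOn (Cfsg.hermForm 3 F q) W ∧ 2 * Module.finrank F W < 3 ∧ H = Cfsg.Geo.subspaceStabilizer W ⊓ (Cfsg.GU 3 F q ⊓ Cfsg.Geo.specialLinear (Fin 3) F)) ∨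
    (q ≠ 5 ∧ ∃ D : Fin 3 → Submodule F (Fin 3 → F), Cfsg.Geo.IsNondegenerateMDecomposition (Cfsg.hermForm 3 F q) 1 D ∧ H = Cfsg.Geo.decompositionStabilizer D ⊓ (Cfsg.GU 3 F q ⊓ Cfsg.Geo.specialLinear (Fin 3) F)) ∨
    (q ≠ 3 ∧ q ≠ 5 ∧ ∃ K : Subalgebra F (Matrix (Fin 3) (Fin 3) F), Cfsg.Geo.IsFieldSubalgebra 3 K ∧ Cfsg.Geo.IsAdjointClosedFor (Cfsg.hermForm 3 F q) K ∧ H = Cfsg.Geo.subalgebraNormalizer K ⊓ (Cfsg.GU 3 F q ⊓ Cfsg.Geo.specialLinear (Fin 3) F)) ∨
    (∃ (F₀ : Subfield F) (r : ℕ) (P : Matrix.GeneralLinearGroup (Fin 3) F), r.Prime ∧ Odd r ∧ Fintype.card F = Nat.card F₀ ^ r ∧ Cfsg.Geo.IsFormRationalStructure (Cfsg.hermForm 3 F q) F₀ 1 P ∧ H = Cfsg.Geo.subfieldSubgroup F₀ P ⊓ (Cfsg.GU 3 F q ⊓ Cfsg.Geo.specialLinear (Fin 3) F)) ∨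
    (Odd q ∧ 7 ≤ q ∧ ∃ (F₀ : Subfield F) (P : Matrix.GeneralLinearGroup (Fin 3) F), Fintype.card F = Nat.card F₀ ^ 2 ∧ Cfsg.Geo.IsFormRationalStructure (Cfsg.hermForm 3 F q) F₀ 1 P ∧ H = Cfsg.Geo.subfieldSubgroup F₀ P ⊓ (Cfsg.GU 3 F q ⊓ Cfsg.Geo.specialLinear (Fin 3) F)) ∨
    (∃ (p : ℕ) (R : Subgroup (Matrix.GeneralLinearGroup (Fin 3) F)), p.Prime ∧ q = p ∧ p % 3 = 2 ∧ 11 ≤ p ∧ Cfsg.Geo.IsSymplecticTypeGroup 3 R ∧ Cfsg.Geo.ActsAbsolutelyIrreducibly (Cfsg.Geo.matrixSet R) ∧ R ≤ Cfsg.Geo.similarityGroup (Cfsg.hermForm 3 F q) ∧ Nat.card R = 27 ∧ Nat.card (Subgroup.center R) = 3 ∧ H = Cfsg.Geo.subgroupNormalizer R ⊓ (Cfsg.GU 3 F q ⊓ Cfsg.Geo.specialLinear (Fin 3) F)) ∨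
    Cfsg.Geo.InUnitaryResidualClass H := by
  obtain ⟨τ, hU⟩ := exists_uform hF 3
  rcases unitary_structure hU (by norm_num) H (hH.1.le.trans inf_le_left) with ⟨X, hX, hle⟩ | hres
  swap
  · iterate 7 right
    exact hres
  rcases hX with ⟨W, h0, h1, rfl⟩ | ⟨W, h0, h1, h2, rfl⟩ | ⟨t, k, D, h0, rfl⟩ | ⟨k, D, h0, h1, h2, rfl⟩ |
    ⟨F₀, r, P, h0, h1, h2, h3, rfl⟩ | ⟨F₀, P, h0, h1, h2, rfl⟩ | ⟨F₀, P, ζ, h0, h1, h2, h3, h4, h5, rfl⟩ |
    ⟨r, R, p, e, k, a, b, c, d, g, i, rfl, hnk, hz, hGU, hcomm⟩ |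
    ⟨r, K, h0, h1, h2, h3, rfl⟩ | ⟨n₁, n₂, e, P, f₁, f₂, h0, h1, h2, h3, h4, rfl⟩ |
    ⟨k, t, e, P, f₁, h0, h1, h2, h3, h4, rfl⟩
  · refine Or.inl ⟨W, h0, h1, su_eq_inf hH hle (not_su_le_subspace hU (by norm_num) h0 fun e => ?_)⟩
    subst e
    obtain ⟨a, b, -, -, hab, -⟩ := exists_hyperbolic hU (show 2 ≤ 3 by norm_num)
    exact one_ne_zero (hab ▸ h1 a Submodule.mem_top b Submodule.mem_top)
  · refine Or.inr (Or.inl ⟨W, h0, h1, h2, su_eq_inf hH hle (not_su_le_subspace hU (by norm_num) h0 fun e => ?_)⟩)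
    subst e
    rw [finrank_top, Module.finrank_fin_fun] at h2
    omega
  · obtain ⟨h, ht, hk⟩ := unit_eq_card h0
    obtain ⟨rfl, rfl⟩ : t = 3 ∧ k = 1 := by
      have hkn : k ≤ 1 := by nlinarith
      interval_cases k
      omega
    refine Or.inr (Or.inr (Or.inl ⟨fun hq5 => frame_three_five hU hq5 hH h0 hle, D, h0, ?_⟩))
    exact su_eq_inf hH hle (not_su_le_frame hU le_rfl (Or.inl hq) h0)
  · omega
  · iterate 4 right
    exact Or.inl ⟨F₀, r, P, h0, h1, h2, h3, su_eq_inf hH hle (not_su_le_subfield hU le_rfl h0 h2 P)⟩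
  · by_cases hq3 : q = 3
    · obtain ⟨D, hD, hDle⟩ := rat_three hU hq3 h1 h2
      have hle' := (le_inf hle hH.1.le).trans hDle
      refine Or.inr (Or.inr (Or.inl ⟨by omega, D, hD, ?_⟩))
      exact su_eq_inf hH hle' (not_su_le_frame hU le_rfl (Or.inl hq) hD)
    have hq5 : q ≠ 5 := fun e => rat_five hU e hH h1 h2 hle
    obtain ⟨m, hm⟩ := h0
    iterate 5 right
    exact Or.inl ⟨⟨m, hm⟩, by omega, F₀, P, h1, h2, su_eq_inf hH hle (not_su_le_subfield hU le_rfl Nat.prime_two h1 P)⟩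
  · exact absurd h0 (by decide)
  · obtain ⟨hsym, hR, hcard, hcz, hpP, hchar, f, hf, hlt, hqp, h1', h2'⟩ :=
      unit_six_prime hU Nat.prime_three (by norm_num) a g i hnk hGU
    obtain rfl : f = 1 := by omega
    rw [pow_one] at hqp
    subst hqp
    have hp3 : q % 3 = 2 := by
      have h' := h2' 1 (by norm_num) one_pos (by norm_num)
      rw [pow_one] at h'
      have hlt3 := Nat.mod_lt q (show 0 < 3 by norm_num)
      interval_cases hm : q % 3 <;> simp_all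
    have h11 : 11 ≤ q := by
      by_contra h11
      have h2q := hpP.two_le
      have : q = 5 := by
        interval_cases q <;> first | omega | (norm_num at hpP)
      exact heis_five hU this hH hsym b hR hcomm (by rw [hcard]; norm_num) hcz hle
    iterate 6 right
    refine Or.inl ⟨q, R, hpP, rfl, hp3, h11, hsym, b, c, by rw [hcard]; norm_num, hcz, ?_⟩
    exact su_eq_inf hH hle (not_su_le_heis hU hpP h11 hsym b (by rw [hcard]; norm_num) hcz)
  · obtain rfl : r = 3 :=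
      (Nat.prime_dvd_prime_iff_eq h0 Nat.prime_three).1 (CfsgLib.Aschbacher.Cases.dvd_of_field (by norm_num) h2)
    have hq' : q ≠ 3 ∧ q ≠ 5 := by
      constructor <;> intro e
      · exact field_three_small hU (Or.inl e) hH h2 h3 hle
      · exact field_three_small hU (Or.inr e) hH h2 h3 hle
    refine Or.inr (Or.inr (Or.inr (Or.inl ⟨hq'.1, hq'.2, K, h2, h3, ?_⟩)))
    exact su_eq_inf hH hle (not_le_field (rich_su hU (by norm_num)) (by simp) h0.two_le h2)
  · exfalso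
    have hc : 3 = n₁ * n₂ := by simpa using Fintype.card_congr e
    nlinarith
  · exfalso
    have hc : 3 = k ^ t := by simpa using Fintype.card_congr e
    obtain ⟨-, rfl⟩ := eq_of_pow_eq_prime' Nat.prime_three hc
    omega

end Cfsg.Agent.S5778
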