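import Cfsg.Statements.S5781
import Cfsg.Agent.Lib.Aschbacher.Cases.Rows
-- import your own Cfsg.Agent.* helpers here

set_option autoImplicit false
open Cfsg
open CfsgLib.Aschbacher.Cases

namespace Cfsg.Agent.S5781

/-- Every maximal subgroup of SL_4(q) is of one of the listed geometric types or lies in the residual class. Let F be a finite field with q elements and H a maximal subgroup of SL_4(F) (inside GL_4(F)). Then H is the intersection with SL_4(F) of one of: the stabiliser of a proper non-zero subspace; for q ≥ 7, the stabiliser of a decomposition into four independent lines; for q ≥ 4, the stabiliser of a decomposition into two independent planes; the normaliser of a degree-2 subfield of the matrix algebra; a subfield group for a subfield F₀ with |F| = |F₀|^r, r prime; for q = p ≡ 1 mod 4 prime, the normaliser of an absolutely irreducible 2-subgroup R of exponent 4 with centre of order 4, all of whose characteristic abelian subgroups are cyclic, of order 2^(2+2m) for some m (here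 |R| = 64), with 4 dividing p − 1; for q odd, the similarity group of a non-degenerate quadratic form; the similarity group of a non-degenerate symplectic form; the similarity group of a non-degenerate unitary form — or else H lies in the residual class of the linear case. -/
theorem result {F : Type*} [Field F] [Fintype F] (H : Subgroup (Matrix.GeneralLinearGroup (Fin 4) F)) (hH : Cfsg.Geo.IsMaximalIn (Cfsg.Geo.specialLinear (Fin 4) F) H) :
    (∃ W : Submodule F (Fin 4 → F), W ≠ ⊥ ∧ W ≠ ⊤ ∧ H = Cfsg.Geo.subspaceStabilizer W ⊓ Cfsg.Geo.specialLinear (Fin 4) F) ∨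
    (7 ≤ Fintype.card F ∧ ∃ D : Fin 4 → Submodule F (Fin 4 → F), Cfsg.Geo.IsMDecomposition 1 D ∧ H = Cfsg.Geo.decompositionStabilizer D ⊓ Cfsg.Geo.specialLinear (Fin 4) F) ∨
    (4 ≤ Fintype.card F ∧ ∃ D : Fin 2 → Submodule F (Fin 4 → F), Cfsg.Geo.IsMDecomposition 2 D ∧ H = Cfsg.Geo.decompositionStabilizer D ⊓ Cfsg.Geo.specialLinear (Fin 4) F) ∨
    (∃ K : Subalgebra F (Matrix (Fin 4) (Fin 4) F), Cfsg.Geo.IsFieldSubalgebra 2 K ∧ H = Cfsg.Geo.subalgebraNormalizer K ⊓ Cfsg.Geo.specialLinear (Fin 4) F) ∨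
    (∃ (F₀ : Subfield F) (r : ℕ) (P : Matrix.GeneralLinearGroup (Fin 4) F), r.Prime ∧ Fintype.card F = Nat.card F₀ ^ r ∧ H = Cfsg.Geo.subfieldSubgroup F₀ P ⊓ Cfsg.Geo.specialLinear (Fin 4) F) ∨
    (∃ (p : ℕ) (R : Subgroup (Matrix.GeneralLinearGroup (Fin 4) F)), p.Prime ∧ Fintype.card F = p ∧ p % 4 = 1 ∧ Cfsg.Geo.IsLinearSymplecticTypeData 2 R ∧ H = Cfsg.Geo.subgroupNormalizer R ⊓ Cfsg.Geo.specialLinear (Fin 4) F) ∨
    (Odd (Fintype.card F) ∧ ∃ Q : (Fin 4 → F) → F, Cfsg.Geo.IsNondegenerateQuadraticForm Q ∧ H = Cfsg.Geo.quadSimilarityGroup Q ⊓ Cfsg.Geo.specialLinear (Fin 4) F) ∨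
    (∃ f : (Fin 4 → F) → (Fin 4 → F) → F, Cfsg.Geo.IsSymplecticForm f ∧ H = Cfsg.Geo.similarityGroup f ⊓ Cfsg.Geo.specialLinear (Fin 4) F) ∨
    (∃ (σ : F ≃+* F) (f : (Fin 4 → F) → (Fin 4 → F) → F), Cfsg.Geo.IsUnitaryForm σ f ∧ H = Cfsg.Geo.similarityGroup f ⊓ Cfsg.Geo.specialLinear (Fin 4) F) ∨
    Cfsg.Geo.InLinearResidualClass H := by
  rcases shape (by norm_num) (by norm_num) hH with h | ⟨t, m, D, htm, hD, he⟩ | ⟨r, K, hr, hrn, hK, he⟩ |
    ⟨n₁, n₂, e, P, h1, h2, h12, he⟩ | h | ⟨r, R, hR, hsix, he⟩ | ⟨m, e, P, hm, hm2, he⟩ | ⟨f, hf, hev, he⟩ | h | h | h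
  · exact Or.inl h
  · obtain ⟨-, ht2, htn, hm⟩ := decomp_cases D hD
    have hc : (t = 4 ∧ m = 1) ∨ (t = 2 ∧ m = 2) := by
      interval_cases t <;> omega
    rcases hc with ⟨rfl, rfl⟩ | ⟨rfl, rfl⟩
    · by_cases h5 : 7 ≤ Fintype.card F
      · iterate 1 right
        exact Or.inl ⟨h5, D, hD, he⟩
      have h6 : Fintype.card F ≠ 6 := card_ne_six
      by_cases hf : Fintype.card F = 5
      · exact (four_lines_five hH hf hD he).elim
      rcases lines_small (by norm_num) hH hD he (by omega) with h | h | h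
      · exact Or.inl h
      · iterate 6 right
        exact Or.inl h
      · iterate 8 right
        exact Or.inl h
    · by_cases h3 : 4 ≤ Fintype.card F
      · iterate 2 right
        exact Or.inl ⟨h3, D, hD, he⟩
      have hq2 : 2 ≤ Fintype.card F := Fintype.one_lt_card
      rcases (show Fintype.card F = 2 ∨ Fintype.card F = 3 by omega) with hq | hq
      · iterate 7 right
        exact Or.inl (planes_two (by norm_num) hH hD he hq)
      · iterate 7 right
        exact Or.inl (planes_three hH hD he hq)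
  · have := Nat.le_of_dvd (by norm_num) hrn
    have hc : r = 2 := by
      interval_cases r <;> norm_num at *
    subst hc
    iterate 3 right
    exact Or.inl ⟨K, hK, he⟩
  · have : n₁ ≤ 4 := h12 ▸ Nat.le_mul_of_pos_right n₁ (by omega)
    interval_cases n₁ <;> omega
  · iterate 4 right
    exact Or.inl h
  · obtain ⟨rfl, p, hp, hq, hp4⟩ := hsix.two_case (k := 2) (by norm_num)
    iterate 5 right
    exact Or.inl ⟨p, R, hp, hq, hp4, hR, he⟩
  · rcases lt_or_ge m 4 with hm4 | hm4
    · interval_cases m; norm_num at hm2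
    · nlinarith
  · iterate 7 right
    exact Or.inl ⟨f, hf, he⟩
  · iterate 8 right
    exact Or.inl h
  · iterate 6 right
    exact Or.inl h
  · iterate 9 right
    exact h

end Cfsg.Agent.S5781
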