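import Cfsg.Statements.S5784
import Cfsg.Agent.Lib.AschbacherForm.Cases.UnitTwo
import Cfsg.Agent.Lib.AschbacherForm.Cases.UnitFourFrame
-- import your own Cfsg.Agent.* helpers here

set_option autoImplicit false
open Cfsg

namespace Cfsg.Agent.S5784

open Cfsg Cfsg.Geo CfsgLib.AschbacherForm CfsgLib.AschbacherForm.Cases

/-- Every maximal subgroup of SU_4(q) is of one of the listed geometric types or lies in the residual class. Let F be the field with q² elements, f the standard unitary form Σ u_i v_i^q on F^4, and H a maximal subgroup of SU_4(q) (inside GL_4(F)). Then H is the intersection with SU_4(q) of one of: the stabiliser of a non-zero subspace on which f vanishes; the stabiliser of a non-degenerate 1-space; for q ≠ 3, the stabiliser of a decomposition into four mutually orthogonal non-degenerate 1-spaces; for q ≥ 3, of a decomposition into two orthogonal non-degenerate 2-spaces;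 for q ≥ 4, of a decomposition into two totally isotropic 2-spaces; a subfield group of odd prime index whose F₀-structure carries f; a subfield group of index 2 whose F₀-structure carries ζ f, vanishing on pairs (u, u), for some non-zero ζ with ζ + ζ^q = 0; for q odd, a subfield group of index 2 whose F₀-structure carries f; for q = p ≡ 3 mod 4 prime, the normaliser of an absolutely irreducible symplectic-type 2-group of exponent 4, order 64 and centre of order 4 inside the similarity group of f — or else H lies in the residual class of the unitary case. -/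
theorem result {F : Type*} [Field F] [Fintype F] (q : ℕ) (hF : Fintype.card F = q ^ 2) (H : Subgroup (Matrix.GeneralLinearGroup (Fin 4) F)) (hH : Cfsg.Geo.IsMaximalIn (Cfsg.GU 4 F q ⊓ Cfsg.Geo.specialLinear (Fin 4) F) H) :
    (∃ W : Submodule F (Fin 4 → F), W ≠ ⊥ ∧ Cfsg.Geo.IsTotallySingularFor (Cfsg.hermForm 4 F q) W ∧ H = Cfsg.Geo.subspaceStabilizer W ⊓ (Cfsg.GU 4 F q ⊓ Cfsg.Geo.specialLinear (Fin 4) F)) ∨
    (∃ W : Submodule F (Fin 4 → F), W ≠ ⊥ ∧ Cfsg.Geo.IsNondegenerateOn (Cfsg.hermForm 4 F q) W ∧ 2 * Module.finrank F W < 4 ∧ H = Cfsg.Geo.subspaceStabilizer W ⊓ (Cfsg.GU 4 F q ⊓ Cfsg.Geo.specialLinear (Fin 4) F)) ∨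
    (q ≠ 3 ∧ ∃ D : Fin 4 → Submodule F (Fin 4 → F), Cfsg.Geo.IsNondegenerateMDecomposition (Cfsg.hermForm 4 F q) 1 D ∧ H = Cfsg.Geo.decompositionStabilizer D ⊓ (Cfsg.GU 4 F q ⊓ Cfsg.Geo.specialLinear (Fin 4) F)) ∨
    (3 ≤ q ∧ ∃ D : Fin 2 → Submodule F (Fin 4 → F), Cfsg.Geo.IsNondegenerateMDecomposition (Cfsg.hermForm 4 F q) 2 D ∧ H = Cfsg.Geo.decompositionStabilizer D ⊓ (Cfsg.GU 4 F q ⊓ Cfsg.Geo.specialLinear (Fin 4) F)) ∨
    (4 ≤ q ∧ ∃ D : Fin 2 → Submodule F (Fin 4 → F), Cfsg.Geo.IsMDecomposition 2 D ∧ (∀ i, Cfsg.Geo.IsTotallySingularFor (Cfsg.hermForm 4 F q) (D i)) ∧ H = Cfsg.Geo.decompositionStabilizer D ⊓ (Cfsg.GU 4 F q ⊓ Cfsg.Geo.specialLinear (Fin 4) F)) ∨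
    (∃ (F₀ : Subfield F) (r : ℕ) (P : Matrix.GeneralLinearGroup (Fin 4) F), r.Prime ∧ Odd r ∧ Fintype.card F = Nat.card F₀ ^ r ∧ Cfsg.Geo.IsFormRationalStructure (Cfsg.hermForm 4 F q) F₀ 1 P ∧ H = Cfsg.Geo.subfieldSubgroup F₀ P ⊓ (Cfsg.GU 4 F q ⊓ Cfsg.Geo.specialLinear (Fin 4) F)) ∨
    (∃ (F₀ : Subfield F) (P : Matrix.GeneralLinearGroup (Fin 4) F) (ζ : F), Fintype.card F = Nat.card F₀ ^ 2 ∧ ζ ≠ 0 ∧ ζ + ζ ^ q = 0 ∧ Cfsg.Geo.IsFormRationalStructure (Cfsg.hermForm 4 F q) F₀ ζ P ∧ (∀ u : Fin 4 → F, (∀ i, u i ∈ F₀) → (Cfsg.hermForm 4 F q) (Matrix.mulVec (P : Matrix (Fin 4) (Fin 4) F) u) (Matrix.mulVec (P : Matrix (Fin 4) (Fin 4) F) u) = 0) ∧ H = Cfsg.Geo.subfieldSubgroup F₀ P ⊓ (Cfsg.GU 4 F q ⊓ Cfsg.Geo.specialLinear (Fin 4) F)) ∨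
    (Odd q ∧ ∃ (F₀ : Subfield F) (P : Matrix.GeneralLinearGroup (Fin 4) F), Fintype.card F = Nat.card F₀ ^ 2 ∧ Cfsg.Geo.IsFormRationalStructure (Cfsg.hermForm 4 F q) F₀ 1 P ∧ H = Cfsg.Geo.subfieldSubgroup F₀ P ⊓ (Cfsg.GU 4 F q ⊓ Cfsg.Geo.specialLinear (Fin 4) F)) ∨
    (∃ (p : ℕ) (R : Subgroup (Matrix.GeneralLinearGroup (Fin 4) F)), p.Prime ∧ q = p ∧ p % 4 = 3 ∧ Cfsg.Geo.IsSymplecticTypeGroup 2 R ∧ Cfsg.Geo.ActsAbsolutelyIrreducibly (Cfsg.Geo.matrixSet R) ∧ R ≤ Cfsg.Geo.similarityGroup (Cfsg.hermForm 4 F q) ∧ Nat.card R = 64 ∧ Nat.card (Subgroup.center R) = 4 ∧ H = Cfsg.Geo.subgroupNormalizer R ⊓ (Cfsg.GU 4 F q ⊓ Cfsg.Geo.specialLinear (Fin 4) F)) ∨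
    Cfsg.Geo.InUnitaryResidualClass H := by
  obtain ⟨τ, hU⟩ := exists_uform hF 4
  rcases su_reduce hU le_rfl (by norm_num) hH with hres | ⟨X, hX, hle, heq⟩
  · iterate 9 right
    exact hres
  have hq2 := hU.q_pos
  rcases hX with ⟨W, h0, h1, rfl⟩ | ⟨W, h0, h1, h2, rfl⟩ | ⟨t, k, D, h0, rfl⟩ | ⟨k, D, h0, h1, h2, rfl⟩ |
    ⟨F₀, r, P, h0, h1, h2, h3, rfl⟩ | ⟨F₀, P, h0, h1, h2, rfl⟩ | ⟨F₀, P, ζ, h0, h1, h2, h3, h4, h5, rfl⟩ |
    ⟨r, R, p, e, k, a, b, c, d, g, i, rfl, hnk, hz, hGU, -⟩ |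
    ⟨r, K, h0, h1, h2, h3, rfl⟩ | ⟨n₁, n₂, e, P, f₁, f₂, h0, h1, h2, h3, h4, rfl⟩ |
    ⟨k, t, e, P, f₁, h0, h1, h2, h3, h4, rfl⟩
  · exact Or.inl ⟨W, h0, h1, heq⟩
  · exact Or.inr (Or.inl ⟨W, h0, h1, h2, heq⟩)
  · obtain ⟨h, ht, hk⟩ := unit_eq_card h0
    have hk' : k ≤ 4 := by nlinarith
    obtain ⟨rfl, rfl⟩ | ⟨rfl, rfl⟩ : (t = 4 ∧ k = 1) ∨ (t = 2 ∧ k = 2) := by
      interval_cases k <;> omega
    · by_cases hq : q = 3
      · exact absurd heq (frame_four_not_maximal hU hq hH h0)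
      · exact Or.inr (Or.inr (Or.inl ⟨hq, D, h0, heq⟩))
    · by_cases hq : 3 ≤ q
      · exact Or.inr (Or.inr (Or.inr (Or.inl ⟨hq, D, h0, heq⟩)))
      · exact Or.inr (Or.inr (Or.inl ⟨by omega, su_frame_two hU (by omega) le_rfl hH h0 hle⟩))
  · obtain rfl : k = 2 := by omega
    by_cases hq : 4 ≤ q
    · iterate 4 right
      exact Or.inl ⟨hq, D, h1, h2, heq⟩
    · obtain ⟨F₀, P, ζ, g1, g2, g3, g4, g5, hle'⟩ := subfield_of_ts_small hU (by omega) h1 h2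
      iterate 6 right
      exact Or.inl ⟨F₀, P, ζ, g1, g2, g3, g4, g5,
        su_eq_inf hH ((le_of_eq heq).trans hle') (not_su_le_subfield hU (by norm_num) Nat.prime_two g1 P)⟩
  · iterate 5 right
    exact Or.inl ⟨F₀, r, P, h0, h1, h2, h3, heq⟩
  · iterate 7 right
    exact Or.inl ⟨h0, F₀, P, h1, h2, heq⟩
  · iterate 6 right
    exact Or.inl ⟨F₀, P, ζ, h1, h2, h3, h4, h5, heq⟩
  · have hk1 : 1 ≤ k := by
      rcases k with _ | k
      · simp at hnk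
      · omega
    obtain rfl : r = 2 := (Nat.prime_dvd_prime_iff_eq a.prime Nat.prime_two).1
      (a.prime.dvd_of_dvd_pow (show r ∣ 2 ^ 2 by
        rw [show (2 : ℕ) ^ 2 = 4 from rfl, hnk]; exact dvd_pow_self r (by omega)))
    obtain rfl : k = 2 := Nat.pow_right_injective (show 2 ≤ 2 from le_rfl) (show 2 ^ k = 2 ^ 2 from hnk.symm)
    rcases i with ⟨hodd, -⟩ | ⟨-, he, hcz, hcard⟩
    · exact absurd hodd (by decide)
    subst he
    rw [hcz] at g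
    obtain ⟨hp, hchar, hFc, h4, hmin⟩ := g
    have hqp : q = p := Nat.pow_left_injective two_ne_zero (show q ^ 2 = p ^ 2 by rw [← hF, hFc])
    have hp4 : p % 4 = 3 := by
      rcases hp.eq_two_or_odd with rfl | hodd
      · exact absurd rfl d
      · have h1 : ¬ 4 ∣ p ^ 1 - 1 := hmin 1 one_pos (by norm_num)
        rw [pow_one] at h1
        omega
    iterate 8 right
    exact Or.inl ⟨p, R, hp, hqp, hp4, a, b, c, hcard, hcz, heq⟩
  · exfalso
    have h4 : r ∣ 2 ^ 2 := CfsgLib.Aschbacher.Cases.dvd_of_field (by norm_num) h2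
    obtain rfl : r = 2 := (Nat.prime_dvd_prime_iff_eq h0 Nat.prime_two).1 (h0.dvd_of_dvd_pow h4)
    exact absurd h1 (by decide)
  · exfalso
    have hc : 4 = n₁ * n₂ := by simpa using Fintype.card_congr e
    nlinarith
  · exfalso
    have hc : 4 = k ^ t := by simpa using Fintype.card_congr e
    have : 3 ^ 2 ≤ k ^ t := le_trans (Nat.pow_le_pow_left h0 2) (Nat.pow_le_pow_right (by omega) h1)
    omega

end Cfsg.Agent.S5784
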