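import Cfsg.Statements.S5787
import Cfsg.Agent.Lib.AschbacherForm.Cases.SympFour
import Cfsg.Agent.Lib.AschbacherForm.Cases.SympPairs
-- import your own Cfsg.Agent.* helpers here

set_option autoImplicit false
open Cfsg

namespace Cfsg.Agent.S5787

open Cfsg Cfsg.Geo CfsgLib.AschbacherForm CfsgLib.AschbacherForm.Cases

/-- Every maximal subgroup of Sp_4(q), q odd, is of one of the listed geometric types or lies in the residual class. Let F be a finite field of odd order q, f the standard alternating form on F^4 (coordinates Fin 2 ⊕ Fin 2), and H a maximal subgroup of the isometry group Sp_4(F) (inside GL_4(F)). Then H is the intersection with Sp_4(F) of one of: the stabiliser of a non-zero totally isotropic subspace; the stabiliser of a decomposition into two orthogonal non-degenerate 2-spaces; for q ≥ 5, of a decomposition into two totally isotropic 2-spaces; the normaliser of a degree-2 subfield K of the matrix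 algebra, self-adjoint with f(k v, v) = 0; for q ≥ 5, the normaliser of a degree-2 subfield closed under adjoints but not self-adjoint; a subfield group whose F₀-structure carries a non-zero multiple of f, |F| = |F₀|^r with r prime; for q = p prime, the normaliser of an absolutely irreducible symplectic-type 2-group of exponent 4, order 32, centre of order 2 and minus type inside the similarity group of f — or else H lies in the residual class of the symplectic case. -/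
theorem result {F : Type*} [Field F] [Fintype F] (hodd : Odd (Fintype.card F)) (H : Subgroup (Matrix.GeneralLinearGroup (Fin 2 ⊕ Fin 2) F)) (hH : Cfsg.Geo.IsMaximalIn (Cfsg.spGL 2 F) H) :
    (∃ W : Submodule F (Fin 2 ⊕ Fin 2 → F), W ≠ ⊥ ∧ Cfsg.Geo.IsTotallySingularFor (Cfsg.sympForm 2 F) W ∧ H = Cfsg.Geo.subspaceStabilizer W ⊓ Cfsg.spGL 2 F) ∨
    (∃ D : Fin 2 → Submodule F (Fin 2 ⊕ Fin 2 → F), Cfsg.Geo.IsNondegenerateMDecomposition (Cfsg.sympForm 2 F) 2 D ∧ H = Cfsg.Geo.decompositionStabilizer D ⊓ Cfsg.spGL 2 F) ∨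
    (5 ≤ Fintype.card F ∧ ∃ D : Fin 2 → Submodule F (Fin 2 ⊕ Fin 2 → F), Cfsg.Geo.IsMDecomposition 2 D ∧ (∀ i, Cfsg.Geo.IsTotallySingularFor (Cfsg.sympForm 2 F) (D i)) ∧ H = Cfsg.Geo.decompositionStabilizer D ⊓ Cfsg.spGL 2 F) ∨
    (∃ K : Subalgebra F (Matrix (Fin 2 ⊕ Fin 2) (Fin 2 ⊕ Fin 2) F), Cfsg.Geo.IsFieldSubalgebra 2 K ∧ Cfsg.Geo.IsSelfAdjointFor (Cfsg.sympForm 2 F) K ∧ (∀ k ∈ K, ∀ v : (Fin 2 ⊕ Fin 2 → F), (Cfsg.sympForm 2 F) (Matrix.mulVec k v) v = 0) ∧ H = Cfsg.Geo.subalgebraNormalizer K ⊓ Cfsg.spGL 2 F) ∨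
    (5 ≤ Fintype.card F ∧ ∃ K : Subalgebra F (Matrix (Fin 2 ⊕ Fin 2) (Fin 2 ⊕ Fin 2) F), Cfsg.Geo.IsFieldSubalgebra 2 K ∧ Cfsg.Geo.IsAdjointClosedFor (Cfsg.sympForm 2 F) K ∧ ¬ Cfsg.Geo.IsSelfAdjointFor (Cfsg.sympForm 2 F) K ∧ H = Cfsg.Geo.subalgebraNormalizer K ⊓ Cfsg.spGL 2 F) ∨
    (∃ (F₀ : Subfield F) (r : ℕ) (P : Matrix.GeneralLinearGroup (Fin 2 ⊕ Fin 2) F) (ζ : F), r.Prime ∧ Fintype.card F = Nat.card F₀ ^ r ∧ ζ ≠ 0 ∧ Cfsg.Geo.IsFormRationalStructure (Cfsg.sympForm 2 F) F₀ ζ P ∧ H = Cfsg.Geo.subfieldSubgroup F₀ P ⊓ Cfsg.spGL 2 F) ∨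
    (∃ (p : ℕ) (R : Subgroup (Matrix.GeneralLinearGroup (Fin 2 ⊕ Fin 2) F)), p.Prime ∧ Fintype.card F = p ∧ Cfsg.Geo.IsSymplecticTypeGroup 2 R ∧ Cfsg.Geo.ActsAbsolutelyIrreducibly (Cfsg.Geo.matrixSet R) ∧ R ≤ Cfsg.Geo.similarityGroup (Cfsg.sympForm 2 F) ∧ Nat.card R = 32 ∧ Nat.card (Subgroup.center R) = 2 ∧ Cfsg.Geo.IsOfMinusType 2 R ∧ H = Cfsg.Geo.subgroupNormalizer R ⊓ Cfsg.spGL 2 F) ∨
    Cfsg.Geo.InSymplecticResidualClass H := by
  rcases sp_reduce (by norm_num) (by norm_num) hH with hres | ⟨X, hX, hle, heq⟩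
  · iterate 7 right
    exact hres
  rcases hX with ⟨W, h0, h1, rfl⟩ | ⟨W, h0, h1, h2, rfl⟩ | ⟨t, k, D, h0, rfl⟩ | ⟨D, h0, h1, h2, rfl⟩ |
    ⟨F₀, r, P, ζ, h0, h1, h2, h3, rfl⟩ | ⟨R, p, k, a, b, c, d, e, g, h', i, j, rfl, hk, -⟩ |
    ⟨Q, h0, h1, h2, rfl⟩ | ⟨r, K, h0, h1, h2, h3, rfl⟩ | ⟨K, h0, h1, h2, h3, rfl⟩ |
    ⟨n₁, n₂, e, P, f₁, f₂, h0, h1, h2, h3, h4, rfl⟩ | ⟨k, t, e, P, f₁, h0, h1, h2, h3, h4, h5, rfl⟩
  · exact Or.inl ⟨W, h0, h1, heq⟩
  · exfalso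
    have h3 := sp_nondeg_ne_one h1
    have h4 : 1 ≤ Module.finrank F W := Submodule.one_le_finrank_iff.2 h0
    omega
  · obtain ⟨h, ht, c, rfl⟩ := sp_decomp_even h0
    have := h0.decomp.pos
    obtain ⟨rfl, rfl⟩ : t = 2 ∧ c = 1 := by
      have hc : c ≤ 2 := by nlinarith
      interval_cases c <;> omega
    exact Or.inr (Or.inl ⟨D, h0, heq⟩)
  · by_cases hF : 5 ≤ Fintype.card F
    · exact Or.inr (Or.inr (Or.inl ⟨hF, D, h1, h2, heq⟩))
    · have hF3 : Fintype.card F = 3 := by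
        obtain ⟨i, hi⟩ := hodd
        have := Fintype.one_lt_card (α := F)
        omega
      obtain ⟨D', hD', hle'⟩ := planes_of_ts_three hF3 h1 h2
      have hH' : H ≤ decompositionStabilizer D' := (le_of_eq heq).trans hle'
      exact Or.inr (Or.inl ⟨D', hD', sp_eq_inf hH hH'
        (sp_shape_not_le le_rfl (by norm_num) (Or.inr (Or.inr (Or.inl ⟨2, 2, D', hD', rfl⟩))))⟩)
  · iterate 5 right
    exact Or.inl ⟨F₀, r, P, ζ, h0, h1, h2, h3, heq⟩
  · obtain rfl : k = 2 := pow_eq_iff_two (show 2 ^ k = 2 ^ 2 by rw [← hk]; norm_num)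
    iterate 6 right
    exact Or.inl ⟨p, R, d, g, a, b, c, h', i, j, heq⟩
  · exact absurd hodd h0
  · have hr : r ∣ 2 := sp_field_dvd h1 (by norm_num) h2 h3
    obtain rfl : r = 2 := (Nat.prime_dvd_prime_iff_eq h0 Nat.prime_two).1 hr
    iterate 3 right
    exact Or.inl ⟨K, h1, h2, h3, heq⟩
  · by_cases hF : 5 ≤ Fintype.card F
    · iterate 4 right
      exact Or.inl ⟨hF, K, h1, h2, h3, heq⟩
    · have hF3 : Fintype.card F = 3 := by
        obtain ⟨i, hi⟩ := hodd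
        have := Fintype.one_lt_card (α := F)
        omega
      exact absurd heq (field_four_not_maximal hF3 hH h1 h2 h3)
  · obtain ⟨hc, a, rfl⟩ := tensor_dims e h2
    have : 1 ≤ a := by
      rcases Nat.eq_zero_or_pos a with rfl | h
      · simp at hc
      · exact h
    nlinarith
  · have hcard : 4 = k ^ t := by simpa using Fintype.card_congr e
    exfalso
    rcases k with _ | _ | k
    · rw [zero_pow (by omega)] at hcard; omega
    · rw [zero_add, one_pow] at hcard; omega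
    · have h8 : 2 ^ 3 ≤ (k + 1 + 1) ^ t := le_trans (Nat.pow_le_pow_left (by omega) 3) (Nat.pow_le_pow_right (by omega) h2)
      omega

end Cfsg.Agent.S5787
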