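import Cfsg.Statements.S5793
import Cfsg.Agent.Lib.Aschbacher.Cases.Rows
-- import your own Cfsg.Agent.* helpers here

set_option autoImplicit false
open Cfsg
open CfsgLib.Aschbacher.Cases

namespace Cfsg.Agent.S5793

/-- Every maximal subgroup of SL_5(q) is of one of the listed geometric types or lies in the residual class. Let F be a finite field with q elements (p its characteristic) and H a maximal subgroup of SL_5(F) (inside GL_5(F)). Then H is the intersection with SL_5(F) of one of: the stabiliser of a proper non-zero subspace; for q ≥ 5, the stabiliser of a decomposition into 5 independent 1-spaces; the normaliser of a degree-5 subfield of the matrix algebra; a subfield group for a subfield F₀ with |F| = |F₀|^r, r prime; for q = p prime with p ≡ 1 mod 5, the normaliser of an absolutely irreducible 5-subgroup R of exponent 5 and order 5^(1+2m) with centre of order 5, all of whose characteristic abelian subgroups are cyclic, F being the smallest field of characteristic p containing the fifth roots of unity (here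 R is extraspecial of order 125); for q odd, the similarity group of a non-degenerate quadratic form; the similarity group of a non-degenerate unitary form — or else H lies in the residual class of the linear case (modulo scalars H is almost simple, with absolutely irreducible perfect socle preimage realisable over no proper subfield and fixing no non-degenerate quadratic, symplectic or unitary form). -/
theorem result {F : Type*} [Field F] [Fintype F] (H : Subgroup (Matrix.GeneralLinearGroup (Fin 5) F)) (hH : Cfsg.Geo.IsMaximalIn (Cfsg.Geo.specialLinear (Fin 5) F) H) :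
    (∃ W : Submodule F (Fin 5 → F), W ≠ ⊥ ∧ W ≠ ⊤ ∧ H = Cfsg.Geo.subspaceStabilizer W ⊓ Cfsg.Geo.specialLinear (Fin 5) F) ∨
    (5 ≤ Fintype.card F ∧ ∃ D : Fin 5 → Submodule F (Fin 5 → F), Cfsg.Geo.IsMDecomposition 1 D ∧ H = Cfsg.Geo.decompositionStabilizer D ⊓ Cfsg.Geo.specialLinear (Fin 5) F) ∨
    (∃ K : Subalgebra F (Matrix (Fin 5) (Fin 5) F), Cfsg.Geo.IsFieldSubalgebra 5 K ∧ H = Cfsg.Geo.subalgebraNormalizer K ⊓ Cfsg.Geo.specialLinear (Fin 5) F) ∨
    (∃ (F₀ : Subfield F) (r : ℕ) (P : Matrix.GeneralLinearGroup (Fin 5) F), r.Prime ∧ Fintype.card F = Nat.card F₀ ^ r ∧ H = Cfsg.Geo.subfieldSubgroup F₀ P ⊓ Cfsg.Geo.specialLinear (Fin 5) F) ∨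
    ((∃ p : ℕ, p.Prime ∧ Fintype.card F = p ∧ (p % 5 = 1)) ∧ ∃ R : Subgroup (Matrix.GeneralLinearGroup (Fin 5) F), Cfsg.Geo.IsLinearSymplecticTypeData 5 R ∧ H = Cfsg.Geo.subgroupNormalizer R ⊓ Cfsg.Geo.specialLinear (Fin 5) F) ∨
    (Odd (Fintype.card F) ∧ ∃ Q : (Fin 5 → F) → F, Cfsg.Geo.IsNondegenerateQuadraticForm Q ∧ H = Cfsg.Geo.quadSimilarityGroup Q ⊓ Cfsg.Geo.specialLinear (Fin 5) F) ∨
    (∃ (σ : F ≃+* F) (f : (Fin 5 → F) → (Fin 5 → F) → F), Cfsg.Geo.IsUnitaryForm σ f ∧ H = Cfsg.Geo.similarityGroup f ⊓ Cfsg.Geo.specialLinear (Fin 5) F) ∨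
    Cfsg.Geo.InLinearResidualClass H := by
  rcases shape (by norm_num) (by norm_num) hH with h | ⟨t, m, D, htm, hD, he⟩ | ⟨r, K, hr, hrn, hK, he⟩ |
    ⟨n₁, n₂, e, P, h1, h2, h12, he⟩ | h | ⟨r, R, hR, hsix, he⟩ | ⟨m, e, P, hm, hm2, he⟩ | ⟨f, hf, hev, he⟩ | h | h | h
  · exact Or.inl h
  · obtain ⟨-, ht2, htn, hm⟩ := decomp_cases D hD
    obtain rfl : t = 5 := by interval_cases t <;> omega
    obtain rfl : m = 1 := by omega
    by_cases h5 : 5 ≤ Fintype.card F
    · iterate 1 right
      exact Or.inl ⟨h5, D, hD, he⟩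
    rcases lines_small (by norm_num) hH hD he (by omega) with h | h | h
    · exact Or.inl h
    · iterate 5 right
      exact Or.inl h
    · iterate 6 right
      exact Or.inl h
  · have := Nat.le_of_dvd (by norm_num) hrn
    have hc : r = 5 := by
      interval_cases r <;> norm_num at *
    subst hc
    iterate 2 right
    exact Or.inl ⟨K, hK, he⟩
  · have : n₁ ≤ 5 := h12 ▸ Nat.le_mul_of_pos_right n₁ (by omega)
    interval_cases n₁ <;> omega
  · iterate 3 right
    exact Or.inl h
  · obtain ⟨hr, -, p, e, m, hp, hchar, hq, hodd, hm, hnm, hlt, hmod, hmin⟩ :=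
      hsix.odd_case (not_odd_two (by norm_num) (by norm_num))
    obtain rfl : r = 5 := eq_of_pow_eq hr (by norm_num) hm (l := 1) (by rw [← hnm]; norm_num)
    have hpr := Nat.mod_lt p (show 0 < 5 by norm_num)
    obtain ⟨k, rfl⟩ := hodd
    obtain hk : k < 3 := by omega
    have h1 : p % 5 = 1 → k = 0 := fun h => by
      by_contra hk0
      exact hmin 1 one_pos (by omega) (by rw [pow_one]; omega)
    interval_cases k
    · norm_num at hq hmod
      iterate 4 right
      exact Or.inl ⟨⟨p, hp, hq, by omega⟩, R, hR, he⟩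
    · have key : ∀ a, a < 5 → a ^ 3 % 5 = 1 → a = 1 := by decide
      exact absurd (h1 (key _ hpr hmod)) (by omega)
    · have key : ∀ a, a < 5 → a ^ 5 % 5 = 1 → a = 1 := by decide
      exact absurd (h1 (key _ hpr hmod)) (by omega)
  · rcases lt_or_ge m 4 with hm4 | hm4
    · interval_cases m; norm_num at hm2
    · nlinarith
  · exact absurd hev (by decide)
  · iterate 6 right
    exact Or.inl h
  · iterate 5 right
    exact Or.inl h
  · iterate 7 right
    exact h

end Cfsg.Agent.S5793
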