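import Cfsg.Statements.S5802
import Cfsg.Agent.Lib.AschbacherForm.Cases.UnitSixFrame
import Cfsg.Agent.Lib.AschbacherForm.Cases.UnitFieldTwo
-- import your own Cfsg.Agent.* helpers here

set_option autoImplicit false
open Cfsg

namespace Cfsg.Agent.S5802

open Cfsg Cfsg.Geo CfsgLib.AschbacherForm CfsgLib.AschbacherForm.Cases

/-- Every maximal subgroup of SU_6(q) is of one of the listed geometric types or lies in the residual class. Let F be the field with q² elements, f the standard unitary form Σ u_i v_i^q on F^6, and H a maximal subgroup of SU_6(q) (inside GL_6(F)). Then H is the intersection with SU_6(q) of one of: the stabiliser of a non-zero totally isotropic subspace; the stabiliser of a non-degenerate 1- or 2-space; for q ≥ 3, the stabiliser of a decomposition into six mutually orthogonal non-degenerate 1-spaces; for q ≥ 3, of a decomposition into three mutually orthogonal non-degenerate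 2-spaces; of a decomposition into two orthogonal non-degenerate 3-spaces; of a decomposition into two totally isotropic 3-spaces; for q ≥ 3, the normaliser of an adjoint-closed degree-3 subfield of the matrix algebra; for q ≥ 3, the stabiliser of a tensor decomposition of f into unitary forms on F^2 and F^3; a subfield group of odd prime index whose F₀-structure carries f; a subfield group of index 2 and symplectic type; for q odd, a subfield group of index 2 and orthogonal type — or else H lies in the residual class of the unitary case. -/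
theorem result {F : Type*} [Field F] [Fintype F] (q : ℕ) (hF : Fintype.card F = q ^ 2) (H : Subgroup (Matrix.GeneralLinearGroup (Fin 6) F)) (hH : Cfsg.Geo.IsMaximalIn (Cfsg.GU 6 F q ⊓ Cfsg.Geo.specialLinear (Fin 6) F) H) :
    (∃ W : Submodule F (Fin 6 → F), W ≠ ⊥ ∧ Cfsg.Geo.IsTotallySingularFor (Cfsg.hermForm 6 F q) W ∧ H = Cfsg.Geo.subspaceStabilizer W ⊓ (Cfsg.GU 6 F q ⊓ Cfsg.Geo.specialLinear (Fin 6) F)) ∨
    (∃ W : Submodule F (Fin 6 → F), W ≠ ⊥ ∧ Cfsg.Geo.IsNondegenerateOn (Cfsg.hermForm 6 F q) W ∧ 2 * Module.finrank F W < 6 ∧ H = Cfsg.Geo.subspaceStabilizer W ⊓ (Cfsg.GU 6 F q ⊓ Cfsg.Geo.specialLinear (Fin 6) F)) ∨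
    (3 ≤ q ∧ ∃ D : Fin 6 → Submodule F (Fin 6 → F), Cfsg.Geo.IsNondegenerateMDecomposition (Cfsg.hermForm 6 F q) 1 D ∧ H = Cfsg.Geo.decompositionStabilizer D ⊓ (Cfsg.GU 6 F q ⊓ Cfsg.Geo.specialLinear (Fin 6) F)) ∨
    (3 ≤ q ∧ ∃ D : Fin 3 → Submodule F (Fin 6 → F), Cfsg.Geo.IsNondegenerateMDecomposition (Cfsg.hermForm 6 F q) 2 D ∧ H = Cfsg.Geo.decompositionStabilizer D ⊓ (Cfsg.GU 6 F q ⊓ Cfsg.Geo.specialLinear (Fin 6) F)) ∨
    (∃ D : Fin 2 → Submodule F (Fin 6 → F), Cfsg.Geo.IsNondegenerateMDecomposition (Cfsg.hermForm 6 F q) 3 D ∧ H = Cfsg.Geo.decompositionStabilizer D ⊓ (Cfsg.GU 6 F q ⊓ Cfsg.Geo.specialLinear (Fin 6) F)) ∨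
    (∃ D : Fin 2 → Submodule F (Fin 6 → F), Cfsg.Geo.IsMDecomposition 3 D ∧ (∀ i, Cfsg.Geo.IsTotallySingularFor (Cfsg.hermForm 6 F q) (D i)) ∧ H = Cfsg.Geo.decompositionStabilizer D ⊓ (Cfsg.GU 6 F q ⊓ Cfsg.Geo.specialLinear (Fin 6) F)) ∨
    (3 ≤ q ∧ ∃ K : Subalgebra F (Matrix (Fin 6) (Fin 6) F), Cfsg.Geo.IsFieldSubalgebra 3 K ∧ Cfsg.Geo.IsAdjointClosedFor (Cfsg.hermForm 6 F q) K ∧ H = Cfsg.Geo.subalgebraNormalizer K ⊓ (Cfsg.GU 6 F q ⊓ Cfsg.Geo.specialLinear (Fin 6) F)) ∨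
    (3 ≤ q ∧ ∃ (e : Fin 6 ≃ Fin 2 × Fin 3) (P : Matrix.GeneralLinearGroup (Fin 6) F) (f₁ : (Fin 2 → F) → (Fin 2 → F) → F) (f₂ : (Fin 3 → F) → (Fin 3 → F) → F), Cfsg.Geo.IsUnitaryFormPow q f₁ ∧ Cfsg.Geo.IsUnitaryFormPow q f₂ ∧ Cfsg.Geo.IsTensorFormStructure (fun x : F => x ^ q) (Cfsg.hermForm 6 F q) f₁ f₂ e P ∧ H = Cfsg.Geo.tensorProductSubgroup 2 3 e P ⊓ (Cfsg.GU 6 F q ⊓ Cfsg.Geo.specialLinear (Fin 6) F)) ∨
    (∃ (F₀ : Subfield F) (r : ℕ) (P : Matrix.GeneralLinearGroup (Fin 6) F), r.Prime ∧ Odd r ∧ Fintype.card F = Nat.card F₀ ^ r ∧ Cfsg.Geo.IsFormRationalStructure (Cfsg.hermForm 6 F q) F₀ 1 P ∧ H = Cfsg.Geo.subfieldSubgroup F₀ P ⊓ (Cfsg.GU 6 F q ⊓ Cfsg.Geo.specialLinear (Fin 6) F)) ∨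
    (∃ (F₀ : Subfield F) (P : Matrix.GeneralLinearGroup (Fin 6) F) (ζ : F), Fintype.card F = Nat.card F₀ ^ 2 ∧ ζ ≠ 0 ∧ ζ + ζ ^ q = 0 ∧ Cfsg.Geo.IsFormRationalStructure (Cfsg.hermForm 6 F q) F₀ ζ P ∧ (∀ u : Fin 6 → F, (∀ i, u i ∈ F₀) → (Cfsg.hermForm 6 F q) (Matrix.mulVec (P : Matrix (Fin 6) (Fin 6) F) u) (Matrix.mulVec (P : Matrix (Fin 6) (Fin 6) F) u) = 0) ∧ H = Cfsg.Geo.subfieldSubgroup F₀ P ⊓ (Cfsg.GU 6 F q ⊓ Cfsg.Geo.specialLinear (Fin 6) F)) ∨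
    (Odd q ∧ ∃ (F₀ : Subfield F) (P : Matrix.GeneralLinearGroup (Fin 6) F), Fintype.card F = Nat.card F₀ ^ 2 ∧ Cfsg.Geo.IsFormRationalStructure (Cfsg.hermForm 6 F q) F₀ 1 P ∧ H = Cfsg.Geo.subfieldSubgroup F₀ P ⊓ (Cfsg.GU 6 F q ⊓ Cfsg.Geo.specialLinear (Fin 6) F)) ∨
    Cfsg.Geo.InUnitaryResidualClass H := by
  obtain ⟨τ, hU⟩ := exists_uform hF 6
  rcases su_reduce hU (by norm_num) (by norm_num) hH with hres | ⟨X, hX, hle, heq⟩
  · iterate 11 right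
    exact hres
  have hq2 := hU.q_pos
  rcases hX with ⟨W, h0, h1, rfl⟩ | ⟨W, h0, h1, h2, rfl⟩ | ⟨t, k, D, h0, rfl⟩ | ⟨k, D, h0, h1, h2, rfl⟩ |
    ⟨F₀, r, P, h0, h1, h2, h3, rfl⟩ | ⟨F₀, P, h0, h1, h2, rfl⟩ | ⟨F₀, P, ζ, h0, h1, h2, h3, h4, h5, rfl⟩ |
    ⟨r, R, p, e, k, a, b, c, d, g, i, rfl, hnk, hz, hGU, -⟩ |
    ⟨r, K, h0, h1, h2, h3, rfl⟩ | ⟨n₁, n₂, e, P, f₁, f₂, h0, h1, h2, h3, h4, rfl⟩ |
    ⟨k, t, e, P, f₁, h0, h1, h2, h3, h4, rfl⟩
  · exact Or.inl ⟨W, h0, h1, heq⟩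
  · exact Or.inr (Or.inl ⟨W, h0, h1, h2, heq⟩)
  · obtain ⟨h, ht, hk⟩ := unit_eq_card h0
    have hk' : k ≤ 3 := by nlinarith
    obtain ⟨rfl, rfl⟩ | ⟨rfl, rfl⟩ | ⟨rfl, rfl⟩ : (t = 6 ∧ k = 1) ∨ (t = 3 ∧ k = 2) ∨ (t = 2 ∧ k = 3) := by
      interval_cases k <;> omega
    · by_cases hq : 3 ≤ q
      · iterate 2 right
        exact Or.inl ⟨hq, D, h0, heq⟩
      · exact absurd hle (frame_six_two hU (by omega) hH h0)
    · by_cases hq : 3 ≤ q
      · iterate 3 right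
        exact Or.inl ⟨hq, D, h0, heq⟩
      · obtain ⟨D', hD', heq'⟩ := su_frame_two hU (by omega) (by norm_num) hH h0 hle
        exact absurd ((le_of_eq heq').trans inf_le_left) (frame_six_two hU (by omega) hH hD')
    · iterate 4 right
      exact Or.inl ⟨D, h0, heq⟩
  · obtain rfl : k = 3 := by omega
    iterate 5 right
    exact Or.inl ⟨D, h1, h2, heq⟩
  · iterate 8 right
    exact Or.inl ⟨F₀, r, P, h0, h1, h2, h3, heq⟩
  · iterate 10 right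
    exact Or.inl ⟨h0, F₀, P, h1, h2, heq⟩
  · iterate 9 right
    exact Or.inl ⟨F₀, P, ζ, h1, h2, h3, h4, h5, heq⟩
  · exfalso
    have hne : ∀ s : ℕ, s.Prime → s ∣ 6 → r = s := fun s hs hsn =>
      ((Nat.prime_dvd_prime_iff_eq hs a.prime).1 (hs.dvd_of_dvd_pow (hnk ▸ hsn))).symm
    have e2 := hne 2 Nat.prime_two (by norm_num)
    have e3 := hne 3 (by norm_num) (by norm_num)
    omega
  · have hr : r ∣ 6 := CfsgLib.Aschbacher.Cases.dvd_of_field (by norm_num) h2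
    obtain rfl : r = 3 := by
      have := Nat.le_of_dvd (by norm_num) hr
      obtain ⟨c, hc⟩ := h1
      subst hc
      have := h0.two_le
      have : c ≤ 2 := by omega
      interval_cases c <;> first | omega | (norm_num at hr h0)
    by_cases hq : 3 ≤ q
    · iterate 6 right
      exact Or.inl ⟨hq, K, h2, h3, heq⟩
    · obtain ⟨F₀, P, ζ, g1, g2, g3, g4, g5, hle'⟩ := subfield_of_field_two hU (by omega) h2 h3
      iterate 9 right
      exact Or.inl ⟨F₀, P, ζ, g1, g2, g3, g4, g5,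
        su_eq_inf hH ((le_of_eq heq).trans hle') (not_su_le_subfield hU (by norm_num) Nat.prime_two g1 P)⟩
  · have hc : 6 = n₁ * n₂ := by simpa using Fintype.card_congr e
    have hn1 : n₁ ≤ 2 := by nlinarith
    obtain rfl : n₁ = 2 := by omega
    obtain rfl : n₂ = 3 := by omega
    by_cases hq : 3 ≤ q
    · iterate 7 right
      exact Or.inl ⟨hq, e, P, f₁, f₂, h2, h3, h4, heq⟩
    · iterate 4 right
      exact Or.inl (su_tensor_two hU (by omega) (by norm_num) (by norm_num) hH h2 h3 h4 hle)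
  · exfalso
    have hc : 6 = k ^ t := by simpa using Fintype.card_congr e
    have : 3 ^ 2 ≤ k ^ t := le_trans (Nat.pow_le_pow_left h0 2) (Nat.pow_le_pow_right (by omega) h1)
    omega

end Cfsg.Agent.S5802
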