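import Cfsg.Statements.S5805
import Cfsg.Agent.Lib.AschbacherForm.Cases.SympTensorTools
-- import your own Cfsg.Agent.* helpers here

set_option autoImplicit false
open Cfsg

namespace Cfsg.Agent.S5805

open Cfsg Cfsg.Geo CfsgLib.AschbacherForm CfsgLib.AschbacherForm.Cases

/-- Every maximal subgroup of Sp_6(q) is of one of the listed geometric types or lies in the residual class. Let F be a finite field with q elements, f the standard alternating form on F^6 (coordinates Fin 3 ⊕ Fin 3), and H a maximal subgroup of Sp_6(F) (inside GL_6(F)). Then H is the intersection with Sp_6(F) of one of: the stabiliser of a non-zero totally isotropic subspace; the stabiliser of a non-degenerate 2-space; for q ≥ 3, the stabiliser of a decomposition into three mutually orthogonal non-degenerate 2-spaces; for q odd, of a decomposition into two totally isotropic 3-spaces; the normaliser of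 a degree-3 subfield K of the matrix algebra, self-adjoint with f(k v, v) = 0; for q odd, the normaliser of a degree-2 subfield closed under adjoints but not self-adjoint; for q odd, q ≥ 5, the stabiliser of a tensor decomposition of f into an alternating form on F^2 and a symmetric form on F^3; a subfield group (|F| = |F₀|^r, r prime) whose F₀-structure carries a non-zero multiple of f; for q even, the similarity group of a non-degenerate quadratic form polarising to f — or else H lies in the residual class of the symplectic case. -/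
theorem result {F : Type*} [Field F] [Fintype F] (H : Subgroup (Matrix.GeneralLinearGroup (Fin 3 ⊕ Fin 3) F)) (hH : Cfsg.Geo.IsMaximalIn (Cfsg.spGL 3 F) H) :
    (∃ W : Submodule F (Fin 3 ⊕ Fin 3 → F), W ≠ ⊥ ∧ Cfsg.Geo.IsTotallySingularFor (Cfsg.sympForm 3 F) W ∧ H = Cfsg.Geo.subspaceStabilizer W ⊓ Cfsg.spGL 3 F) ∨
    (∃ W : Submodule F (Fin 3 ⊕ Fin 3 → F), W ≠ ⊥ ∧ Cfsg.Geo.IsNondegenerateOn (Cfsg.sympForm 3 F) W ∧ Module.finrank F W < 3 ∧ H = Cfsg.Geo.subspaceStabilizer W ⊓ Cfsg.spGL 3 F) ∨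
    (3 ≤ Fintype.card F ∧ ∃ D : Fin 3 → Submodule F (Fin 3 ⊕ Fin 3 → F), Cfsg.Geo.IsNondegenerateMDecomposition (Cfsg.sympForm 3 F) 2 D ∧ H = Cfsg.Geo.decompositionStabilizer D ⊓ Cfsg.spGL 3 F) ∨
    (Odd (Fintype.card F) ∧ ∃ D : Fin 2 → Submodule F (Fin 3 ⊕ Fin 3 → F), Cfsg.Geo.IsMDecomposition 3 D ∧ (∀ i, Cfsg.Geo.IsTotallySingularFor (Cfsg.sympForm 3 F) (D i)) ∧ H = Cfsg.Geo.decompositionStabilizer D ⊓ Cfsg.spGL 3 F) ∨
    (∃ K : Subalgebra F (Matrix (Fin 3 ⊕ Fin 3) (Fin 3 ⊕ Fin 3) F), Cfsg.Geo.IsFieldSubalgebra 3 K ∧ Cfsg.Geo.IsSelfAdjointFor (Cfsg.sympForm 3 F) K ∧ (∀ k ∈ K, ∀ v : (Fin 3 ⊕ Fin 3 → F), (Cfsg.sympForm 3 F) (Matrix.mulVec k v) v = 0) ∧ H = Cfsg.Geo.subalgebraNormalizer K ⊓ Cfsg.spGL 3 F) ∨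
    (Odd (Fintype.card F) ∧ ∃ K : Subalgebra F (Matrix (Fin 3 ⊕ Fin 3) (Fin 3 ⊕ Fin 3) F), Cfsg.Geo.IsFieldSubalgebra 2 K ∧ Cfsg.Geo.IsAdjointClosedFor (Cfsg.sympForm 3 F) K ∧ ¬ Cfsg.Geo.IsSelfAdjointFor (Cfsg.sympForm 3 F) K ∧ H = Cfsg.Geo.subalgebraNormalizer K ⊓ Cfsg.spGL 3 F) ∨
    (Odd (Fintype.card F) ∧ 5 ≤ Fintype.card F ∧ ∃ (e : (Fin 3 ⊕ Fin 3) ≃ Fin 2 × Fin 3) (P : Matrix.GeneralLinearGroup (Fin 3 ⊕ Fin 3) F) (f₁ : (Fin 2 → F) → (Fin 2 → F) → F) (f₂ : (Fin 3 → F) → (Fin 3 → F) → F), Cfsg.Geo.IsSymplecticForm f₁ ∧ Cfsg.Geo.IsSymmetricForm f₂ ∧ Cfsg.Geo.IsTensorFormStructure id (Cfsg.sympForm 3 F) f₁ f₂ e P ∧ H = Cfsg.Geo.tensorProductSubgroup 2 3 e P ⊓ Cfsg.spGL 3 F) ∨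
    (∃ (F₀ : Subfield F) (r : ℕ) (P : Matrix.GeneralLinearGroup (Fin 3 ⊕ Fin 3) F) (ζ : F), r.Prime ∧ Fintype.card F = Nat.card F₀ ^ r ∧ ζ ≠ 0 ∧ Cfsg.Geo.IsFormRationalStructure (Cfsg.sympForm 3 F) F₀ ζ P ∧ H = Cfsg.Geo.subfieldSubgroup F₀ P ⊓ Cfsg.spGL 3 F) ∨
    (¬ Odd (Fintype.card F) ∧ ∃ Q : (Fin 3 ⊕ Fin 3 → F) → F, Cfsg.Geo.IsNondegenerateQuadraticForm Q ∧ (∀ u v : (Fin 3 ⊕ Fin 3 → F), QuadraticMap.polar Q u v = (Cfsg.sympForm 3 F) u v) ∧ H = Cfsg.Geo.quadSimilarityGroup Q ⊓ Cfsg.spGL 3 F) ∨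
    Cfsg.Geo.InSymplecticResidualClass H := by
  rcases sp_reduce (by norm_num) (by norm_num) hH with hres | ⟨X, hX, hle, heq⟩
  · iterate 9 right
    exact hres
  rcases hX with ⟨W, h0, h1, rfl⟩ | ⟨W, h0, h1, h2, rfl⟩ | ⟨t, k, D, h0, rfl⟩ | ⟨D, h0, h1, h2, rfl⟩ |
    ⟨F₀, r, P, ζ, h0, h1, h2, h3, rfl⟩ | ⟨R, p, k, a, b, c, d, e, g, h', i, j, rfl, hk, -⟩ |
    ⟨Q, h0, h1, h2, rfl⟩ | ⟨r, K, h0, h1, h2, h3, rfl⟩ | ⟨K, h0, h1, h2, h3, rfl⟩ |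
    ⟨n₁, n₂, e, P, f₁, f₂, h0, h1, h2, h3, h4, rfl⟩ | ⟨k, t, e, P, f₁, h0, h1, h2, h3, h4, h5, rfl⟩
  · exact Or.inl ⟨W, h0, h1, heq⟩
  · exact Or.inr (Or.inl ⟨W, h0, h1, h2, heq⟩)
  · obtain ⟨h, ht, c, rfl⟩ := sp_decomp_even h0
    have := h0.decomp.pos
    obtain ⟨rfl, rfl⟩ : t = 3 ∧ c = 1 := by
      have hc : c ≤ 3 := by nlinarith
      interval_cases c <;> omega
    by_cases hF : 3 ≤ Fintype.card F
    · exact Or.inr (Or.inr (Or.inl ⟨hF, D, h0, heq⟩))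
    · iterate 8 right
      exact Or.inl (sp_frame_two (by norm_num) (two_lt_of_prime_pow hF) hH h0 hle)
  · exact Or.inr (Or.inr (Or.inr (Or.inl ⟨h0, D, h1, h2, heq⟩)))
  · iterate 7 right
    exact Or.inl ⟨F₀, r, P, ζ, h0, h1, h2, h3, heq⟩
  · exact absurd hk (no_pow_two 2 (by norm_num) (by norm_num) k)
  · iterate 8 right
    exact Or.inl ⟨h0, Q, h1, h2, heq⟩
  · obtain rfl : r = 3 :=
      (Nat.prime_dvd_prime_iff_eq h0 (by norm_num)).1 (sp_field_dvd h1 (by norm_num) h2 h3)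
    iterate 4 right
    exact Or.inl ⟨K, h1, h2, h3, heq⟩
  · iterate 5 right
    exact Or.inl ⟨h0, K, h1, h2, h3, heq⟩
  · obtain ⟨hc, a, rfl⟩ := tensor_dims e h2
    obtain ⟨rfl, rfl⟩ : a = 1 ∧ n₂ = 3 := by
      have ha : a ≤ 1 := by nlinarith
      interval_cases a <;> omega
    by_cases hF : 5 ≤ Fintype.card F
    · iterate 6 right
      exact Or.inl ⟨h0, hF, e, P, f₁, f₂, h2, h3, h4, heq⟩
    · exact Or.inr (Or.inr (Or.inl (sp_tensor_three (by norm_num) (by norm_num) h0 hF hH h2 h3 h4 heq)))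
  · exact (no_wreath h2 e (by norm_num) (by norm_num) (no_pow_two 2 (by norm_num) (by norm_num))).elim

end Cfsg.Agent.S5805
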