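import Cfsg.Statements.S5813
import Cfsg.Agent.Lib.OrthFrame.Main
import Cfsg.Agent.Lib.OrthMax.Apps
import Cfsg.Agent.Lib.OrthMax.SubfieldOddMax

set_option autoImplicit false
open Cfsg

namespace Cfsg.Agent.S5813

/-- Maximal subgroups of Ω_7(q) of geometric type, q odd. Let F be a finite field of odd order q, Q the standard quadratic form x₀² + Σ x_i y_i on F^7 (coordinates Unit ⊕ (Fin 3 ⊕ Fin 3)), and Ω = Ω_7(q) the commutator subgroup of its isometry group, inside GL_7(F). Each of the following, intersected with Ω, is a maximal subgroup of Ω: (1) the stabiliser of any non-zero subspace on which Q vanishes identically (totally singular 1-, 2- and 3-spaces); (2) the stabiliser of any non-zero even-dimensional subspace W on which the polar form of Q is non-degenerate (equivalently of its odd-dimensional orthogonal complement), except when q = 3 and W is a 2-space containing a non-zero singular vector (a plus-type plane); (3) for q = p prime,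 the stabiliser of any decomposition of F^7 into seven pairwise orthogonal, pairwise Q-isometric non-degenerate 1-spaces; (4) every subfield group for a subfield F₀ with |F| = |F₀|^r, r prime, whose F₀-structure carries Q. -/
theorem result {F : Type*} [Field F] [Fintype F] (hodd : Odd (Fintype.card F)) :
    (∀ W : Submodule F (Unit ⊕ (Fin 3 ⊕ Fin 3) → F), W ≠ ⊥ → Cfsg.Geo.IsTotallySingularQuad (Cfsg.quadFormOdd 3 F) W → Cfsg.Geo.IsMaximalIn (Cfsg.Geo.omegaGL (Cfsg.quadFormOdd 3 F)) (Cfsg.Geo.subspaceStabilizer W ⊓ Cfsg.Geo.omegaGL (Cfsg.quadFormOdd 3 F))) ∧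
    (∀ W : Submodule F (Unit ⊕ (Fin 3 ⊕ Fin 3) → F), W ≠ ⊥ → Even (Module.finrank F W) → Cfsg.Geo.IsNondegenerateOn (QuadraticMap.polar (Cfsg.quadFormOdd 3 F)) W → ¬ (Fintype.card F = 3 ∧ Module.finrank F W = 2 ∧ Cfsg.Geo.IsPlusTypeOn (Cfsg.quadFormOdd 3 F) W) → Cfsg.Geo.IsMaximalIn (Cfsg.Geo.omegaGL (Cfsg.quadFormOdd 3 F)) (Cfsg.Geo.subspaceStabilizer W ⊓ Cfsg.Geo.omegaGL (Cfsg.quadFormOdd 3 F))) ∧
    ((Fintype.card F).Prime → ∀ D : Fin 7 → Submodule F (Unit ⊕ (Fin 3 ⊕ Fin 3) → F), Cfsg.Geo.IsOrthogonalMDecomposition (Cfsg.quadFormOdd 3 F) 1 D → Cfsg.Geo.IsMaximalIn (Cfsg.Geo.omegaGL (Cfsg.quadFormOdd 3 F)) (Cfsg.Geo.decompositionStabilizer D ⊓ Cfsg.Geo.omegaGL (Cfsg.quadFormOdd 3 F))) ∧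
    (∀ (F₀ : Subfield F) (r : ℕ) (P : Matrix.GeneralLinearGroup (Unit ⊕ (Fin 3 ⊕ Fin 3)) F), r.Prime → Fintype.card F = Nat.card F₀ ^ r → Cfsg.Geo.IsQuadFormRationalStructure (Cfsg.quadFormOdd 3 F) F₀ P → Cfsg.Geo.IsMaximalIn (Cfsg.Geo.omegaGL (Cfsg.quadFormOdd 3 F)) (Cfsg.Geo.subfieldSubgroup F₀ P ⊓ Cfsg.Geo.omegaGL (Cfsg.quadFormOdd 3 F))) := by
  have h2 : (2 : F) ≠ 0 := CfsgLib.Geometry.two_ne_zero_of_odd_card rfl hodd
  have hQ : (QuadraticMap.polarBilin (CfsgLib.Geometry.matQuad (CfsgLib.Geometry.oddMat 3 F))).Nondegenerate :=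
    CfsgLib.Geometry.nondegenerate_matQuad (by
      rw [CfsgLib.Geometry.det_odd_gram]; exact mul_ne_zero h2 (pow_ne_zero _ (neg_ne_zero.2 one_ne_zero)))
  refine ⟨fun W hW0 hW => ?_, fun W hW0 hev hW hex => ?_, fun hprime D hD => ?_, fun F₀ r P hr hcard hP =>
    CfsgLib.OrthMax.subfield_maximal_odd hodd 3 le_rfl F₀ r hr hcard P hP⟩
  · rw [← CfsgLib.Geometry.coe_matQuad_odd] at hW ⊢
    exact CfsgLib.OrthMax.singular_maximal hQ (by simp) hW0 hW fun _ _ _ _ h => by simp at h; omega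
  · rw [← CfsgLib.Geometry.coe_matQuad_odd] at hW hex ⊢
    have hd := CfsgLib.Geometry.finrank_polarPerp hQ W
    simp only [Module.finrank_pi, Fintype.card_sum, Fintype.card_unit, Fintype.card_fin] at hd
    obtain ⟨k, hk⟩ := hev
    refine CfsgLib.OrthMax.nondeg_maximal_of hQ (Or.inr ⟨h2, by simp⟩) hW0 (fun h => ?_)
      (CfsgLib.OrthMax.nd_of_isNondegenerateOn hW) (fun h => by simp at h; omega) ?_ ?_
    · rw [h, finrank_top] at hk; simp at hk; omega
    · rintro ⟨hc, hd2, z, hz, hz0, hQz⟩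
      rw [Nat.card_eq_fintype_card] at hc
      have h1 := Fintype.one_lt_card (α := F)
      obtain ⟨j, hj⟩ := hodd
      refine hex ⟨by omega, hd2, Submodule.span F {z}, by rwa [Submodule.span_singleton_le_iff_mem],
        fun w hw => ?_, ?_⟩
      · obtain ⟨c, rfl⟩ := Submodule.mem_span_singleton.1 hw
        rw [CfsgLib.Geometry.map_smul', hQz, mul_zero]
      · rw [finrank_span_singleton hz0, hd2]
    · rintro ⟨-, hd2, -⟩
      omega
  · have : Fact (Nat.card F).Prime := ⟨by rwa [Nat.card_eq_fintype_card]⟩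
    rw [← CfsgLib.Geometry.coe_matQuad_odd] at hD ⊢
    exact CfsgLib.OrthFrame.frame_maximal_of h2 hQ (by simp) (Or.inr (by simpa using (by decide : Odd 7))) hD

end Cfsg.Agent.S5813
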