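import Cfsg.Statements.S5823
import Cfsg.Agent.Lib.AschbacherForm.Cases.QuatCube
-- import your own Cfsg.Agent.* helpers here

set_option autoImplicit false
open Cfsg

namespace Cfsg.Agent.S5823

open Cfsg Cfsg.Geo CfsgLib.AschbacherForm CfsgLib.AschbacherForm.Cases

/-- Every maximal subgroup of Sp_8(q) is of one of the listed geometric types or lies in the residual class. Let F be a finite field with q elements, f the standard alternating form on F^8 (coordinates Fin 4 ⊕ Fin 4), and H a maximal subgroup of Sp_8(F) (inside GL_8(F)). Then H is the intersection with Sp_8(F) of one of: the stabiliser of a non-zero totally isotropic subspace; the stabiliser of a non-degenerate 2-space; for q ≥ 3, the stabiliser of a decomposition into four mutually orthogonal non-degenerate 2-spaces; of a decomposition into two orthogonal non-degenerate 4-spaces; for q odd, of a decomposition into two totally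 isotropic 4-spaces; the normaliser of a degree-2 subfield K, self-adjoint with f(k v, v) = 0; for q odd, the normaliser of a degree-2 subfield closed under adjoints but not self-adjoint; for q odd, the stabiliser of a tensor decomposition of f into an alternating form on F^2 and a minus-type symmetric form on F^4; a subfield group (|F| = |F₀|^r, r prime) whose F₀-structure carries a non-zero multiple of f; for q = p an odd prime, the normaliser of an absolutely irreducible extraspecial group 2_-^(1+6) of exponent 4 inside the similarity group of f; for q odd, q ≥ 5, the stabiliser of a tensor decomposition of f as a third tensor power of an alternating form on F^2; for q even, the similarity group of a non-degenerate quadratic form polarising to f — or else H lies in the residual class of the symplectic case. -/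
theorem result {F : Type*} [Field F] [Fintype F] (H : Subgroup (Matrix.GeneralLinearGroup (Fin 4 ⊕ Fin 4) F)) (hH : Cfsg.Geo.IsMaximalIn (Cfsg.spGL 4 F) H) :
    (∃ W : Submodule F (Fin 4 ⊕ Fin 4 → F), W ≠ ⊥ ∧ Cfsg.Geo.IsTotallySingularFor (Cfsg.sympForm 4 F) W ∧ H = Cfsg.Geo.subspaceStabilizer W ⊓ Cfsg.spGL 4 F) ∨
    (∃ W : Submodule F (Fin 4 ⊕ Fin 4 → F), W ≠ ⊥ ∧ Cfsg.Geo.IsNondegenerateOn (Cfsg.sympForm 4 F) W ∧ Module.finrank F W < 4 ∧ H = Cfsg.Geo.subspaceStabilizer W ⊓ Cfsg.spGL 4 F) ∨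
    (3 ≤ Fintype.card F ∧ ∃ D : Fin 4 → Submodule F (Fin 4 ⊕ Fin 4 → F), Cfsg.Geo.IsNondegenerateMDecomposition (Cfsg.sympForm 4 F) 2 D ∧ H = Cfsg.Geo.decompositionStabilizer D ⊓ Cfsg.spGL 4 F) ∨
    (∃ D : Fin 2 → Submodule F (Fin 4 ⊕ Fin 4 → F), Cfsg.Geo.IsNondegenerateMDecomposition (Cfsg.sympForm 4 F) 4 D ∧ H = Cfsg.Geo.decompositionStabilizer D ⊓ Cfsg.spGL 4 F) ∨
    (Odd (Fintype.card F) ∧ ∃ D : Fin 2 → Submodule F (Fin 4 ⊕ Fin 4 → F), Cfsg.Geo.IsMDecomposition 4 D ∧ (∀ i, Cfsg.Geo.IsTotallySingularFor (Cfsg.sympForm 4 F) (D i)) ∧ H = Cfsg.Geo.decompositionStabilizer D ⊓ Cfsg.spGL 4 F) ∨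
    (∃ K : Subalgebra F (Matrix (Fin 4 ⊕ Fin 4) (Fin 4 ⊕ Fin 4) F), Cfsg.Geo.IsFieldSubalgebra 2 K ∧ Cfsg.Geo.IsSelfAdjointFor (Cfsg.sympForm 4 F) K ∧ (∀ k ∈ K, ∀ v : (Fin 4 ⊕ Fin 4 → F), (Cfsg.sympForm 4 F) (Matrix.mulVec k v) v = 0) ∧ H = Cfsg.Geo.subalgebraNormalizer K ⊓ Cfsg.spGL 4 F) ∨
    (Odd (Fintype.card F) ∧ ∃ K : Subalgebra F (Matrix (Fin 4 ⊕ Fin 4) (Fin 4 ⊕ Fin 4) F), Cfsg.Geo.IsFieldSubalgebra 2 K ∧ Cfsg.Geo.IsAdjointClosedFor (Cfsg.sympForm 4 F) K ∧ ¬ Cfsg.Geo.IsSelfAdjointFor (Cfsg.sympForm 4 F) K ∧ H = Cfsg.Geo.subalgebraNormalizer K ⊓ Cfsg.spGL 4 F) ∨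
    (Odd (Fintype.card F) ∧ ∃ (e : (Fin 4 ⊕ Fin 4) ≃ Fin 2 × Fin 4) (P : Matrix.GeneralLinearGroup (Fin 4 ⊕ Fin 4) F) (f₁ : (Fin 2 → F) → (Fin 2 → F) → F) (f₂ : (Fin 4 → F) → (Fin 4 → F) → F), Cfsg.Geo.IsSymplecticForm f₁ ∧ Cfsg.Geo.IsSymmetricForm f₂ ∧ ¬ Cfsg.Geo.IsPlusTypeOn (fun v : Fin 4 → F => f₂ v v) ⊤ ∧ Cfsg.Geo.IsTensorFormStructure id (Cfsg.sympForm 4 F) f₁ f₂ e P ∧ H = Cfsg.Geo.tensorProductSubgroup 2 4 e P ⊓ Cfsg.spGL 4 F) ∨
    (∃ (F₀ : Subfield F) (r : ℕ) (P : Matrix.GeneralLinearGroup (Fin 4 ⊕ Fin 4) F) (ζ : F), r.Prime ∧ Fintype.card F = Nat.card F₀ ^ r ∧ ζ ≠ 0 ∧ Cfsg.Geo.IsFormRationalStructure (Cfsg.sympForm 4 F) F₀ ζ P ∧ H = Cfsg.Geo.subfieldSubgroup F₀ P ⊓ Cfsg.spGL 4 F) ∨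
    (∃ (p : ℕ) (R : Subgroup (Matrix.GeneralLinearGroup (Fin 4 ⊕ Fin 4) F)), p.Prime ∧ Odd p ∧ Fintype.card F = p ∧ Cfsg.Geo.IsSymplecticTypeGroup 2 R ∧ Cfsg.Geo.ActsAbsolutelyIrreducibly (Cfsg.Geo.matrixSet R) ∧ R ≤ Cfsg.Geo.similarityGroup (Cfsg.sympForm 4 F) ∧ Nat.card R = 128 ∧ Nat.card (Subgroup.center R) = 2 ∧ Cfsg.Geo.IsOfMinusType 3 R ∧ H = Cfsg.Geo.subgroupNormalizer R ⊓ Cfsg.spGL 4 F) ∨
    (Odd (Fintype.card F) ∧ 5 ≤ Fintype.card F ∧ ∃ (e : (Fin 4 ⊕ Fin 4) ≃ (Fin 3 → Fin 2)) (P : Matrix.GeneralLinearGroup (Fin 4 ⊕ Fin 4) F) (f₁ : (Fin 2 → F) → (Fin 2 → F) → F), Cfsg.Geo.IsSymplecticForm f₁ ∧ Cfsg.Geo.IsTensorPowerFormStructure id (Cfsg.sympForm 4 F) f₁ e P ∧ H = Cfsg.Geo.tensorWreathSubgroup 2 3 e P ⊓ Cfsg.spGL 4 F) ∨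
    (¬ Odd (Fintype.card F) ∧ ∃ Q : (Fin 4 ⊕ Fin 4 → F) → F, Cfsg.Geo.IsNondegenerateQuadraticForm Q ∧ (∀ u v : (Fin 4 ⊕ Fin 4 → F), QuadraticMap.polar Q u v = (Cfsg.sympForm 4 F) u v) ∧ H = Cfsg.Geo.quadSimilarityGroup Q ⊓ Cfsg.spGL 4 F) ∨
    Cfsg.Geo.InSymplecticResidualClass H := by
  rcases sp_reduce (by norm_num) (by norm_num) hH with hres | ⟨X, hX, hle, heq⟩
  · iterate 12 right
    exact hres
  rcases hX with ⟨W, h0, h1, rfl⟩ | ⟨W, h0, h1, h2, rfl⟩ | ⟨t, k, D, h0, rfl⟩ | ⟨D, h0, h1, h2, rfl⟩ |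
    ⟨F₀, r, P, ζ, h0, h1, h2, h3, rfl⟩ | ⟨R, p, k, a, b, c, d, e, g, h', i, j, rfl, hk, -⟩ |
    ⟨Q, h0, h1, h2, rfl⟩ | ⟨r, K, h0, h1, h2, h3, rfl⟩ | ⟨K, h0, h1, h2, h3, rfl⟩ |
    ⟨n₁, n₂, e, P, f₁, f₂, h0, h1, h2, h3, h4, rfl⟩ | ⟨k, t, e, P, f₁, h0, h1, h2, h3, h4, h5, rfl⟩
  · exact Or.inl ⟨W, h0, h1, heq⟩
  · exact Or.inr (Or.inl ⟨W, h0, h1, h2, heq⟩)
  · obtain ⟨h, ht, c, rfl⟩ := sp_decomp_even h0
    have := h0.decomp.pos
    have hc : c ≤ 8 := by nlinarith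
    obtain ⟨rfl, rfl⟩ | ⟨rfl, rfl⟩ | ⟨rfl, rfl⟩ : (t = 4 ∧ c = 1) ∨ (t = 2 ∧ c = 2) ∨ (t = 1 ∧ c = 4) := by
      interval_cases c <;> omega
    · by_cases hF : 3 ≤ Fintype.card F
      · exact Or.inr (Or.inr (Or.inl ⟨hF, D, h0, heq⟩))
      · iterate 11 right
        exact Or.inl (sp_frame_two (by norm_num) (two_lt_of_prime_pow hF) hH h0 hle)
    · exact Or.inr (Or.inr (Or.inr (Or.inl ⟨D, h0, heq⟩)))
    · have := h0.decomp.two_le
      omega
  · exact Or.inr (Or.inr (Or.inr (Or.inr (Or.inl ⟨h0, D, h1, h2, heq⟩))))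
  · iterate 8 right
    exact Or.inl ⟨F₀, r, P, ζ, h0, h1, h2, h3, heq⟩
  · obtain rfl : k = 3 := pow_eq_iff_two (show 2 ^ k = 2 ^ 3 by rw [← hk]; norm_num)
    iterate 9 right
    exact Or.inl ⟨p, R, d, e, g, a, b, c, h', i, j, heq⟩
  · iterate 11 right
    exact Or.inl ⟨h0, Q, h1, h2, heq⟩
  · have hr : r ∣ 4 := sp_field_dvd h1 (by norm_num) h2 h3
    obtain rfl : r = 2 := (Nat.prime_dvd_prime_iff_eq h0 Nat.prime_two).1 (h0.dvd_of_dvd_pow (show r ∣ 2 ^ 2 from hr))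
    iterate 5 right
    exact Or.inl ⟨K, h1, h2, h3, heq⟩
  · iterate 6 right
    exact Or.inl ⟨h0, K, h1, h2, h3, heq⟩
  · obtain ⟨hc, a, rfl⟩ := tensor_dims e h2
    obtain ⟨rfl, rfl⟩ : a = 1 ∧ n₂ = 4 := by
      have ha : a ≤ 4 := by nlinarith
      interval_cases a <;> omega
    by_cases hp : IsPlusTypeOn (fun v : Fin 4 → F => f₂ v v) ⊤
    · obtain ⟨P', hT', hle'⟩ := plus_le_wreath h0 h2 h3 hp h4
      have hH' : H ≤ tensorWreathSubgroup 2 3 (e.trans cubeEquiv) P' ⊓ spGL 4 F :=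
        le_inf ((le_of_eq heq).trans hle') hH.1.le
      have hf : IsSymplecticForm (formOfGram (id : F → F) (alt2 : Matrix (Fin 2) (Fin 2) F)) := CfsgLib.Aschbacher.symplectic_of_gram (alt2_unit (F := F)) alt2_transpose alt2_diag
      by_cases hF : 5 ≤ Fintype.card F
      · iterate 10 right
        refine Or.inl ⟨h0, hF, e.trans cubeEquiv, P', _, hf, hT', sp_eq_inf hH (hH'.trans inf_le_left) ?_⟩
        exact sp_shape_not_le (by norm_num) (by norm_num) (Or.inr (Or.inr (Or.inr (Or.inr (Or.inr (Or.inr (Or.inr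
          (Or.inr (Or.inr (Or.inr ⟨2, 3, e.trans cubeEquiv, P', _, h0, by decide, le_rfl,
            fun h => by omega, hf, hT', rfl⟩))))))))))
      · have hF3 : Fintype.card F = 3 := by
          obtain ⟨i, hi⟩ := h0
          have := Fintype.one_lt_card (α := F)
          omega
        obtain ⟨R, p, k, a, b, c, d, e', g, h', i, j, hk, hcomm, hle''⟩ := cube_le_normalizer hF3 hf hT'
        obtain rfl : k = 3 := pow_eq_iff_two (show 2 ^ k = 2 ^ 3 by rw [← hk]; norm_num)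
        have heq' := sp_eq_inf hH (hH'.trans hle'') (sp_shape_not_le (by norm_num) (by norm_num)
          (Or.inr (Or.inr (Or.inr (Or.inr (Or.inr (Or.inl ⟨R, p, 3, a, b, c, d, e', g, h', i, j, rfl, hk, hcomm⟩)))))))
        iterate 9 right
        exact Or.inl ⟨p, R, d, e', g, a, b, c, h', i, j, heq'⟩
    · iterate 7 right
      exact Or.inl ⟨h0, e, P, f₁, f₂, h2, h3, hp, h4, heq⟩
  · have hcard : 8 = k ^ t := by simpa using Fintype.card_congr e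
    have hk2 : k ≤ 2 := by
      by_contra hk
      have h27 : 3 ^ 3 ≤ k ^ t := le_trans (Nat.pow_le_pow_left (by omega) 3) (Nat.pow_le_pow_right (by omega) h2)
      omega
    obtain rfl : k = 2 := by
      interval_cases k
      · rw [zero_pow (by omega)] at hcard; omega
      · rw [one_pow] at hcard; omega
      · rfl
    obtain rfl : t = 3 := (pow_eq_iff_two (show 2 ^ 3 = 2 ^ t by rw [← hcard]; norm_num)).symm
    have hF : 5 ≤ Fintype.card F := by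
      obtain ⟨i, hi⟩ := h0
      have h1' := Fintype.one_lt_card (α := F)
      by_contra hlt
      exact h3 ⟨by omega, rfl⟩
    iterate 10 right
    exact Or.inl ⟨h0, hF, e, P, f₁, h4, h5, heq⟩

end Cfsg.Agent.S5823
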