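import Cfsg.Statements.S5825
import Cfsg.Agent.Lib.OrthMax.Apps
import Cfsg.Agent.Lib.OrthMax.NondegFour
import Cfsg.Agent.Lib.OrthMax.EvenRows
import Cfsg.Agent.Lib.OrthField.Bridge

set_option autoImplicit false
open Cfsg

namespace Cfsg.Agent.S5825

/-- Maximal subgroups of Ω_8^-(q) of geometric type (any q). Let F be a finite field with q elements, Q a non-degenerate quadratic form on F^8 (non-degenerate polar form) of minus type (Witt index 3: no totally singular 4-space), and Ω = Ω_8^-(q) the commutator subgroup of the isometry group of Q, inside GL_8(F). Each of the following, intersected with Ω, is a maximal subgroup of Ω: (1) the stabiliser of any non-zero subspace on which Q vanishes identically (totally singular 1-, 2- and 3-spaces); (2) for q odd, the stabiliser of any proper subspace of odd dimension (1, 3, 5 or 7) on which the polar form of Q is non-degenerate; (3) the stabiliser of any non-degenerate 2-space of minus type (containing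 no non-zero singular vector); (4) for q ≥ 4, the stabiliser of any non-degenerate 2-space of plus type (containing a non-zero singular vector); (5) the stabiliser of any non-degenerate 4-space (its orthogonal complement is then a non-degenerate 4-space of the opposite type); (6) for q even, the stabiliser of the 1-space spanned by any non-singular vector v (Q(v) ≠ 0); (7) for q odd, the normaliser of any degree-2 subfield K of the matrix algebra whose elements are self-adjoint for the polar form of Q (Q is then the trace of a quadratic form over K); (8) every subfield group for a subfield F₀ of odd prime index r in F whose F₀-structure carries a non-zero scalar multiple of Q. -/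
theorem result {F : Type*} [Field F] [Fintype F] (Q : (Fin 8 → F) → F) (hQ : Cfsg.Geo.IsNondegenerateQuadraticForm Q) (hminus : ¬ Cfsg.Geo.IsPlusTypeOn Q ⊤) :
    (∀ W : Submodule F (Fin 8 → F), W ≠ ⊥ → Cfsg.Geo.IsTotallySingularQuad Q W → Cfsg.Geo.IsMaximalIn (Cfsg.Geo.omegaGL Q) (Cfsg.Geo.subspaceStabilizer W ⊓ Cfsg.Geo.omegaGL Q)) ∧
    (Odd (Fintype.card F) → ∀ W : Submodule F (Fin 8 → F), W ≠ ⊥ → W ≠ ⊤ → Odd (Module.finrank F W) → Cfsg.Geo.IsNondegenerateOn (QuadraticMap.polar Q) W → Cfsg.Geo.IsMaximalIn (Cfsg.Geo.omegaGL Q) (Cfsg.Geo.subspaceStabilizer W ⊓ Cfsg.Geo.omegaGL Q)) ∧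
    (∀ W : Submodule F (Fin 8 → F), Module.finrank F W = 2 → Cfsg.Geo.IsNondegenerateOn (QuadraticMap.polar Q) W → ¬ Cfsg.Geo.IsPlusTypeOn Q W → Cfsg.Geo.IsMaximalIn (Cfsg.Geo.omegaGL Q) (Cfsg.Geo.subspaceStabilizer W ⊓ Cfsg.Geo.omegaGL Q)) ∧
    (4 ≤ Fintype.card F → ∀ W : Submodule F (Fin 8 → F), Module.finrank F W = 2 → Cfsg.Geo.IsNondegenerateOn (QuadraticMap.polar Q) W → Cfsg.Geo.IsPlusTypeOn Q W → Cfsg.Geo.IsMaximalIn (Cfsg.Geo.omegaGL Q) (Cfsg.Geo.subspaceStabilizer W ⊓ Cfsg.Geo.omegaGL Q)) ∧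
    (∀ W : Submodule F (Fin 8 → F), Module.finrank F W = 4 → Cfsg.Geo.IsNondegenerateOn (QuadraticMap.polar Q) W → Cfsg.Geo.IsMaximalIn (Cfsg.Geo.omegaGL Q) (Cfsg.Geo.subspaceStabilizer W ⊓ Cfsg.Geo.omegaGL Q)) ∧
    (¬ Odd (Fintype.card F) → ∀ v : (Fin 8 → F), Q v ≠ 0 → Cfsg.Geo.IsMaximalIn (Cfsg.Geo.omegaGL Q) (Cfsg.Geo.subspaceStabilizer (Submodule.span F {v}) ⊓ Cfsg.Geo.omegaGL Q)) ∧
    (Odd (Fintype.card F) → ∀ K : Subalgebra F (Matrix (Fin 8) (Fin 8) F), Cfsg.Geo.IsFieldSubalgebra 2 K → Cfsg.Geo.IsSelfAdjointFor (QuadraticMap.polar Q) K → Cfsg.Geo.IsMaximalIn (Cfsg.Geo.omegaGL Q) (Cfsg.Geo.subalgebraNormalizer K ⊓ Cfsg.Geo.omegaGL Q)) ∧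
    (∀ (F₀ : Subfield F) (r : ℕ) (P : Matrix.GeneralLinearGroup (Fin 8) F) (ζ : F), r.Prime → Odd r → Fintype.card F = Nat.card F₀ ^ r → ζ ≠ 0 → Cfsg.Geo.IsQuadFormRationalStructure (fun v : Fin 8 → F => ζ * Q v) F₀ P → Cfsg.Geo.IsMaximalIn (Cfsg.Geo.omegaGL Q) (Cfsg.Geo.subfieldSubgroup F₀ P ⊓ Cfsg.Geo.omegaGL Q)) := by
  obtain ⟨Q', rfl, hQ'⟩ := CfsgLib.Geometry.exists_quadraticForm hQ
  have h2of : Odd (Fintype.card F) → (2 : F) ≠ 0 := fun h =>
    CfsgLib.Geometry.two_ne_zero_of_odd_card rfl h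
  have h2ev : ¬ Odd (Fintype.card F) → (2 : F) = 0 := fun hc => by
    by_contra h2
    exact hc (Nat.odd_iff.2 (FiniteField.odd_card_of_char_ne_two (F := F) fun h => h2 (by
      haveI := ringChar.of_eq h
      exact CharTwo.two_eq_zero)))
  have hperp := fun W => CfsgLib.Geometry.finrank_polarPerp hQ' (W : Submodule F (Fin 8 → F))
  have hV : Module.finrank F (Fin 8 → F) = 8 := by simp
  have hcard : Fintype.card (Fin 8) = 8 := Fintype.card_fin 8
  -- no totally singular subspace of dimension four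
  have hno4 : ∀ U : Submodule F (Fin 8 → F), (∀ u ∈ U, Q' u = 0) → Module.finrank F U ≠ 4 := fun U hU h4 =>
    hminus ⟨U, le_top, hU, by rw [h4, finrank_top, hV]⟩
  have hndo : ∀ W : Submodule F (Fin 8 → F), Cfsg.Geo.IsNondegenerateOn (QuadraticMap.polar ⇑Q') W →
      W ⊓ CfsgLib.Geometry.polarPerp Q' W = ⊥ := fun W hW => CfsgLib.OrthMax.nd_of_isNondegenerateOn hW
  have ndim : ∀ (W : Submodule F (Fin 8 → F)) (d : ℕ), Module.finrank F W = d → 0 < d → d < 8 →
      W ≠ ⊥ ∧ W ≠ ⊤ := fun W d hd h0 h1 =>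
    ⟨fun e => by rw [e, finrank_bot] at hd; omega, fun e => by rw [e, finrank_top, hV] at hd; omega⟩
  -- planes
  have plane : ∀ W : Submodule F (Fin 8 → F), Module.finrank F W = 2 →
      Cfsg.Geo.IsNondegenerateOn (QuadraticMap.polar ⇑Q') W →
      ¬ (Nat.card F ≤ 3 ∧ ∃ z ∈ W, z ≠ 0 ∧ Q' z = 0) →
      Cfsg.Geo.IsMaximalIn (Cfsg.Geo.omegaGL ⇑Q') (Cfsg.Geo.subspaceStabilizer W ⊓ Cfsg.Geo.omegaGL ⇑Q') := by
    intro W hd hW hex
    obtain ⟨h0, h1⟩ := ndim W 2 hd (by norm_num) (by norm_num)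
    have hd' := hperp W
    refine CfsgLib.OrthMax.nondeg_maximal_of_stab hQ' (by simp) h0 h1 (Or.inr rfl) fun M hle hst hne =>
      CfsgLib.OrthMax.nondeg_stab_max hQ' (CfsgLib.Geometry.inf_polarPerp_perp hQ' (hndo W hW)) (by omega)
        (fun g _ hgU => ?_) ?_ hle hst hne
    · have h3 : (CfsgLib.Geometry.polarPerp Q' W).map g.toLinearMap ≤
          CfsgLib.Geometry.polarPerp Q' (CfsgLib.Geometry.polarPerp Q' W) := by
        rintro _ ⟨u, hu, rfl⟩; exact hgU u hu
      have h4 := Submodule.finrank_mono h3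
      rw [LinearEquiv.finrank_map_eq, CfsgLib.OrthMax.polarPerp_polarPerp hQ'] at h4
      omega
    · rw [CfsgLib.OrthMax.polarPerp_polarPerp hQ']
      exact fun h => hex ⟨h.1, h.2.2⟩
  refine ⟨fun W hW0 hW => CfsgLib.OrthMax.singular_maximal hQ' (by simp) hW0 hW (fun u hu hQu hWu h => ?_),
    fun hodd W h0 h1 hWo hW => ?_, fun W hd hW hnp => ?_, fun hq W hd hW _ => ?_, fun W hd hW => ?_,
    fun hc v hv => CfsgLib.OrthMax.line_maximal hQ' (by simp) (h2ev hc) hv,
    fun hodd K hK hsa => CfsgLib.OrthField.orth_field_maximal_core hQ' (h2of hodd) Nat.prime_two hK hsa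
      (by simp) (Or.inr ⟨rfl, hcard, hno4⟩),
    fun F₀ r P ζ hr _ hc hζ hP =>
      CfsgLib.OrthMax.subfield_even_maximal le_rfl (by decide) _ hQ F₀ r hr hc P ζ hζ hP⟩
  · refine hno4 (W ⊔ Submodule.span F {u}) (fun v hv => ?_) ?_
    · obtain ⟨w, hw, y, hy, rfl⟩ := Submodule.mem_sup.1 hv
      obtain ⟨c, rfl⟩ := Submodule.mem_span_singleton.1 hy
      rw [CfsgLib.Geometry.map_add', CfsgLib.Geometry.map_smul', QuadraticMap.polar_smul_right, hQu, hW w hw,
        hWu w hw]
      simp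
    · have hu0 : u ≠ 0 := fun e => hu (e ▸ W.zero_mem)
      have h1 := Submodule.finrank_sup_add_finrank_inf_eq W (Submodule.span F {u})
      rw [(Submodule.disjoint_span_singleton' hu0).2 hu |>.eq_bot, finrank_bot, finrank_span_singleton hu0] at h1
      rw [Fintype.card_fin] at h; omega
  · obtain ⟨k, hk⟩ := hWo
    refine CfsgLib.OrthMax.nondeg_maximal_core hQ' (Or.inr (Or.inl ⟨h2of hodd, by simp⟩)) h0 h1 (hndo W hW)
      (fun g _ _ h => by rw [hcard] at h; omega) (fun h => by omega) fun h => ?_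
    have := hperp W; omega
  · refine plane W hd hW ?_
    rintro ⟨-, z, hz, hz0, hQz⟩
    refine hnp ⟨Submodule.span F {z}, by rwa [Submodule.span_singleton_le_iff_mem], fun w hw => ?_, ?_⟩
    · obtain ⟨c, rfl⟩ := Submodule.mem_span_singleton.1 hw
      rw [CfsgLib.Geometry.map_smul', hQz, mul_zero]
    · rw [finrank_span_singleton hz0, hd]
  · exact plane W hd hW fun h => by rw [Nat.card_eq_fintype_card] at h; omega
  · obtain ⟨h0, h1⟩ := ndim W 4 hd (by norm_num) (by norm_num)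
    have hd' := hperp W
    have hn8 : 5 ≤ Module.finrank F (Fin 8 → F) := by omega
    have hWW := CfsgLib.OrthMax.polarPerp_polarPerp hQ' W
    -- one of the two has no singular plane
    obtain ⟨U, hor, hno⟩ : ∃ U, (U = W ∨ U = CfsgLib.Geometry.polarPerp Q' W) ∧
        ∀ X ≤ U, (∀ x ∈ X, Q' x = 0) → Module.finrank F X ≠ 2 := by
      by_contra hcon
      push Not at hcon
      obtain ⟨X, hX, hXs, hXd⟩ := hcon W (Or.inl rfl)
      obtain ⟨Y, hY, hYs, hYd⟩ := hcon _ (Or.inr rfl)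
      refine hno4 (X ⊔ Y) (fun v hv => ?_) ?_
      · obtain ⟨x, hx, y, hy, rfl⟩ := Submodule.mem_sup.1 hv
        rw [CfsgLib.Geometry.map_add', hXs x hx, hYs y hy, CfsgLib.Geometry.mem_polarPerp.1 (hY hy) x (hX hx)]
        simp
      · have h3 := Submodule.finrank_sup_add_finrank_inf_eq X Y
        have hXY : X ⊓ Y = ⊥ := eq_bot_iff.2 fun x hx => (hndo W hW).le ⟨hX hx.1, hY hx.2⟩
        rw [hXY, finrank_bot] at h3
        omega
    have hU : U ⊓ CfsgLib.Geometry.polarPerp Q' U = ⊥ := by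
      rcases hor with rfl | rfl
      exacts [hndo U hW, CfsgLib.Geometry.inf_polarPerp_perp hQ' (hndo W hW)]
    have hUd : Module.finrank F U = 4 := by rcases hor with rfl | rfl <;> omega
    refine CfsgLib.OrthMax.nondeg_maximal_of_stab hQ' (by simp) h0 h1 hor fun M hle hst hne => ?_
    have hswap : ∀ g ∈ CfsgLib.Geometry.orth Q', ∀ _ : ∀ u ∈ U, g u ∈ CfsgLib.Geometry.polarPerp Q' U, False := by
      intro g hg hgU
      obtain ⟨S, hS, hSd⟩ := CfsgLib.OrthMax.exists_singular_half hU (by rw [hUd]; decide) hg hgU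
      exact hno4 S hS (hSd.trans hUd)
    have hexc : ¬ (Nat.card F ≤ 3 ∧ Module.finrank F (CfsgLib.Geometry.polarPerp Q' U) = 2 ∧
        ∃ z ∈ CfsgLib.Geometry.polarPerp Q' U, z ≠ 0 ∧ Q' z = 0) := fun h => by
      have := hperp U; omega
    by_cases h2 : (2 : F) = 0
    · exact CfsgLib.OrthMax.nondeg_stab_max_four h2 hQ' hn8 hU hUd hno hswap hexc hle hst hne
    · exact CfsgLib.OrthMax.nondeg_stab_max_odd h2 hQ' hn8 hU (by omega) hswap hexc hle hst hne

end Cfsg.Agent.S5825
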