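import Cfsg.Statements.S5826
import Cfsg.Agent.Lib.AschbacherOrth.SymThreeFour
import Cfsg.Agent.Lib.AschbacherOrth.Eight

set_option autoImplicit false
open Cfsg CfsgLib CfsgLib.AschbacherOrth

namespace Cfsg.Agent.S5826

/-- Every maximal subgroup of Ω_8^-(q) is of one of the listed geometric types or lies in the residual class. Let F be a finite field with q elements, Q a non-degenerate quadratic form on F^8 of minus type (no totally singular 4-space), Ω the commutator subgroup of its isometry group, and H a maximal subgroup of Ω (inside GL_8(F)). Then H is the intersection with Ω of one of: the stabiliser of a non-zero totally singular subspace; for q odd, the stabiliser of a non-degenerate subspace of odd dimension; the stabiliser of a non-degenerate 2-space of minus type; for q ≥ 4, the stabiliser of a non-degenerate 2-space of plus type; the stabiliser of a non-degenerate 4-space; for q even, the stabiliser of the span of a non-singular vector;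 the normaliser of a degree-2 subfield of the matrix algebra; a subfield group of odd prime index whose F₀-structure carries a non-zero multiple of Q — or else H lies in the residual class of the orthogonal case (modulo scalars H is almost simple, with absolutely irreducible perfect socle preimage realisable over no proper subfield and fixing no non-degenerate unitary form). -/
theorem result {F : Type*} [Field F] [Fintype F] (Q : (Fin 8 → F) → F) (hQ : Cfsg.Geo.IsNondegenerateQuadraticForm Q) (hminus : ¬ Cfsg.Geo.IsPlusTypeOn Q ⊤) (H : Subgroup (Matrix.GeneralLinearGroup (Fin 8) F)) (hH : Cfsg.Geo.IsMaximalIn (Cfsg.Geo.omegaGL Q) H) :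
    (∃ W : Submodule F (Fin 8 → F), W ≠ ⊥ ∧ Cfsg.Geo.IsTotallySingularQuad Q W ∧ H = Cfsg.Geo.subspaceStabilizer W ⊓ Cfsg.Geo.omegaGL Q) ∨
    (Odd (Fintype.card F) ∧ ∃ W : Submodule F (Fin 8 → F), W ≠ ⊥ ∧ W ≠ ⊤ ∧ Odd (Module.finrank F W) ∧ Cfsg.Geo.IsNondegenerateOn (QuadraticMap.polar Q) W ∧ H = Cfsg.Geo.subspaceStabilizer W ⊓ Cfsg.Geo.omegaGL Q) ∨
    (∃ W : Submodule F (Fin 8 → F), Module.finrank F W = 2 ∧ Cfsg.Geo.IsNondegenerateOn (QuadraticMap.polar Q) W ∧ ¬ Cfsg.Geo.IsPlusTypeOn Q W ∧ H = Cfsg.Geo.subspaceStabilizer W ⊓ Cfsg.Geo.omegaGL Q) ∨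
    (4 ≤ Fintype.card F ∧ ∃ W : Submodule F (Fin 8 → F), Module.finrank F W = 2 ∧ Cfsg.Geo.IsNondegenerateOn (QuadraticMap.polar Q) W ∧ Cfsg.Geo.IsPlusTypeOn Q W ∧ H = Cfsg.Geo.subspaceStabilizer W ⊓ Cfsg.Geo.omegaGL Q) ∨
    (∃ W : Submodule F (Fin 8 → F), Module.finrank F W = 4 ∧ Cfsg.Geo.IsNondegenerateOn (QuadraticMap.polar Q) W ∧ H = Cfsg.Geo.subspaceStabilizer W ⊓ Cfsg.Geo.omegaGL Q) ∨
    (¬ Odd (Fintype.card F) ∧ ∃ v : (Fin 8 → F), Q v ≠ 0 ∧ H = Cfsg.Geo.subspaceStabilizer (Submodule.span F {v}) ⊓ Cfsg.Geo.omegaGL Q) ∨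
    (∃ K : Subalgebra F (Matrix (Fin 8) (Fin 8) F), Cfsg.Geo.IsFieldSubalgebra 2 K ∧ H = Cfsg.Geo.subalgebraNormalizer K ⊓ Cfsg.Geo.omegaGL Q) ∨
    (∃ (F₀ : Subfield F) (r : ℕ) (P : Matrix.GeneralLinearGroup (Fin 8) F) (ζ : F), r.Prime ∧ Odd r ∧ Fintype.card F = Nat.card F₀ ^ r ∧ ζ ≠ 0 ∧ Cfsg.Geo.IsQuadFormRationalStructure (fun v : Fin 8 → F => ζ * Q v) F₀ P ∧ H = Cfsg.Geo.subfieldSubgroup F₀ P ⊓ Cfsg.Geo.omegaGL Q) ∨
    Cfsg.Geo.InOrthogonalResidualClass H := by
  classical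
  obtain ⟨Q', rfl, hQ'⟩ := Geometry.exists_quadraticForm hQ
  have hι : Fintype.card (Fin 8) = 8 := Fintype.card_fin 8
  have h5 : 5 ≤ Fintype.card (Fin 8) := by omega
  have hS : ∀ {X : Subgroup (Matrix.GeneralLinearGroup (Fin 8) F)}, ¬ SiegelIn Q' X → ¬ Geo.omegaGL ⇑Q' ≤ X :=
    fun h h' => h (siegelIn_of_omega_le hQ' h5 h')
  have hI : H ≤ isometryGroup F ⇑Q' := hH.1.le.trans (omega_le_isometry _)
  have hsq : ∀ d : ℕ, d * d ≠ Fintype.card (Fin 8) := fun d h => by
    rw [hι] at h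
    have : d < 3 := by nlinarith
    interval_cases d <;> omega
  rcases even_cases hQ' (by omega) hsq hI with ⟨U, hU0, hU, hle⟩ | ⟨hq, v, hv, hle⟩ | ⟨U, hU0, hU1, hU, hd, hbad, hle⟩ |
    ⟨-, hcl⟩
  · exact Or.inl ⟨U, hU0, hU, eq_inf_of_maximal hH hle (hS (SiegelIn.not_stab hQ' (by omega) hU0 (finrank_lt_of_nondeg hQ' hU)))⟩
  · have hv0 : v ≠ 0 := fun e => hv (by rw [e, QuadraticMap.map_zero])
    have h1 := finrank_span_singleton (K := F) hv0
    refine Or.inr (Or.inr (Or.inr (Or.inr (Or.inr (Or.inl ⟨hq, v, hv, eq_inf_of_maximal hH hle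
      (hS (SiegelIn.not_stab hQ' (by omega) (fun e => ?_) fun e => ?_))⟩)))))
    · rw [e, finrank_bot] at h1; omega
    · rw [e, finrank_top, Module.finrank_fintype_fun_eq_card, hι] at h1; omega
  · have he := eq_inf_of_maximal hH hle (hS (SiegelIn.not_stab hQ' (by omega) hU0 hU1))
    rcases Nat.even_or_odd (Module.finrank F U) with hev | ho
    swap
    · exact Or.inr (Or.inl ⟨odd_card_of_odd_dim hU ho, U, hU0, hU1, ho, hU, he⟩)
    have h0 : Module.finrank F U ≠ 0 := fun e => hU0 (Submodule.finrank_eq_zero.1 e)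
    obtain h | h : Module.finrank F U = 2 ∨ Module.finrank F U = 4 := by
      obtain ⟨a, ha⟩ := hev
      omega
    · by_cases hp : Geo.IsPlusTypeOn ⇑Q' U
      · exact Or.inr (Or.inr (Or.inr (Or.inl ⟨not_lt.1 fun hlt => hbad ⟨by omega, h, hp⟩, U, h, hU, hp, he⟩)))
      · exact Or.inr (Or.inr (Or.inl ⟨U, h, hU, hp, he⟩))
    · exact Or.inr (Or.inr (Or.inr (Or.inr (Or.inl ⟨U, h, hU, he⟩))))
  cases hcl with
  | decomp t k D hD htk hle =>
    exfalso
    have ht := hD.decomp.decomp.two_le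
    have hk0 := hD.decomp.decomp.pos
    have hk4 : k ≤ 4 := by nlinarith
    have ht8 : t ≤ 8 := by nlinarith
    rw [hι] at htk
    obtain ⟨rfl, rfl⟩ | ⟨rfl, rfl⟩ | ⟨rfl, rfl⟩ : (t = 8 ∧ k = 1) ∨ (t = 4 ∧ k = 2) ∨ (t = 2 ∧ k = 4) := by
      interval_cases k <;> omega
    · have h2 : (2 : F) ≠ 0 := fun h => by
        have h1 := even_of_char_two h (hD.decomp.nondegenerate 0) (Q := Q')
        rw [hD.decomp.decomp.finrank_eq] at h1
        exact Nat.not_even_one h1
      exact hminus ((frame_plus_iff h2 hQ' (m := 4) (by simp) (D := D ∘ Fin.cast hι) hD).2 (isSquare_of_halves ⟨2, rfl⟩))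
    · exact hminus ((type_even hQ' hD.decomp even_two hD.isometric).1 ⟨2, rfl⟩)
    · exact hminus ((type_even hQ' hD.decomp ⟨2, rfl⟩ hD.isometric).1 ⟨1, rfl⟩)
  | pair k D hk hD hs hle => exact absurd (plus_of_pair hk hD hs) hminus
  | field r K hr hdvd hK hadj hle =>
    rw [hι, show 8 = 2 ^ 3 from rfl] at hdvd
    obtain rfl := (Nat.prime_dvd_prime_iff_eq hr Nat.prime_two).1 (hr.dvd_of_dvd_pow hdvd)
    iterate 6 right
    exact Or.inl ⟨K, hK, eq_inf_of_maximal hH hle (not_field hQ' h5 le_rfl hK)⟩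
  | altTensor h => exact absurd (h.plus (by omega)) hminus
  | symTensor h =>
    exfalso
    obtain ⟨d, k, e, P, S, T, -, hd, hdk, -⟩ := h
    have hc : 8 = d * k := by simpa using Fintype.card_congr e
    nlinarith
  | abelian N h => exact absurd (abelian_plus hQ' (m := 4) hι ⟨2, rfl⟩ (by norm_num) hI h) hminus
  | factors d s φ h => exact absurd (factors_plus hQ' hι hI h) hminus
  | subfield h =>
    obtain ⟨F₁, r, B, ζ, hr, hro, hc, hζ, hrat, hle⟩ := subfield_odd_of_minus hQ' (m := 3) hι hminus h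
    iterate 7 right
    exact Or.inl ⟨F₁, r, B, ζ, hr, hro, hc, hζ, hrat,
      eq_inf_of_maximal hH hle (hS (not_subfield hQ' h5 (subfield_ne_top hr hc) B))⟩
  | residual h =>
    iterate 8 right
    exact h

end Cfsg.Agent.S5826
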