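import Cfsg.Statements.S5832
import Cfsg.Agent.Lib.AschbacherForm.Cases.UnitNum
-- import your own Cfsg.Agent.* helpers here

set_option autoImplicit false
open Cfsg

namespace Cfsg.Agent.S5832

open Cfsg Cfsg.Geo CfsgLib.AschbacherForm CfsgLib.AschbacherForm.Cases

/-- Every maximal subgroup of SU_9(q) is of one of the listed geometric types or lies in the residual class. Let F be the field with q² elements, f the standard unitary form Σ u_i v_i^q on F^9, and H a maximal subgroup of SU_9(q) (inside GL_9(F)). Then H is the intersection with SU_9(q) of one of: the stabiliser of a non-zero totally isotropic subspace; the stabiliser of a non-degenerate 1-, 2-, 3- or 4-space; the stabiliser of a decomposition into nine mutually orthogonal non-degenerate 1-spaces; of a decomposition into three mutually orthogonal non-degenerate 3-spaces; the normaliser of an adjoint-closed degree-3 subfield of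 the matrix algebra; a subfield group of odd prime index whose F₀-structure carries f; for q odd, a subfield group of index 2 whose F₀-structure carries f; for q = p ≡ 2 mod 3 prime, the normaliser of an absolutely irreducible extraspecial group 3_+^(1+4) of exponent 3 inside the similarity group of f; for q ≥ 3, the stabiliser of a tensor decomposition of f as a tensor square of a unitary form on F^3 — or else H lies in the residual class of the unitary case. -/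
theorem result {F : Type*} [Field F] [Fintype F] (q : ℕ) (hF : Fintype.card F = q ^ 2) (H : Subgroup (Matrix.GeneralLinearGroup (Fin 9) F)) (hH : Cfsg.Geo.IsMaximalIn (Cfsg.GU 9 F q ⊓ Cfsg.Geo.specialLinear (Fin 9) F) H) :
    (∃ W : Submodule F (Fin 9 → F), W ≠ ⊥ ∧ Cfsg.Geo.IsTotallySingularFor (Cfsg.hermForm 9 F q) W ∧ H = Cfsg.Geo.subspaceStabilizer W ⊓ (Cfsg.GU 9 F q ⊓ Cfsg.Geo.specialLinear (Fin 9) F)) ∨
    (∃ W : Submodule F (Fin 9 → F), W ≠ ⊥ ∧ Cfsg.Geo.IsNondegenerateOn (Cfsg.hermForm 9 F q) W ∧ 2 * Module.finrank F W < 9 ∧ H = Cfsg.Geo.subspaceStabilizer W ⊓ (Cfsg.GU 9 F q ⊓ Cfsg.Geo.specialLinear (Fin 9) F)) ∨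
    (∃ D : Fin 9 → Submodule F (Fin 9 → F), Cfsg.Geo.IsNondegenerateMDecomposition (Cfsg.hermForm 9 F q) 1 D ∧ H = Cfsg.Geo.decompositionStabilizer D ⊓ (Cfsg.GU 9 F q ⊓ Cfsg.Geo.specialLinear (Fin 9) F)) ∨
    (∃ D : Fin 3 → Submodule F (Fin 9 → F), Cfsg.Geo.IsNondegenerateMDecomposition (Cfsg.hermForm 9 F q) 3 D ∧ H = Cfsg.Geo.decompositionStabilizer D ⊓ (Cfsg.GU 9 F q ⊓ Cfsg.Geo.specialLinear (Fin 9) F)) ∨
    (∃ K : Subalgebra F (Matrix (Fin 9) (Fin 9) F), Cfsg.Geo.IsFieldSubalgebra 3 K ∧ Cfsg.Geo.IsAdjointClosedFor (Cfsg.hermForm 9 F q) K ∧ H = Cfsg.Geo.subalgebraNormalizer K ⊓ (Cfsg.GU 9 F q ⊓ Cfsg.Geo.specialLinear (Fin 9) F)) ∨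
    (∃ (F₀ : Subfield F) (r : ℕ) (P : Matrix.GeneralLinearGroup (Fin 9) F), r.Prime ∧ Odd r ∧ Fintype.card F = Nat.card F₀ ^ r ∧ Cfsg.Geo.IsFormRationalStructure (Cfsg.hermForm 9 F q) F₀ 1 P ∧ H = Cfsg.Geo.subfieldSubgroup F₀ P ⊓ (Cfsg.GU 9 F q ⊓ Cfsg.Geo.specialLinear (Fin 9) F)) ∨
    (Odd q ∧ ∃ (F₀ : Subfield F) (P : Matrix.GeneralLinearGroup (Fin 9) F), Fintype.card F = Nat.card F₀ ^ 2 ∧ Cfsg.Geo.IsFormRationalStructure (Cfsg.hermForm 9 F q) F₀ 1 P ∧ H = Cfsg.Geo.subfieldSubgroup F₀ P ⊓ (Cfsg.GU 9 F q ⊓ Cfsg.Geo.specialLinear (Fin 9) F)) ∨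
    (∃ (p : ℕ) (R : Subgroup (Matrix.GeneralLinearGroup (Fin 9) F)), p.Prime ∧ q = p ∧ p % 3 = 2 ∧ Cfsg.Geo.IsSymplecticTypeGroup 3 R ∧ Cfsg.Geo.ActsAbsolutelyIrreducibly (Cfsg.Geo.matrixSet R) ∧ R ≤ Cfsg.Geo.similarityGroup (Cfsg.hermForm 9 F q) ∧ Nat.card R = 243 ∧ Nat.card (Subgroup.center R) = 3 ∧ H = Cfsg.Geo.subgroupNormalizer R ⊓ (Cfsg.GU 9 F q ⊓ Cfsg.Geo.specialLinear (Fin 9) F)) ∨
    (3 ≤ q ∧ ∃ (e : Fin 9 ≃ (Fin 2 → Fin 3)) (P : Matrix.GeneralLinearGroup (Fin 9) F) (f₁ : (Fin 3 → F) → (Fin 3 → F) → F), Cfsg.Geo.IsUnitaryFormPow q f₁ ∧ Cfsg.Geo.IsTensorPowerFormStructure (fun x : F => x ^ q) (Cfsg.hermForm 9 F q) f₁ e P ∧ H = Cfsg.Geo.tensorWreathSubgroup 3 2 e P ⊓ (Cfsg.GU 9 F q ⊓ Cfsg.Geo.specialLinear (Fin 9) F)) ∨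
    Cfsg.Geo.InUnitaryResidualClass H := by
  obtain ⟨τ, hU⟩ := exists_uform hF 9
  rcases su_reduce hU (by norm_num) (by norm_num) hH with hres | ⟨X, hX, hle, heq⟩
  · iterate 9 right
    exact hres
  rcases hX with ⟨W, h0, h1, rfl⟩ | ⟨W, h0, h1, h2, rfl⟩ | ⟨t, k, D, h0, rfl⟩ | ⟨k, D, h0, h1, h2, rfl⟩ |
    ⟨F₀, r, P, h0, h1, h2, h3, rfl⟩ | ⟨F₀, P, h0, h1, h2, rfl⟩ | ⟨F₀, P, ζ, h0, h1, h2, h3, h4, h5, rfl⟩ |
    ⟨r, R, p, e, k, a, b, c, d, g, i, rfl, hnk, hz, hGU, -⟩ |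
    ⟨r, K, h0, h1, h2, h3, rfl⟩ | ⟨n₁, n₂, e, P, f₁, f₂, h0, h1, h2, h3, h4, rfl⟩ |
    ⟨k, t, e, P, f₁, h0, h1, h2, h3, h4, rfl⟩
  · exact Or.inl ⟨W, h0, h1, heq⟩
  · exact Or.inr (Or.inl ⟨W, h0, h1, h2, heq⟩)
  · obtain ⟨h, ht, hk⟩ := unit_eq_card h0
    have hk4 : k ≤ 4 := by nlinarith
    obtain ⟨rfl, rfl⟩ | ⟨rfl, rfl⟩ : (t = 9 ∧ k = 1) ∨ (t = 3 ∧ k = 3) := by
      interval_cases k <;> omega
    · exact Or.inr (Or.inr (Or.inl ⟨D, h0, heq⟩))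
    · exact Or.inr (Or.inr (Or.inr (Or.inl ⟨D, h0, heq⟩)))
  · omega
  · iterate 5 right
    exact Or.inl ⟨F₀, r, P, h0, h1, h2, h3, heq⟩
  · iterate 6 right
    exact Or.inl ⟨h0, F₀, P, h1, h2, heq⟩
  · exact absurd h0 (by decide)
  · have hk1 : 1 ≤ k := by
      rcases k with _ | k
      · simp at hnk
      · omega
    obtain rfl : r = 3 := (Nat.prime_dvd_prime_iff_eq a.prime Nat.prime_three).1
      (a.prime.dvd_of_dvd_pow (show r ∣ 3 ^ 2 by
        rw [show (3 : ℕ) ^ 2 = 9 from rfl, hnk]; exact dvd_pow_self r (by omega)))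
    obtain rfl : k = 2 := Nat.pow_right_injective (show 2 ≤ 3 by norm_num) (show 3 ^ k = 3 ^ 2 from hnk.symm)
    rcases i with ⟨hodd, hcz, -, hcard⟩ | ⟨h, -⟩
    swap
    · omega
    rw [hcz] at g
    obtain ⟨f, hf, hq, rfl, hlt, h1', h2'⟩ := minField_odd hU Nat.prime_three g
    obtain rfl : f = 1 := by omega
    have hp3 : p % 3 < 3 := Nat.mod_lt _ (by norm_num)
    have hne : p % 3 ≠ 1 := fun e => h2' 1 one_pos (by norm_num) (by rw [e]; norm_num)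
    have hne0 : p % 3 ≠ 0 := fun e => by rw [e] at h1'; norm_num at h1'
    iterate 7 right
    exact Or.inl ⟨p, R, g.1, by rw [hq, pow_one], by omega, a, b, c, hcard, hcz, heq⟩
  · have h9 : r ∣ 3 ^ 2 := CfsgLib.Aschbacher.Cases.dvd_of_field (by norm_num) h2
    obtain rfl : r = 3 := (Nat.prime_dvd_prime_iff_eq h0 Nat.prime_three).1 (h0.dvd_of_dvd_pow h9)
    exact Or.inr (Or.inr (Or.inr (Or.inr (Or.inl ⟨K, h2, h3, heq⟩))))
  · exfalso
    have hc : 9 = n₁ * n₂ := by simpa using Fintype.card_congr e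
    have hn1 : n₁ ≤ 2 := by nlinarith
    interval_cases n₁; omega
  · have hc : 9 = k ^ t := by simpa using Fintype.card_congr e
    obtain ⟨rfl, rfl⟩ : k = 3 ∧ t = 2 := by
      have hk : k ≤ 3 := by
        by_contra hk
        have : 4 ^ 2 ≤ k ^ t := le_trans (Nat.pow_le_pow_left (by omega) 2) (Nat.pow_le_pow_right (by omega) h1)
        omega
      obtain rfl : k = 3 := le_antisymm hk h0
      exact ⟨rfl, Nat.pow_right_injective (show 2 ≤ 3 by norm_num) (show 3 ^ t = 3 ^ 2 from hc.symm)⟩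
    iterate 8 right
    refine Or.inl ⟨?_, e, P, f₁, h3, h4, heq⟩
    have := hU.q_pos
    by_contra hq
    exact h2 ⟨by omega, rfl⟩

end Cfsg.Agent.S5832
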