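import Cfsg.Statements.S5835
import Cfsg.Agent.Lib.AschbacherOrth.OddRows

set_option autoImplicit false
open Cfsg CfsgLib CfsgLib.AschbacherOrth

namespace Cfsg.Agent.S5835

/-- Every maximal subgroup of Ω_9(q), q odd, is of one of the listed geometric types or lies in the residual class. Let F be a finite field of odd order q, Q the standard quadratic form x₀² + Σ x_i y_i on F^9 (coordinates Unit ⊕ (Fin 4 ⊕ Fin 4)), Ω the commutator subgroup of its isometry group, and H a maximal subgroup of Ω (inside GL_9(F)). Then H is the intersection with Ω of one of: the stabiliser of a non-zero totally singular subspace; the stabiliser of a non-zero non-degenerate subspace of even dimension (not a plus-type plane when q = 3); for q prime, the stabiliser of a decomposition into nine pairwise orthogonal, pairwise isometric non-degenerate 1-spaces; for q ≥ 5, the stabiliser of a decomposition into three pairwise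 orthogonal, pairwise isometric non-degenerate 3-spaces; the normaliser of a degree-3 subfield of the matrix algebra, self-adjoint for the polar form; a subfield group (|F| = |F₀|^r, r prime) whose F₀-structure carries Q; for q ≥ 5, the stabiliser of a tensor decomposition of the polar form as a tensor square of a symmetric form on F^3 — or else H lies in the residual class of the orthogonal case (modulo scalars H is almost simple, with absolutely irreducible perfect socle preimage realisable over no proper subfield and fixing no non-degenerate unitary form). -/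
theorem result {F : Type*} [Field F] [Fintype F] (hodd : Odd (Fintype.card F)) (H : Subgroup (Matrix.GeneralLinearGroup (Unit ⊕ (Fin 4 ⊕ Fin 4)) F)) (hH : Cfsg.Geo.IsMaximalIn (Cfsg.Geo.omegaGL (Cfsg.quadFormOdd 4 F)) H) :
    (∃ W : Submodule F (Unit ⊕ (Fin 4 ⊕ Fin 4) → F), W ≠ ⊥ ∧ Cfsg.Geo.IsTotallySingularQuad (Cfsg.quadFormOdd 4 F) W ∧ H = Cfsg.Geo.subspaceStabilizer W ⊓ Cfsg.Geo.omegaGL (Cfsg.quadFormOdd 4 F)) ∨
    (∃ W : Submodule F (Unit ⊕ (Fin 4 ⊕ Fin 4) → F), W ≠ ⊥ ∧ Even (Module.finrank F W) ∧ Cfsg.Geo.IsNondegenerateOn (QuadraticMap.polar (Cfsg.quadFormOdd 4 F)) W ∧ ¬ (Fintype.card F = 3 ∧ Module.finrank F W = 2 ∧ Cfsg.Geo.IsPlusTypeOn (Cfsg.quadFormOdd 4 F) W) ∧ H = Cfsg.Geo.subspaceStabilizer W ⊓ Cfsg.Geo.omegaGL (Cfsg.quadFormOdd 4 F)) ∨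
    ((Fintype.card F).Prime ∧ ∃ D : Fin 9 → Submodule F (Unit ⊕ (Fin 4 ⊕ Fin 4) → F), Cfsg.Geo.IsOrthogonalMDecomposition (Cfsg.quadFormOdd 4 F) 1 D ∧ H = Cfsg.Geo.decompositionStabilizer D ⊓ Cfsg.Geo.omegaGL (Cfsg.quadFormOdd 4 F)) ∨
    (5 ≤ Fintype.card F ∧ ∃ D : Fin 3 → Submodule F (Unit ⊕ (Fin 4 ⊕ Fin 4) → F), Cfsg.Geo.IsOrthogonalMDecomposition (Cfsg.quadFormOdd 4 F) 3 D ∧ H = Cfsg.Geo.decompositionStabilizer D ⊓ Cfsg.Geo.omegaGL (Cfsg.quadFormOdd 4 F)) ∨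
    (∃ K : Subalgebra F (Matrix (Unit ⊕ (Fin 4 ⊕ Fin 4)) (Unit ⊕ (Fin 4 ⊕ Fin 4)) F), Cfsg.Geo.IsFieldSubalgebra 3 K ∧ Cfsg.Geo.IsSelfAdjointFor (QuadraticMap.polar (Cfsg.quadFormOdd 4 F)) K ∧ H = Cfsg.Geo.subalgebraNormalizer K ⊓ Cfsg.Geo.omegaGL (Cfsg.quadFormOdd 4 F)) ∨
    (∃ (F₀ : Subfield F) (r : ℕ) (P : Matrix.GeneralLinearGroup (Unit ⊕ (Fin 4 ⊕ Fin 4)) F), r.Prime ∧ Fintype.card F = Nat.card F₀ ^ r ∧ Cfsg.Geo.IsQuadFormRationalStructure (Cfsg.quadFormOdd 4 F) F₀ P ∧ H = Cfsg.Geo.subfieldSubgroup F₀ P ⊓ Cfsg.Geo.omegaGL (Cfsg.quadFormOdd 4 F)) ∨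
    (5 ≤ Fintype.card F ∧ ∃ (e : (Unit ⊕ (Fin 4 ⊕ Fin 4)) ≃ (Fin 2 → Fin 3)) (P : Matrix.GeneralLinearGroup (Unit ⊕ (Fin 4 ⊕ Fin 4)) F) (f₁ : (Fin 3 → F) → (Fin 3 → F) → F), Cfsg.Geo.IsSymmetricForm f₁ ∧ Cfsg.Geo.IsTensorPowerFormStructure id (QuadraticMap.polar (Cfsg.quadFormOdd 4 F)) f₁ e P ∧ H = Cfsg.Geo.tensorWreathSubgroup 3 2 e P ⊓ Cfsg.Geo.omegaGL (Cfsg.quadFormOdd 4 F)) ∨
    Cfsg.Geo.InOrthogonalResidualClass H := by
  classical
  have h2 := two_ne_of_odd hodd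
  obtain ⟨Q, hQc, hQ, hstd⟩ := exists_std_odd h2 4
  rw [← hQc] at hH ⊢
  have hι : Fintype.card (Unit ⊕ (Fin 4 ⊕ Fin 4)) = 9 := by simp
  have h5 : 5 ≤ Fintype.card (Unit ⊕ (Fin 4 ⊕ Fin 4)) := by omega
  have hS : ∀ {X : Subgroup (Matrix.GeneralLinearGroup (Unit ⊕ (Fin 4 ⊕ Fin 4)) F)}, ¬ SiegelIn Q X → ¬ Geo.omegaGL ⇑Q ≤ X :=
    fun h h' => h (siegelIn_of_omega_le hQ h5 h')
  have hI : H ≤ isometryGroup F ⇑Q := hH.1.le.trans (omega_le_isometry _)
  have hlines : ∀ D : Fin 9 → Submodule F (Unit ⊕ (Fin 4 ⊕ Fin 4) → F), Geo.IsOrthogonalMDecomposition ⇑Q 1 D →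
      H ≤ Geo.decompositionStabilizer D → H = Geo.decompositionStabilizer D ⊓ Geo.omegaGL ⇑Q := fun D hD hle =>
    eq_inf_of_maximal hH hle (hS (SiegelIn.not_decomp hQ h5 hD.decomp.decomp (Or.inr ⟨by norm_num, hD.decomp⟩)))
  have hq5 : Fintype.card F ≠ 3 → 5 ≤ Fintype.card F := fun h => by
    have := Fintype.one_lt_card (α := F)
    obtain ⟨a, ha⟩ := hodd
    omega
  rcases odd_cases hQ h2 hι ⟨4, rfl⟩ (by norm_num) hI with
    ⟨U, hU0, hU, hle⟩ | ⟨U, hU0, hU1, hev, hU, hbad, hle⟩ | ⟨t, k, D, hk, htk, hD, hle⟩ | ⟨hq, D, hD, hle⟩ |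
    ⟨r, K, hr, hdvd, hne, hK, hsa, hle⟩ | ⟨n₁, n₂, e, P, f₁, f₂, h3, h12, -, -, -, -⟩ |
    ⟨d, s, hd, hs, hds, hbad, hp⟩ | h | h
  · refine Or.inl ⟨U, hU0, hU, eq_inf_of_maximal hH hle (hS (SiegelIn.not_stab hQ (by omega) hU0 fun e => ?_))⟩
    obtain ⟨v, hv⟩ := exists_ne (0 : Unit ⊕ (Fin 4 ⊕ Fin 4) → F)
    obtain ⟨⟨x, hx⟩, -⟩ := polar_nondeg hQ v hv
    exact hx (Geometry.polar_eq_zero_of_singular hU (e ▸ Submodule.mem_top) (e ▸ Submodule.mem_top))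
  · exact Or.inr (Or.inl ⟨U, hU0, hev, hU, hbad,
      eq_inf_of_maximal hH hle (hS (SiegelIn.not_stab hQ (by omega) hU0 hU1))⟩)
  · obtain ⟨rfl, rfl⟩ : t = 3 ∧ k = 3 := by
      have ht := hD.decomp.decomp.two_le
      have h1 : k ≤ 4 := by nlinarith
      have h2' : t ≤ 4 := by nlinarith
      interval_cases k <;> interval_cases t <;> omega
    by_cases hq : Fintype.card F = 3
    · obtain ⟨D', hD', hle'⟩ := parts_three hI hD hle hq (Or.inl rfl)
      exact Or.inr (Or.inr (Or.inl ⟨by rw [hq]; norm_num, D', hD', hlines D' hD' hle'⟩))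
    · exact Or.inr (Or.inr (Or.inr (Or.inl ⟨hq5 hq, D, hD,
        eq_inf_of_maximal hH hle (hS (SiegelIn.not_decomp hQ h5 hD.decomp.decomp (Or.inl le_rfl)))⟩)))
  · exact Or.inr (Or.inr (Or.inl ⟨hq, D, hD, hlines D hD hle⟩))
  · obtain rfl : r = 3 := by
      have := Nat.le_of_dvd (by norm_num) hdvd
      interval_cases r <;> norm_num at *
    exact Or.inr (Or.inr (Or.inr (Or.inr (Or.inl ⟨K, hK, hsa, eq_inf_of_maximal hH hle (not_field hQ h5 (by norm_num) hK)⟩))))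
  · exfalso
    have hc := Fintype.card_congr e
    rw [hι, Fintype.card_prod, Fintype.card_fin, Fintype.card_fin] at hc
    nlinarith
  · obtain ⟨rfl, rfl⟩ : d = 3 ∧ s = 2 := by
      have h1 : s < 3 := by
        by_contra hc
        have : 3 ^ 3 ≤ d ^ s := le_trans (Nat.pow_le_pow_left hd 3) (Nat.pow_le_pow_right (by omega) (by omega))
        omega
      obtain rfl : s = 2 := by omega
      refine ⟨?_, rfl⟩
      rw [sq] at hds
      nlinarith
    obtain ⟨e, P, f₁, hf₁, hT, hle⟩ := hp.member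
    iterate 6 right
    exact Or.inl ⟨hq5 fun h => hbad ⟨h, rfl⟩, e, P, f₁, hf₁, hT, eq_inf_of_maximal hH hle (not_wreath_two hQ h5 le_rfl e P)⟩
  · obtain ⟨F₁, r, B, hr, hc, hB, hle⟩ := h.strong h2 ⟨4, hι⟩ hQ hstd
    iterate 5 right
    exact Or.inl ⟨F₁, r, B, hr, hc, hB,
      eq_inf_of_maximal hH hle (hS (not_subfield hQ h5 (subfield_ne_top hr hc) B))⟩
  · iterate 7 right
    exact h

end Cfsg.Agent.S5835
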