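import Cfsg.Statements.S5846
import Cfsg.Agent.Lib.OrthFrame.Main
import Cfsg.Agent.Lib.OrthMax.Apps
import Cfsg.Agent.Lib.OrthMax.DecompAll
import Cfsg.Agent.Lib.OrthMax.EvenRows
import Cfsg.Agent.Lib.OrthField.Bridge

set_option autoImplicit false
open Cfsg

namespace Cfsg.Agent.S5846

/-- Maximal subgroups of Ω_10^+(q) of geometric type (any q). Let F be a finite field with q elements (characteristic p), Q a non-degenerate quadratic form on F^10 (non-degenerate polar form) of plus type (Witt index 5: some totally singular 5-space), and Ω = Ω_10^+(q) the commutator subgroup of the isometry group of Q, inside GL_10(F). Each of the following, intersected with Ω, is a maximal subgroup of Ω: (1) the stabiliser of any non-zero subspace on which Q vanishes identically other than those of dimension 4 (totally singular subspaces, dimensions 1, 2, 3 and 5); (2) for q odd, the stabiliser of any proper subspace of odd dimension other than 5 on which the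 polar form of Q is non-degenerate; (3) the stabiliser of any non-degenerate 2-space of minus type (containing no non-zero singular vector); (4) for q ≥ 4, the stabiliser of any non-degenerate 2-space of plus type (containing a non-zero singular vector); (5) the stabiliser of any non-degenerate 4-space (either type); (6) for q even, the stabiliser of the 1-space spanned by any non-singular vector v (Q(v) ≠ 0); (7) for q = p prime with p ≡ 1 mod 4, the stabiliser of any decomposition of F^10 into 10 pairwise orthogonal, pairwise Q-isometric non-degenerate 1-spaces; (8) for q ≥ 7, the stabiliser of any decomposition of F^10 into 5 pairwise orthogonal, pairwise Q-isometric non-degenerate 2-spaces; (9) for q ≡ 1 mod 4, the stabiliser of any decomposition of F^10 into 2 pairwise orthogonal, pairwise Q-isometric non-degenerate 5-spaces; (10) for q ≡ 3 mod 4, the stabiliser of any decomposition of F^10 into two orthogonal non-degenerate 5-spaces that are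 not Q-isometric; (11) for q odd, the normaliser of any degree-2 subfield K of the matrix algebra whose elements are self-adjoint for the polar form of Q (Q is then the trace of a quadratic form over K); (12) every subfield group for a subfield F₀ with |F| = |F₀|^r, r prime, whose F₀-structure carries a non-zero scalar multiple of Q. -/
theorem result {F : Type*} [Field F] [Fintype F] (Q : (Fin 10 → F) → F) (hQ : Cfsg.Geo.IsNondegenerateQuadraticForm Q) (hplus : Cfsg.Geo.IsPlusTypeOn Q ⊤) :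
    (∀ W : Submodule F (Fin 10 → F), W ≠ ⊥ → Cfsg.Geo.IsTotallySingularQuad Q W → Module.finrank F W ≠ 4 → Cfsg.Geo.IsMaximalIn (Cfsg.Geo.omegaGL Q) (Cfsg.Geo.subspaceStabilizer W ⊓ Cfsg.Geo.omegaGL Q)) ∧
    (Odd (Fintype.card F) → ∀ W : Submodule F (Fin 10 → F), W ≠ ⊥ → W ≠ ⊤ → Odd (Module.finrank F W) → 2 * Module.finrank F W ≠ 10 → Cfsg.Geo.IsNondegenerateOn (QuadraticMap.polar Q) W → Cfsg.Geo.IsMaximalIn (Cfsg.Geo.omegaGL Q) (Cfsg.Geo.subspaceStabilizer W ⊓ Cfsg.Geo.omegaGL Q)) ∧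
    (∀ W : Submodule F (Fin 10 → F), Module.finrank F W = 2 → Cfsg.Geo.IsNondegenerateOn (QuadraticMap.polar Q) W → ¬ Cfsg.Geo.IsPlusTypeOn Q W → Cfsg.Geo.IsMaximalIn (Cfsg.Geo.omegaGL Q) (Cfsg.Geo.subspaceStabilizer W ⊓ Cfsg.Geo.omegaGL Q)) ∧
    (4 ≤ Fintype.card F → ∀ W : Submodule F (Fin 10 → F), Module.finrank F W = 2 → Cfsg.Geo.IsNondegenerateOn (QuadraticMap.polar Q) W → Cfsg.Geo.IsPlusTypeOn Q W → Cfsg.Geo.IsMaximalIn (Cfsg.Geo.omegaGL Q) (Cfsg.Geo.subspaceStabilizer W ⊓ Cfsg.Geo.omegaGL Q)) ∧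
    (∀ W : Submodule F (Fin 10 → F), Module.finrank F W = 4 → Cfsg.Geo.IsNondegenerateOn (QuadraticMap.polar Q) W → Cfsg.Geo.IsMaximalIn (Cfsg.Geo.omegaGL Q) (Cfsg.Geo.subspaceStabilizer W ⊓ Cfsg.Geo.omegaGL Q)) ∧
    (¬ Odd (Fintype.card F) → ∀ v : (Fin 10 → F), Q v ≠ 0 → Cfsg.Geo.IsMaximalIn (Cfsg.Geo.omegaGL Q) (Cfsg.Geo.subspaceStabilizer (Submodule.span F {v}) ⊓ Cfsg.Geo.omegaGL Q)) ∧
    ((∃ p : ℕ, p.Prime ∧ Fintype.card F = p ∧ (p % 4 = 1)) → ∀ D : Fin 10 → Submodule F (Fin 10 → F), Cfsg.Geo.IsOrthogonalMDecomposition Q 1 D → Cfsg.Geo.IsMaximalIn (Cfsg.Geo.omegaGL Q) (Cfsg.Geo.decompositionStabilizer D ⊓ Cfsg.Geo.omegaGL Q)) ∧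
    (7 ≤ Fintype.card F → ∀ D : Fin 5 → Submodule F (Fin 10 → F), Cfsg.Geo.IsOrthogonalMDecomposition Q 2 D → Cfsg.Geo.IsMaximalIn (Cfsg.Geo.omegaGL Q) (Cfsg.Geo.decompositionStabilizer D ⊓ Cfsg.Geo.omegaGL Q)) ∧
    (Fintype.card F % 4 = 1 → ∀ D : Fin 2 → Submodule F (Fin 10 → F), Cfsg.Geo.IsOrthogonalMDecomposition Q 5 D → Cfsg.Geo.IsMaximalIn (Cfsg.Geo.omegaGL Q) (Cfsg.Geo.decompositionStabilizer D ⊓ Cfsg.Geo.omegaGL Q)) ∧
    (Fintype.card F % 4 = 3 → ∀ D : Fin 2 → Submodule F (Fin 10 → F), Cfsg.Geo.IsNondegenerateMDecomposition (QuadraticMap.polar Q) 5 D → ¬ Cfsg.Geo.AreIsometricFor Q (D 0) (D 1) → Cfsg.Geo.IsMaximalIn (Cfsg.Geo.omegaGL Q) (Cfsg.Geo.decompositionStabilizer D ⊓ Cfsg.Geo.omegaGL Q)) ∧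
    (Odd (Fintype.card F) → ∀ K : Subalgebra F (Matrix (Fin 10) (Fin 10) F), Cfsg.Geo.IsFieldSubalgebra 2 K → Cfsg.Geo.IsSelfAdjointFor (QuadraticMap.polar Q) K → Cfsg.Geo.IsMaximalIn (Cfsg.Geo.omegaGL Q) (Cfsg.Geo.subalgebraNormalizer K ⊓ Cfsg.Geo.omegaGL Q)) ∧
    (∀ (F₀ : Subfield F) (r : ℕ) (P : Matrix.GeneralLinearGroup (Fin 10) F) (ζ : F), r.Prime → Fintype.card F = Nat.card F₀ ^ r → ζ ≠ 0 → Cfsg.Geo.IsQuadFormRationalStructure (fun v : Fin 10 → F => ζ * Q v) F₀ P → Cfsg.Geo.IsMaximalIn (Cfsg.Geo.omegaGL Q) (Cfsg.Geo.subfieldSubgroup F₀ P ⊓ Cfsg.Geo.omegaGL Q)) := by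
  obtain ⟨Q', rfl, hQ'⟩ := CfsgLib.Geometry.exists_quadraticForm hQ
  have hn10 : 10 ≤ Fintype.card (Fin 10) := by simp
  have h2of : Odd (Fintype.card F) → (2 : F) ≠ 0 := fun h => CfsgLib.Geometry.two_ne_zero_of_odd_card rfl h
  have h2m : Fintype.card F % 4 = 1 ∨ Fintype.card F % 4 = 3 → (2 : F) ≠ 0 := fun h =>
    h2of (Nat.odd_iff.2 (by omega))
  have hperp := fun W => CfsgLib.Geometry.finrank_polarPerp hQ' (W : Submodule F (Fin 10 → F))
  have hV : Module.finrank F (Fin 10 → F) = 10 := by simp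
  -- stabilisers of non-degenerate subspaces of dimension other than five
  have nd : ∀ W : Submodule F (Fin 10 → F), W ≠ ⊥ → W ≠ ⊤ → 2 * Module.finrank F W ≠ 10 →
      Cfsg.Geo.IsNondegenerateOn (QuadraticMap.polar ⇑Q') W →
      ¬ (Nat.card F ≤ 3 ∧ Module.finrank F W = 2 ∧ ∃ z ∈ W, z ≠ 0 ∧ Q' z = 0) →
      Module.finrank F W ≠ 8 →
      Cfsg.Geo.IsMaximalIn (Cfsg.Geo.omegaGL ⇑Q') (Cfsg.Geo.subspaceStabilizer W ⊓ Cfsg.Geo.omegaGL ⇑Q') := by
    intro W h0 h1 h5 hW hex h8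
    refine CfsgLib.OrthMax.nondeg_maximal_core hQ' (Or.inr (Or.inr ⟨hn10, by simpa using h5⟩)) h0 h1
      (CfsgLib.OrthMax.nd_of_isNondegenerateOn hW) (fun g _ _ h => h5 (by simpa using h)) hex fun h => ?_
    have := hperp W
    omega
  have ndim : ∀ (W : Submodule F (Fin 10 → F)) (d : ℕ), Module.finrank F W = d → 0 < d → d < 10 →
      W ≠ ⊥ ∧ W ≠ ⊤ := fun W d hd h0 h1 =>
    ⟨fun e => by rw [e, finrank_bot] at hd; omega, fun e => by rw [e, finrank_top, hV] at hd; omega⟩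
  refine ⟨fun W hW0 hW h4 => CfsgLib.OrthMax.singular_maximal hQ' (by simp) hW0 hW
      (fun _ _ _ _ h => by rw [Fintype.card_fin] at h; omega),
    fun hodd W h0 h1 hWo h5 hW => nd W h0 h1 h5 hW
      (fun h => absurd h.2.1 (fun e => by rw [e] at hWo; exact absurd hWo (by decide)))
      (fun e => by rw [e] at hWo; exact absurd hWo (by decide)),
    fun W hd hW hnp => ?_, fun hq W hd hW _ => ?_, fun W hd hW => ?_, fun hc v hv => ?_,
    fun hp D hD => ?_, fun hq D hD => CfsgLib.OrthMax.decomp_all_maximal hQ' hn10 hD le_rfl (fun _ => Or.inl hq) (by omega) (by omega),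
    fun hq D hD => CfsgLib.OrthMax.decomp_all_maximal hQ' hn10 hD (by norm_num) (by omega) (by omega) (by omega),
    fun hq D hD hni => CfsgLib.OrthMax.decomp_two_nonisometric_maximal (by norm_num) (h2m (by omega)) hQ'
      (by norm_num) D hD hni,
    fun hodd K hK hsa => CfsgLib.OrthField.orth_field_maximal hQ' (h2of hodd) Nat.prime_two hK hsa
      (by simp) (Or.inl ⟨by simp, Or.inr (by simp)⟩),
    fun F₀ r P ζ hr hcard hζ hP =>
      CfsgLib.OrthMax.subfield_even_maximal (by norm_num) (by decide) _ hQ F₀ r hr hcard P ζ hζ hP⟩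
  · obtain ⟨h0, h1⟩ := ndim W 2 hd (by norm_num) (by norm_num)
    refine nd W h0 h1 (by omega) hW ?_ (by omega)
    rintro ⟨-, -, z, hz, hz0, hQz⟩
    refine hnp ⟨Submodule.span F {z}, by rwa [Submodule.span_singleton_le_iff_mem], fun w hw => ?_, ?_⟩
    · obtain ⟨c, rfl⟩ := Submodule.mem_span_singleton.1 hw
      rw [CfsgLib.Geometry.map_smul', hQz, mul_zero]
    · rw [finrank_span_singleton hz0, hd]
  · obtain ⟨h0, h1⟩ := ndim W 2 hd (by norm_num) (by norm_num)
    exact nd W h0 h1 (by omega) hW (fun h => by rw [Nat.card_eq_fintype_card] at h; omega) (by omega)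
  · obtain ⟨h0, h1⟩ := ndim W 4 hd (by norm_num) (by norm_num)
    exact nd W h0 h1 (by omega) hW (fun h => by omega) (by omega)
  · refine CfsgLib.OrthMax.line_maximal hQ' (by simp) ?_ hv
    by_contra h2
    exact hc (Nat.odd_iff.2 (FiniteField.odd_card_of_char_ne_two (F := F) fun h => h2 (by
      haveI := ringChar.of_eq h
      exact CharTwo.two_eq_zero)))
  · obtain ⟨p, hpp, hpc, hp4⟩ := hp
    have : Fact (Nat.card F).Prime := ⟨by rw [Nat.card_eq_fintype_card, hpc]; exact hpp⟩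
    exact CfsgLib.OrthFrame.frame_maximal_of (h2m (by omega)) hQ' (by simp) (Or.inl hn10) hD

end Cfsg.Agent.S5846
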