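import Cfsg.Statements.S5850
import Cfsg.Agent.Lib.AschbacherOrth.Ten
import Cfsg.Agent.Lib.AschbacherOrth.Eight

set_option autoImplicit false
open Cfsg CfsgLib CfsgLib.AschbacherOrth

namespace Cfsg.Agent.S5850

/-- Every maximal subgroup of Ω_10^-(q) is of one of the listed geometric types or lies in the residual class. Let F be a finite field with q elements (characteristic p), Q a non-degenerate quadratic form on F^10 of minus type (Witt index 4: no totally singular 5-space), Ω the commutator subgroup of its isometry group, and H a maximal subgroup of Ω (inside GL_10(F)). Then H is the intersection with Ω of one of: the stabiliser of a non-zero totally singular subspace; for q odd, the stabiliser of a non-degenerate subspace of odd dimension ≠ 5; the stabiliser of a non-degenerate 2-space of minus type; for q ≥ 4, the stabiliser of a non-degenerate 2-space of plus type; the stabiliser of a non-degenerate 4-space; for q even, the stabiliser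 of the span of a non-singular vector; for q = p prime with p ≡ 3 mod 4, the stabiliser of a decomposition into 10 pairwise orthogonal, pairwise isometric non-degenerate 1-spaces; for q ≠ 3, the stabiliser of a decomposition into 5 pairwise orthogonal, pairwise isometric non-degenerate 2-spaces; for q ≡ 3 mod 4, the stabiliser of a decomposition into 2 pairwise orthogonal, pairwise isometric non-degenerate 5-spaces; for q ≡ 1 mod 4, the stabiliser of a decomposition into two orthogonal, non-isometric non-degenerate 5-spaces; for q odd, the normaliser of a degree-2 subfield of the matrix algebra, self-adjoint for the polar form; the normaliser of a degree-2 subfield K, adjoint-closed but not self-adjoint, acting by similarities of Q; a subfield group (|F| = |F₀|^r, r odd prime) whose F₀-structure carries a non-zero multiple of Q — or else H lies in the residual class of the orthogonal case (modulo scalars H is almost simple, with absolutely irreducible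 perfect socle preimage realisable over no proper subfield and fixing no non-degenerate unitary form). -/
theorem result {F : Type*} [Field F] [Fintype F] (Q : (Fin 10 → F) → F) (hQ : Cfsg.Geo.IsNondegenerateQuadraticForm Q) (hminus : ¬ Cfsg.Geo.IsPlusTypeOn Q ⊤) (H : Subgroup (Matrix.GeneralLinearGroup (Fin 10) F)) (hH : Cfsg.Geo.IsMaximalIn (Cfsg.Geo.omegaGL Q) H) :
    (∃ W : Submodule F (Fin 10 → F), W ≠ ⊥ ∧ Cfsg.Geo.IsTotallySingularQuad Q W ∧ H = Cfsg.Geo.subspaceStabilizer W ⊓ Cfsg.Geo.omegaGL Q) ∨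
    (Odd (Fintype.card F) ∧ ∃ W : Submodule F (Fin 10 → F), W ≠ ⊥ ∧ W ≠ ⊤ ∧ Odd (Module.finrank F W) ∧ 2 * Module.finrank F W ≠ 10 ∧ Cfsg.Geo.IsNondegenerateOn (QuadraticMap.polar Q) W ∧ H = Cfsg.Geo.subspaceStabilizer W ⊓ Cfsg.Geo.omegaGL Q) ∨
    (∃ W : Submodule F (Fin 10 → F), Module.finrank F W = 2 ∧ Cfsg.Geo.IsNondegenerateOn (QuadraticMap.polar Q) W ∧ ¬ Cfsg.Geo.IsPlusTypeOn Q W ∧ H = Cfsg.Geo.subspaceStabilizer W ⊓ Cfsg.Geo.omegaGL Q) ∨
    (4 ≤ Fintype.card F ∧ ∃ W : Submodule F (Fin 10 → F), Module.finrank F W = 2 ∧ Cfsg.Geo.IsNondegenerateOn (QuadraticMap.polar Q) W ∧ Cfsg.Geo.IsPlusTypeOn Q W ∧ H = Cfsg.Geo.subspaceStabilizer W ⊓ Cfsg.Geo.omegaGL Q) ∨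
    (∃ W : Submodule F (Fin 10 → F), Module.finrank F W = 4 ∧ Cfsg.Geo.IsNondegenerateOn (QuadraticMap.polar Q) W ∧ H = Cfsg.Geo.subspaceStabilizer W ⊓ Cfsg.Geo.omegaGL Q) ∨
    (¬ Odd (Fintype.card F) ∧ ∃ v : (Fin 10 → F), Q v ≠ 0 ∧ H = Cfsg.Geo.subspaceStabilizer (Submodule.span F {v}) ⊓ Cfsg.Geo.omegaGL Q) ∨
    ((∃ p : ℕ, p.Prime ∧ Fintype.card F = p ∧ (p % 4 = 3)) ∧ ∃ D : Fin 10 → Submodule F (Fin 10 → F), Cfsg.Geo.IsOrthogonalMDecomposition Q 1 D ∧ H = Cfsg.Geo.decompositionStabilizer D ⊓ Cfsg.Geo.omegaGL Q) ∨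
    (Fintype.card F ≠ 3 ∧ ∃ D : Fin 5 → Submodule F (Fin 10 → F), Cfsg.Geo.IsOrthogonalMDecomposition Q 2 D ∧ H = Cfsg.Geo.decompositionStabilizer D ⊓ Cfsg.Geo.omegaGL Q) ∨
    (Fintype.card F % 4 = 3 ∧ ∃ D : Fin 2 → Submodule F (Fin 10 → F), Cfsg.Geo.IsOrthogonalMDecomposition Q 5 D ∧ H = Cfsg.Geo.decompositionStabilizer D ⊓ Cfsg.Geo.omegaGL Q) ∨
    (Fintype.card F % 4 = 1 ∧ ∃ D : Fin 2 → Submodule F (Fin 10 → F), Cfsg.Geo.IsNondegenerateMDecomposition (QuadraticMap.polar Q) 5 D ∧ ¬ Cfsg.Geo.AreIsometricFor Q (D 0) (D 1) ∧ H = Cfsg.Geo.decompositionStabilizer D ⊓ Cfsg.Geo.omegaGL Q) ∨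
    (Odd (Fintype.card F) ∧ ∃ K : Subalgebra F (Matrix (Fin 10) (Fin 10) F), Cfsg.Geo.IsFieldSubalgebra 2 K ∧ Cfsg.Geo.IsSelfAdjointFor (QuadraticMap.polar Q) K ∧ H = Cfsg.Geo.subalgebraNormalizer K ⊓ Cfsg.Geo.omegaGL Q) ∨
    (∃ K : Subalgebra F (Matrix (Fin 10) (Fin 10) F), Cfsg.Geo.IsFieldSubalgebra 2 K ∧ Cfsg.Geo.IsAdjointClosedFor (QuadraticMap.polar Q) K ∧ ¬ Cfsg.Geo.IsSelfAdjointFor (QuadraticMap.polar Q) K ∧ (∀ k ∈ K, ∃ c : F, ∀ v : (Fin 10 → F), Q (Matrix.mulVec k v) = c * Q v) ∧ H = Cfsg.Geo.subalgebraNormalizer K ⊓ Cfsg.Geo.omegaGL Q) ∨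
    (∃ (F₀ : Subfield F) (r : ℕ) (P : Matrix.GeneralLinearGroup (Fin 10) F) (ζ : F), r.Prime ∧ Odd r ∧ Fintype.card F = Nat.card F₀ ^ r ∧ ζ ≠ 0 ∧ Cfsg.Geo.IsQuadFormRationalStructure (fun v : Fin 10 → F => ζ * Q v) F₀ P ∧ H = Cfsg.Geo.subfieldSubgroup F₀ P ⊓ Cfsg.Geo.omegaGL Q) ∨
    Cfsg.Geo.InOrthogonalResidualClass H := by
  classical
  obtain ⟨Q', rfl, hQ'⟩ := Geometry.exists_quadraticForm hQ
  have hι : Fintype.card (Fin 10) = 10 := Fintype.card_fin 10
  have h5 : 5 ≤ Fintype.card (Fin 10) := by omega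
  have hS : ∀ {X : Subgroup (Matrix.GeneralLinearGroup (Fin 10) F)}, ¬ SiegelIn Q' X → ¬ Geo.omegaGL ⇑Q' ≤ X :=
    fun h h' => h (siegelIn_of_omega_le hQ' h5 h')
  have hI : H ≤ isometryGroup F ⇑Q' := hH.1.le.trans (omega_le_isometry _)
  have hsq : ∀ d : ℕ, d * d ≠ Fintype.card (Fin 10) := fun d h => by
    rw [hι] at h
    have : d < 4 := by nlinarith
    interval_cases d <;> omega
  have hsub : ∀ h : SubfieldCase Q' H, ∃ (F₁ : Subfield F) (r : ℕ) (B : Matrix.GeneralLinearGroup (Fin 10) F) (ζ : F),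
      r.Prime ∧ Odd r ∧ Fintype.card F = Nat.card F₁ ^ r ∧ ζ ≠ 0 ∧
        Geo.IsQuadFormRationalStructure (fun v : Fin 10 → F => ζ * Q' v) F₁ B ∧
        H = Geo.subfieldSubgroup F₁ B ⊓ Geo.omegaGL ⇑Q' := fun h => by
    obtain ⟨F₁, r, B, ζ, hr, hro, hc, hζ, hrat, hle⟩ := subfield_odd_of_minus hQ' (m := 4) hι hminus h
    exact ⟨F₁, r, B, ζ, hr, hro, hc, hζ, hrat,
      eq_inf_of_maximal hH hle (hS (not_subfield hQ' h5 (subfield_ne_top hr hc) B))⟩
  have hfive : ∀ D : Fin 2 → Submodule F (Fin 10 → F), Geo.IsNondegenerateMDecomposition (QuadraticMap.polar ⇑Q') 5 D →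
      H ≤ Geo.decompositionStabilizer D →
      (Fintype.card F % 4 = 3 ∧ ∃ D : Fin 2 → Submodule F (Fin 10 → F), Geo.IsOrthogonalMDecomposition ⇑Q' 5 D ∧
        H = Geo.decompositionStabilizer D ⊓ Geo.omegaGL ⇑Q') ∨
      (Fintype.card F % 4 = 1 ∧ ∃ D : Fin 2 → Submodule F (Fin 10 → F),
        Geo.IsNondegenerateMDecomposition (QuadraticMap.polar ⇑Q') 5 D ∧ ¬ Geo.AreIsometricFor ⇑Q' (D 0) (D 1) ∧
        H = Geo.decompositionStabilizer D ⊓ Geo.omegaGL ⇑Q') := fun D hD hle => by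
    have h2 : (2 : F) ≠ 0 := fun h => by
      have h1 := even_of_char_two h (hD.nondegenerate 0) (Q := Q')
      rw [hD.decomp.finrank_eq] at h1
      exact (by decide : ¬ Even 5) h1
    have he := eq_inf_of_maximal hH hle (hS (SiegelIn.not_decomp hQ' h5 hD.decomp (Or.inl (by norm_num))))
    rcases halves_mod_four h2 hD ⟨2, rfl⟩ with ⟨hO, ⟨hp, -⟩ | ⟨-, hq⟩⟩ | ⟨hiso, ⟨hp, -⟩ | ⟨-, hq⟩⟩
    · exact absurd hp hminus
    · exact Or.inl ⟨hq, D, hO, he⟩
    · exact absurd hp hminus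
    · exact Or.inr ⟨hq, D, hD, hiso, he⟩
  have hframe : ∀ (t : ℕ) (ht : t = 10) (D : Fin t → Submodule F (Fin 10 → F)), Geo.IsOrthogonalMDecomposition ⇑Q' 1 D →
      H ≤ Geo.decompositionStabilizer D →
      ((∃ p : ℕ, p.Prime ∧ Fintype.card F = p ∧ p % 4 = 3) ∧ ∃ D : Fin 10 → Submodule F (Fin 10 → F),
        Geo.IsOrthogonalMDecomposition ⇑Q' 1 D ∧ H = Geo.decompositionStabilizer D ⊓ Geo.omegaGL ⇑Q') ∨
      SubfieldCase Q' H := fun t ht D hD hle => by
    subst ht
    obtain ⟨h2, hiff, hp | hs⟩ := frame_cases hQ' hI hι.symm (m := 5) hι hD hle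
    · refine Or.inl ⟨⟨_, hp, rfl, ?_⟩, D, hD, eq_inf_of_maximal hH hle
        (hS (SiegelIn.not_decomp hQ' h5 hD.decomp.decomp (Or.inr ⟨by norm_num, hD.decomp⟩)))⟩
      by_contra h3
      refine hminus (hiff.2 ?_)
      rw [show ((-1 : F) ^ 5) = -1 by norm_num]
      exact isSquare_neg_one_iff'.2 h3
    · exact Or.inr hs
  rcases even_cases hQ' (by omega) hsq hI with ⟨U, hU0, hU, hle⟩ | ⟨hq, v, hv, hle⟩ | ⟨U, hU0, hU1, hU, hd, hbad, hle⟩ |
    ⟨hirr, hcl⟩
  · exact Or.inl ⟨U, hU0, hU, eq_inf_of_maximal hH hle (hS (SiegelIn.not_stab hQ' (by omega) hU0 (finrank_lt_of_nondeg hQ' hU)))⟩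
  · have hv0 : v ≠ 0 := fun e => hv (by rw [e, QuadraticMap.map_zero])
    have h1 := finrank_span_singleton (K := F) hv0
    refine Or.inr (Or.inr (Or.inr (Or.inr (Or.inr (Or.inl ⟨hq, v, hv, eq_inf_of_maximal hH hle
      (hS (SiegelIn.not_stab hQ' (by omega) (fun e => ?_) fun e => ?_))⟩)))))
    · rw [e, finrank_bot] at h1; omega
    · rw [e, finrank_top, Module.finrank_fintype_fun_eq_card, hι] at h1; omega
  · have he := eq_inf_of_maximal hH hle (hS (SiegelIn.not_stab hQ' (by omega) hU0 hU1))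
    have h0 : Module.finrank F U ≠ 0 := fun e => hU0 (Submodule.finrank_eq_zero.1 e)
    obtain h | h | h | h | h : Module.finrank F U = 1 ∨ Module.finrank F U = 2 ∨ Module.finrank F U = 3 ∨
        Module.finrank F U = 4 ∨ Module.finrank F U = 5 := by omega
    · exact Or.inr (Or.inl ⟨odd_card_of_odd_dim hU (h ▸ odd_one), U, hU0, hU1, h ▸ odd_one, by omega, hU, he⟩)
    · by_cases hp : Geo.IsPlusTypeOn ⇑Q' U
      · exact Or.inr (Or.inr (Or.inr (Or.inl ⟨not_lt.1 fun hlt => hbad ⟨by omega, h, hp⟩, U, h, hU, hp, he⟩)))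
      · exact Or.inr (Or.inr (Or.inl ⟨U, h, hU, hp, he⟩))
    · exact Or.inr (Or.inl ⟨odd_card_of_odd_dim hU (h ▸ ⟨1, rfl⟩), U, hU0, hU1, h ▸ ⟨1, rfl⟩, by omega, hU, he⟩)
    · exact Or.inr (Or.inr (Or.inr (Or.inr (Or.inl ⟨U, h, hU, he⟩))))
    · obtain ⟨D, hD, -, hDle⟩ := halves_of_nondeg hQ' hI (k := 5) (by norm_num) h hι hU hle
      rcases hfive D hD hDle with h | h
      · iterate 8 right
        exact Or.inl h
      · iterate 9 right
        exact Or.inl h
  cases hcl with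
  | decomp t k D hD htk hle =>
    have ht := hD.decomp.decomp.two_le
    have hk0 := hD.decomp.decomp.pos
    have hk5 : k ≤ 5 := by rw [hι] at htk; nlinarith
    rw [hι] at htk
    obtain ⟨rfl, rfl⟩ | ⟨rfl, rfl⟩ | ⟨rfl, rfl⟩ : (t = 10 ∧ k = 1) ∨ (t = 5 ∧ k = 2) ∨ (t = 2 ∧ k = 5) := by
      interval_cases k <;> omega
    · rcases hframe 10 rfl D hD hle with h | h
      · iterate 6 right
        exact Or.inl h
      · iterate 12 right
        exact Or.inl (hsub h)
    · by_cases hq : Fintype.card F = 3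
      · obtain ⟨D', hD', hle'⟩ := parts_three hI hD hle hq (Or.inr ⟨rfl, fun i hp =>
          hminus (((type_even hQ' hD.decomp even_two hD.isometric).2 ⟨2, rfl⟩ i).2 hp)⟩)
        rcases hframe _ (by norm_num) D' hD' hle' with h | h
        · iterate 6 right
          exact Or.inl h
        · iterate 12 right
          exact Or.inl (hsub h)
      · iterate 7 right
        exact Or.inl ⟨hq, D, hD, eq_inf_of_maximal hH hle
          (hS (SiegelIn.not_decomp hQ' h5 hD.decomp.decomp (Or.inr ⟨by norm_num, hD.decomp⟩)))⟩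
    · rcases hfive D hD.decomp hle with h | h
      · iterate 8 right
        exact Or.inl h
      · iterate 9 right
        exact Or.inl h
  | pair k D hk hD hs hle => exact absurd (plus_of_pair hk hD hs) hminus
  | field r K hr hdvd hK hadj hle =>
    rcases field_twice_odd hQ' (m := 5) (by norm_num) ⟨2, rfl⟩ hι hI hirr hr hdvd hK hadj hle with
      ⟨hodd, L, hL, hLsa, hLle⟩ | ⟨L, hL, hLadj, hLsa, hnorm, hLle⟩ | ⟨D, hD, hs, -⟩
    · iterate 10 right
      exact Or.inl ⟨hodd, L, hL, hLsa, eq_inf_of_maximal hH hLle (not_field hQ' h5 le_rfl hL)⟩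
    · iterate 11 right
      exact Or.inl ⟨L, hL, hLadj, hLsa, hnorm, eq_inf_of_maximal hH hLle (not_field hQ' h5 le_rfl hL)⟩
    · exact absurd (plus_of_pair (by rw [hι]) hD hs) hminus
  | altTensor h => exact absurd (h.plus (by omega)) hminus
  | symTensor h =>
    obtain ⟨d, k, e, -, -, -, -, hd, hdk, -⟩ := h
    have hc : 10 = d * k := by simpa using Fintype.card_congr e
    nlinarith
  | abelian N h =>
    exfalso
    obtain ⟨-, ⟨m, -, hm⟩, -⟩ := abelian_cases hQ' hI h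
    rw [hι] at hm
    have : m < 4 := by
      by_contra hc
      have := Nat.pow_le_pow_right (show 0 < 2 by norm_num) (show 4 ≤ m by omega)
      omega
    interval_cases m <;> omega
  | factors d s φ h =>
    exfalso
    obtain ⟨J, hG⟩ := exists_geom hQ'
    obtain ⟨e, -⟩ := AschbacherForm.wreath_data hG (by omega) (sup_le (fun g hg =>
      ⟨1, fun u v => by rw [Units.val_one, one_mul]; exact isom_polar (hI hg) u v⟩) hG.scalars_le) h
    have hc : 10 = d ^ s := by simpa using Fintype.card_congr e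
    have hd := h.two_le_dim
    have hs := h.two_le_num
    have hs4 : s < 4 := by
      by_contra hn
      have : 2 ^ 4 ≤ d ^ s := le_trans (Nat.pow_le_pow_left hd 4) (Nat.pow_le_pow_right (by omega) (by omega))
      omega
    have hd4 : d < 4 := by
      by_contra hn
      have : 4 ^ 2 ≤ d ^ s := le_trans (Nat.pow_le_pow_left (by omega) 2) (Nat.pow_le_pow_right (by omega) hs)
      omega
    interval_cases s <;> interval_cases d <;> norm_num at hc
  | subfield h =>
    iterate 12 right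
    exact Or.inl (hsub h)
  | residual h =>
    iterate 13 right
    exact h

end Cfsg.Agent.S5850
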