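import Cfsg.Statements.S5856
import Cfsg.Agent.Lib.AschbacherForm.Cases.UnitNum
-- import your own Cfsg.Agent.* helpers here

set_option autoImplicit false
open Cfsg

set_option synthInstance.maxSize 4000

namespace Cfsg.Agent.S5856

open Cfsg Cfsg.Geo CfsgLib.AschbacherForm CfsgLib.AschbacherForm.Cases

/-- Every maximal subgroup of SU_11(q) is of one of the listed geometric types or lies in the residual class. Let F be the field with q² elements (characteristic p), f the standard unitary form Σ u_i v_i^q on F^11, and H a maximal subgroup of SU_11(q) (inside GL_11(F)). Then H is the intersection with SU_11(q) of one of: the stabiliser of a non-zero totally isotropic subspace; the stabiliser of a non-zero non-degenerate subspace W with 2 dim W < 11; the stabiliser of a decomposition into 11 mutually orthogonal non-degenerate 1-spaces; the normaliser of an adjoint-closed degree-11 subfield of the matrix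 algebra; a subfield group of odd prime index whose F₀-structure carries f; for q odd, a subfield group of index 2 whose F₀-structure carries f; for q = p with p ≡ 10 mod 11, or q = p⁵ with p ≡ 2, 6, 7 or 8 mod 11, the normaliser of an absolutely irreducible 11-group of exponent 11, order 11³ and centre of order 11 with all characteristic abelian subgroups cyclic consisting of isometries of f — or else H lies in the residual class of the unitary case (modulo scalars H is almost simple, with absolutely irreducible perfect socle preimage realisable over no proper subfield and fixing no non-degenerate quadratic or symplectic form). -/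
theorem result {F : Type*} [Field F] [Fintype F] (q : ℕ) (hF : Fintype.card F = q ^ 2) (H : Subgroup (Matrix.GeneralLinearGroup (Fin 11) F)) (hH : Cfsg.Geo.IsMaximalIn (Cfsg.GU 11 F q ⊓ Cfsg.Geo.specialLinear (Fin 11) F) H) :
    (∃ W : Submodule F (Fin 11 → F), W ≠ ⊥ ∧ Cfsg.Geo.IsTotallySingularFor (Cfsg.hermForm 11 F q) W ∧ H = Cfsg.Geo.subspaceStabilizer W ⊓ (Cfsg.GU 11 F q ⊓ Cfsg.Geo.specialLinear (Fin 11) F)) ∨
    (∃ W : Submodule F (Fin 11 → F), W ≠ ⊥ ∧ Cfsg.Geo.IsNondegenerateOn (Cfsg.hermForm 11 F q) W ∧ 2 * Module.finrank F W < 11 ∧ H = Cfsg.Geo.subspaceStabilizer W ⊓ (Cfsg.GU 11 F q ⊓ Cfsg.Geo.specialLinear (Fin 11) F)) ∨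
    (∃ D : Fin 11 → Submodule F (Fin 11 → F), Cfsg.Geo.IsNondegenerateMDecomposition (Cfsg.hermForm 11 F q) 1 D ∧ H = Cfsg.Geo.decompositionStabilizer D ⊓ (Cfsg.GU 11 F q ⊓ Cfsg.Geo.specialLinear (Fin 11) F)) ∨
    (∃ K : Subalgebra F (Matrix (Fin 11) (Fin 11) F), Cfsg.Geo.IsFieldSubalgebra 11 K ∧ Cfsg.Geo.IsAdjointClosedFor (Cfsg.hermForm 11 F q) K ∧ H = Cfsg.Geo.subalgebraNormalizer K ⊓ (Cfsg.GU 11 F q ⊓ Cfsg.Geo.specialLinear (Fin 11) F)) ∨
    (∃ (F₀ : Subfield F) (r : ℕ) (P : Matrix.GeneralLinearGroup (Fin 11) F), r.Prime ∧ Odd r ∧ Fintype.card F = Nat.card F₀ ^ r ∧ Cfsg.Geo.IsFormRationalStructure (Cfsg.hermForm 11 F q) F₀ 1 P ∧ H = Cfsg.Geo.subfieldSubgroup F₀ P ⊓ (Cfsg.GU 11 F q ⊓ Cfsg.Geo.specialLinear (Fin 11) F)) ∨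
    (Odd q ∧ ∃ (F₀ : Subfield F) (P : Matrix.GeneralLinearGroup (Fin 11) F), Fintype.card F = Nat.card F₀ ^ 2 ∧ Cfsg.Geo.IsFormRationalStructure (Cfsg.hermForm 11 F q) F₀ 1 P ∧ H = Cfsg.Geo.subfieldSubgroup F₀ P ⊓ (Cfsg.GU 11 F q ⊓ Cfsg.Geo.specialLinear (Fin 11) F)) ∨
    (∃ (p : ℕ) (R : Subgroup (Matrix.GeneralLinearGroup (Fin 11) F)), p.Prime ∧ CharP F p ∧ ((q = p ∧ p % 11 = 10) ∨ (q = p ^ 5 ∧ (p % 11 = 2 ∨ p % 11 = 6 ∨ p % 11 = 7 ∨ p % 11 = 8))) ∧ Cfsg.Geo.IsSymplecticTypeGroup 11 R ∧ Cfsg.Geo.ActsAbsolutelyIrreducibly (Cfsg.Geo.matrixSet R) ∧ R ≤ Cfsg.GU 11 F q ∧ Nat.card R = 1331 ∧ Nat.card (Subgroup.center R) = 11 ∧ H = Cfsg.Geo.subgroupNormalizer R ⊓ (Cfsg.GU 11 F q ⊓ Cfsg.Geo.specialLinear (Fin 11) F)) ∨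
    Cfsg.Geo.InUnitaryResidualClass H := by
  obtain ⟨τ, hU⟩ := exists_uform hF 11
  rcases su_reduce hU (by norm_num) (by norm_num) hH with hres | ⟨X, hX, hle, heq⟩
  · iterate 7 right
    exact hres
  rcases hX with ⟨W, h0, h1, rfl⟩ | ⟨W, h0, h1, h2, rfl⟩ | ⟨t, k, D, h0, rfl⟩ | ⟨k, D, h0, h1, h2, rfl⟩ |
    ⟨F₀, r, P, h0, h1, h2, h3, rfl⟩ | ⟨F₀, P, h0, h1, h2, rfl⟩ | ⟨F₀, P, ζ, h0, h1, h2, h3, h4, h5, rfl⟩ |
    ⟨r, R, p, e, k, a, b, c, d, g, i, rfl, hnk, hz, hGU, -⟩ |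
    ⟨r, K, h0, h1, h2, h3, rfl⟩ | ⟨n₁, n₂, e, P, f₁, f₂, h0, h1, h2, h3, h4, rfl⟩ |
    ⟨k, t, e, P, f₁, h0, h1, h2, h3, h4, rfl⟩
  · exact Or.inl ⟨W, h0, h1, heq⟩
  · exact Or.inr (Or.inl ⟨W, h0, h1, h2, heq⟩)
  · obtain ⟨h, ht, hk⟩ := unit_eq_card h0
    obtain ⟨rfl, rfl⟩ : t = 11 ∧ k = 1 := by
      have hkn : k ≤ 5 := by nlinarith
      interval_cases k <;> omega
    exact Or.inr (Or.inr (Or.inl ⟨D, h0, heq⟩))
  · omega
  · iterate 4 right
    exact Or.inl ⟨F₀, r, P, h0, h1, h2, h3, heq⟩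
  · iterate 5 right
    exact Or.inl ⟨h0, F₀, P, h1, h2, heq⟩
  · exact absurd h0 (by decide)
  · obtain ⟨hsym, hR, hcard, hcz, hpP, hchar, f, hf, hlt, hq, h1', h2'⟩ :=
      unit_six_prime hU (by norm_num) (by norm_num) a g i hnk hGU
    iterate 6 right
    refine Or.inl ⟨p, R, hpP, hchar, ?_, hsym, b, hR, hcard, hcz, heq⟩
    have hf3 : f ≤ 5 := by omega
    have hp7 : p % 11 < 11 := Nat.mod_lt _ (by norm_num)
    have key : ∀ x < 11, ∀ f < 6, 1 ≤ f → x ^ (2 * f) % 11 = 1 →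
        (∀ d < 11, 0 < d → d < 2 * f → x ^ d % 11 ≠ 1) →
        (f = 1 ∧ (x = 10 ∨ x = 1)) ∨ (f = 5 ∧ (x = 2 ∨ x = 6 ∨ x = 7 ∨ x = 8)) := by
      decide
    rcases key _ hp7 f (by omega) hf h1' h2' with ⟨rfl, hx | hx⟩ | ⟨rfl, hx⟩
    · exact Or.inl ⟨by rw [hq, pow_one], hx⟩
    · exact absurd (by rw [hx]; norm_num) (h2' 1 (by norm_num) one_pos (by norm_num))
    · exact Or.inr ⟨hq, hx⟩
  · obtain rfl : r = 11 :=
      (Nat.prime_dvd_prime_iff_eq h0 (by norm_num)).1 (CfsgLib.Aschbacher.Cases.dvd_of_field (by norm_num) h2)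
    exact Or.inr (Or.inr (Or.inr (Or.inl ⟨K, h2, h3, heq⟩)))
  · exfalso
    have hc : 11 = n₁ * n₂ := by simpa using Fintype.card_congr e
    have hn1 : n₁ ∣ 11 := ⟨n₂, hc⟩
    rcases (Nat.dvd_prime (by norm_num)).1 hn1 with rfl | rfl <;> omega
  · exfalso
    have hc : 11 = k ^ t := by simpa using Fintype.card_congr e
    obtain ⟨-, rfl⟩ := eq_of_pow_eq_prime' (by norm_num) hc
    omega

end Cfsg.Agent.S5856
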