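import Cfsg.Statements.S5870
import Cfsg.Agent.Lib.OrthFrame.Main
import Cfsg.Agent.Lib.OrthMax.Apps
import Cfsg.Agent.Lib.OrthMax.DecompAll
import Cfsg.Agent.Lib.OrthMax.EvenRows
import Cfsg.Agent.Lib.OrthField.Bridge

set_option autoImplicit false
open Cfsg

namespace Cfsg.Agent.S5870

/-- Maximal subgroups of Ω_12^+(q) of geometric type (any q). Let F be a finite field with q elements (characteristic p), Q a non-degenerate quadratic form on F^12 (non-degenerate polar form) of plus type (Witt index 6: some totally singular 6-space), and Ω = Ω_12^+(q) the commutator subgroup of the isometry group of Q, inside GL_12(F). Each of the following, intersected with Ω, is a maximal subgroup of Ω: (1) the stabiliser of any non-zero subspace on which Q vanishes identically other than those of dimension 5 (totally singular subspaces, dimensions 1, 2, 3, 4 and 6); (2) for q odd, the stabiliser of any subspace of odd dimension on which the polar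 form of Q is non-degenerate; (3) the stabiliser of any non-degenerate 2-space of minus type (containing no non-zero singular vector); (4) for q ≥ 4, the stabiliser of any non-degenerate 2-space of plus type (containing a non-zero singular vector); (5) the stabiliser of any non-degenerate 4-space (either type); (6) for q even, the stabiliser of the 1-space spanned by any non-singular vector v (Q(v) ≠ 0); (7) for q = p an odd prime, the stabiliser of any decomposition of F^12 into 12 pairwise orthogonal, pairwise Q-isometric non-degenerate 1-spaces; (8) for q ≥ 7, the stabiliser of any decomposition of F^12 into 6 pairwise orthogonal, pairwise Q-isometric non-degenerate 2-spaces of plus type; (9) for q ≠ 3, the stabiliser of any decomposition of F^12 into 6 pairwise orthogonal, pairwise Q-isometric non-degenerate 2-spaces of minus type; (10) for q odd with q ≥ 5, the stabiliser of any decomposition of F^12 into 4 pairwise orthogonal,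 pairwise Q-isometric non-degenerate 3-spaces; (11) for q ≥ 3, the stabiliser of any decomposition of F^12 into 3 pairwise orthogonal, pairwise Q-isometric non-degenerate 4-spaces; (12) the stabiliser of any decomposition of F^12 into 2 pairwise orthogonal, pairwise Q-isometric non-degenerate 6-spaces; (13) the stabiliser of any decomposition into two totally singular 6-spaces; (14) for q odd, the normaliser of any degree-2 subfield K of the matrix algebra whose elements are self-adjoint for the polar form of Q (Q is then the trace of a quadratic form over K); (15) for q odd, the normaliser of any degree-3 subfield K of the matrix algebra whose elements are self-adjoint for the polar form of Q (Q is then the trace of a quadratic form over K); (16) the normaliser of any degree-2 subfield K of the matrix algebra, closed under adjoints for the polar form but not self-adjoint, whose elements act as similarities of Q (so F^12 becomes a 6-dimensional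 space over K with a hermitian form, and the subgroup is of the type of the unitary group GU_6(q)); (17) for q ≥ 3, the stabiliser of any tensor decomposition F^12 = F^2 ⊗ F^6 in which the polar form of Q is (alternating form) ⊗ (alternating form) up to a scalar and Q vanishes on all pure tensors; (18) every subfield group for a subfield F₀ with |F| = |F₀|^r, r prime, whose F₀-structure carries a non-zero scalar multiple of Q. -/
theorem result {F : Type*} [Field F] [Fintype F] (Q : (Fin 12 → F) → F) (hQ : Cfsg.Geo.IsNondegenerateQuadraticForm Q) (hplus : Cfsg.Geo.IsPlusTypeOn Q ⊤) :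
    (∀ W : Submodule F (Fin 12 → F), W ≠ ⊥ → Cfsg.Geo.IsTotallySingularQuad Q W → Module.finrank F W ≠ 5 → Cfsg.Geo.IsMaximalIn (Cfsg.Geo.omegaGL Q) (Cfsg.Geo.subspaceStabilizer W ⊓ Cfsg.Geo.omegaGL Q)) ∧
    (Odd (Fintype.card F) → ∀ W : Submodule F (Fin 12 → F), W ≠ ⊥ → W ≠ ⊤ → Odd (Module.finrank F W) → 2 * Module.finrank F W ≠ 12 → Cfsg.Geo.IsNondegenerateOn (QuadraticMap.polar Q) W → Cfsg.Geo.IsMaximalIn (Cfsg.Geo.omegaGL Q) (Cfsg.Geo.subspaceStabilizer W ⊓ Cfsg.Geo.omegaGL Q)) ∧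
    (∀ W : Submodule F (Fin 12 → F), Module.finrank F W = 2 → Cfsg.Geo.IsNondegenerateOn (QuadraticMap.polar Q) W → ¬ Cfsg.Geo.IsPlusTypeOn Q W → Cfsg.Geo.IsMaximalIn (Cfsg.Geo.omegaGL Q) (Cfsg.Geo.subspaceStabilizer W ⊓ Cfsg.Geo.omegaGL Q)) ∧
    (4 ≤ Fintype.card F → ∀ W : Submodule F (Fin 12 → F), Module.finrank F W = 2 → Cfsg.Geo.IsNondegenerateOn (QuadraticMap.polar Q) W → Cfsg.Geo.IsPlusTypeOn Q W → Cfsg.Geo.IsMaximalIn (Cfsg.Geo.omegaGL Q) (Cfsg.Geo.subspaceStabilizer W ⊓ Cfsg.Geo.omegaGL Q)) ∧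
    (∀ W : Submodule F (Fin 12 → F), Module.finrank F W = 4 → Cfsg.Geo.IsNondegenerateOn (QuadraticMap.polar Q) W → Cfsg.Geo.IsMaximalIn (Cfsg.Geo.omegaGL Q) (Cfsg.Geo.subspaceStabilizer W ⊓ Cfsg.Geo.omegaGL Q)) ∧
    (¬ Odd (Fintype.card F) → ∀ v : (Fin 12 → F), Q v ≠ 0 → Cfsg.Geo.IsMaximalIn (Cfsg.Geo.omegaGL Q) (Cfsg.Geo.subspaceStabilizer (Submodule.span F {v}) ⊓ Cfsg.Geo.omegaGL Q)) ∧
    ((∃ p : ℕ, p.Prime ∧ Odd p ∧ Fintype.card F = p) → ∀ D : Fin 12 → Submodule F (Fin 12 → F), Cfsg.Geo.IsOrthogonalMDecomposition Q 1 D → Cfsg.Geo.IsMaximalIn (Cfsg.Geo.omegaGL Q) (Cfsg.Geo.decompositionStabilizer D ⊓ Cfsg.Geo.omegaGL Q)) ∧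
    (7 ≤ Fintype.card F → ∀ D : Fin 6 → Submodule F (Fin 12 → F), Cfsg.Geo.IsOrthogonalMDecomposition Q 2 D → (∀ i, Cfsg.Geo.IsPlusTypeOn Q (D i)) → Cfsg.Geo.IsMaximalIn (Cfsg.Geo.omegaGL Q) (Cfsg.Geo.decompositionStabilizer D ⊓ Cfsg.Geo.omegaGL Q)) ∧
    (Fintype.card F ≠ 3 → ∀ D : Fin 6 → Submodule F (Fin 12 → F), Cfsg.Geo.IsOrthogonalMDecomposition Q 2 D → (∀ i, ¬ Cfsg.Geo.IsPlusTypeOn Q (D i)) → Cfsg.Geo.IsMaximalIn (Cfsg.Geo.omegaGL Q) (Cfsg.Geo.decompositionStabilizer D ⊓ Cfsg.Geo.omegaGL Q)) ∧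
    (Odd (Fintype.card F) ∧ 5 ≤ Fintype.card F → ∀ D : Fin 4 → Submodule F (Fin 12 → F), Cfsg.Geo.IsOrthogonalMDecomposition Q 3 D → Cfsg.Geo.IsMaximalIn (Cfsg.Geo.omegaGL Q) (Cfsg.Geo.decompositionStabilizer D ⊓ Cfsg.Geo.omegaGL Q)) ∧
    (3 ≤ Fintype.card F → ∀ D : Fin 3 → Submodule F (Fin 12 → F), Cfsg.Geo.IsOrthogonalMDecomposition Q 4 D → Cfsg.Geo.IsMaximalIn (Cfsg.Geo.omegaGL Q) (Cfsg.Geo.decompositionStabilizer D ⊓ Cfsg.Geo.omegaGL Q)) ∧
    (∀ D : Fin 2 → Submodule F (Fin 12 → F), Cfsg.Geo.IsOrthogonalMDecomposition Q 6 D → Cfsg.Geo.IsMaximalIn (Cfsg.Geo.omegaGL Q) (Cfsg.Geo.decompositionStabilizer D ⊓ Cfsg.Geo.omegaGL Q)) ∧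
    (∀ D : Fin 2 → Submodule F (Fin 12 → F), Cfsg.Geo.IsMDecomposition 6 D → (∀ i, Cfsg.Geo.IsTotallySingularQuad Q (D i)) → Cfsg.Geo.IsMaximalIn (Cfsg.Geo.omegaGL Q) (Cfsg.Geo.decompositionStabilizer D ⊓ Cfsg.Geo.omegaGL Q)) ∧
    (Odd (Fintype.card F) → ∀ K : Subalgebra F (Matrix (Fin 12) (Fin 12) F), Cfsg.Geo.IsFieldSubalgebra 2 K → Cfsg.Geo.IsSelfAdjointFor (QuadraticMap.polar Q) K → Cfsg.Geo.IsMaximalIn (Cfsg.Geo.omegaGL Q) (Cfsg.Geo.subalgebraNormalizer K ⊓ Cfsg.Geo.omegaGL Q)) ∧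
    (Odd (Fintype.card F) → ∀ K : Subalgebra F (Matrix (Fin 12) (Fin 12) F), Cfsg.Geo.IsFieldSubalgebra 3 K → Cfsg.Geo.IsSelfAdjointFor (QuadraticMap.polar Q) K → Cfsg.Geo.IsMaximalIn (Cfsg.Geo.omegaGL Q) (Cfsg.Geo.subalgebraNormalizer K ⊓ Cfsg.Geo.omegaGL Q)) ∧
    (∀ K : Subalgebra F (Matrix (Fin 12) (Fin 12) F), Cfsg.Geo.IsFieldSubalgebra 2 K → Cfsg.Geo.IsAdjointClosedFor (QuadraticMap.polar Q) K → ¬ Cfsg.Geo.IsSelfAdjointFor (QuadraticMap.polar Q) K → (∀ k ∈ K, ∃ c : F, ∀ v : (Fin 12 → F), Q (Matrix.mulVec k v) = c * Q v) → Cfsg.Geo.IsMaximalIn (Cfsg.Geo.omegaGL Q) (Cfsg.Geo.subalgebraNormalizer K ⊓ Cfsg.Geo.omegaGL Q)) ∧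
    (3 ≤ Fintype.card F → ∀ (e : Fin 12 ≃ Fin 2 × Fin 6) (P : Matrix.GeneralLinearGroup (Fin 12) F) (f₁ : (Fin 2 → F) → (Fin 2 → F) → F) (f₂ : (Fin 6 → F) → (Fin 6 → F) → F), Cfsg.Geo.IsSymplecticForm f₁ → Cfsg.Geo.IsSymplecticForm f₂ → Cfsg.Geo.IsTensorFormStructure id (QuadraticMap.polar Q) f₁ f₂ e P → (∀ (x₁ : Fin 2 → F) (x₂ : Fin 6 → F), Q (Matrix.mulVec (P : Matrix (Fin 12) (Fin 12) F) ((fun a : Fin 2 × Fin 6 => x₁ a.1 * x₂ a.2) ∘ e)) = 0) → Cfsg.Geo.IsMaximalIn (Cfsg.Geo.omegaGL Q) (Cfsg.Geo.tensorProductSubgroup 2 6 e P ⊓ Cfsg.Geo.omegaGL Q)) ∧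
    (∀ (F₀ : Subfield F) (r : ℕ) (P : Matrix.GeneralLinearGroup (Fin 12) F) (ζ : F), r.Prime → Fintype.card F = Nat.card F₀ ^ r → ζ ≠ 0 → Cfsg.Geo.IsQuadFormRationalStructure (fun v : Fin 12 → F => ζ * Q v) F₀ P → Cfsg.Geo.IsMaximalIn (Cfsg.Geo.omegaGL Q) (Cfsg.Geo.subfieldSubgroup F₀ P ⊓ Cfsg.Geo.omegaGL Q)) := by
  obtain ⟨Q', rfl, hQ'⟩ := CfsgLib.Geometry.exists_quadraticForm hQ
  have hn12 : 12 ≤ Fintype.card (Fin 12) := by simp
  have h2of : Odd (Fintype.card F) → (2 : F) ≠ 0 := fun h =>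
    CfsgLib.Geometry.two_ne_zero_of_odd_card rfl h
  have hperp := fun W => CfsgLib.Geometry.finrank_polarPerp hQ' (W : Submodule F (Fin 12 → F))
  have hV : Module.finrank F (Fin 12 → F) = 12 := by simp
  -- stabilisers of non-degenerate subspaces of dimension other than six
  have nd : ∀ W : Submodule F (Fin 12 → F), W ≠ ⊥ → W ≠ ⊤ → Module.finrank F W ≠ 6 →
      Cfsg.Geo.IsNondegenerateOn (QuadraticMap.polar ⇑Q') W →
      ¬ (Nat.card F ≤ 3 ∧ Module.finrank F W = 2 ∧ ∃ z ∈ W, z ≠ 0 ∧ Q' z = 0) →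
      Module.finrank F W ≠ 10 →
      Cfsg.Geo.IsMaximalIn (Cfsg.Geo.omegaGL ⇑Q') (Cfsg.Geo.subspaceStabilizer W ⊓ Cfsg.Geo.omegaGL ⇑Q') := by
    intro W h0 h1 h6 hW hex h10
    refine CfsgLib.OrthMax.nondeg_maximal hQ' (by simp) h0 h1
      (CfsgLib.OrthMax.nd_of_isNondegenerateOn hW) (fun h => ?_) hex fun h => ?_
    · rw [Fintype.card_fin] at h; omega
    · have := hperp W; omega
  have ndim : ∀ (W : Submodule F (Fin 12 → F)) (d : ℕ), Module.finrank F W = d → 0 < d → d < 12 →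
      W ≠ ⊥ ∧ W ≠ ⊤ := fun W d hd h0 h1 =>
    ⟨fun e => by rw [e, finrank_bot] at hd; omega, fun e => by rw [e, finrank_top, hV] at hd; omega⟩
  have dec : ∀ {t k : ℕ} (D : Fin t → Submodule F (Fin 12 → F)),
      Cfsg.Geo.IsOrthogonalMDecomposition ⇑Q' k D → 2 ≤ k →
      (k = 2 → 7 ≤ Fintype.card F ∨ (Fintype.card F ≠ 3 ∧ ∀ i, ¬ Cfsg.Geo.IsPlusTypeOn (⇑Q') (D i))) →
      (k = 3 → Odd (Fintype.card F) ∧ Fintype.card F ≠ 3) →
      (k = 4 → Fintype.card F ≠ 2 ∨ ∀ i, ¬ Cfsg.Geo.IsPlusTypeOn (⇑Q') (D i)) →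
      Cfsg.Geo.IsMaximalIn (Cfsg.Geo.omegaGL ⇑Q')
        (Cfsg.Geo.decompositionStabilizer D ⊓ Cfsg.Geo.omegaGL ⇑Q') :=
    fun D hD hk a b c => CfsgLib.OrthMax.decomp_all_maximal hQ' (by simp) hD hk a b c
  refine ⟨fun W hW0 hW h5 => CfsgLib.OrthMax.singular_maximal hQ' (by simp) hW0 hW
      (fun _ _ _ _ h => by rw [Fintype.card_fin] at h; omega),
    fun hodd W h0 h1 hWo h6 hW => nd W h0 h1 (by omega) hW
      (fun h => absurd h.2.1 (fun e => by rw [e] at hWo; exact absurd hWo (by decide)))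
      (fun e => by rw [e] at hWo; exact absurd hWo (by decide)),
    fun W hd hW hnp => ?_, fun hq W hd hW _ => ?_, fun W hd hW => ?_, fun hc v hv => ?_,
    fun hp D hD => ?_, fun hq D hD _ => dec D hD le_rfl (fun _ => Or.inl hq) (by omega) (by omega),
    fun hq D hD hnp => dec D hD le_rfl (fun _ => Or.inr ⟨hq, hnp⟩) (by omega) (by omega),
    fun hq D hD => dec D hD (by norm_num) (by omega) (fun _ => ⟨hq.1, by omega⟩) (by omega),
    fun hq D hD => dec D hD (by norm_num) (by omega) (by omega) (fun _ => Or.inl (by omega)),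
    fun D hD => dec D hD (by norm_num) (by omega) (by omega) (by omega),
    fun D hD hts => CfsgLib.OrthMax.singular_pair_maximal le_rfl (by decide) _ hQ hplus 6 rfl (by decide) D hD hts,
    fun hodd K hK hsa => CfsgLib.OrthField.orth_field_maximal hQ' (h2of hodd) Nat.prime_two hK hsa
      (by simp) (Or.inl ⟨by simp, Or.inr (by simp)⟩),
    fun hodd K hK hsa => CfsgLib.OrthField.orth_field_maximal hQ' (h2of hodd) Nat.prime_three hK hsa
      (by simp) (Or.inl ⟨by simp, Or.inl le_rfl⟩),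
    fun K hK hac hnsa hsc => CfsgLib.OrthMax.unitary_field_maximal (by norm_num) (by decide) _ hQ K hK hac hnsa hsc,
    fun hq e P f₁ f₂ hf₁ hf₂ hT hpure => CfsgLib.OrthMax.tensor_sp_maximal le_rfl (by decide) _ hQ hplus 2 6
      (by norm_num) (by omega) e P f₁ f₂ hf₁ hf₂ hT hpure,
    fun F₀ r P ζ hr hcard hζ hP =>
      CfsgLib.OrthMax.subfield_even_maximal (by norm_num) (by decide) _ hQ F₀ r hr hcard P ζ hζ hP⟩
  · obtain ⟨h0, h1⟩ := ndim W 2 hd (by norm_num) (by norm_num)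
    refine nd W h0 h1 (by omega) hW ?_ (by omega)
    rintro ⟨-, -, z, hz, hz0, hQz⟩
    refine hnp ⟨Submodule.span F {z}, by rwa [Submodule.span_singleton_le_iff_mem], fun w hw => ?_, ?_⟩
    · obtain ⟨c, rfl⟩ := Submodule.mem_span_singleton.1 hw
      rw [CfsgLib.Geometry.map_smul', hQz, mul_zero]
    · rw [finrank_span_singleton hz0, hd]
  · obtain ⟨h0, h1⟩ := ndim W 2 hd (by norm_num) (by norm_num)
    exact nd W h0 h1 (by omega) hW (fun h => by rw [Nat.card_eq_fintype_card] at h; omega) (by omega)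
  · obtain ⟨h0, h1⟩ := ndim W 4 hd (by norm_num) (by norm_num)
    exact nd W h0 h1 (by omega) hW (fun h => by omega) (by omega)
  · refine CfsgLib.OrthMax.line_maximal hQ' (by simp) ?_ hv
    by_contra h2
    exact hc (Nat.odd_iff.2 (FiniteField.odd_card_of_char_ne_two (F := F) fun h => h2 (by
      haveI := ringChar.of_eq h
      exact CharTwo.two_eq_zero)))
  · obtain ⟨p, hpp, hpo, hpc⟩ := hp
    have : Fact (Nat.card F).Prime := ⟨by rw [Nat.card_eq_fintype_card, hpc]; exact hpp⟩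
    exact CfsgLib.OrthFrame.frame_maximal_of (h2of (hpc ▸ hpo)) hQ' (by simp) (Or.inl (by simp)) hD

end Cfsg.Agent.S5870
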