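import Cfsg.Statements.S5871
import Cfsg.Agent.Lib.AschbacherOrth.TwelvePlus
import Cfsg.Agent.Lib.AschbacherOrth.Eight

set_option autoImplicit false
open Cfsg CfsgLib CfsgLib.AschbacherOrth

namespace Cfsg.Agent.S5871

/-- Every maximal subgroup of Ω_12^+(q) is of one of the listed geometric types or lies in the residual class. Let F be a finite field with q elements (characteristic p), Q a non-degenerate quadratic form on F^12 of plus type (Witt index 6: some totally singular 6-space), Ω the commutator subgroup of its isometry group, and H a maximal subgroup of Ω (inside GL_12(F)). Then H is the intersection with Ω of one of: the stabiliser of a non-zero totally singular subspace of dimension ≠ 5; for q odd, the stabiliser of a non-degenerate subspace of odd dimension; the stabiliser of a non-degenerate 2-space of minus type; for q ≥ 4, the stabiliser of a non-degenerate 2-space of plus type; the stabiliser of a non-degenerate 4-space; for q even,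 the stabiliser of the span of a non-singular vector; for q = p an odd prime, the stabiliser of a decomposition into 12 pairwise orthogonal, pairwise isometric non-degenerate 1-spaces; for q ≥ 7, the stabiliser of a decomposition into 6 pairwise orthogonal, pairwise isometric non-degenerate 2-spaces of plus type; for q ≠ 3, the stabiliser of a decomposition into 6 pairwise orthogonal, pairwise isometric non-degenerate 2-spaces of minus type; for q odd with q ≥ 5, the stabiliser of a decomposition into 4 pairwise orthogonal, pairwise isometric non-degenerate 3-spaces; for q ≥ 3, the stabiliser of a decomposition into 3 pairwise orthogonal, pairwise isometric non-degenerate 4-spaces; the stabiliser of a decomposition into 2 pairwise orthogonal, pairwise isometric non-degenerate 6-spaces; of a decomposition into two totally singular 6-spaces; the normaliser of a degree-2 subfield of the matrix algebra; the normaliser of a degree-3 subfield of the matrix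 algebra; the normaliser of a degree-2 subfield K, adjoint-closed but not self-adjoint, acting by similarities of Q; for q ≥ 3, the stabiliser of a tensor decomposition of Q into alternating forms on F^2 and F^6 (Q vanishing on pure tensors); a subfield group (|F| = |F₀|^r, r prime) whose F₀-structure carries a non-zero multiple of Q — or else H lies in the residual class of the orthogonal case (modulo scalars H is almost simple, with absolutely irreducible perfect socle preimage realisable over no proper subfield and fixing no non-degenerate unitary form). -/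
theorem result {F : Type*} [Field F] [Fintype F] (Q : (Fin 12 → F) → F) (hQ : Cfsg.Geo.IsNondegenerateQuadraticForm Q) (hplus : Cfsg.Geo.IsPlusTypeOn Q ⊤) (H : Subgroup (Matrix.GeneralLinearGroup (Fin 12) F)) (hH : Cfsg.Geo.IsMaximalIn (Cfsg.Geo.omegaGL Q) H) :
    (∃ W : Submodule F (Fin 12 → F), W ≠ ⊥ ∧ Cfsg.Geo.IsTotallySingularQuad Q W ∧ Module.finrank F W ≠ 5 ∧ H = Cfsg.Geo.subspaceStabilizer W ⊓ Cfsg.Geo.omegaGL Q) ∨
    (Odd (Fintype.card F) ∧ ∃ W : Submodule F (Fin 12 → F), W ≠ ⊥ ∧ W ≠ ⊤ ∧ Odd (Module.finrank F W) ∧ 2 * Module.finrank F W ≠ 12 ∧ Cfsg.Geo.IsNondegenerateOn (QuadraticMap.polar Q) W ∧ H = Cfsg.Geo.subspaceStabilizer W ⊓ Cfsg.Geo.omegaGL Q) ∨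
    (∃ W : Submodule F (Fin 12 → F), Module.finrank F W = 2 ∧ Cfsg.Geo.IsNondegenerateOn (QuadraticMap.polar Q) W ∧ ¬ Cfsg.Geo.IsPlusTypeOn Q W ∧ H = Cfsg.Geo.subspaceStabilizer W ⊓ Cfsg.Geo.omegaGL Q) ∨
    (4 ≤ Fintype.card F ∧ ∃ W : Submodule F (Fin 12 → F), Module.finrank F W = 2 ∧ Cfsg.Geo.IsNondegenerateOn (QuadraticMap.polar Q) W ∧ Cfsg.Geo.IsPlusTypeOn Q W ∧ H = Cfsg.Geo.subspaceStabilizer W ⊓ Cfsg.Geo.omegaGL Q) ∨
    (∃ W : Submodule F (Fin 12 → F), Module.finrank F W = 4 ∧ Cfsg.Geo.IsNondegenerateOn (QuadraticMap.polar Q) W ∧ H = Cfsg.Geo.subspaceStabilizer W ⊓ Cfsg.Geo.omegaGL Q) ∨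
    (¬ Odd (Fintype.card F) ∧ ∃ v : (Fin 12 → F), Q v ≠ 0 ∧ H = Cfsg.Geo.subspaceStabilizer (Submodule.span F {v}) ⊓ Cfsg.Geo.omegaGL Q) ∨
    ((∃ p : ℕ, p.Prime ∧ Odd p ∧ Fintype.card F = p) ∧ ∃ D : Fin 12 → Submodule F (Fin 12 → F), Cfsg.Geo.IsOrthogonalMDecomposition Q 1 D ∧ H = Cfsg.Geo.decompositionStabilizer D ⊓ Cfsg.Geo.omegaGL Q) ∨
    (7 ≤ Fintype.card F ∧ ∃ D : Fin 6 → Submodule F (Fin 12 → F), Cfsg.Geo.IsOrthogonalMDecomposition Q 2 D ∧ (∀ i, Cfsg.Geo.IsPlusTypeOn Q (D i)) ∧ H = Cfsg.Geo.decompositionStabilizer D ⊓ Cfsg.Geo.omegaGL Q) ∨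
    (Fintype.card F ≠ 3 ∧ ∃ D : Fin 6 → Submodule F (Fin 12 → F), Cfsg.Geo.IsOrthogonalMDecomposition Q 2 D ∧ (∀ i, ¬ Cfsg.Geo.IsPlusTypeOn Q (D i)) ∧ H = Cfsg.Geo.decompositionStabilizer D ⊓ Cfsg.Geo.omegaGL Q) ∨
    (Odd (Fintype.card F) ∧ 5 ≤ Fintype.card F ∧ ∃ D : Fin 4 → Submodule F (Fin 12 → F), Cfsg.Geo.IsOrthogonalMDecomposition Q 3 D ∧ H = Cfsg.Geo.decompositionStabilizer D ⊓ Cfsg.Geo.omegaGL Q) ∨
    (3 ≤ Fintype.card F ∧ ∃ D : Fin 3 → Submodule F (Fin 12 → F), Cfsg.Geo.IsOrthogonalMDecomposition Q 4 D ∧ H = Cfsg.Geo.decompositionStabilizer D ⊓ Cfsg.Geo.omegaGL Q) ∨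
    (∃ D : Fin 2 → Submodule F (Fin 12 → F), Cfsg.Geo.IsOrthogonalMDecomposition Q 6 D ∧ H = Cfsg.Geo.decompositionStabilizer D ⊓ Cfsg.Geo.omegaGL Q) ∨
    (∃ D : Fin 2 → Submodule F (Fin 12 → F), Cfsg.Geo.IsMDecomposition 6 D ∧ (∀ i, Cfsg.Geo.IsTotallySingularQuad Q (D i)) ∧ H = Cfsg.Geo.decompositionStabilizer D ⊓ Cfsg.Geo.omegaGL Q) ∨
    (∃ K : Subalgebra F (Matrix (Fin 12) (Fin 12) F), Cfsg.Geo.IsFieldSubalgebra 2 K ∧ H = Cfsg.Geo.subalgebraNormalizer K ⊓ Cfsg.Geo.omegaGL Q) ∨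
    (∃ K : Subalgebra F (Matrix (Fin 12) (Fin 12) F), Cfsg.Geo.IsFieldSubalgebra 3 K ∧ H = Cfsg.Geo.subalgebraNormalizer K ⊓ Cfsg.Geo.omegaGL Q) ∨
    (∃ K : Subalgebra F (Matrix (Fin 12) (Fin 12) F), Cfsg.Geo.IsFieldSubalgebra 2 K ∧ Cfsg.Geo.IsAdjointClosedFor (QuadraticMap.polar Q) K ∧ ¬ Cfsg.Geo.IsSelfAdjointFor (QuadraticMap.polar Q) K ∧ (∀ k ∈ K, ∃ c : F, ∀ v : (Fin 12 → F), Q (Matrix.mulVec k v) = c * Q v) ∧ H = Cfsg.Geo.subalgebraNormalizer K ⊓ Cfsg.Geo.omegaGL Q) ∨
    (3 ≤ Fintype.card F ∧ ∃ (e : Fin 12 ≃ Fin 2 × Fin 6) (P : Matrix.GeneralLinearGroup (Fin 12) F) (f₁ : (Fin 2 → F) → (Fin 2 → F) → F) (f₂ : (Fin 6 → F) → (Fin 6 → F) → F), Cfsg.Geo.IsSymplecticForm f₁ ∧ Cfsg.Geo.IsSymplecticForm f₂ ∧ Cfsg.Geo.IsTensorFormStructure id (QuadraticMap.polar Q) f₁ f₂ e P ∧ (∀ (x₁ : Fin 2 → F) (x₂ : Fin 6 → F), Q (Matrix.mulVec (P : Matrix (Fin 12) (Fin 12) F) ((fun a : Fin 2 × Fin 6 => x₁ a.1 * x₂ a.2) ∘ e)) = 0) ∧ H = Cfsg.Geo.tensorProductSubgroup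 2 6 e P ⊓ Cfsg.Geo.omegaGL Q) ∨
    (∃ (F₀ : Subfield F) (r : ℕ) (P : Matrix.GeneralLinearGroup (Fin 12) F) (ζ : F), r.Prime ∧ Fintype.card F = Nat.card F₀ ^ r ∧ ζ ≠ 0 ∧ Cfsg.Geo.IsQuadFormRationalStructure (fun v : Fin 12 → F => ζ * Q v) F₀ P ∧ H = Cfsg.Geo.subfieldSubgroup F₀ P ⊓ Cfsg.Geo.omegaGL Q) ∨
    Cfsg.Geo.InOrthogonalResidualClass H := by
  classical
  obtain ⟨Q', rfl, hQ'⟩ := Geometry.exists_quadraticForm hQ
  have hι : Fintype.card (Fin 12) = 12 := Fintype.card_fin 12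
  have h5 : 5 ≤ Fintype.card (Fin 12) := by omega
  have hS : ∀ {X : Subgroup (Matrix.GeneralLinearGroup (Fin 12) F)}, ¬ SiegelIn Q' X → ¬ Geo.omegaGL ⇑Q' ≤ X :=
    fun h h' => h (siegelIn_of_omega_le hQ' h5 h')
  have hI : H ≤ isometryGroup F ⇑Q' := hH.1.le.trans (omega_le_isometry _)
  have hsq : ∀ d : ℕ, d * d ≠ Fintype.card (Fin 12) := fun d h => by
    rw [hι] at h
    have : d < 4 := by nlinarith
    interval_cases d <;> omega
  have hsub : SubfieldCase Q' H → ∃ (F₁ : Subfield F) (r : ℕ) (B : Matrix.GeneralLinearGroup (Fin 12) F) (ζ : F),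
      r.Prime ∧ Fintype.card F = Nat.card F₁ ^ r ∧ ζ ≠ 0 ∧
        Geo.IsQuadFormRationalStructure (fun v : Fin 12 → F => ζ * Q' v) F₁ B ∧
        H = Geo.subfieldSubgroup F₁ B ⊓ Geo.omegaGL ⇑Q' := fun h => by
    obtain ⟨F₁, r, B, ζ, hr, hc, hζ, hrat, hle⟩ := h
    exact ⟨F₁, r, B, ζ, hr, hc, hζ, hrat,
      eq_inf_of_maximal hH hle (hS (not_subfield hQ' h5 (subfield_ne_top hr hc) B))⟩
  have hlines : ∀ (t : ℕ) (ht : t = 12) (D : Fin t → Submodule F (Fin 12 → F)), Geo.IsOrthogonalMDecomposition ⇑Q' 1 D →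
      H ≤ Geo.decompositionStabilizer D →
      ((∃ p : ℕ, p.Prime ∧ Odd p ∧ Fintype.card F = p) ∧ ∃ D : Fin 12 → Submodule F (Fin 12 → F),
        Geo.IsOrthogonalMDecomposition ⇑Q' 1 D ∧ H = Geo.decompositionStabilizer D ⊓ Geo.omegaGL ⇑Q') ∨
      SubfieldCase Q' H := fun t ht D hD hle => by
    subst ht
    obtain ⟨h2, -, hp | hs⟩ := frame_cases hQ' hI hι.symm (m := 6) hι hD hle
    · exact Or.inl ⟨⟨_, hp, odd_card_of_two_ne h2, rfl⟩, D, hD, eq_inf_of_maximal hH hle
        (hS (SiegelIn.not_decomp hQ' h5 hD.decomp.decomp (Or.inr ⟨by norm_num, hD.decomp⟩)))⟩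
    · exact Or.inr hs
  rcases even_cases hQ' (by omega) hsq hI with ⟨U, hU0, hU, hle⟩ | ⟨hq, v, hv, hle⟩ | ⟨U, hU0, hU1, hU, hd, hbad, hle⟩ |
    ⟨hirr, hcl⟩
  · have he := eq_inf_of_maximal hH hle (hS (SiegelIn.not_stab hQ' (by omega) hU0 (finrank_lt_of_nondeg hQ' hU)))
    exact Or.inl ⟨U, hU0, hU, fun h4 =>
      not_maximal_singular hQ' (m := 6) (by norm_num) hι hplus hU (by omega) (he ▸ hH), he⟩
  · have hv0 : v ≠ 0 := fun e => hv (by rw [e, QuadraticMap.map_zero])
    have h1 := finrank_span_singleton (K := F) hv0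
    refine Or.inr (Or.inr (Or.inr (Or.inr (Or.inr (Or.inl ⟨hq, v, hv, eq_inf_of_maximal hH hle
      (hS (SiegelIn.not_stab hQ' (by omega) (fun e => ?_) fun e => ?_))⟩)))))
    · rw [e, finrank_bot] at h1; omega
    · rw [e, finrank_top, Module.finrank_fintype_fun_eq_card, hι] at h1; omega
  · have he := eq_inf_of_maximal hH hle (hS (SiegelIn.not_stab hQ' (by omega) hU0 hU1))
    rcases Nat.even_or_odd (Module.finrank F U) with hev | ho
    swap
    · refine Or.inr (Or.inl ⟨odd_card_of_odd_dim hU ho, U, hU0, hU1, ho, ?_, hU, he⟩)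
      obtain ⟨a, ha⟩ := ho
      omega
    have h0 : Module.finrank F U ≠ 0 := fun e => hU0 (Submodule.finrank_eq_zero.1 e)
    obtain h | h | h : Module.finrank F U = 2 ∨ Module.finrank F U = 4 ∨ Module.finrank F U = 6 := by
      obtain ⟨a, ha⟩ := hev
      omega
    · by_cases hp : Geo.IsPlusTypeOn ⇑Q' U
      · exact Or.inr (Or.inr (Or.inr (Or.inl ⟨not_lt.1 fun hlt => hbad ⟨by omega, h, hp⟩, U, h, hU, hp, he⟩)))
      · exact Or.inr (Or.inr (Or.inl ⟨U, h, hU, hp, he⟩))
    · exact Or.inr (Or.inr (Or.inr (Or.inr (Or.inl ⟨U, h, hU, he⟩))))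
    · obtain ⟨D, hD, -, hDle⟩ := halves_of_nondeg hQ' hI (k := 6) (by norm_num) h hι hU hle
      have ho : Orth Q' (D 0) (D 1) := hD.orthogonal 0 1 (by decide)
      have hcp : IsCompl (D 0) (D 1) := ⟨disjoint_of_orth ho (hD.nondegenerate 0), codisjoint_iff.2 (by
        rw [eq_top_iff, ← hD.decomp.iSup_eq_top]
        exact iSup_le fun i => by fin_cases i <;> simp)⟩
      have hiso : Geo.AreIsometricFor ⇑Q' (D 0) (D 1) :=
        isometric_of_type (hD.nondegenerate 0) (hD.nondegenerate 1) (m := 2) (hD.decomp.finrank_eq 0)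
          (hD.decomp.finrank_eq 1) ⟨fun hp => plus_cancel hQ' hcp ho hp hplus, fun hp => plus_cancel hQ' hcp.symm ho.symm hp hplus⟩
      iterate 11 right
      exact Or.inl ⟨D, ⟨hD, fun i j => by
        fin_cases i <;> fin_cases j
        exacts [isometric_refl _, hiso, isometric_symm hiso, isometric_refl _]⟩,
        eq_inf_of_maximal hH hDle (hS (SiegelIn.not_decomp hQ' h5 hD.decomp (Or.inl (by norm_num))))⟩
  cases twelve_cases hQ' hplus hι hH.1.le hirr hcl with
  | decomp t k D hD htk hle =>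
    have ht := hD.decomp.decomp.two_le
    have hk0 := hD.decomp.decomp.pos
    have hk6 : k ≤ 6 := by nlinarith
    rw [hι] at htk
    obtain ⟨rfl, rfl⟩ | ⟨rfl, rfl⟩ | ⟨rfl, rfl⟩ | ⟨rfl, rfl⟩ | ⟨rfl, rfl⟩ : (t = 12 ∧ k = 1) ∨ (t = 6 ∧ k = 2) ∨
        (t = 4 ∧ k = 3) ∨ (t = 3 ∧ k = 4) ∨ (t = 2 ∧ k = 6) := by
      interval_cases k <;> omega
    · rcases hlines 12 rfl D hD hle with h | h
      · iterate 6 right
        exact Or.inl h
      · iterate 17 right
        exact Or.inl (hsub h)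
    · have he := eq_inf_of_maximal hH hle (hS (SiegelIn.not_decomp hQ' h5 hD.decomp.decomp (Or.inr ⟨by norm_num, hD.decomp⟩)))
      by_cases hp : Geo.IsPlusTypeOn ⇑Q' (D 0)
      · have hall : ∀ i, Geo.IsPlusTypeOn ⇑Q' (D i) := fun i => plus_of_isometric (hD.isometric 0 i) hp
        rcases plus_planes hI hirr hD hle hall with hq | h | ⟨-, D', hD', hle'⟩
        · iterate 7 right
          exact Or.inl ⟨hq, D, hD, hall, he⟩
        · iterate 17 right
          exact Or.inl (hsub h)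
        · rcases hlines _ (by norm_num) D' hD' hle' with h | h
          · iterate 6 right
            exact Or.inl h
          · iterate 17 right
            exact Or.inl (hsub h)
      · have hall : ∀ i, ¬ Geo.IsPlusTypeOn ⇑Q' (D i) := fun i h => hp (plus_of_isometric (hD.isometric i 0) h)
        by_cases hq : Fintype.card F = 3
        · obtain ⟨D', hD', hle'⟩ := parts_three hI hD hle hq (Or.inr ⟨rfl, hall⟩)
          rcases hlines _ (by norm_num) D' hD' hle' with h | h
          · iterate 6 right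
            exact Or.inl h
          · iterate 17 right
            exact Or.inl (hsub h)
        · iterate 8 right
          exact Or.inl ⟨hq, D, hD, hall, he⟩
    · by_cases hq : Fintype.card F = 3
      · obtain ⟨D', hD', hle'⟩ := parts_three hI hD hle hq (Or.inl rfl)
        rcases hlines _ (by norm_num) D' hD' hle' with h | h
        · iterate 6 right
          exact Or.inl h
        · iterate 17 right
          exact Or.inl (hsub h)
      · have hodd : Odd (Fintype.card F) :=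
          odd_card_of_odd_dim (hD.decomp.nondegenerate 0) (by rw [hD.decomp.decomp.finrank_eq]; exact ⟨1, rfl⟩)
        have := Fintype.one_lt_card (α := F)
        have := Nat.odd_iff.1 hodd
        iterate 9 right
        exact Or.inl ⟨hodd, by omega, D, hD,
          eq_inf_of_maximal hH hle (hS (SiegelIn.not_decomp hQ' h5 hD.decomp.decomp (Or.inl (by norm_num))))⟩
    · by_cases hq : 3 ≤ Fintype.card F
      · iterate 10 right
        exact Or.inl ⟨hq, D, hD,
          eq_inf_of_maximal hH hle (hS (SiegelIn.not_decomp hQ' h5 hD.decomp.decomp (Or.inl (by norm_num))))⟩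
      · have hq2 : Fintype.card F = 2 := by
          have := Fintype.one_lt_card (α := F)
          omega
        obtain ⟨D', hD', hm, hle'⟩ := parts_four_two hI hD hle hq2
          (fun i => ((type_even hQ' hD.decomp ⟨2, rfl⟩ hD.isometric).2 ⟨1, rfl⟩ i).1 hplus)
        iterate 8 right
        exact Or.inl ⟨by omega, D', hD', hm, eq_inf_of_maximal hH hle'
          (hS (SiegelIn.not_decomp hQ' h5 hD'.decomp.decomp (Or.inr ⟨by norm_num, hD'.decomp⟩)))⟩
    · iterate 11 right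
      exact Or.inl ⟨D, hD, eq_inf_of_maximal hH hle (hS (SiegelIn.not_decomp hQ' h5 hD.decomp.decomp (Or.inl (by norm_num))))⟩
  | pair k D hk hD hs hle =>
    obtain rfl : k = 6 := by rw [hι] at hk; omega
    iterate 12 right
    exact Or.inl ⟨D, hD, hs, eq_inf_of_maximal hH hle (hS (SiegelIn.not_decomp hQ' h5 hD (Or.inl (by norm_num))))⟩
  | field r K hr hdvd hK hle =>
    have he := eq_inf_of_maximal hH hle (not_field hQ' h5 hr.two_le hK)
    have := Nat.le_of_dvd (by norm_num) hdvd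
    obtain rfl | rfl : r = 2 ∨ r = 3 := by
      rw [hι] at hdvd this
      interval_cases r <;> norm_num at *
    · iterate 13 right
      exact Or.inl ⟨K, hK, he⟩
    · iterate 14 right
      exact Or.inl ⟨K, hK, he⟩
  | altTensor hq h =>
    obtain ⟨d, k, e, P, S, T, hd, hdk, ⟨a, rfl⟩, ⟨b, rfl⟩, hS', hT, hst, hzero, hdec⟩ := h
    have hc : 12 = (a + a) * (b + b) := by simpa using Fintype.card_congr e
    obtain rfl : a = 1 := by
      by_contra hne
      have : 2 ≤ a := by omega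
      have : 3 ≤ b := by omega
      nlinarith
    obtain rfl : b = 3 := by omega
    iterate 16 right
    exact Or.inl ⟨hq, e, P, _, _, hS', hT, hst, hzero, eq_inf_of_maximal hH (fun g hg => by
      obtain ⟨A, B, h1⟩ := hdec g hg
      exact AschbacherForm.mem_of_coord e P (Geo.kroneckerSubgroup 2 6 F) (AschbacherForm.kronGL A B) ⟨A, B, rfl⟩ h1)
      (hS (not_tensor hQ' h5 (by norm_num) (by norm_num) e P))⟩
  | subfield h =>
    iterate 17 right
    exact Or.inl (hsub h)
  | residual h =>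
    iterate 18 right
    exact h

end Cfsg.Agent.S5871
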