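import Cfsg.Statements.S5873
import Cfsg.Agent.Lib.OrthMax.Apps
import Cfsg.Agent.Lib.OrthMax.DecompAll
import Cfsg.Agent.Lib.OrthMax.EvenRows
import Cfsg.Agent.Lib.OrthMax.TensorOO.Four.Main
import Cfsg.Agent.Lib.OrthField.Bridge

set_option autoImplicit false
open Cfsg

namespace Cfsg.Agent.S5873

/-- Maximal subgroups of Ω_12^-(q) of geometric type (any q). Let F be a finite field with q elements (characteristic p), Q a non-degenerate quadratic form on F^12 (non-degenerate polar form) of minus type (Witt index 5: no totally singular 6-space), and Ω = Ω_12^-(q) the commutator subgroup of the isometry group of Q, inside GL_12(F). Each of the following, intersected with Ω, is a maximal subgroup of Ω: (1) the stabiliser of any non-zero subspace on which Q vanishes identically (totally singular subspaces, dimensions 1 to 5); (2) for q odd, the stabiliser of any subspace of odd dimension on which the polar form of Q is non-degenerate; (3) the stabiliser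 of any non-degenerate 2-space of minus type (containing no non-zero singular vector); (4) for q ≥ 4, the stabiliser of any non-degenerate 2-space of plus type (containing a non-zero singular vector); (5) the stabiliser of any non-degenerate 4-space (either type); (6) the stabiliser of any non-degenerate 6-space (either type); (7) for q even, the stabiliser of the 1-space spanned by any non-singular vector v (Q(v) ≠ 0); (8) the stabiliser of any decomposition of F^12 into 3 pairwise orthogonal, pairwise Q-isometric non-degenerate 4-spaces of minus type; (9) for q odd, the normaliser of any degree-2 subfield K of the matrix algebra whose elements are self-adjoint for the polar form of Q (Q is then the trace of a quadratic form over K); (10) for q odd, the normaliser of any degree-3 subfield K of the matrix algebra whose elements are self-adjoint for the polar form of Q (Q is then the trace of a quadratic form over K); (11) for q odd with q ≥ 5,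 the stabiliser of any tensor decomposition F^12 = F^3 ⊗ F^4 in which the polar form of Q is the product of non-degenerate symmetric bilinear forms, the second of minus type, up to a scalar; (12) every subfield group for a subfield F₀ with |F| = |F₀|^r, r an odd prime, whose F₀-structure carries a non-zero scalar multiple of Q. -/
theorem result {F : Type*} [Field F] [Fintype F] (Q : (Fin 12 → F) → F) (hQ : Cfsg.Geo.IsNondegenerateQuadraticForm Q) (hminus : ¬ Cfsg.Geo.IsPlusTypeOn Q ⊤) :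
    (∀ W : Submodule F (Fin 12 → F), W ≠ ⊥ → Cfsg.Geo.IsTotallySingularQuad Q W → Cfsg.Geo.IsMaximalIn (Cfsg.Geo.omegaGL Q) (Cfsg.Geo.subspaceStabilizer W ⊓ Cfsg.Geo.omegaGL Q)) ∧
    (Odd (Fintype.card F) → ∀ W : Submodule F (Fin 12 → F), W ≠ ⊥ → W ≠ ⊤ → Odd (Module.finrank F W) → 2 * Module.finrank F W ≠ 12 → Cfsg.Geo.IsNondegenerateOn (QuadraticMap.polar Q) W → Cfsg.Geo.IsMaximalIn (Cfsg.Geo.omegaGL Q) (Cfsg.Geo.subspaceStabilizer W ⊓ Cfsg.Geo.omegaGL Q)) ∧
    (∀ W : Submodule F (Fin 12 → F), Module.finrank F W = 2 → Cfsg.Geo.IsNondegenerateOn (QuadraticMap.polar Q) W → ¬ Cfsg.Geo.IsPlusTypeOn Q W → Cfsg.Geo.IsMaximalIn (Cfsg.Geo.omegaGL Q) (Cfsg.Geo.subspaceStabilizer W ⊓ Cfsg.Geo.omegaGL Q)) ∧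
    (4 ≤ Fintype.card F → ∀ W : Submodule F (Fin 12 → F), Module.finrank F W = 2 → Cfsg.Geo.IsNondegenerateOn (QuadraticMap.polar Q) W → Cfsg.Geo.IsPlusTypeOn Q W → Cfsg.Geo.IsMaximalIn (Cfsg.Geo.omegaGL Q) (Cfsg.Geo.subspaceStabilizer W ⊓ Cfsg.Geo.omegaGL Q)) ∧
    (∀ W : Submodule F (Fin 12 → F), Module.finrank F W = 4 → Cfsg.Geo.IsNondegenerateOn (QuadraticMap.polar Q) W → Cfsg.Geo.IsMaximalIn (Cfsg.Geo.omegaGL Q) (Cfsg.Geo.subspaceStabilizer W ⊓ Cfsg.Geo.omegaGL Q)) ∧
    (∀ W : Submodule F (Fin 12 → F), Module.finrank F W = 6 → Cfsg.Geo.IsNondegenerateOn (QuadraticMap.polar Q) W → Cfsg.Geo.IsMaximalIn (Cfsg.Geo.omegaGL Q) (Cfsg.Geo.subspaceStabilizer W ⊓ Cfsg.Geo.omegaGL Q)) ∧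
    (¬ Odd (Fintype.card F) → ∀ v : (Fin 12 → F), Q v ≠ 0 → Cfsg.Geo.IsMaximalIn (Cfsg.Geo.omegaGL Q) (Cfsg.Geo.subspaceStabilizer (Submodule.span F {v}) ⊓ Cfsg.Geo.omegaGL Q)) ∧
    (∀ D : Fin 3 → Submodule F (Fin 12 → F), Cfsg.Geo.IsOrthogonalMDecomposition Q 4 D → (∀ i, ¬ Cfsg.Geo.IsPlusTypeOn Q (D i)) → Cfsg.Geo.IsMaximalIn (Cfsg.Geo.omegaGL Q) (Cfsg.Geo.decompositionStabilizer D ⊓ Cfsg.Geo.omegaGL Q)) ∧
    (Odd (Fintype.card F) → ∀ K : Subalgebra F (Matrix (Fin 12) (Fin 12) F), Cfsg.Geo.IsFieldSubalgebra 2 K → Cfsg.Geo.IsSelfAdjointFor (QuadraticMap.polar Q) K → Cfsg.Geo.IsMaximalIn (Cfsg.Geo.omegaGL Q) (Cfsg.Geo.subalgebraNormalizer K ⊓ Cfsg.Geo.omegaGL Q)) ∧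
    (Odd (Fintype.card F) → ∀ K : Subalgebra F (Matrix (Fin 12) (Fin 12) F), Cfsg.Geo.IsFieldSubalgebra 3 K → Cfsg.Geo.IsSelfAdjointFor (QuadraticMap.polar Q) K → Cfsg.Geo.IsMaximalIn (Cfsg.Geo.omegaGL Q) (Cfsg.Geo.subalgebraNormalizer K ⊓ Cfsg.Geo.omegaGL Q)) ∧
    (Odd (Fintype.card F) ∧ 5 ≤ Fintype.card F → ∀ (e : Fin 12 ≃ Fin 3 × Fin 4) (P : Matrix.GeneralLinearGroup (Fin 12) F) (f₁ : (Fin 3 → F) → (Fin 3 → F) → F) (f₂ : (Fin 4 → F) → (Fin 4 → F) → F), Cfsg.Geo.IsSymmetricForm f₁ → Cfsg.Geo.IsSymmetricForm f₂ → ¬ Cfsg.Geo.IsPlusTypeOn (fun v : Fin 4 → F => f₂ v v) ⊤ → Cfsg.Geo.IsTensorFormStructure id (QuadraticMap.polar Q) f₁ f₂ e P → Cfsg.Geo.IsMaximalIn (Cfsg.Geo.omegaGL Q) (Cfsg.Geo.tensorProductSubgroup 3 4 e P ⊓ Cfsg.Geo.omegaGL Q)) ∧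
    (∀ (F₀ : Subfield F) (r : ℕ) (P : Matrix.GeneralLinearGroup (Fin 12) F) (ζ : F), r.Prime → Odd r → Fintype.card F = Nat.card F₀ ^ r → ζ ≠ 0 → Cfsg.Geo.IsQuadFormRationalStructure (fun v : Fin 12 → F => ζ * Q v) F₀ P → Cfsg.Geo.IsMaximalIn (Cfsg.Geo.omegaGL Q) (Cfsg.Geo.subfieldSubgroup F₀ P ⊓ Cfsg.Geo.omegaGL Q)) := by
  obtain ⟨Q', rfl, hQ'⟩ := CfsgLib.Geometry.exists_quadraticForm hQ
  have hn12 : 12 ≤ Fintype.card (Fin 12) := by simp
  have h2of : Odd (Fintype.card F) → (2 : F) ≠ 0 := fun h =>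
    CfsgLib.Geometry.two_ne_zero_of_odd_card rfl h
  have hperp := fun W => CfsgLib.Geometry.finrank_polarPerp hQ' (W : Submodule F (Fin 12 → F))
  have hV : Module.finrank F (Fin 12 → F) = 12 := by simp
  -- no totally singular subspace of dimension six
  have hno6 : ∀ U : Submodule F (Fin 12 → F), (∀ u ∈ U, Q' u = 0) → Module.finrank F U ≠ 6 := fun U hU h6 =>
    hminus ⟨U, le_top, hU, by rw [h6, finrank_top, hV]⟩
  -- stabilisers of non-degenerate subspaces
  have nd : ∀ W : Submodule F (Fin 12 → F), W ≠ ⊥ → W ≠ ⊤ →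
      Cfsg.Geo.IsNondegenerateOn (QuadraticMap.polar ⇑Q') W →
      ¬ (Nat.card F ≤ 3 ∧ Module.finrank F W = 2 ∧ ∃ z ∈ W, z ≠ 0 ∧ Q' z = 0) →
      Module.finrank F W ≠ 10 →
      Cfsg.Geo.IsMaximalIn (Cfsg.Geo.omegaGL ⇑Q') (Cfsg.Geo.subspaceStabilizer W ⊓ Cfsg.Geo.omegaGL ⇑Q') := by
    intro W h0 h1 hW hex h10
    refine CfsgLib.OrthMax.nondeg_maximal hQ' (by simp) h0 h1
      (CfsgLib.OrthMax.nd_of_isNondegenerateOn hW) (fun h => ⟨?_, ?_⟩) hex fun h => ?_
    · rw [Fintype.card_fin] at h; exact ⟨3, by omega⟩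
    · rintro ⟨S, hS, hSd⟩
      rw [Fintype.card_fin] at hSd
      exact hno6 S hS (by omega)
    · have := hperp W; omega
  have ndim : ∀ (W : Submodule F (Fin 12 → F)) (d : ℕ), Module.finrank F W = d → 0 < d → d < 12 →
      W ≠ ⊥ ∧ W ≠ ⊤ := fun W d hd h0 h1 =>
    ⟨fun e => by rw [e, finrank_bot] at hd; omega, fun e => by rw [e, finrank_top, hV] at hd; omega⟩
  refine ⟨fun W hW0 hW => CfsgLib.OrthMax.singular_maximal hQ' (by simp) hW0 hW (fun u hu hQu hWu h => ?_),
    fun hodd W h0 h1 hWo _ hW => nd W h0 h1 hW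
      (fun h => absurd h.2.1 (fun e => by rw [e] at hWo; exact absurd hWo (by decide)))
      (fun e => by rw [e] at hWo; exact absurd hWo (by decide)),
    fun W hd hW hnp => ?_, fun hq W hd hW _ => ?_, fun W hd hW => ?_, fun W hd hW => ?_, fun hc v hv => ?_,
    fun D hD hnp => CfsgLib.OrthMax.decomp_all_maximal hQ' (by simp) hD (by norm_num) (by omega) (by omega)
      (fun _ => Or.inr hnp),
    fun hodd K hK hsa => CfsgLib.OrthField.orth_field_maximal hQ' (h2of hodd) Nat.prime_two hK hsa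
      (by simp) (Or.inl ⟨by simp, Or.inr (by simp)⟩),
    fun hodd K hK hsa => CfsgLib.OrthField.orth_field_maximal hQ' (h2of hodd) Nat.prime_three hK hsa
      (by simp) (Or.inl ⟨by simp, Or.inl le_rfl⟩),
    fun hq e P f₁ f₂ hf₁ hf₂ hf₂m hT => ?_,
    fun F₀ r P ζ hr _ hcard hζ hP =>
      CfsgLib.OrthMax.subfield_even_maximal (by norm_num) (by decide) _ hQ F₀ r hr hcard P ζ hζ hP⟩
  · refine hno6 (W ⊔ Submodule.span F {u}) (fun v hv => ?_) ?_
    · obtain ⟨w, hw, y, hy, rfl⟩ := Submodule.mem_sup.1 hv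
      obtain ⟨c, rfl⟩ := Submodule.mem_span_singleton.1 hy
      rw [CfsgLib.Geometry.map_add', CfsgLib.Geometry.map_smul', QuadraticMap.polar_smul_right, hQu, hW w hw,
        hWu w hw]
      simp
    · have hu0 : u ≠ 0 := fun e => hu (e ▸ W.zero_mem)
      have h1 := Submodule.finrank_sup_add_finrank_inf_eq W (Submodule.span F {u})
      rw [(Submodule.disjoint_span_singleton' hu0).2 hu |>.eq_bot, finrank_bot, finrank_span_singleton hu0] at h1
      rw [Fintype.card_fin] at h; omega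
  · obtain ⟨h0, h1⟩ := ndim W 2 hd (by norm_num) (by norm_num)
    refine nd W h0 h1 hW ?_ (by omega)
    rintro ⟨-, -, z, hz, hz0, hQz⟩
    refine hnp ⟨Submodule.span F {z}, by rwa [Submodule.span_singleton_le_iff_mem], fun w hw => ?_, ?_⟩
    · obtain ⟨c, rfl⟩ := Submodule.mem_span_singleton.1 hw
      rw [CfsgLib.Geometry.map_smul', hQz, mul_zero]
    · rw [finrank_span_singleton hz0, hd]
  · obtain ⟨h0, h1⟩ := ndim W 2 hd (by norm_num) (by norm_num)
    exact nd W h0 h1 hW (fun h => by rw [Nat.card_eq_fintype_card] at h; omega) (by omega)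
  · obtain ⟨h0, h1⟩ := ndim W 4 hd (by norm_num) (by norm_num)
    exact nd W h0 h1 hW (fun h => by omega) (by omega)
  · obtain ⟨h0, h1⟩ := ndim W 6 hd (by norm_num) (by norm_num)
    exact nd W h0 h1 hW (fun h => by omega) (by omega)
  · refine CfsgLib.OrthMax.line_maximal hQ' (by simp) ?_ hv
    by_contra h2
    exact hc (Nat.odd_iff.2 (FiniteField.odd_card_of_char_ne_two (F := F) fun h => h2 (by
      haveI := ringChar.of_eq h
      exact CharTwo.two_eq_zero)))
  · refine CfsgLib.TensorOO.tensor_maximal_three_four hQ' (h2of hq.1) ?_ e P hf₁ hf₂ hf₂m hT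
    intro h3
    have := hq.2
    omega

end Cfsg.Agent.S5873
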