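import Cfsg.Statements.S5874
import Cfsg.Agent.Lib.AschbacherOrth.SymThreeFour
import Cfsg.Agent.Lib.AschbacherOrth.Eight

set_option autoImplicit false
open Cfsg CfsgLib CfsgLib.AschbacherOrth

namespace Cfsg.Agent.S5874

/-- Every maximal subgroup of Ω_12^-(q) is of one of the listed geometric types or lies in the residual class. Let F be a finite field with q elements (characteristic p), Q a non-degenerate quadratic form on F^12 of minus type (Witt index 5: no totally singular 6-space), Ω the commutator subgroup of its isometry group, and H a maximal subgroup of Ω (inside GL_12(F)). Then H is the intersection with Ω of one of: the stabiliser of a non-zero totally singular subspace; for q odd, the stabiliser of a non-degenerate subspace of odd dimension; the stabiliser of a non-degenerate 2-space of minus type; for q ≥ 4, the stabiliser of a non-degenerate 2-space of plus type; the stabiliser of a non-degenerate 4-space; the stabiliser of a non-degenerate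 6-space; for q even, the stabiliser of the span of a non-singular vector; the stabiliser of a decomposition into 3 pairwise orthogonal, pairwise isometric non-degenerate 4-spaces of minus type; the normaliser of a degree-2 subfield of the matrix algebra; the normaliser of a degree-3 subfield of the matrix algebra; for q odd with q ≥ 5, the stabiliser of a tensor decomposition of the polar form into symmetric forms on F^3 and F^4 (minus type); a subfield group (|F| = |F₀|^r, r odd prime) whose F₀-structure carries a non-zero multiple of Q — or else H lies in the residual class of the orthogonal case (modulo scalars H is almost simple, with absolutely irreducible perfect socle preimage realisable over no proper subfield and fixing no non-degenerate unitary form). -/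
theorem result {F : Type*} [Field F] [Fintype F] (Q : (Fin 12 → F) → F) (hQ : Cfsg.Geo.IsNondegenerateQuadraticForm Q) (hminus : ¬ Cfsg.Geo.IsPlusTypeOn Q ⊤) (H : Subgroup (Matrix.GeneralLinearGroup (Fin 12) F)) (hH : Cfsg.Geo.IsMaximalIn (Cfsg.Geo.omegaGL Q) H) :
    (∃ W : Submodule F (Fin 12 → F), W ≠ ⊥ ∧ Cfsg.Geo.IsTotallySingularQuad Q W ∧ H = Cfsg.Geo.subspaceStabilizer W ⊓ Cfsg.Geo.omegaGL Q) ∨
    (Odd (Fintype.card F) ∧ ∃ W : Submodule F (Fin 12 → F), W ≠ ⊥ ∧ W ≠ ⊤ ∧ Odd (Module.finrank F W) ∧ 2 * Module.finrank F W ≠ 12 ∧ Cfsg.Geo.IsNondegenerateOn (QuadraticMap.polar Q) W ∧ H = Cfsg.Geo.subspaceStabilizer W ⊓ Cfsg.Geo.omegaGL Q) ∨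
    (∃ W : Submodule F (Fin 12 → F), Module.finrank F W = 2 ∧ Cfsg.Geo.IsNondegenerateOn (QuadraticMap.polar Q) W ∧ ¬ Cfsg.Geo.IsPlusTypeOn Q W ∧ H = Cfsg.Geo.subspaceStabilizer W ⊓ Cfsg.Geo.omegaGL Q) ∨
    (4 ≤ Fintype.card F ∧ ∃ W : Submodule F (Fin 12 → F), Module.finrank F W = 2 ∧ Cfsg.Geo.IsNondegenerateOn (QuadraticMap.polar Q) W ∧ Cfsg.Geo.IsPlusTypeOn Q W ∧ H = Cfsg.Geo.subspaceStabilizer W ⊓ Cfsg.Geo.omegaGL Q) ∨
    (∃ W : Submodule F (Fin 12 → F), Module.finrank F W = 4 ∧ Cfsg.Geo.IsNondegenerateOn (QuadraticMap.polar Q) W ∧ H = Cfsg.Geo.subspaceStabilizer W ⊓ Cfsg.Geo.omegaGL Q) ∨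
    (∃ W : Submodule F (Fin 12 → F), Module.finrank F W = 6 ∧ Cfsg.Geo.IsNondegenerateOn (QuadraticMap.polar Q) W ∧ H = Cfsg.Geo.subspaceStabilizer W ⊓ Cfsg.Geo.omegaGL Q) ∨
    (¬ Odd (Fintype.card F) ∧ ∃ v : (Fin 12 → F), Q v ≠ 0 ∧ H = Cfsg.Geo.subspaceStabilizer (Submodule.span F {v}) ⊓ Cfsg.Geo.omegaGL Q) ∨
    (∃ D : Fin 3 → Submodule F (Fin 12 → F), Cfsg.Geo.IsOrthogonalMDecomposition Q 4 D ∧ (∀ i, ¬ Cfsg.Geo.IsPlusTypeOn Q (D i)) ∧ H = Cfsg.Geo.decompositionStabilizer D ⊓ Cfsg.Geo.omegaGL Q) ∨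
    (∃ K : Subalgebra F (Matrix (Fin 12) (Fin 12) F), Cfsg.Geo.IsFieldSubalgebra 2 K ∧ H = Cfsg.Geo.subalgebraNormalizer K ⊓ Cfsg.Geo.omegaGL Q) ∨
    (∃ K : Subalgebra F (Matrix (Fin 12) (Fin 12) F), Cfsg.Geo.IsFieldSubalgebra 3 K ∧ H = Cfsg.Geo.subalgebraNormalizer K ⊓ Cfsg.Geo.omegaGL Q) ∨
    (Odd (Fintype.card F) ∧ 5 ≤ Fintype.card F ∧ ∃ (e : Fin 12 ≃ Fin 3 × Fin 4) (P : Matrix.GeneralLinearGroup (Fin 12) F) (f₁ : (Fin 3 → F) → (Fin 3 → F) → F) (f₂ : (Fin 4 → F) → (Fin 4 → F) → F), Cfsg.Geo.IsSymmetricForm f₁ ∧ Cfsg.Geo.IsSymmetricForm f₂ ∧ ¬ Cfsg.Geo.IsPlusTypeOn (fun v : Fin 4 → F => f₂ v v) ⊤ ∧ Cfsg.Geo.IsTensorFormStructure id (QuadraticMap.polar Q) f₁ f₂ e P ∧ H = Cfsg.Geo.tensorProductSubgroup 3 4 e P ⊓ Cfsg.Geo.omegaGL Q) ∨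
    (∃ (F₀ : Subfield F) (r : ℕ) (P : Matrix.GeneralLinearGroup (Fin 12) F) (ζ : F), r.Prime ∧ Odd r ∧ Fintype.card F = Nat.card F₀ ^ r ∧ ζ ≠ 0 ∧ Cfsg.Geo.IsQuadFormRationalStructure (fun v : Fin 12 → F => ζ * Q v) F₀ P ∧ H = Cfsg.Geo.subfieldSubgroup F₀ P ⊓ Cfsg.Geo.omegaGL Q) ∨
    Cfsg.Geo.InOrthogonalResidualClass H := by
  classical
  obtain ⟨Q', rfl, hQ'⟩ := Geometry.exists_quadraticForm hQ
  have hι : Fintype.card (Fin 12) = 12 := Fintype.card_fin 12
  have h5 : 5 ≤ Fintype.card (Fin 12) := by omega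
  have hS : ∀ {X : Subgroup (Matrix.GeneralLinearGroup (Fin 12) F)}, ¬ SiegelIn Q' X → ¬ Geo.omegaGL ⇑Q' ≤ X :=
    fun h h' => h (siegelIn_of_omega_le hQ' h5 h')
  have hI : H ≤ isometryGroup F ⇑Q' := hH.1.le.trans (omega_le_isometry _)
  have hsq : ∀ d : ℕ, d * d ≠ Fintype.card (Fin 12) := fun d h => by
    rw [hι] at h
    have : d < 4 := by nlinarith
    interval_cases d <;> omega
  have hparts : ∀ D : Fin 3 → Submodule F (Fin 12 → F), Geo.IsOrthogonalMDecomposition ⇑Q' 4 D →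
      H ≤ Geo.decompositionStabilizer D →
      (∀ i, ¬ Geo.IsPlusTypeOn ⇑Q' (D i)) ∧ H = Geo.decompositionStabilizer D ⊓ Geo.omegaGL ⇑Q' := fun D hD hle =>
    ⟨fun i hp => hminus (((type_even hQ' hD.decomp ⟨2, rfl⟩ hD.isometric).2 ⟨1, rfl⟩ i).2 hp),
      eq_inf_of_maximal hH hle (hS (SiegelIn.not_decomp hQ' h5 hD.decomp.decomp (Or.inl (by norm_num))))⟩
  rcases even_cases hQ' (by omega) hsq hI with ⟨U, hU0, hU, hle⟩ | ⟨hq, v, hv, hle⟩ | ⟨U, hU0, hU1, hU, hd, hbad, hle⟩ |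
    ⟨-, hcl⟩
  · exact Or.inl ⟨U, hU0, hU, eq_inf_of_maximal hH hle (hS (SiegelIn.not_stab hQ' (by omega) hU0 (finrank_lt_of_nondeg hQ' hU)))⟩
  · have hv0 : v ≠ 0 := fun e => hv (by rw [e, QuadraticMap.map_zero])
    have h1 := finrank_span_singleton (K := F) hv0
    refine Or.inr (Or.inr (Or.inr (Or.inr (Or.inr (Or.inr (Or.inl ⟨hq, v, hv, eq_inf_of_maximal hH hle
      (hS (SiegelIn.not_stab hQ' (by omega) (fun e => ?_) fun e => ?_))⟩))))))
    · rw [e, finrank_bot] at h1; omega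
    · rw [e, finrank_top, Module.finrank_fintype_fun_eq_card, hι] at h1; omega
  · have he := eq_inf_of_maximal hH hle (hS (SiegelIn.not_stab hQ' (by omega) hU0 hU1))
    rcases Nat.even_or_odd (Module.finrank F U) with hev | ho
    swap
    · refine Or.inr (Or.inl ⟨odd_card_of_odd_dim hU ho, U, hU0, hU1, ho, ?_, hU, he⟩)
      obtain ⟨a, ha⟩ := ho
      omega
    have h0 : Module.finrank F U ≠ 0 := fun e => hU0 (Submodule.finrank_eq_zero.1 e)
    obtain h | h | h : Module.finrank F U = 2 ∨ Module.finrank F U = 4 ∨ Module.finrank F U = 6 := by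
      obtain ⟨a, ha⟩ := hev
      omega
    · by_cases hp : Geo.IsPlusTypeOn ⇑Q' U
      · exact Or.inr (Or.inr (Or.inr (Or.inl ⟨not_lt.1 fun hlt => hbad ⟨by omega, h, hp⟩, U, h, hU, hp, he⟩)))
      · exact Or.inr (Or.inr (Or.inl ⟨U, h, hU, hp, he⟩))
    · exact Or.inr (Or.inr (Or.inr (Or.inr (Or.inl ⟨U, h, hU, he⟩))))
    · exact Or.inr (Or.inr (Or.inr (Or.inr (Or.inr (Or.inl ⟨U, h, hU, he⟩)))))
  cases hcl with
  | decomp t k D hD htk hle =>
    have ht := hD.decomp.decomp.two_le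
    have hk0 := hD.decomp.decomp.pos
    have hk6 : k ≤ 6 := by nlinarith
    rw [hι] at htk
    obtain ⟨rfl, rfl⟩ | ⟨rfl, rfl⟩ | ⟨rfl, rfl⟩ | ⟨rfl, rfl⟩ | ⟨rfl, rfl⟩ : (t = 12 ∧ k = 1) ∨ (t = 6 ∧ k = 2) ∨
        (t = 4 ∧ k = 3) ∨ (t = 3 ∧ k = 4) ∨ (t = 2 ∧ k = 6) := by
      interval_cases k <;> omega
    · exfalso
      have h2 : (2 : F) ≠ 0 := fun h => by
        have h1 := even_of_char_two h (hD.decomp.nondegenerate 0) (Q := Q')
        rw [hD.decomp.decomp.finrank_eq] at h1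
        exact Nat.not_even_one h1
      exact hminus ((frame_plus_iff h2 hQ' (m := 6) (by simp) (D := D ∘ Fin.cast hι) hD).2 (isSquare_of_halves ⟨3, rfl⟩))
    · exact absurd ((type_even hQ' hD.decomp even_two hD.isometric).1 ⟨3, rfl⟩) hminus
    · exact absurd (four_parts_plus hD) hminus
    · iterate 7 right
      exact Or.inl ⟨D, hD, hparts D hD hle⟩
    · exact absurd ((type_even hQ' hD.decomp ⟨3, rfl⟩ hD.isometric).1 ⟨1, rfl⟩) hminus
  | pair k D hk hD hs hle => exact absurd (plus_of_pair hk hD hs) hminus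
  | field r K hr hdvd hK hadj hle =>
    have he := eq_inf_of_maximal hH hle (not_field hQ' h5 hr.two_le hK)
    have := Nat.le_of_dvd (by norm_num) hdvd
    obtain rfl | rfl : r = 2 ∨ r = 3 := by
      rw [hι] at hdvd this
      interval_cases r <;> norm_num at *
    · iterate 8 right
      exact Or.inl ⟨K, hK, he⟩
    · iterate 9 right
      exact Or.inl ⟨K, hK, he⟩
  | altTensor h => exact absurd (h.plus (by omega)) hminus
  | symTensor h =>
    obtain ⟨d, k, e, P, S, T, h2, hd, hdk, hS', hT, hform, hdec⟩ := h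
    have hc : 12 = d * k := by simpa using Fintype.card_congr e
    obtain ⟨rfl, rfl⟩ : d = 3 ∧ k = 4 := by
      have : d ≤ 3 := by nlinarith
      obtain rfl : d = 3 := by omega
      exact ⟨rfl, by omega⟩
    by_cases hq : Fintype.card F = 3
    · obtain ⟨D, hD, hle⟩ := frame_factor hQ' hq hI (by norm_num) e P S T hS' hform fun g hg => by
        obtain ⟨A, B, a, b, h1, h2', -⟩ := hdec g hg
        exact ⟨A, B, a, h1, h2'⟩
      iterate 7 right
      exact Or.inl ⟨D, hD, hparts D hD hle⟩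
    have hodd := odd_card_of_two_ne h2
    iterate 10 right
    refine Or.inl ⟨hodd, ?_, e, P, _, _, symmetric_of_gram S hS', symmetric_of_gram T hT,
      fun hp => hminus (plus_of_factor_plus h2 e P S T hT hform hp), ⟨1, one_ne_zero, fun x y => ?_⟩,
      eq_inf_of_maximal hH (fun g hg => ?_) (hS (not_tensor hQ' h5 (by norm_num) (by norm_num) e P))⟩
    · have := Fintype.one_lt_card (α := F)
      obtain ⟨a, ha⟩ := hodd
      omega
    · rw [one_mul, AschbacherForm.gramMatrix_formOfGram, AschbacherForm.gramMatrix_formOfGram, hform]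
      rfl
    · obtain ⟨A, B, a, b, h1, -⟩ := hdec g hg
      exact AschbacherForm.mem_of_coord e P (Geo.kroneckerSubgroup 3 4 F) (AschbacherForm.kronGL A B) ⟨A, B, rfl⟩ h1
  | abelian N h =>
    exfalso
    obtain ⟨-, ⟨m, -, hm⟩, -⟩ := abelian_cases hQ' hI h
    rw [hι] at hm
    have : m < 4 := by
      by_contra hc
      have := Nat.pow_le_pow_right (show 0 < 2 by norm_num) (show 4 ≤ m by omega)
      omega
    interval_cases m <;> omega
  | factors d s φ h =>
    exfalso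
    obtain ⟨J, hG⟩ := exists_geom hQ'
    obtain ⟨e, -⟩ := AschbacherForm.wreath_data hG (by omega) (sup_le (fun g hg =>
      ⟨1, fun u v => by rw [Units.val_one, one_mul]; exact isom_polar (hI hg) u v⟩) hG.scalars_le) h
    have hc : 12 = d ^ s := by simpa using Fintype.card_congr e
    have hd := h.two_le_dim
    have hs := h.two_le_num
    have hs4 : s < 4 := by
      by_contra hn
      have : 2 ^ 4 ≤ d ^ s := le_trans (Nat.pow_le_pow_left hd 4) (Nat.pow_le_pow_right (by omega) (by omega))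
      omega
    have hd4 : d < 4 := by
      by_contra hn
      have : 4 ^ 2 ≤ d ^ s := le_trans (Nat.pow_le_pow_left (by omega) 2) (Nat.pow_le_pow_right (by omega) hs)
      omega
    interval_cases s <;> interval_cases d <;> norm_num at hc
  | subfield h =>
    obtain ⟨F₁, r, B, ζ, hr, hro, hc, hζ, hrat, hle⟩ := subfield_odd_of_minus hQ' (m := 5) hι hminus h
    iterate 11 right
    exact Or.inl ⟨F₁, r, B, ζ, hr, hro, hc, hζ, hrat,
      eq_inf_of_maximal hH hle (hS (not_subfield hQ' h5 (subfield_ne_top hr hc) B))⟩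
  | residual h =>
    iterate 12 right
    exact h

end Cfsg.Agent.S5874
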