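import Cfsg.Statements.S5877
import Cfsg.Agent.Lib.Classical.ExtraspecialEigen
import Cfsg.Agent.Lib.Geometry.MatrixEquiv
import Cfsg.Agent.Lib.Aschbacher.Basic

set_option autoImplicit false
open Cfsg
open scoped commutatorElement

namespace Cfsg.Agent.S5877

/-- Eigenspaces of elements normalising an absolutely irreducible extraspecial group. Let F be a finite field, r a prime, and R ≤ GL_n(F) an absolutely irreducible extraspecial r-group (an r-group whose centre equals its derived subgroup and has order r) of exponent r or 4. Let g ∈ GL_n(F) normalise the product of R with the scalar matrices, have prime order ϖ and not be scalar, and let W be the eigenspace of g for any c ∈ F (W may be the zero subspace). Then dim W ≤ 3n/4 if ϖ = 2, dim W ≤ 2n/3 if ϖ = 3, and dim W ≤ n/2 if ϖ > 3; moreover if ϖ = 3 and 3 does not divide n then dim W ≤ n/2. -/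
theorem result {F : Type*} [Field F] [Fintype F] {n r ϖ : ℕ} (R : Subgroup (Matrix.GeneralLinearGroup (Fin n) F)) (hr : r.Prime) (hR : IsPGroup r R) (hZ : Nat.card (Subgroup.center R) = r) (hext : commutator R = Subgroup.center R) (hexp : Monoid.exponent R = r ∨ Monoid.exponent R = 4) (hirr : Cfsg.Geo.ActsAbsolutelyIrreducibly (Cfsg.Geo.matrixSet R)) (g : Matrix.GeneralLinearGroup (Fin n) F) (hg : g ∈ Cfsg.Geo.subgroupNormalizer (R ⊔ Cfsg.Geo.scalars (Fin n) F)) (hϖ : ϖ.Prime) (hord : orderOf g = ϖ) (hns : g ∉ Cfsg.Geo.scalars (Fin n) F) (c : F) :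
    (ϖ = 2 → 4 * Module.finrank F (Module.End.eigenspace (Matrix.toLin' (g : Matrix (Fin n) (Fin n) F)) c) ≤ 3 * n) ∧
    (ϖ = 3 → 3 * Module.finrank F (Module.End.eigenspace (Matrix.toLin' (g : Matrix (Fin n) (Fin n) F)) c) ≤ 2 * n) ∧
    (3 < ϖ → 2 * Module.finrank F (Module.End.eigenspace (Matrix.toLin' (g : Matrix (Fin n) (Fin n) F)) c) ≤ n) ∧
    (ϖ = 3 → ¬ 3 ∣ n → 2 * Module.finrank F (Module.End.eigenspace (Matrix.toLin' (g : Matrix (Fin n) (Fin n) F)) c) ≤ n) := by
  classical
  have : Nonempty (Fin n) := by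
    by_contra hne
    rw [not_nonempty_iff] at hne
    refine hns ((Cfsg.Geo.mem_scalars_iff g).2 ⟨1, ?_⟩)
    ext i
    exact isEmptyElim i
  set e := CfsgLib.Geometry.glEquiv (ι := Fin n) (F := F) with he
  have scal_iff : ∀ x : Matrix.GeneralLinearGroup (Fin n) F,
      CfsgLib.Classical.ExtraspecialEigen.IsSc (e x) ↔ x ∈ Cfsg.Geo.scalars (Fin n) F := by
    intro x
    constructor
    · rintro ⟨k, hk⟩
      refine CfsgLib.Aschbacher.mem_scalars_of_eq_smul (c := k) (CfsgLib.Geometry.matrix_eq_of_mulVec fun v => ?_)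
      rw [Matrix.smul_mulVec, Matrix.one_mulVec]
      exact hk v
    · intro hx
      obtain ⟨k, hk⟩ := (Cfsg.Geo.mem_scalars_iff x).1 hx
      refine ⟨(k : F), fun v => ?_⟩
      rw [he, CfsgLib.Geometry.glEquiv_apply, hk, Matrix.smul_mulVec, Matrix.one_mulVec]
  have central : ∀ s ∈ Cfsg.Geo.scalars (Fin n) F, ∀ x : Matrix.GeneralLinearGroup (Fin n) F, s * x = x * s := by
    intro s hs x
    obtain ⟨k, hk⟩ := (Cfsg.Geo.mem_scalars_iff s).1 hs
    refine Units.ext ?_
    simp only [Units.val_mul, hk, smul_mul_assoc, mul_smul_comm, one_mul, mul_one]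
  have comR : ∀ x : Matrix.GeneralLinearGroup (Fin n) F, (∀ y ∈ R, x * y = y * x) →
      x ∈ Cfsg.Geo.scalars (Fin n) F := by
    intro x hx
    obtain ⟨k, hk⟩ := CfsgLib.Aschbacher.eq_smul_one_of_commutes hirr (x := (x : Matrix (Fin n) (Fin n) F))
      (fun y hy => by rw [← Units.val_mul, hx y hy, Units.val_mul])
    exact CfsgLib.Aschbacher.mem_scalars_of_eq_smul hk
  set K := R ⊔ Cfsg.Geo.scalars (Fin n) F with hK
  have dec : ∀ a ∈ K, ∃ x ∈ R, ∃ s ∈ Cfsg.Geo.scalars (Fin n) F, x * s = a := by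
    intro a ha
    have : (Cfsg.Geo.scalars (Fin n) F).Normal := ⟨fun s hs x => by
      rw [← central s hs x, mul_inv_cancel_right]; exact hs⟩
    exact Subgroup.mem_sup_of_normal_right.1 ha
  set H := K.map e.toMonoidHom with hH
  have memH : ∀ a ∈ H, ∃ b ∈ K, e b = a := fun a ha => Subgroup.mem_map.1 ha
  have mkH : ∀ b ∈ K, e b ∈ H := fun b hb => Subgroup.mem_map.2 ⟨b, hb, rfl⟩
  have hord' : g ^ ϖ = 1 := by rw [← hord]; exact pow_orderOf_eq_one g
  have hg' : g ∈ Subgroup.normalizer (K : Set (Matrix.GeneralLinearGroup (Fin n) F)) := hg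
  have hy : CfsgLib.Classical.ExtraspecialEigen.Hyp H (e g) r ϖ :=
  { rp := hr
    wp := hϖ
    comm := by
      intro a ha b hb
      obtain ⟨a', ha', rfl⟩ := memH a ha
      obtain ⟨b', hb', rfl⟩ := memH b hb
      obtain ⟨x, hx, s, hs, rfl⟩ := dec a' ha'
      obtain ⟨y, hy, t, ht, rfl⟩ := dec b' hb'
      have hcm : ⁅x * s, y * t⁆ = ⁅x, y⁆ := by
        have h1 := central s hs
        have h2 := central t ht
        simp only [commutatorElement_def, mul_inv_rev]
        calc x * s * (y * t) * (s⁻¹ * x⁻¹) * (t⁻¹ * y⁻¹)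
            = x * (s * (y * t) * s⁻¹) * x⁻¹ * (t⁻¹ * y⁻¹) := by group
          _ = x * (y * t) * x⁻¹ * (t⁻¹ * y⁻¹) := by rw [h1 (y * t), mul_inv_cancel_right]
          _ = x * y * (t * x⁻¹ * t⁻¹) * y⁻¹ := by group
          _ = x * y * x⁻¹ * y⁻¹ := by rw [h2 x⁻¹, mul_inv_cancel_right]
      have hz : ⁅(⟨x, hx⟩ : R), ⟨y, hy⟩⁆ ∈ Subgroup.center R := by
        rw [← hext]
        exact Subgroup.commutator_mem_commutator (Subgroup.mem_top _) (Subgroup.mem_top _)
      rw [← map_commutatorElement, hcm, ← map_pow]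
      refine ⟨(scal_iff _).2 (comR _ fun z hz' => ?_), ?_⟩
      · have := Subgroup.mem_center_iff.1 hz ⟨z, hz'⟩
        simpa [commutatorElement_def] using (congrArg Subtype.val this).symm
      · have h1 : (⟨_, hz⟩ : Subgroup.center R) ^ r = 1 := by rw [← hZ]; exact pow_card_eq_one'
        have h2 := congrArg (fun q : Subgroup.center R => ((q : R) : Matrix.GeneralLinearGroup (Fin n) F)) h1
        simp only [SubmonoidClass.coe_pow, OneMemClass.coe_one] at h2
        have h3 : ⁅x, y⁆ ^ r = 1 := by simpa [commutatorElement_def] using h2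
        rw [h3, map_one]
    cen := by
      intro a ha hc'
      obtain ⟨a', ha', rfl⟩ := memH a ha
      refine (scal_iff _).2 (comR _ fun y hy => e.injective ?_)
      rw [map_mul, map_mul]
      exact hc' _ (mkH y (Subgroup.mem_sup_left hy))
    norm := by
      intro a ha
      obtain ⟨a', ha', rfl⟩ := memH a ha
      rw [← map_inv, ← map_mul, ← map_mul]
      exact mkH _ ((Subgroup.mem_normalizer_iff.1 hg' a').1 ha')
    norm' := by
      intro a ha
      obtain ⟨a', ha', rfl⟩ := memH a ha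
      rw [← map_inv, ← map_mul, ← map_mul]
      refine mkH _ ((Subgroup.mem_normalizer_iff.1 hg' _).2 ?_)
      rwa [show g * (g⁻¹ * a' * g) * g⁻¹ = a' by group]
    ord := by rw [← map_pow, hord', map_one]
    nsc := fun h => hns ((scal_iff g).1 h)
    irr := by
      intro hc'
      refine (scal_iff g).2 (comR g fun y hy => e.injective ?_)
      rw [map_mul, map_mul]
      exact hc' _ (mkH y (Subgroup.mem_sup_left hy)) }
  have hlin : Matrix.toLin' (g : Matrix (Fin n) (Fin n) F) = ((e g : (Fin n → F) ≃ₗ[F] (Fin n → F)) : (Fin n → F) →ₗ[F] (Fin n → F)) :=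
    LinearMap.ext fun v => by rw [Matrix.toLin'_apply]; rfl
  have hb := hy.bounds c
  rw [Module.finrank_fin_fun] at hb
  rw [hlin]
  exact hb

end Cfsg.Agent.S5877
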