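import Cfsg.Statements.S5885

set_option autoImplicit false
open Cfsg

namespace Cfsg.Agent.S5885

open MulAction Pointwise

theorem three_cycle_exists {G : Type*} [Group G] [Finite G] (n : ℕ)
    (hA : ∀ P : Subgroup (Equiv.Perm (Fin n)), MulAction.IsPreprimitive P (Fin n) →
      alternatingGroup (Fin n) ≤ P)
    (M : Subgroup G) (hM : IsCoatom M) (hn : M.index = n)
    {b c d : G ⧸ M} (hbc : b ≠ c) (hbd : b ≠ d) (hcd : c ≠ d) :
    ∃ g : G, g • b = c ∧ g • c = d ∧ g • d = b ∧
      ∀ x, x ≠ b → x ≠ c → x ≠ d → g • x = x := by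
  classical
  have : Fintype (G ⧸ M) := Fintype.ofFinite _
  have e : G ⧸ M ≃ Fin n :=
    (Fintype.equivFinOfCardEq (by rw [← Nat.card_eq_fintype_card, ← hn]; rfl))
  let φ : G →* Equiv.Perm (Fin n) :=
    e.permCongrHom.toMonoidHom.comp (MulAction.toPermHom G (G ⧸ M))
  have hne : Nontrivial (G ⧸ M) := by
    rw [← Finite.one_lt_card_iff_nontrivial]
    rcases Nat.lt_or_ge 1 (Nat.card (G ⧸ M)) with h | h
    · exact h
    · exact absurd (Subgroup.index_eq_one.1 (le_antisymm h
        (Nat.one_le_iff_ne_zero.2 Subgroup.index_ne_zero_of_finite))) hM.1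
  have hprim : IsPreprimitive G (G ⧸ M) := by
    rw [← isCoatom_stabilizer_iff_preprimitive G (QuotientGroup.mk 1 : G ⧸ M)]
    rwa [MulAction.stabilizer_quotient]
  have hP : IsPreprimitive φ.range (Fin n) := by
    let f : (G ⧸ M) →ₑ[φ.rangeRestrict] Fin n :=
      { toFun := e
        map_smul' := fun g x => by
          change e (g • x) = φ g (e x)
          simp [φ] }
    exact IsPreprimitive.of_surjective (f := f) e.surjective
  set σ : Equiv.Perm (Fin n) := Equiv.swap (e b) (e c) * Equiv.swap (e c) (e d) with hσ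
  have hmem : σ ∈ alternatingGroup (Fin n) := by
    rw [Equiv.Perm.mem_alternatingGroup, hσ, map_mul, Equiv.Perm.sign_swap (by simpa using hbc),
      Equiv.Perm.sign_swap (by simpa using hcd)]
    decide
  obtain ⟨g, hg⟩ := hA _ hP hmem
  have hgx : ∀ x, e (g • x) = σ (e x) := fun x => by
    rw [← hg]; simp [φ]
  refine ⟨g, ?_, ?_, ?_, fun x h1 h2 h3 => ?_⟩ <;> apply e.injective <;> rw [hgx, hσ]
  · simp [Equiv.swap_apply_of_ne_of_ne, hbc, hbd]
  · simp [Equiv.swap_apply_of_ne_of_ne, hbd.symm, hcd.symm]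
  · simp
  · simp [Equiv.swap_apply_of_ne_of_ne, h1, h2, h3]


/-- Let n be an odd positive integer such that every primitive permutation group of degree n contains the alternating group (so the symmetric and alternating groups are the only primitive groups of degree n). Let G be a finite group, M a maximal subgroup of G of index n, and H a maximal subgroup of M. Then H is a second maximal subgroup of G: H is maximal in every maximal subgroup K of G containing H. -/
theorem result {G : Type*} [Group G]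
    [Finite G] (n : ℕ) (hodd : Odd n)
    (hA : ∀ P : Subgroup (Equiv.Perm (Fin n)), MulAction.IsPreprimitive P (Fin n) → alternatingGroup (Fin n) ≤ P)
    (M : Subgroup G) (hM : IsCoatom M) (hn : M.index = n) (H : Subgroup G) (hHM : H ≤ M)
    (hmax : IsCoatom (H.subgroupOf M)) (K : Subgroup G) (hK : IsCoatom K) (hHK : H ≤ K) :
    IsCoatom (H.subgroupOf K) := by
  classical
  by_cases hKM : K = M
  · subst hKM; exact hmax
  have hKMH : ∀ g, g ∈ K → g ∈ M → g ∈ H := by
    intro g hgK hgM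
    rcases eq_or_ne ((K ⊓ M).subgroupOf M) (H.subgroupOf M) with h | h
    · have h' : (⟨g, hgM⟩ : M) ∈ (K ⊓ M).subgroupOf M := ⟨hgK, hgM⟩
      rw [h] at h'
      exact h'
    · have hlt : H.subgroupOf M < (K ⊓ M).subgroupOf M :=
        lt_of_le_of_ne (fun x hx => ⟨hHK hx, x.2⟩) (Ne.symm h)
      have htop : M ≤ K ⊓ M := Subgroup.subgroupOf_eq_top.1 (hmax.2 _ hlt)
      rcases eq_or_lt_of_le (htop.trans inf_le_left) with h' | h'
      · exact absurd h'.symm hKM
      · exact absurd (hM.2 K h') hK.1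
  constructor
  · intro h
    have hKH : K ≤ H := Subgroup.subgroupOf_eq_top.1 h
    have hKleM : K ≤ M := hKH.trans hHM
    rcases eq_or_lt_of_le hKleM with h' | h'
    · exact hKM h'
    · exact hM.1 (hK.2 M h')
  intro X' hX'
  set X : Subgroup G := X'.map K.subtype with hXdef
  have hXK : X ≤ K := Subgroup.map_subtype_le X'
  have hX'eq : X.subgroupOf K = X' :=
    Subgroup.comap_map_eq_self_of_injective K.subtype_injective X'
  have hHX : H ≤ X := fun g hg => ⟨⟨g, hHK hg⟩, hX'.le hg, rfl⟩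
  rw [← hX'eq, Subgroup.subgroupOf_eq_top]
  set a : G ⧸ M := ((1 : G) : G ⧸ M) with ha
  have hga : ∀ g : G, g • a = a ↔ g ∈ M := by
    intro g
    rw [← MulAction.mem_stabilizer_iff, ha, MulAction.stabilizer_quotient]
  -- membership in `X` is detected by the orbit of `a`
  have hblock : ∀ k ∈ K, ∀ x ∈ X, ∀ y ∈ X, k • x • a = y • a → k ∈ X := by
    intro k hk x hx y hy h
    have h1 : (y⁻¹ * k * x) • a = a := by
      rw [mul_smul, mul_smul, h, inv_smul_smul]
    have h2 : y⁻¹ * k * x ∈ X :=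
      hHX (hKMH _ (mul_mem (mul_mem (inv_mem (hXK hy)) hk) (hXK hx)) ((hga _).1 h1))
    have := mul_mem (mul_mem hy h2) (inv_mem hx)
    simpa [mul_assoc] using this
  set B : Set (G ⧸ M) := Set.range fun x : X => (x : G) • a with hBdef
  have haB : a ∈ B := ⟨1, one_smul _ _⟩
  -- `B ≠ {a}`
  obtain ⟨b, hbB, hba⟩ : ∃ b ∈ B, b ≠ a := by
    by_contra hcon
    push Not at hcon
    refine hX'.not_ge ?_
    intro x hx
    exact hKMH _ x.2 ((hga _).1 (hcon _ ⟨⟨x, ⟨x, hx, rfl⟩⟩, rfl⟩))
  intro k1 hk1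
  by_cases hk1B : k1 • a ∈ B
  · obtain ⟨y, hy⟩ := hk1B
    exact hblock k1 hk1 1 (one_mem X) y y.2 (by rw [one_smul]; exact hy.symm)
  exfalso
  set c := k1 • a with hc
  set d := k1 • b with hd
  obtain ⟨xb, hxb⟩ := hbB
  have hbB : b ∈ B := ⟨xb, hxb⟩
  have hk1X : k1 ∉ X := fun h => hk1B ⟨⟨k1, h⟩, rfl⟩
  have hdB : d ∉ B := by
    rintro ⟨y, hy⟩
    refine hk1X (hblock k1 hk1 xb xb.2 y y.2 ?_)
    simp only at hxb hy
    rw [hxb, hy]
  have hab : a ≠ b := hba.symm
  have hbc : b ≠ c := fun h => hk1B (h ▸ hbB)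
  have hbd : b ≠ d := fun h => hdB (h ▸ hbB)
  have hac : a ≠ c := fun h => hk1B (h ▸ haB)
  have had : a ≠ d := fun h => hdB (h ▸ haB)
  have hcd : c ≠ d := fun h => hab (smul_left_cancel k1 h)
  obtain ⟨g, gb, gc, gd, gfix⟩ :=
    three_cycle_exists n hA M hM hn hbc hbd hcd
  have ga : g • a = a := gfix a hab hac had
  set Δ : Set (G ⧸ M) := Set.range fun k : K => (k : G) • a with hΔdef
  have hXstab : ∀ x ∈ X, x ∈ MulAction.stabilizer G B := by
    intro x hx
    rw [MulAction.mem_stabilizer_iff, hBdef, Set.smul_set_range]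
    ext z
    constructor
    · rintro ⟨y, rfl⟩; exact ⟨⟨x * y, mul_mem hx y.2⟩, mul_smul _ _ _⟩
    · rintro ⟨y, rfl⟩
      exact ⟨⟨x⁻¹ * y, mul_mem (inv_mem hx) y.2⟩, by simp [mul_smul]⟩
  by_cases hΔ : Δ = Set.univ
  · -- `K` transitive: the stabiliser of `B` in `M` is `H`
    let Y : Subgroup G := M ⊓ MulAction.stabilizer G B
    have hHY : H ≤ Y := fun h hh => ⟨hHM hh, hXstab h (hHX hh)⟩
    have hYH : ∀ y ∈ Y, y ∈ H := by
      intro y hy
      rcases eq_or_lt_of_le (show H.subgroupOf M ≤ Y.subgroupOf M from fun x hx => hHY hx)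
        with h | h
      · have h' : (⟨y, hy.1⟩ : M) ∈ Y.subgroupOf M := hy
        rw [← h] at h'
        exact h'
      · have htop : M ≤ Y := Subgroup.subgroupOf_eq_top.1 (hmax.2 _ h)
        have hgY : g • B = B := MulAction.mem_stabilizer_iff.1 (htop ((hga g).1 ga)).2
        exact absurd (hgY ▸ (⟨b, hbB, gb⟩ : c ∈ g • B)) hk1B
    -- a point outside `B ∪ k1 • B`, as `n` is odd
    obtain ⟨e, heB, heB'⟩ : ∃ e, e ∉ B ∧ e ∉ k1 • B := by
      by_contra hcon
      push Not at hcon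
      have hdisj : Disjoint B (k1 • B) := by
        rw [Set.disjoint_left]
        rintro z ⟨y, hy⟩ ⟨w, ⟨x, hx⟩, hw⟩
        refine hk1X (hblock k1 hk1 x x.2 y y.2 ?_)
        simp only at hx hy hw
        rw [hx, hw, hy]
      have huniv : B ∪ k1 • B = Set.univ :=
        Set.eq_univ_of_forall fun z => (em (z ∈ B)).elim Or.inl fun h => Or.inr (hcon z h)
      have hcard : Nat.card (G ⧸ M) = B.ncard + B.ncard := by
        rw [← Set.ncard_univ, ← huniv, Set.ncard_union_eq hdisj, Set.ncard_smul_set]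
      have : n = B.ncard + B.ncard := hn ▸ hcard
      exact (Nat.not_even_iff_odd.2 hodd) ⟨_, this⟩
    have hce : c ≠ e := fun h => heB' (h ▸ Set.smul_mem_smul_set haB)
    have hde : d ≠ e := fun h => heB' (h ▸ Set.smul_mem_smul_set hbB)
    obtain ⟨g', g'c, g'd, g'e, g'fix⟩ :=
      three_cycle_exists n hA M hM hn hcd hce hde
    have hfixB : ∀ z ∈ B, g' • z = z := fun z hz => g'fix z (fun h => hk1B (h ▸ hz))
      (fun h => hdB (h ▸ hz)) (fun h => heB (h ▸ hz))
    have hg'Y : g' ∈ Y := by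
      refine ⟨(hga _).1 (hfixB a haB), ?_⟩
      show g' ∈ MulAction.stabilizer G B
      rw [MulAction.mem_stabilizer_iff]
      ext z
      constructor
      · rintro ⟨w, hw, rfl⟩; simpa [hfixB w hw] using hw
      · intro hz; exact ⟨z, hz, hfixB z hz⟩
    have hg'K : g' ∈ K := hHK (hYH _ hg'Y)
    have hq : k1⁻¹ * g' * k1 ∈ X := by
      refine hblock _ (mul_mem (mul_mem (inv_mem hk1) hg'K) hk1) 1 (one_mem X) xb xb.2 ?_
      simp only at hxb
      rw [one_smul, mul_smul, mul_smul, ← hc, g'c, hd, inv_smul_smul, hxb]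
    have : (k1⁻¹ * g' * k1) • b ∈ B := by
      have := MulAction.mem_stabilizer_iff.1 (hXstab _ hq)
      exact this ▸ Set.smul_mem_smul_set hbB
    rw [mul_smul, mul_smul, ← hd, g'd] at this
    exact heB' (Set.mem_smul_set_iff_inv_smul_mem.2 this)
  · -- `K` intransitive: `K` is the stabiliser of its orbit
    have hKS : K ≤ MulAction.stabilizer G Δ := by
      intro x hx
      rw [MulAction.mem_stabilizer_iff, hΔdef, Set.smul_set_range]
      ext z
      constructor
      · rintro ⟨y, rfl⟩; exact ⟨⟨x * y, mul_mem hx y.2⟩, mul_smul _ _ _⟩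
      · rintro ⟨y, rfl⟩
        exact ⟨⟨x⁻¹ * y, mul_mem (inv_mem hx) y.2⟩, by simp [mul_smul]⟩
    have hSK : MulAction.stabilizer G Δ ≤ K := by
      rcases eq_or_lt_of_le hKS with h | h
      · exact h.ge
      · exfalso
        refine hΔ (Set.eq_univ_of_forall fun z => ?_)
        obtain ⟨g0, hg0⟩ := MulAction.exists_smul_eq G a z
        have h1 : g0 • Δ = Δ :=
          MulAction.mem_stabilizer_iff.1 ((hK.2 _ h).ge (Subgroup.mem_top g0))
        have : g0 • a ∈ g0 • Δ := Set.smul_mem_smul_set ⟨1, one_smul _ _⟩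
        rw [h1, hg0] at this
        exact this
    have hbΔ : b ∈ Δ := ⟨⟨xb, hXK xb.2⟩, hxb⟩
    have hcΔ : c ∈ Δ := ⟨⟨k1, hk1⟩, rfl⟩
    have hdΔ : d ∈ Δ := ⟨⟨k1 * xb, mul_mem hk1 (hXK xb.2)⟩, by
      simp only at hxb ⊢; rw [mul_smul, hxb]⟩
    have hgmaps : ∀ z ∈ Δ, g • z ∈ Δ := by
      intro z hz
      by_cases h1 : z = b
      · rw [h1, gb]; exact hcΔ
      by_cases h2 : z = c
      · rw [h2, gc]; exact hdΔ
      by_cases h3 : z = d
      · rw [h3, gd]; exact hbΔ
      rw [gfix z h1 h2 h3]; exact hz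
    have hgK : g ∈ K := hSK (MulAction.mem_stabilizer_set_iff_smul_set_subset Δ.toFinite
      |>.2 (Set.smul_set_subset_iff.2 fun {z} hz => hgmaps z hz))
    have hgX : g ∈ X := hblock g hgK 1 (one_mem X) 1 (one_mem X) (by rw [one_smul, ga])
    have := MulAction.mem_stabilizer_iff.1 (hXstab g hgX)
    exact hk1B (this ▸ (⟨b, hbB, gb⟩ : c ∈ g • B))

end Cfsg.Agent.S5885
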