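import Cfsg.Statements.S5887
import Cfsg.Agent.Lib.Maximal.FieldSub

set_option autoImplicit false
open Cfsg

namespace Cfsg.Agent.S5887

/-- Let F be a finite field, n a positive integer and r a composite number (r > 1, not prime) that divides n with r < n. Let K be a subalgebra of the algebra of n × n matrices over F which is a field of degree r over F (commutative, every non-zero element invertible, of dimension r over F). Then the normaliser N of K in GL_n(F) (a group of type ΓL_{n/r}(F_{q^r})) is not a maximal subgroup of GL_n(F), and N ∩ SL_n(F) is not a maximal subgroup of SL_n(F): both lie properly inside the normaliser of an intermediate subfield of prime degree over F. -/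
theorem result {F : Type*} [Field F]
    [Fintype F] (n r : ℕ) (hr1 : 1 < r) (hrp : ¬ r.Prime) (hrn : r ∣ n) (hlt : r < n)
    (K : Subalgebra F (Matrix (Fin n) (Fin n) F)) (hK : Cfsg.Geo.IsFieldSubalgebra r K) :
    ¬ IsCoatom (Cfsg.Geo.subalgebraNormalizer K) ∧
      ¬ Cfsg.Geo.IsMaximalIn (Cfsg.Geo.specialLinear (Fin n) F)
        (Cfsg.Geo.subalgebraNormalizer K ⊓ Cfsg.Geo.specialLinear (Fin n) F) := by
  classical
  haveI : Nonempty (Fin n) := ⟨⟨0, by omega⟩⟩
  obtain ⟨ℓ, hℓ, hℓr⟩ := Nat.exists_prime_and_dvd (show r ≠ 1 by omega)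
  have hℓlt : ℓ < r := lt_of_le_of_ne (Nat.le_of_dvd (by omega) hℓr) (fun h => hrp (h ▸ hℓ))
  obtain ⟨L, s, hL, hbL, hLK, hNN⟩ := CfsgLib.Maximal.exists_intermediate K hK hℓ.one_lt hℓr hℓlt
  obtain ⟨T, hTS, hTc, hTK⟩ := CfsgLib.Maximal.exists_centralizer_not_normalizer K hK L hL hLK
    (by rw [Fintype.card_fin]; exact hlt)
  have hs : s < Fintype.card (Fin n) := by
    rw [Fintype.card_fin, ← hL.finrank_eq]
    have := Submodule.finrank_mono (R := F) (show L.toSubmodule ≤ K.toSubmodule from hLK.le)
    rw [Subalgebra.finrank_toSubmodule, Subalgebra.finrank_toSubmodule, hK.finrank_eq] at this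
    omega
  obtain ⟨T', hTS', -, hTL'⟩ := CfsgLib.Maximal.exists_centralizer_not_normalizer L hL ⊥
    CfsgLib.Maximal.isFieldSubalgebra_bot hbL hs
  have hTL : T ∈ Cfsg.Geo.subalgebraNormalizer L := by
    intro k
    constructor
    · intro hk
      rw [hTc k hk, mul_assoc, ← Units.val_mul, mul_inv_cancel, Units.val_one, mul_one]
      exact hk
    · intro hk
      have h2 := hTc _ hk
      have : (T : Matrix (Fin n) (Fin n) F) * k * ((T⁻¹ : GL (Fin n) F) : Matrix (Fin n) (Fin n) F) = k := by
        have h3 := congrArg (fun z => ((T⁻¹ : GL (Fin n) F) : Matrix (Fin n) (Fin n) F) * z) h2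
        simpa [mul_assoc, ← Units.val_mul] using h3
      rwa [this] at hk
  constructor
  · intro hco
    have hlt' : Cfsg.Geo.subalgebraNormalizer K < Cfsg.Geo.subalgebraNormalizer L :=
      lt_of_le_of_ne hNN fun h => hTK (h ▸ hTL)
    exact hTL' ((hco.2 _ hlt').symm ▸ Subgroup.mem_top T')
  · intro hmax
    rcases hmax.2 (Cfsg.Geo.subalgebraNormalizer L ⊓ Cfsg.Geo.specialLinear (Fin n) F)
      (inf_le_inf_right _ hNN) inf_le_right with h | h
    · have hmem : T ∈ Cfsg.Geo.subalgebraNormalizer L ⊓ Cfsg.Geo.specialLinear (Fin n) F := ⟨hTL, hTS⟩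
      rw [h] at hmem
      exact hTK hmem.1
    · rw [← h] at hTS'
      exact hTL' hTS'.1

end Cfsg.Agent.S5887
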