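import Cfsg.Statements.S5890
import Cfsg.Agent.Lib.PSL2.PGLMax

set_option autoImplicit false
open Cfsg

namespace Cfsg.Agent.S5890

/-- Let F be a finite field with q ≥ 4 elements, let L ≤ PGL₂(F) be the image of SL₂(F) (a copy of PSL₂(F), of index gcd(2, q − 1)), and let M be a maximal subgroup of PGL₂(F) that does not contain L. Suppose q ∉ {7, 9, 11} and that q is not a prime congruent to ±11 or ±19 modulo 40. Then M ∩ L is a maximal subgroup of L. (For the excluded q there are maximal subgroups of PGL₂(q) — dihedral groups of order 12 and 16 at q = 7, of order 20 and 16 at q = 9, of order 20 at q = 11, and S₄ at the excluded primes — whose intersection with L is not maximal in L.) -/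
theorem result {F : Type*} [Field F]
    [Fintype F] (h4 : 4 ≤ Fintype.card F) (h7 : Fintype.card F ≠ 7) (h9 : Fintype.card F ≠ 9) (h11 : Fintype.card F ≠ 11)
    (h40 : (Fintype.card F).Prime → Fintype.card F % 40 ∉ ({11, 19, 21, 29} : Finset ℕ))
    (M : Subgroup (Matrix.ProjGenLinGroup (Fin 2) F)) (hM : IsCoatom M)
    (hML : ¬ (Matrix.ProjGenLinGroup.mk.comp Matrix.SpecialLinearGroup.toGL).range ≤ M) :
    IsCoatom ((M ⊓ (Matrix.ProjGenLinGroup.mk.comp Matrix.SpecialLinearGroup.toGL).range).subgroupOf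
      (Matrix.ProjGenLinGroup.mk.comp Matrix.SpecialLinearGroup.toGL).range) := by
  obtain ⟨p, hp⟩ := CharP.exists F
  haveI := Fact.mk (CharP.char_is_prime F p)
  have hc : Nat.card F = Fintype.card F := Nat.card_eq_fintype_card
  rw [CfsgLib.PSL2.mkToGL_range] at hML ⊢
  suffices h : CfsgLib.PSL2.MaxSub (M ⊓ CfsgLib.PSL2.pslRange F) by
    refine ⟨fun e => h.lt.ne (le_antisymm inf_le_right fun x hx => ?_), fun K hK => ?_⟩
    · have : (⟨x, hx⟩ : CfsgLib.PSL2.pslRange F) ∈ (M ⊓ CfsgLib.PSL2.pslRange F).subgroupOf _ := e ▸ Subgroup.mem_top _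
      exact this
    · by_contra hne
      have h1 : K.map (CfsgLib.PSL2.pslRange F).subtype < CfsgLib.PSL2.pslRange F := by
        refine lt_of_le_of_ne (Subgroup.map_subtype_le K) fun e => hne ((Subgroup.eq_top_iff' K).2 fun x => ?_)
        have hx : (x : Matrix.ProjGenLinGroup (Fin 2) F) ∈ K.map (CfsgLib.PSL2.pslRange F).subtype := by
          rw [e]; exact x.2
        obtain ⟨y, hy, hxy⟩ := hx
        exact (Subtype.ext hxy : y = x) ▸ hy
      have hle : M ⊓ CfsgLib.PSL2.pslRange F ≤ K.map (CfsgLib.PSL2.pslRange F).subtype :=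
        fun x hx => Subgroup.mem_map.2 ⟨⟨x, hx.2⟩, hK.le hx, rfl⟩
      have h2 := h.eq _ hle h1
      refine hK.ne (le_antisymm hK.le fun x hx => ?_)
      have : (x : Matrix.ProjGenLinGroup (Fin 2) F) ∈ M ⊓ CfsgLib.PSL2.pslRange F := h2 ▸ ⟨x, hx, rfl⟩
      exact this
  have hq : 3 < Nat.card F := by omega
  rcases Nat.even_or_odd (Nat.card F) with he | ho
  · rw [CfsgLib.PSL2.pslRange_eq_top_of_even he, inf_top_eq]
    refine ⟨?_, fun K hK hK' => ?_⟩
    · rw [CfsgLib.PSL2.pslRange_eq_top_of_even he]; exact lt_top_iff_ne_top.2 hM.1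
    · rcases eq_or_lt_of_le hK with e | e
      · exact e.symm
      · rw [hM.2 _ e, CfsgLib.PSL2.pslRange_eq_top_of_even he] at hK'
        exact absurd hK' (lt_irrefl _)
  cases CfsgLib.PSL2.pglType (p := p) hM hML ho hq with
  | borel x heq =>
    rw [heq]
    exact CfsgLib.PSL2.borel_maxSub x hq
  | torus a b hg heq h5 =>
    rw [heq]
    refine CfsgLib.PSL2.torus_maxSub hg hq (fun hr => ?_) (fun _ => ?_)
    · have := h5 hr
      simp only [Finset.mem_insert, Finset.mem_singleton]; omega
    · simp only [Finset.mem_insert, Finset.mem_singleton]; omega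
  | octa x y h heq hF h8 =>
    obtain ⟨X, hXN, hXL, ⟨e⟩⟩ := h.exists_alt ho
    have hX : M ⊓ CfsgLib.PSL2.pslRange F = X := by
      rw [heq]
      refine (Subgroup.eq_of_le_of_card_ge (le_inf hXN hXL) ?_).symm
      rw [Nat.card_congr e.toEquiv, CfsgLib.PSL2.card_alt_four]
      have h24 := h.card_norm ho
      obtain ⟨c, hc'⟩ := Subgroup.card_dvd_of_le
        (inf_le_left : CfsgLib.PSL2.fourNorm x y ⊓ CfsgLib.PSL2.pslRange F ≤ CfsgLib.PSL2.fourNorm x y)
      rw [h24] at hc'
      rcases c with _ | _ | c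
      · omega
      · exfalso
        have hle : CfsgLib.PSL2.fourNorm x y ≤ CfsgLib.PSL2.pslRange F :=
          le_of_eq_of_le (Subgroup.eq_of_le_of_card_ge inf_le_left (by omega)).symm inf_le_right
        have := (CfsgLib.PSL2.fourNorm_le_psl_iff ho h).1 hle
        omega
      · nlinarith
    rw [hX]
    have h40' := h40 (by rw [← hc, hF]; exact Fact.out)
    simp only [Finset.mem_insert, Finset.mem_singleton] at h40'
    exact CfsgLib.PSL2.alt_four_maxSub (p := p) hF (by omega) h8 ⟨by omega, by omega⟩ hXL e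
  | subfield K k r hr hodd hm heq =>
    rw [heq]
    refine CfsgLib.PSL2.subfield_maxSub p hr hm (fun h2 => ?_) k
    rw [Module.natCard_eq_pow_finrank (K := K) (V := F), h2] at ho
    exact absurd ((Nat.odd_pow_iff (by rw [hm]; exact hr.pos.ne')).1 ho) (by decide)

end Cfsg.Agent.S5890
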