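import Cfsg.Statements.S5891
import Cfsg.Agent.Lib.PSL2.PGLMax
import Cfsg.Agent.Lib.PSL2.Congr

set_option autoImplicit false
open Cfsg

namespace Cfsg.Agent.S5891

/-- Let F be a finite field of odd order q > 3 and characteristic p, and let M be a maximal subgroup of PGL₂(F) not containing the image L of SL₂(F) (a copy of PSL₂(F) of index 2). Then one of the following holds: |M| = q(q − 1) (M is the stabiliser of a point of the projective line); q ≠ 5 and M is dihedral of order 2(q − 1); M is dihedral of order 2(q + 1); q = p ≡ ±3 (mod 8) and M ≅ S₄; or q = q₀^r for an odd prime r and M ≅ PGL₂(F₀) with |F₀| = q₀. -/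
theorem result {F : Type*} [Field F] [Fintype F]
    (hodd : Odd (Fintype.card F)) (h3 : 3 < Fintype.card F) (M : Subgroup (Matrix.ProjGenLinGroup (Fin 2) F)) (hM : IsCoatom M)
    (hML : ¬ (Matrix.ProjGenLinGroup.mk.comp Matrix.SpecialLinearGroup.toGL).range ≤ M) :
    Nat.card M = Fintype.card F * (Fintype.card F - 1) ∨
    (Fintype.card F ≠ 5 ∧ Nonempty (M ≃* DihedralGroup (Fintype.card F - 1))) ∨
    Nonempty (M ≃* DihedralGroup (Fintype.card F + 1)) ∨
    ((Fintype.card F).Prime ∧ (Fintype.card F % 8 = 3 ∨ Fintype.card F % 8 = 5) ∧ Nonempty (M ≃* Equiv.Perm (Fin 4))) ∨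
    (∃ (F₀ : Type) (_ : Field F₀) (_ : Fintype F₀) (r : ℕ), r.Prime ∧ Odd r ∧ Fintype.card F = Fintype.card F₀ ^ r ∧
        Nonempty (M ≃* Matrix.ProjGenLinGroup (Fin 2) F₀)) := by
  obtain ⟨p, hp⟩ := CharP.exists F
  haveI := Fact.mk (CharP.char_is_prime F p)
  have hc : Nat.card F = Fintype.card F := Nat.card_eq_fintype_card
  rw [CfsgLib.PSL2.mkToGL_range] at hML
  cases CfsgLib.PSL2.pglType (p := p) hM hML (hc ▸ hodd) (hc ▸ h3) with
  | borel x heq =>
    left
    rw [heq, CfsgLib.PSL2.card_stab, hc]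
  | torus a b hg heq h5 =>
    obtain ⟨-, ⟨i⟩⟩ := CfsgLib.PSL2.pairStab_card hg
    rw [CfsgLib.PSL2.torusCard, hc] at i
    by_cases hr : CfsgLib.PSL2.IsRat a
    · rw [if_pos hr] at i
      exact Or.inr (Or.inl ⟨hc ▸ h5 hr, ⟨(MulEquiv.subgroupCongr heq).trans i⟩⟩)
    · rw [if_neg hr] at i
      exact Or.inr (Or.inr (Or.inl ⟨(MulEquiv.subgroupCongr heq).trans i⟩))
  | octa x y h heq hF h8 =>
    obtain ⟨i⟩ := h.norm_equiv (hc ▸ hodd)
    refine Or.inr (Or.inr (Or.inr (Or.inl ⟨?_, ?_, ⟨(MulEquiv.subgroupCongr heq).trans i⟩⟩)))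
    · rw [← hc, hF]; exact Fact.out
    · rw [← hc, hF]; exact h8
  | subfield K k r hr ho hm heq =>
    obtain ⟨K', ⟨c⟩⟩ := CfsgLib.PSL2.exists_small_copy p K
    haveI := Fintype.ofFinite K'
    obtain ⟨j⟩ := CfsgLib.PSL2.subGroupK_equiv K k
    obtain ⟨g⟩ := CfsgLib.PSL2.nonempty_pgl_congr (n := Fin 2) c
    refine Or.inr (Or.inr (Or.inr (Or.inr ⟨K', inferInstance, inferInstance, r, hr, ho, ?_,
      ⟨((MulEquiv.subgroupCongr heq).trans j).trans g⟩⟩)))
    rw [← hc, ← Nat.card_eq_fintype_card, ← Nat.card_congr c.toEquiv, ← hm, ← Module.natCard_eq_pow_finrank]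

end Cfsg.Agent.S5891
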