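import Cfsg.Statements.S5892
import Cfsg.Agent.Lib.PSL2.Classify

set_option autoImplicit false
open Cfsg

namespace Cfsg.Agent.S5892

/-- Let F be a finite field of odd order q ≥ 5 and characteristic p, and let M be a maximal subgroup of PSL₂(F). Then one of the following holds: |M| = q(q − 1)/2 (the stabiliser of a point of the projective line); q ≥ 13 and M is dihedral of order q − 1; q ∉ {7, 9} and M is dihedral of order q + 1; q = q₀² and M ≅ PGL₂(F₀) with |F₀| = q₀; q = q₀^r for an odd prime r and M ≅ PSL₂(F₀) with |F₀| = q₀; q ≡ ±1 (mod 10) with q = p or q = p², p ≡ ±3 (mod 10), and M ≅ A₅; q = p ≡ ±3 (mod 8), q ≢ ±1 (mod 10), and M ≅ A₄; or q = p ≡ ±1 (mod 8) and M ≅ S₄. -/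
theorem result {F : Type*} [Field F] [Fintype F] (p : ℕ)
    [Fact p.Prime] [CharP F p] (hodd : Odd (Fintype.card F)) (h5 : 5 ≤ Fintype.card F)
    (M : Subgroup (Matrix.ProjectiveSpecialLinearGroup (Fin 2) F)) (hM : IsCoatom M) :
    2 * Nat.card M = Fintype.card F * (Fintype.card F - 1) ∨
    (13 ≤ Fintype.card F ∧ (∃ k : ℕ, 2 * k = Fintype.card F - 1 ∧ Nonempty (M ≃* DihedralGroup k))) ∨
    (Fintype.card F ≠ 7 ∧ Fintype.card F ≠ 9 ∧ (∃ k : ℕ, 2 * k = Fintype.card F + 1 ∧ Nonempty (M ≃* DihedralGroup k))) ∨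
    (∃ (F₀ : Type) (_ : Field F₀) (_ : Fintype F₀), Fintype.card F = Fintype.card F₀ ^ 2 ∧
        Nonempty (M ≃* Matrix.ProjGenLinGroup (Fin 2) F₀)) ∨
    (∃ (F₀ : Type) (_ : Field F₀) (_ : Fintype F₀) (r : ℕ), r.Prime ∧ Odd r ∧ Fintype.card F = Fintype.card F₀ ^ r ∧
        Nonempty (M ≃* Matrix.ProjectiveSpecialLinearGroup (Fin 2) F₀)) ∨
    ((Fintype.card F % 10 = 1 ∨ Fintype.card F % 10 = 9) ∧
        (Fintype.card F = p ∨ (Fintype.card F = p ^ 2 ∧ (p % 10 = 3 ∨ p % 10 = 7))) ∧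
        Nonempty (M ≃* alternatingGroup (Fin 5))) ∨
    (Fintype.card F = p ∧ (p % 8 = 3 ∨ p % 8 = 5) ∧ ¬ (p % 10 = 1 ∨ p % 10 = 9) ∧
        Nonempty (M ≃* alternatingGroup (Fin 4))) ∨
    (Fintype.card F = p ∧ (p % 8 = 1 ∨ p % 8 = 7) ∧ Nonempty (M ≃* Equiv.Perm (Fin 4))) := by
  have hc : Nat.card F = Fintype.card F := Nat.card_eq_fintype_card
  have ho : Odd (Nat.card F) := by rwa [hc]
  have hd := CfsgLib.Classical.gcd_two_card_sub_one_of_odd ho
  let e := M.equivMapOfInjective _ (Matrix.ProjectiveSpecialLinearGroup.toPGL_injective (n := Fin 2) (R := F))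
  have hcard : Nat.card M = Nat.card (M.map (Matrix.ProjectiveSpecialLinearGroup.toPGL (n := Fin 2) (R := F))) :=
    Nat.card_congr e.toEquiv
  have hmax := CfsgLib.PSL2.maxSub_of_isCoatom hM
  have hodd' := hodd
  rw [Nat.odd_iff] at hodd'
  cases CfsgLib.PSL2.maxType (p := p) hmax (by omega) with
  | borel x heq hx =>
    left
    rw [hd, ← hcard, hc] at hx
    exact hx
  | torus a b hg heq iso =>
    obtain ⟨i⟩ := iso
    obtain ⟨hrat, hnrat⟩ := CfsgLib.PSL2.torus_excluded hg (by omega) (heq ▸ hmax)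
    rw [hd, CfsgLib.PSL2.torusCard, hc] at i
    by_cases hr : CfsgLib.PSL2.IsRat a
    · rw [if_pos hr] at i
      have := hrat hr
      simp only [Finset.mem_insert, Finset.mem_singleton, hc] at this
      refine Or.inr (Or.inl ⟨?_, (Fintype.card F - 1) / 2, by omega, ⟨e.trans i⟩⟩)
      have h13 : Fintype.card F % 2 = 1 := hodd'
      omega
    · rw [if_neg hr] at i
      have := hnrat hr
      simp only [Finset.mem_insert, Finset.mem_singleton, hc] at this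
      exact Or.inr (Or.inr (Or.inl ⟨by omega, by omega, (Fintype.card F + 1) / 2, by omega, ⟨e.trans i⟩⟩))
  | tetra hp iso =>
    obtain ⟨i⟩ := iso
    obtain ⟨h1, h2, h3⟩ := CfsgLib.PSL2.tetra_max hmax hp i
    exact Or.inr (Or.inr (Or.inr (Or.inr (Or.inr (Or.inr (Or.inl ⟨hc ▸ h1, h2, h3, ⟨e.trans i⟩⟩))))))
  | octa hp iso =>
    obtain ⟨i⟩ := iso
    obtain ⟨h1, h2⟩ := CfsgLib.PSL2.octa_max hmax hp i
    exact Or.inr (Or.inr (Or.inr (Or.inr (Or.inr (Or.inr (Or.inr ⟨hc ▸ h1, h2, ⟨e.trans i⟩⟩))))))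
  | icosa hp iso =>
    obtain ⟨i⟩ := iso
    obtain ⟨h1, h2⟩ := CfsgLib.PSL2.icosa_max p hmax hp i
    rw [hc] at h1 h2
    exact Or.inr (Or.inr (Or.inr (Or.inr (Or.inr (Or.inl ⟨h1, h2, ⟨e.trans i⟩⟩)))))
  | subfield K k r hr hm heq h2 =>
    obtain ⟨K', ⟨c⟩⟩ := CfsgLib.PSL2.exists_small_copy p K
    haveI := Fintype.ofFinite K'
    have hK : Fintype.card F = Fintype.card K' ^ r := by
      rw [← hc, ← Nat.card_eq_fintype_card, ← Nat.card_congr c.toEquiv, ← hm, ← Module.natCard_eq_pow_finrank]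
    rcases hr.eq_two_or_odd' with rfl | hodd2
    · obtain ⟨j⟩ := CfsgLib.PSL2.subGroupK_equiv K k
      obtain ⟨g⟩ := CfsgLib.PSL2.nonempty_pgl_congr (n := Fin 2) c
      refine Or.inr (Or.inr (Or.inr (Or.inl ⟨K', inferInstance, inferInstance, hK, ?_⟩)))
      exact ⟨(e.trans (MulEquiv.subgroupCongr (heq.trans
        (inf_eq_left.2 (CfsgLib.PSL2.subGroupK_le_psl ho K k (by rw [hm]; exact even_two)))))).trans (j.trans g)⟩
    · obtain ⟨j⟩ := CfsgLib.PSL2.subGroupK_inf_psl ho K k (by rw [hm]; exact hodd2)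
      obtain ⟨g⟩ := CfsgLib.PSL2.nonempty_psl_congr (n := Fin 2) c
      refine Or.inr (Or.inr (Or.inr (Or.inr (Or.inl ⟨K', inferInstance, inferInstance, r, hr, hodd2, hK, ?_⟩))))
      exact ⟨(e.trans (MulEquiv.subgroupCongr heq)).trans (j.trans g)⟩

end Cfsg.Agent.S5892
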