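import Cfsg.Statements.S5893
import Cfsg.Agent.Lib.PSL2.Maximal
import Cfsg.Agent.Lib.PSL2.Congr

set_option autoImplicit false
open Cfsg

namespace Cfsg.Agent.S5893

/-- Let F be a finite field of even order q ≥ 4 and let M be a maximal subgroup of PSL₂(F) (= SL₂(F) = PGL₂(F)). Then one of the following holds: |M| = q(q − 1) (the stabiliser of a point of the projective line, elementary abelian of order q extended by a cyclic group of order q − 1); M is dihedral of order 2(q − 1); M is dihedral of order 2(q + 1); or q = q₀^r for a prime r with q₀ ≠ 2 and M ≅ PSL₂(F₀) with |F₀| = q₀. -/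
theorem result {F : Type*} [Field F] [Fintype F]
    (heven : Even (Fintype.card F)) (h4 : 4 ≤ Fintype.card F) (M : Subgroup (Matrix.ProjectiveSpecialLinearGroup (Fin 2) F)) (hM : IsCoatom M) :
    Nat.card M = Fintype.card F * (Fintype.card F - 1) ∨
    Nonempty (M ≃* DihedralGroup (Fintype.card F - 1)) ∨
    Nonempty (M ≃* DihedralGroup (Fintype.card F + 1)) ∨
    (∃ (F₀ : Type) (_ : Field F₀) (_ : Fintype F₀) (r : ℕ), r.Prime ∧ Fintype.card F₀ ≠ 2 ∧
        Fintype.card F = Fintype.card F₀ ^ r ∧ Nonempty (M ≃* Matrix.ProjectiveSpecialLinearGroup (Fin 2) F₀)) := by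
  haveI : Fact (Nat.Prime 2) := ⟨Nat.prime_two⟩
  haveI : CharP F 2 := by
    obtain ⟨p, hp⟩ := CharP.exists F
    obtain ⟨n, hn, hn'⟩ := FiniteField.card F p
    rw [hn'] at heven
    obtain rfl : p = 2 := (Nat.prime_dvd_prime_iff_eq Nat.prime_two hn).1
      (Nat.prime_two.dvd_of_dvd_pow (even_iff_two_dvd.1 heven)) |>.symm
    exact hp
  have he : Even (Nat.card F) := by rwa [Nat.card_eq_fintype_card]
  have hd := CfsgLib.Classical.gcd_two_card_sub_one_of_even he
  have hpsl := CfsgLib.PSL2.pslRange_eq_top_of_even he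
  let e := M.equivMapOfInjective _ (Matrix.ProjectiveSpecialLinearGroup.toPGL_injective (n := Fin 2) (R := F))
  have hcard : Nat.card M = Nat.card (M.map (Matrix.ProjectiveSpecialLinearGroup.toPGL (n := Fin 2) (R := F))) :=
    Nat.card_congr e.toEquiv
  cases CfsgLib.PSL2.maxType (p := 2) (CfsgLib.PSL2.maxSub_of_isCoatom hM) (by rw [Nat.card_eq_fintype_card]; omega) with
  | borel x heq hc =>
    left
    rw [hd, one_mul, ← hcard, Nat.card_eq_fintype_card (α := F)] at hc
    exact hc
  | torus a b hg heq iso =>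
    obtain ⟨i⟩ := iso
    rw [hd, Nat.div_one, CfsgLib.PSL2.torusCard, Nat.card_eq_fintype_card] at i
    by_cases hr : CfsgLib.PSL2.IsRat a <;> [rw [if_pos hr] at i; rw [if_neg hr] at i]
    · exact Or.inr (Or.inl ⟨e.trans i⟩)
    · exact Or.inr (Or.inr (Or.inl ⟨e.trans i⟩))
  | tetra hp iso =>
    obtain ⟨i⟩ := iso
    refine absurd ?_ hp
    rw [Nat.card_congr i.toEquiv, nat_card_alternatingGroup, Nat.card_fin]
    decide
  | octa hp iso =>
    obtain ⟨i⟩ := iso
    refine absurd ?_ hp
    rw [Nat.card_congr i.toEquiv, Nat.card_perm, Nat.card_fin]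
    decide
  | icosa hp iso =>
    obtain ⟨i⟩ := iso
    rcases hp with hp | hp
    · refine absurd ?_ hp
      rw [Nat.card_congr i.toEquiv, nat_card_alternatingGroup, Nat.card_fin]
      decide
    · omega
  | subfield K k r hr hm heq h2 =>
    right; right; right
    obtain ⟨K', ⟨c⟩⟩ := CfsgLib.PSL2.exists_small_copy 2 K
    haveI := Fintype.ofFinite K'
    have hK : Nat.card K' = Nat.card K := (Nat.card_congr c.toEquiv).symm
    refine ⟨K', inferInstance, inferInstance, r, hr, ?_, ?_, ?_⟩
    · rwa [← Nat.card_eq_fintype_card, hK]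
    · rw [← Nat.card_eq_fintype_card, ← Nat.card_eq_fintype_card, hK, ← hm, ← Module.natCard_eq_pow_finrank]
    · rw [hpsl, inf_top_eq] at heq
      obtain ⟨j⟩ := CfsgLib.PSL2.subGroupK_equiv K k
      obtain ⟨g⟩ := CfsgLib.PSL2.nonempty_pgl_congr (n := Fin 2) c
      have heK : Even (Nat.card K') := by
        rw [hK]; rw [Module.natCard_eq_pow_finrank (K := K) (V := F)] at he
        exact (Nat.even_pow.1 he).1
      have hs : Function.Surjective (Matrix.ProjectiveSpecialLinearGroup.toPGL (n := Fin 2) (R := K')) :=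
        MonoidHom.range_eq_top.1 (CfsgLib.PSL2.pslRange_eq_top_of_even heK)
      exact ⟨((e.trans (MulEquiv.subgroupCongr heq)).trans (j.trans g)).trans
        (MulEquiv.ofBijective _ ⟨Matrix.ProjectiveSpecialLinearGroup.toPGL_injective, hs⟩).symm⟩

end Cfsg.Agent.S5893
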