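import Cfsg.Statements.S5894
import Cfsg.Agent.Lib.Maximal.SetStab

set_option autoImplicit false
open Cfsg Pointwise

namespace Cfsg.Agent.S5894

/-- For every m ≥ 2 the symmetric group on 2m letters has a maximal subgroup M of index 2m together with a maximal subgroup H of M that is not second maximal: some maximal subgroup K of the symmetric group contains H without H being maximal in K. (One may take M the stabiliser of a letter, H ≅ S_m × S_{m−1} inside it, and K ≅ S_m ≀ S₂ the stabiliser of a partition into two m-sets, with H < S_m × S_m < K.) So the prime-index hypothesis in the second-maximality criterion cannot be relaxed to any even index ≥ 4. -/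
theorem result (m : ℕ) (hm : 2 ≤ m) :
    ∃ M H K : Subgroup (Equiv.Perm (Fin (2 * m))), IsCoatom M ∧ M.index = 2 * m ∧ H ≤ M ∧ IsCoatom (H.subgroupOf M) ∧
      IsCoatom K ∧ H ≤ K ∧ ¬ IsCoatom (H.subgroupOf K) := by
  classical
  let a : Fin (2 * m) := ⟨0, by omega⟩
  let O : Set (Fin (2 * m)) := {i | (i : ℕ) < m}
  have haO : a ∈ O := by show (0 : ℕ) < m; omega
  have hO : O.ncard = m := by
    rw [← Nat.card_coe_set_eq]
    have e : O ≃ Fin m := ⟨fun i => ⟨i.1.1, i.2⟩, fun i => ⟨⟨i.1, by omega⟩, i.2⟩, fun _ => rfl, fun _ => rfl⟩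
    rw [Nat.card_congr e, Nat.card_fin]
  have hsum := Set.ncard_add_ncard_compl O
  rw [Nat.card_fin] at hsum
  have hOc : O.ncard = Oᶜ.ncard := by omega
  obtain ⟨c, hc, hca⟩ := Set.exists_ne_of_one_lt_ncard (show 1 < O.ncard by omega) a
  obtain ⟨b, hb⟩ : Oᶜ.Nonempty := Set.nonempty_of_ncard_ne_zero (by omega)
  let M := MulAction.stabilizer (Equiv.Perm (Fin (2 * m))) a
  have hM : IsCoatom M := by
    show IsCoatom (MulAction.stabilizer (Equiv.Perm (Fin (2 * m))) a)
    rw [← MulAction.stabilizer_singleton]
    apply Equiv.Perm.isCoatom_stabilizer (Set.singleton_nonempty a)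
    · exact ⟨c, hca⟩
    · rw [Nat.card_fin, Set.ncard_singleton]; omega
  obtain ⟨K, hK, hKle⟩ := (eq_top_or_exists_le_coatom (CfsgLib.Maximal.pairStab O)).resolve_left
    (CfsgLib.Maximal.pairStab_ne_top O haO hc hca.symm hb)
  refine ⟨M, M ⊓ MulAction.stabilizer (Equiv.Perm (Fin (2 * m))) O, K, hM, ?_, inf_le_left, ?_, hK,
    inf_le_right.trans ((CfsgLib.Maximal.stabilizer_le_pairStab O).trans hKle), ?_⟩
  · rw [MulAction.index_stabilizer_of_transitive, Nat.card_fin]
  · -- M is the symmetric group on the other points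
    let p : Fin (2 * m) → Prop := fun x => x ≠ a
    let φ : Equiv.Perm (Subtype p) →* M :=
      Equiv.Perm.ofSubtype.codRestrict M (fun σ =>
        Equiv.Perm.ofSubtype_apply_of_not_mem (p := p) σ (a := a) (fun h => h rfl))
    have hφ : Function.Bijective φ := by
      refine ⟨fun x y h => Equiv.Perm.ofSubtype_injective (congrArg Subtype.val h), fun g => ?_⟩
      have hga : (g : Equiv.Perm (Fin (2 * m))) a = a := g.2
      have hgp : ∀ x, p ((g : Equiv.Perm (Fin (2 * m))) x) ↔ p x := by
        intro x
        constructor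
        · intro h he; exact h (by rw [he, hga])
        · intro h he; exact h ((g : Equiv.Perm (Fin (2 * m))).injective (by rw [he, hga]))
      refine ⟨(g : Equiv.Perm (Fin (2 * m))).subtypePerm hgp, Subtype.ext ?_⟩
      exact Equiv.Perm.ofSubtype_subtypePerm hgp (fun x hx he => hx (by rw [he, hga]))
    let e : Equiv.Perm (Subtype p) ≃* M := MulEquiv.ofBijective φ hφ
    rw [← OrderIso.isCoatom_iff e.comapSubgroup]
    have heq : e.comapSubgroup ((M ⊓ MulAction.stabilizer (Equiv.Perm (Fin (2 * m))) O).subgroupOf M) =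
        MulAction.stabilizer (Equiv.Perm (Subtype p)) (Subtype.val ⁻¹' O : Set (Subtype p)) := by
      ext σ
      show (φ σ : Equiv.Perm (Fin (2 * m))) ∈ M ⊓ MulAction.stabilizer (Equiv.Perm (Fin (2 * m))) O ↔ _
      simp only [Subgroup.mem_inf, SetLike.coe_mem, true_and, MulAction.mem_stabilizer_set,
        Equiv.Perm.smul_def, Set.mem_preimage]
      constructor
      · intro h x
        rw [← h (x : Fin (2 * m))]
        exact iff_of_eq (congrArg (· ∈ O) (Equiv.Perm.ofSubtype_apply_coe σ x).symm)
      · intro h x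
        by_cases hx : p x
        · rw [← h ⟨x, hx⟩]
          exact iff_of_eq (congrArg (· ∈ O) (Equiv.Perm.ofSubtype_apply_coe σ ⟨x, hx⟩))
        · exact iff_of_eq (congrArg (· ∈ O) (Equiv.Perm.ofSubtype_apply_of_not_mem σ hx))
    rw [heq]
    apply Equiv.Perm.isCoatom_stabilizer
    · exact ⟨⟨c, hca⟩, hc⟩
    · exact ⟨⟨b, fun h => hb (h ▸ haO)⟩, hb⟩
    · have h1 : Nat.card (Subtype p) = 2 * m - 1 := by
        rw [Nat.card_eq_fintype_card, Fintype.card_subtype_compl, Fintype.card_fin, Fintype.card_subtype_eq]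
      omega
  · intro hco
    set S := MulAction.stabilizer (Equiv.Perm (Fin (2 * m))) O with hS
    have hSK : S < K := (CfsgLib.Maximal.stabilizer_lt_pairStab O ⟨a, haO⟩ hOc).trans_le hKle
    have hlt : (M ⊓ S).subgroupOf K < S.subgroupOf K := by
      refine lt_of_le_of_ne (Subgroup.comap_mono inf_le_right) fun h => ?_
      have hsw : Equiv.swap a c ∈ S := by
        rw [hS, MulAction.mem_stabilizer_set]
        intro x
        rw [Equiv.Perm.smul_def, Equiv.swap_apply_def]
        by_cases hxa : x = a
        · rw [if_pos hxa, hxa]; exact iff_of_true hc haO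
        · rw [if_neg hxa]
          by_cases hxc : x = c
          · rw [if_pos hxc, hxc]; exact iff_of_true haO hc
          · rw [if_neg hxc]
      have hmem : (⟨_, hSK.le hsw⟩ : K) ∈ S.subgroupOf K := hsw
      rw [← h] at hmem
      have : Equiv.swap a c a = a := hmem.1
      rw [Equiv.swap_apply_left] at this
      exact hca this
    have htop := hco.2 _ hlt
    exact absurd (Subgroup.subgroupOf_eq_top.1 htop) (not_le_of_gt hSK)

end Cfsg.Agent.S5894
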