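import Cfsg.Statements.S5908
import Cfsg.Agent.Lib.Classical.PSU32

set_option autoImplicit false
open Cfsg

namespace Cfsg.Agent.S5908

/-- The subgroup lattice of PSU₃(2) (the solvable group of order 72, realised over the field with 4 elements) is not complemented: some subgroup H has no subgroup X with H ⊔ X = ⊤ and H ⊓ X = ⊥. -/
theorem result {F : Type*} [Field F] [Fintype F] (hF : Fintype.card F = 4) :
    ¬ ComplementedLattice (Subgroup (Cfsg.PSU 3 F 2)) := by
  intro hC
  obtain ⟨hcard, N, hN, -, -, ⟨e⟩⟩ := CfsgLib.Classical.Unitary.psu32_structure (q := 2)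
    (show Nat.card F = 2 ^ 2 by rw [Nat.card_eq_fintype_card, hF]; norm_num) rfl
  set φ : Cfsg.PSU 3 F 2 →* QuaternionGroup 2 := e.toMonoidHom.comp (QuotientGroup.mk' N)
  have hφ : Function.Surjective φ := e.surjective.comp (QuotientGroup.mk'_surjective N)
  obtain ⟨X, hX⟩ := exists_isCompl ((Subgroup.zpowers (QuaternionGroup.a 2 : QuaternionGroup 2)).comap φ)
  have key : ∀ y : QuaternionGroup 2, y ^ 2 = 1 ∨ y ^ 3 = 1 → y = 1 ∨ y = QuaternionGroup.a 2 := by decide
  haveI : Finite (Cfsg.PSU 3 F 2) := Nat.finite_of_card_ne_zero (by rw [hcard]; norm_num)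
  have hbot : X = ⊥ := by
    by_contra h
    obtain ⟨p, hp, hpd⟩ := Nat.exists_prime_and_dvd (mt X.card_eq_one.1 h)
    haveI := Fact.mk hp
    obtain ⟨x, hx⟩ := exists_prime_orderOf_dvd_card' p hpd
    have hp23 : p = 2 ∨ p = 3 := by
      have : p ∣ 2 ^ 3 * 3 ^ 2 := by
        have := hpd.trans X.card_subgroup_dvd_card
        rwa [hcard] at this
      rcases hp.dvd_mul.1 this with h | h
      · exact .inl ((Nat.prime_dvd_prime_iff_eq hp Nat.prime_two).1 (hp.dvd_of_dvd_pow h))
      · exact .inr ((Nat.prime_dvd_prime_iff_eq hp Nat.prime_three).1 (hp.dvd_of_dvd_pow h))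
    have hxp : φ x.1 ^ p = 1 := by
      rw [← map_pow, ← SubgroupClass.coe_pow, ← hx, pow_orderOf_eq_one, OneMemClass.coe_one, map_one]
    have hmem : φ x.1 ∈ Subgroup.zpowers (QuaternionGroup.a 2 : QuaternionGroup 2) := by
      rcases key (φ x.1) (by rcases hp23 with rfl | rfl <;> tauto) with h | h <;> rw [h]
      · exact one_mem _
      · exact Subgroup.mem_zpowers _
    have : x.1 = 1 := Subgroup.disjoint_def.1 hX.disjoint hmem x.2
    rw [show x = 1 from Subtype.ext this, orderOf_one] at hx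
    exact hp.ne_one hx.symm
  subst hbot
  have htop := hX.codisjoint.eq_top
  rw [sup_bot_eq] at htop
  obtain ⟨g, hg⟩ := hφ (QuaternionGroup.a 1)
  have h1 : QuaternionGroup.a 1 ∈ Subgroup.zpowers (QuaternionGroup.a 2 : QuaternionGroup 2) := by
    have h2 : g ∈ (Subgroup.zpowers (QuaternionGroup.a 2 : QuaternionGroup 2)).comap φ :=
      htop ▸ Subgroup.mem_top g
    rwa [Subgroup.mem_comap, hg] at h2
  obtain ⟨k, hk⟩ := Subgroup.mem_zpowers_iff.1 h1
  have hsq : ((QuaternionGroup.a 2 : QuaternionGroup 2) ^ k) ^ 2 = 1 := by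
    rw [← zpow_natCast _ 2, ← zpow_mul, mul_comm k, zpow_mul, zpow_natCast,
      show (QuaternionGroup.a 2 : QuaternionGroup 2) ^ 2 = 1 by decide, one_zpow]
  rw [hk] at hsq
  exact absurd hsq (by decide)

end Cfsg.Agent.S5908
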