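import Cfsg.Statements.S5910
-- import your own Cfsg.Agent.* helpers here

set_option autoImplicit false
open Cfsg

namespace Cfsg.Agent.S5910.Aux

open Equiv Equiv.Perm

/-- Sum of three points of the binary 3-space. -/
def x3 (a b c : Fin 8) : Fin 8 := a ^^^ b ^^^ c

/-- The affine permutations of the binary 3-space. -/
def AffM : Submonoid (Perm (Fin 8)) where
  carrier := {g | ∀ a b : Fin 8, g (x3 a b 0) = x3 (g a) (g b) (g 0)}
  one_mem' := fun _ _ => rfl
  mul_mem' := fun {g h} hg hh => by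
    have hg3 : ∀ a b c : Fin 8, g (x3 a b c) = x3 (g a) (g b) (g c) := by
      have hid : ∀ a b c : Fin 8, x3 (x3 a b 0) c 0 = x3 a b c := by decide +kernel
      have hid' : ∀ a b c d : Fin 8, x3 (x3 a b d) c d = x3 a b c := by decide +kernel
      intro a b c
      rw [← hid a b c, hg, hg, hid']
    intro a b
    simp only [Perm.mul_apply]
    rw [hh a b, hg3]

/-- The affine group as a subgroup. -/
def Aff : Subgroup (Perm (Fin 8)) :=
  { AffM with
    inv_mem' := fun {g} hg => by
      have h : g⁻¹ = g ^ (orderOf g - 1) := inv_eq_of_mul_eq_one_right (by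
        rw [← pow_succ', Nat.sub_add_cancel (orderOf_pos g), pow_orderOf_eq_one])
      rw [h]
      exact AffM.pow_mem hg _ }

theorem mem_Aff {g : Perm (Fin 8)} :
    g ∈ Aff ↔ ∀ a b : Fin 8, g (x3 a b 0) = x3 (g a) (g b) (g 0) := Iff.rfl

instance : DecidablePred (· ∈ Aff) := fun _ => decidable_of_iff _ mem_Aff.symm

/-- The pair of a point. -/
def hi (x : Fin 8) : Fin 4 := ⟨x.val / 2, by omega⟩

/-- A permutation respecting the pairs, in coordinates. -/
def mk (π : Perm (Fin 4)) (c : Fin 4 → Fin 2) : Perm (Fin 8) :=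
  (finProdFinEquiv (m := 4) (n := 2)).permCongr (Equiv.prodShear π fun i => Equiv.addLeft (c i))

theorem mk_affine : ∀ (π : Perm (Fin 4)) (c : Fin 4 → Fin 2),
    sign (mk π c) = 1 → mk π c ∈ Aff := by decide +kernel

theorem affine_of_pairs (g : Perm (Fin 8)) (hg : ∀ x y, hi x = hi y ↔ hi (g x) = hi (g y))
    (hs : sign g = 1) : g ∈ Aff := by
  let p : Fin 4 → Fin 4 := fun i => hi (g (finProdFinEquiv (i, (0 : Fin 2))))
  have hhi : ∀ (i : Fin 4) (j : Fin 2), hi (finProdFinEquiv (i, j)) = i := by decide +kernel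
  have hinj : Function.Injective p := fun i i' h => by
    have := (hg _ _).2 h
    rwa [hhi, hhi] at this
  let π : Perm (Fin 4) := Equiv.ofBijective p (Finite.injective_iff_bijective.1 hinj)
  let c : Fin 4 → Fin 2 := fun i =>
    ((finProdFinEquiv (m := 4) (n := 2)).symm (g (finProdFinEquiv (i, (0 : Fin 2))))).2
  have hsymm : ∀ z : Fin 8, (finProdFinEquiv (m := 4) (n := 2)).symm z = (hi z, (finProdFinEquiv (m := 4) (n := 2)).symm z |>.2) := by
    decide +kernel
  have hflip : ∀ u v : Fin 2, u ≠ v → v = u + 1 := by decide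
  have heq : g = mk π c := by
    refine Equiv.ext fun x => ?_
    obtain ⟨⟨i, j⟩, rfl⟩ := (finProdFinEquiv (m := 4) (n := 2)).surjective x
    have hp : hi (g (finProdFinEquiv (i, j))) = p i := (hg _ _).1 (by rw [hhi, hhi])
    apply (finProdFinEquiv (m := 4) (n := 2)).symm.injective
    simp only [mk, Equiv.permCongr_apply, Equiv.symm_apply_apply, Equiv.prodShear_apply]
    rw [hsymm, hp]
    refine Prod.ext rfl ?_
    have hj : ∀ j : Fin 2, j = 0 ∨ j = 1 := by decide
    obtain rfl | rfl := hj j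
    · simp [c]
    · refine (hflip (c i) _ fun e => ?_).trans (by simp)
      have hne : g (finProdFinEquiv (i, (0 : Fin 2))) = g (finProdFinEquiv (i, (1 : Fin 2))) := by
        apply (finProdFinEquiv (m := 4) (n := 2)).symm.injective
        rw [hsymm, hsymm (g (finProdFinEquiv (i, (1 : Fin 2))))]
        exact Prod.ext hp.symm e
      simpa using g.injective hne
  rw [heq] at hs ⊢
  exact mk_affine π c hs

/-- An even affine permutation breaking the pairs. -/
def w : Perm (Fin 8) := swap 1 2 * swap 5 6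

/-- An even permutation which is not affine. -/
def u : Perm (Fin 8) := swap 0 1 * swap 1 2

theorem w_spec : w ∈ Aff ∧ sign w = 1 ∧ hi 0 = hi 1 ∧ hi (w 0) ≠ hi (w 1) ∧
    u ∉ Aff ∧ sign u = 1 := by decide +kernel

end Cfsg.Agent.S5910.Aux

namespace Cfsg.Agent.S5910

/-- Let Ω be a set with 8 elements and f : Ω → Fin 4 a labelling whose four fibres all have size 2 (a partition of the 8 points into 4 pairs). Then the group of even permutations preserving this partition, (S₂ ≀ S₄) ∩ A₈, is not a maximal subgroup of the alternating group A₈ (it lies in a subgroup isomorphic to the affine group AGL₃(2)). -/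
theorem result {Ω : Type*} [Fintype Ω] [DecidableEq Ω] (h8 : Fintype.card Ω = 8)
    (f : Ω → Fin 4) (hf : ∀ i : Fin 4, Nat.card {x : Ω // f x = i} = 2) :
    ¬ IsCoatom ((Subgroup.closure {g : Equiv.Perm Ω | ∀ x y : Ω, f x = f y ↔ f (g x) = f (g y)} ⊓ alternatingGroup Ω).subgroupOf (alternatingGroup Ω)) := by
  classical
  intro hco
  obtain ⟨e, he⟩ : ∃ e : Ω ≃ Fin 8, ∀ x, f x = Aux.hi (e x) := by
    have hc : ∀ i, Fintype.card {x : Ω // f x = i} = 2 := fun i => by
      rw [← Nat.card_eq_fintype_card]; exact hf i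
    let e₁ : Ω ≃ Fin 4 × Fin 2 := ((Equiv.sigmaFiberEquiv f).symm.trans
      (Equiv.sigmaCongrRight fun i => Fintype.equivFinOfCardEq (hc i))).trans
      (Equiv.sigmaEquivProd _ _)
    refine ⟨e₁.trans finProdFinEquiv, fun x => ?_⟩
    have h1 : (e₁ x).1 = f x := rfl
    have h2 : ∀ p : Fin 4 × Fin 2, Aux.hi (finProdFinEquiv p) = p.1 := by decide +kernel
    rw [Equiv.trans_apply, h2, h1]
  let E : Equiv.Perm Ω ≃* Equiv.Perm (Fin 8) := e.permCongrHom
  let P : Subgroup (Equiv.Perm Ω) :=
    { carrier := {g | ∀ x y : Ω, f x = f y ↔ f (g x) = f (g y)}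
      one_mem' := fun x y => Iff.rfl
      mul_mem' := fun {a b} ha hb x y => (hb x y).trans (ha _ _)
      inv_mem' := fun {a} ha x y => by
        rw [ha (a⁻¹ x) (a⁻¹ y), Equiv.Perm.inv_def, Equiv.apply_symm_apply, Equiv.apply_symm_apply] }
  have hP : Subgroup.closure {g : Equiv.Perm Ω | ∀ x y : Ω, f x = f y ↔ f (g x) = f (g y)} = P :=
    Subgroup.closure_eq P
  rw [hP] at hco
  let X : Subgroup ↥(alternatingGroup Ω) :=
    (Aux.Aff.comap E.toMonoidHom).subgroupOf (alternatingGroup Ω)
  have hsign : ∀ g : Equiv.Perm Ω, Equiv.Perm.sign (E g) = Equiv.Perm.sign g := fun g =>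
    Equiv.Perm.sign_permCongr e g
  have hsign' : ∀ h : Equiv.Perm (Fin 8), Equiv.Perm.sign h = 1 →
      E.symm h ∈ alternatingGroup Ω := fun h hh => by
    rw [Equiv.Perm.mem_alternatingGroup, ← hsign, MulEquiv.apply_symm_apply, hh]
  have hE : ∀ (g : Equiv.Perm Ω) z, E g z = e (g (e.symm z)) := fun g z => rfl
  obtain ⟨hwA, hws, hw1, hw2, huA, hus⟩ := Aux.w_spec
  have hle : (P ⊓ alternatingGroup Ω).subgroupOf (alternatingGroup Ω) < X := by
    refine lt_of_le_of_ne (fun g hg => ?_) fun heq => ?_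
    · refine Aux.affine_of_pairs _ (fun x y => ?_)
        ((hsign _).trans (Equiv.Perm.mem_alternatingGroup.1 g.2))
      have := hg.1 (e.symm x) (e.symm y)
      simpa [he, hE] using this
    · have hmem : (⟨E.symm Aux.w, hsign' _ hws⟩ : ↥(alternatingGroup Ω)) ∈ X := by
        show E (E.symm Aux.w) ∈ Aux.Aff
        rw [MulEquiv.apply_symm_apply]
        exact hwA
      rw [← heq] at hmem
      have h := (hmem.1 (e.symm 0) (e.symm 1)).1 (by simp [he, hw1])
      apply hw2
      rw [he, he] at h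
      have hh : ∀ z, e ((E.symm Aux.w) (e.symm z)) = Aux.w z := fun z => by
        rw [← hE, MulEquiv.apply_symm_apply]
      rw [← hh 0, ← hh 1]
      exact h
  have htop := hco.2 X hle
  have hmem : (⟨E.symm Aux.u, hsign' _ hus⟩ : ↥(alternatingGroup Ω)) ∈ X := htop ▸ Subgroup.mem_top _
  apply huA
  have h : E (E.symm Aux.u) ∈ Aux.Aff := hmem
  rwa [MulEquiv.apply_symm_apply] at h

end Cfsg.Agent.S5910
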