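import Cfsg.Statements.S5911
import Cfsg.Agent.Lib.KnownA.AutAlt
-- import your own Cfsg.Agent.* helpers here

set_option autoImplicit false
open Cfsg

namespace Cfsg.Agent.S5911

/-- Let Ω be a finite set whose size n is not 6. Then every subgroup of the symmetric group on Ω of index n is the stabilizer of a point. -/
theorem result {Ω : Type*} [Fintype Ω] [DecidableEq Ω] (h6 : Fintype.card Ω ≠ 6)
    (H : Subgroup (Equiv.Perm Ω)) (hH : H.index = Fintype.card Ω) :
    ∃ x : Ω, H = MulAction.stabilizer (Equiv.Perm Ω) x := by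
  classical
  rcases Nat.lt_or_ge (Fintype.card Ω) 5 with h5 | h5
  swap
  · exact CfsgLib.KnownA.eq_stabilizer_of_index_five h5 h6 H hH
  have hne : Fintype.card Ω ≠ 0 := fun e => H.index_ne_zero_of_finite (hH.trans e)
  obtain ⟨x₀⟩ : Nonempty Ω := Fintype.card_pos_iff.1 (Nat.pos_of_ne_zero hne)
  have hcard : Nat.card H * Fintype.card Ω = (Fintype.card Ω).factorial := by
    rw [← hH, H.card_mul_index, Nat.card_perm, Nat.card_eq_fintype_card, hH]
  obtain ⟨x, hx⟩ : ∃ x : Ω, ∀ h ∈ H, h x = x := by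
    rcases Nat.lt_or_ge (Fintype.card Ω) 3 with h3 | h3
    · refine ⟨x₀, fun h hh => ?_⟩
      have hH1 : Nat.card H = 1 := by interval_cases hk : Fintype.card Ω <;> simp_all [Nat.factorial]
      rw [Subgroup.eq_bot_of_card_eq H hH1, Subgroup.mem_bot] at hh
      rw [hh, Equiv.Perm.one_apply]
    obtain ⟨p, hp, hp2, hn, hHp⟩ : ∃ p, p.Prime ∧ p ≤ 3 ∧ Fintype.card Ω = p + 1 ∧
        Nat.card H = p.factorial := by
      interval_cases hk : Fintype.card Ω
      · exact ⟨2, Nat.prime_two, by omega, rfl, by simp [Nat.factorial] at hcard ⊢; omega⟩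
      · exact ⟨3, Nat.prime_three, le_rfl, rfl, by simp [Nat.factorial] at hcard ⊢; omega⟩
    haveI := Fact.mk hp
    obtain ⟨c, hc⟩ := exists_prime_orderOf_dvd_card' (G := H) p
      (hHp ▸ Nat.dvd_factorial hp.pos le_rfl)
    rw [← Subgroup.orderOf_coe] at hc
    obtain ⟨m, hm⟩ := Equiv.Perm.cycleType_prime_order (σ := (c : Equiv.Perm Ω)) (hc ▸ hp)
    have hsupp : (c : Equiv.Perm Ω).support.card = p := by
      have h1 := (c : Equiv.Perm Ω).support.card_le_univ
      rw [← Equiv.Perm.sum_cycleType, hm, hc, Multiset.sum_replicate, smul_eq_mul, hn] at h1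
      have hm0 : m = 0 := by
        rcases m with _ | m
        · rfl
        · have := hp.two_le
          nlinarith
      rw [← Equiv.Perm.sum_cycleType, hm, hc, hm0, Multiset.sum_replicate, smul_eq_mul]
      omega
    obtain ⟨x, hx⟩ := Finset.card_eq_one.1 (show (c : Equiv.Perm Ω).supportᶜ.card = 1 by
      rw [Finset.card_compl, hsupp, hn]; omega)
    have huniq : ∀ y : Ω, (c : Equiv.Perm Ω) y = y → y = x := fun y hy => by
      rw [← Finset.mem_singleton, ← hx, Finset.mem_compl]
      exact fun h => Equiv.Perm.mem_support.1 h hy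
    have hfix : (c : Equiv.Perm Ω) x = x := by
      have h1 : x ∈ (c : Equiv.Perm Ω).supportᶜ := hx ▸ Finset.mem_singleton_self x
      rwa [Finset.mem_compl, Equiv.Perm.notMem_support] at h1
    have hnorm : (Subgroup.zpowers c).Normal := by
      have h1 := (Subgroup.zpowers c).card_mul_index
      rw [Nat.card_zpowers, ← Subgroup.orderOf_coe, hc, hHp] at h1
      have h2 : p = 2 ∨ p = 3 := by have := hp.two_le; omega
      rcases h2 with rfl | rfl
      · rw [Subgroup.index_eq_one.1 (show (Subgroup.zpowers c).index = 1 by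
          rw [show Nat.factorial 2 = 2 from rfl] at h1; omega)]
        infer_instance
      · exact Subgroup.normal_of_index_eq_two (by rw [show Nat.factorial 3 = 6 from rfl] at h1; omega)
    refine ⟨x, fun h hh => huniq _ ?_⟩
    obtain ⟨k, hk⟩ := hnorm.conj_mem c (Subgroup.mem_zpowers c) (⟨h, hh⟩⁻¹ : H)
    have h2 := congrArg (fun g : H => (g : Equiv.Perm Ω) x) hk
    simp only [Subgroup.coe_mul, InvMemClass.coe_inv, inv_inv, Equiv.Perm.mul_apply,
      SubgroupClass.coe_zpow] at h2
    rw [show ((c : Equiv.Perm Ω) ^ k) x = x from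
      (Equiv.Perm.zpow_apply_eq_self_of_apply_eq_self hfix k)] at h2
    exact (Equiv.Perm.inv_eq_iff_eq.1 h2.symm).trans rfl
  refine ⟨x, Subgroup.eq_of_le_of_card_ge hx (le_of_eq ?_)⟩
  have h1 := (MulAction.stabilizer (Equiv.Perm Ω) x).card_mul_index
  rw [MulAction.index_stabilizer_of_transitive, ← H.card_mul_index, hH,
    Nat.card_eq_fintype_card (α := Ω)] at h1
  exact Nat.eq_of_mul_eq_mul_right (Nat.pos_of_ne_zero hne) h1

end Cfsg.Agent.S5911
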