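import Cfsg.Statements.S5912
import Cfsg.Agent.Lib.KnownA.IndexSix
-- import your own Cfsg.Agent.* helpers here

set_option autoImplicit false
open Cfsg
open CfsgLib.KnownA.Six

namespace Cfsg.Agent.S5912

/-- The symmetric group on a 6-element set Ω has exactly two conjugacy classes of subgroups of index 6: there are two non-conjugate subgroups of index 6 (a point stabilizer and a transitive subgroup isomorphic to S₅), and every subgroup of index 6 is conjugate to one of them. -/
theorem result {Ω : Type*} [Fintype Ω] [DecidableEq Ω] (h6 : Fintype.card Ω = 6) :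
    ∃ H₁ H₂ : Subgroup (Equiv.Perm Ω), H₁.index = 6 ∧ H₂.index = 6 ∧
      (¬ ∃ g : Equiv.Perm Ω, Subgroup.map (MulAut.conj g).toMonoidHom H₁ = H₂) ∧
      ∀ H : Subgroup (Equiv.Perm Ω), H.index = 6 →
        ∃ g : Equiv.Perm Ω, Subgroup.map (MulAut.conj g).toMonoidHom H₁ = H ∨ Subgroup.map (MulAut.conj g).toMonoidHom H₂ = H := by
  classical
  let e : Ω ≃ Fin 6 := Fintype.equivFinOfCardEq h6
  let E : Equiv.Perm Ω ≃* Equiv.Perm (Fin 6) := e.permCongrHom
  let down : Subgroup (Equiv.Perm (Fin 6)) → Subgroup (Equiv.Perm Ω) := fun K => K.map E.symm.toMonoidHom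
  have hidx : ∀ K, (down K).index = K.index := fun K =>
    Subgroup.index_map_of_bijective (f := E.symm.toMonoidHom) E.symm.bijective K
  have hconj : ∀ (g : Equiv.Perm Ω) K, (down K).map (MulAut.conj g).toMonoidHom =
      down (K.map (MulAut.conj (E g)).toMonoidHom) := fun g K => by
    simp only [down, Subgroup.map_map]
    congr 1
    ext x
    simp [map_mul]
  have hinj : Function.Injective down := Subgroup.map_injective E.symm.injective
  refine ⟨down (MulAction.stabilizer (Equiv.Perm (Fin 6)) (5 : Fin 6)), down X0,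
    (hidx _).trans (index_stab 5), (hidx _).trans index_X0, ?_, fun H hH => ?_⟩
  · rintro ⟨g, hg⟩
    rw [hconj] at hg
    exact map_conj_stab_ne_X0 _ _ (hinj hg)
  · have hH' : (H.map E.toMonoidHom).index = 6 :=
      (Subgroup.index_map_of_bijective (f := E.toMonoidHom) E.bijective H).trans hH
    obtain ⟨g, hg⟩ := exists_conj _ hH'
    have key : ∀ K, (H.map E.toMonoidHom).map (MulAut.conj g).toMonoidHom = K →
        (down K).map (MulAut.conj (E.symm g⁻¹)).toMonoidHom = H := by
      intro K hK
      rw [← hK]
      simp only [down, Subgroup.map_map]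
      convert Subgroup.map_id H
      ext x
      simp [mul_assoc]
    exact ⟨E.symm g⁻¹, hg.imp (key _) (key _)⟩

end Cfsg.Agent.S5912
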