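import Cfsg.Statements.S5913

set_option autoImplicit false
open Cfsg

namespace Cfsg.Agent.S5913

/-- Let S be a non-abelian simple group and n a natural number. Every normal subgroup N of the direct power S^n (functions Fin n → S) is a subproduct: there is a set T of coordinates such that N consists exactly of the elements whose coordinates outside T are trivial. In particular the minimal normal subgroups of S^n are its n factors. -/
theorem result {S : Type*} [Group S] [IsSimpleGroup S] (hS : ¬ IsMulCommutative S) (n : ℕ)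
    (N : Subgroup (Fin n → S)) [N.Normal] :
    ∃ T : Finset (Fin n), ∀ x : Fin n → S, x ∈ N ↔ ∀ i, i ∉ T → x i = 1 := by
  classical
  refine ⟨Finset.univ.filter (fun i => ∃ x ∈ N, x i ≠ 1), fun x => ⟨fun hx i hi => ?_, fun hx => ?_⟩⟩
  · by_contra h
    exact hi (Finset.mem_filter.2 ⟨Finset.mem_univ i, x, hx, h⟩)
  apply Subgroup.pi_mem_of_mulSingle_mem
  intro i
  by_cases hi : x i = 1
  · rw [hi, Pi.mulSingle_one]; exact one_mem N
  obtain ⟨y, hy, hyi⟩ : ∃ y ∈ N, y i ≠ 1 := by
    by_contra h
    exact hi (hx i (fun hm => h (Finset.mem_filter.1 hm).2))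
  -- the i-th factor meets N non-trivially
  let N' : Subgroup S := N.comap (MonoidHom.mulSingle (fun _ : Fin n => S) i)
  haveI : N'.Normal := Subgroup.Normal.comap inferInstance _
  have hcen : ∃ s : S, s * y i ≠ y i * s := by
    by_contra h
    push Not at h
    have hc : y i ∈ Subgroup.center S := Subgroup.mem_center_iff.2 h
    rcases Subgroup.Normal.eq_bot_or_eq_top (show (Subgroup.center S).Normal from inferInstance) with hb | ht
    · rw [hb, Subgroup.mem_bot] at hc; exact hyi hc
    · exact hS ⟨⟨fun a b => ((Subgroup.mem_center_iff.1 (ht ▸ Subgroup.mem_top a)) b).symm⟩⟩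
  obtain ⟨s, hs⟩ := hcen
  have hmem : Pi.mulSingle i (y i * s * (y i)⁻¹ * s⁻¹) ∈ N := by
    have h1 : y * (Pi.mulSingle i s * y⁻¹ * (Pi.mulSingle i s)⁻¹) ∈ N :=
      mul_mem hy (Subgroup.Normal.conj_mem inferInstance _ (inv_mem hy) _)
    convert h1 using 1
    funext j
    rcases eq_or_ne j i with rfl | hj
    · simp [mul_assoc]
    · simp [Pi.mulSingle_eq_of_ne hj]
  rcases Subgroup.Normal.eq_bot_or_eq_top (show N'.Normal from inferInstance) with hb | ht
  · exfalso
    have : y i * s * (y i)⁻¹ * s⁻¹ ∈ N' := hmem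
    rw [hb, Subgroup.mem_bot, mul_inv_eq_one, mul_inv_eq_iff_eq_mul] at this
    exact hs this.symm
  · have : x i ∈ N' := ht ▸ Subgroup.mem_top _
    exact this

end Cfsg.Agent.S5913
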