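import Cfsg.Statements.S5939
import Cfsg.Agent.Lib.PSL2.Subfields

set_option autoImplicit false
open Cfsg

namespace Cfsg.Agent.S5939

/-- Let p be a prime and F a finite field of characteristic p such that either F has p elements and p ≡ ±1 (mod 10), or F has p² elements and p ≡ ±3 (mod 10). Then PSL_2(F) has a maximal subgroup isomorphic to the alternating group A_5. -/
theorem result {F : Type*} [Field F] [Fintype F] (p : ℕ) [Fact p.Prime] [CharP F p] (h : (Fintype.card F = p ∧ (p % 10 = 1 ∨ p % 10 = 9)) ∨ (Fintype.card F = p ^ 2 ∧ (p % 10 = 3 ∨ p % 10 = 7))) : ∃ H : Subgroup (Matrix.ProjectiveSpecialLinearGroup (Fin 2) F), IsCoatom H ∧ Nonempty (H ≃* alternatingGroup (Fin 5)) := by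
  have h' : (Nat.card F = p ∧ (p % 10 = 1 ∨ p % 10 = 9)) ∨
      (Nat.card F = p ^ 2 ∧ (p % 10 = 3 ∨ p % 10 = 7)) := by rwa [Nat.card_eq_fintype_card]
  have h5 : 5 ∣ Nat.card F * (Nat.card F ^ 2 - 1) := by
    refine dvd_mul_of_dvd_right ?_ _
    rcases h' with ⟨hq, hm⟩ | ⟨hq, hm⟩
    · rw [hq]
      refine (Nat.modEq_iff_dvd' (Nat.one_le_pow _ _ (by omega))).1 ?_
      have : p % 5 = 1 ∨ p % 5 = 4 := by omega
      rw [Nat.ModEq, Nat.pow_mod]
      rcases this with e | e <;> rw [e]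
    · rw [hq, ← pow_mul]
      refine (Nat.modEq_iff_dvd' (Nat.one_le_pow _ _ (by omega))).1 ?_
      have : p % 5 = 2 ∨ p % 5 = 3 := by omega
      rw [Nat.ModEq, Nat.pow_mod]
      rcases this with e | e <;> rw [e]
  obtain ⟨τ, hτ⟩ := CfsgLib.PSL2.exists_tau (F := F) h5
  obtain ⟨Y, hY, ⟨e⟩⟩ := CfsgLib.PSL2.exists_alt_five hτ
  have hM := CfsgLib.PSL2.alt_five_maxSub (p := p) h' hY e
  obtain ⟨i⟩ := CfsgLib.PSL2.comap_equiv (F := F) hM.lt.le
  exact ⟨_, CfsgLib.PSL2.isCoatom_of_maxSub hM, ⟨i.trans e⟩⟩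

end Cfsg.Agent.S5939
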