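import Cfsg.Statements.S5940
import Cfsg.Agent.Lib.PSL2.Subfields

set_option autoImplicit false
open Cfsg

namespace Cfsg.Agent.S5940

/-- Let p ≥ 5 be a prime with p ≡ ±3 (mod 8) and p ≢ ±1 (mod 10), and F a field with p elements. Then PSL_2(F) has a maximal subgroup isomorphic to the alternating group A_4. -/
theorem result {F : Type*} [Field F] [Fintype F] (p : ℕ) [Fact p.Prime] (hF : Fintype.card F = p) (h5 : 5 ≤ p) (h8 : p % 8 = 3 ∨ p % 8 = 5) (h10 : p % 10 ≠ 1 ∧ p % 10 ≠ 9) : ∃ H : Subgroup (Matrix.ProjectiveSpecialLinearGroup (Fin 2) F), IsCoatom H ∧ Nonempty (H ≃* alternatingGroup (Fin 4)) := by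
  have hc : Nat.card F = p := by rw [Nat.card_eq_fintype_card, hF]
  haveI : CharP F p := by
    obtain ⟨r, hr⟩ := CharP.exists F
    obtain ⟨n, hn, hn'⟩ := FiniteField.card F r
    rw [hF] at hn'
    obtain rfl : r = p := (Nat.prime_dvd_prime_iff_eq hn Fact.out).1 (hn' ▸ dvd_pow_self r n.pos.ne')
    exact hr
  obtain ⟨Y, hY, ⟨e⟩⟩ := CfsgLib.PSL2.exists_alt_four (F := F) (by rw [hc, Nat.odd_iff]; omega)
  have hM := CfsgLib.PSL2.alt_four_maxSub (p := p) hc h5 h8 h10 hY e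
  obtain ⟨i⟩ := CfsgLib.PSL2.comap_equiv (F := F) hM.lt.le
  exact ⟨_, CfsgLib.PSL2.isCoatom_of_maxSub hM, ⟨i.trans e⟩⟩

end Cfsg.Agent.S5940
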