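import Cfsg.Statements.S5942
import Cfsg.Agent.Lib.PSL2.Subfields

set_option autoImplicit false
open Cfsg

namespace Cfsg.Agent.S5942

/-- Let K and F be finite fields of odd characteristic with #F = (#K)^r for an odd prime r. Then PSL_2(F) has a maximal subgroup isomorphic to PSL_2(K). -/
theorem result {F K : Type*} [Field F] [Fintype F] [Field K] [Fintype K] (q r : ℕ) (hK : Fintype.card K = q) (hF : Fintype.card F = q ^ r) (hq : Odd q) (hr : r.Prime) (hr2 : r ≠ 2) : ∃ H : Subgroup (Matrix.ProjectiveSpecialLinearGroup (Fin 2) F), IsCoatom H ∧ Nonempty (H ≃* Matrix.ProjectiveSpecialLinearGroup (Fin 2) K) := by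
  obtain ⟨p, hp⟩ := CharP.exists F
  haveI := Fact.mk (CharP.char_is_prime F p)
  have hqF : Nat.card K ^ r = Nat.card F := by rw [Nat.card_eq_fintype_card, Nat.card_eq_fintype_card, hK, hF]
  have ho : Odd (Nat.card F) := by rw [Nat.card_eq_fintype_card, hF]; exact hq.pow
  obtain ⟨K', hm, hK', ⟨e⟩⟩ := CfsgLib.PSL2.psl_sub_psl ho hr.pos hqF (hr.odd_of_ne_two hr2)
  have hM := CfsgLib.PSL2.subfield_maxSub (F := F) p hr hm
    (by rw [hK', Nat.card_eq_fintype_card, hK]; rintro rfl; exact absurd hq (by decide)) 1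
  obtain ⟨i⟩ := CfsgLib.PSL2.comap_equiv (F := F) hM.lt.le
  exact ⟨_, CfsgLib.PSL2.isCoatom_of_maxSub hM, ⟨i.trans e⟩⟩

end Cfsg.Agent.S5942
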