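import Cfsg.Statements.S5944
import Mathlib

set_option autoImplicit false
open Cfsg

namespace Cfsg.Agent.S5944

/-- For n ≠ 4, every proper subgroup of the symmetric group S_n other than the alternating group A_n has index at least n. -/
theorem result (n : ℕ) (hn : n ≠ 4) (H : Subgroup (Equiv.Perm (Fin n))) (hH : H ≠ ⊤) (hA : H ≠ alternatingGroup (Fin n)) : n ≤ H.index := by
  classical
  rcases Nat.lt_or_ge n 5 with hn5 | hn5
  · have h1 : H.index ≠ 1 := fun h => hH (Subgroup.index_eq_one.1 h)
    have h2 : H.index ≠ 2 := fun h => hA (Equiv.Perm.eq_alternatingGroup_of_index_eq_two h)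
    have h0 : H.index ≠ 0 := Subgroup.index_ne_zero_of_finite
    omega
  · by_contra hlt
    push Not at hlt
    rcases eq_or_ne H.normalCore ⊥ with hb | hb
    · rw [Subgroup.normalCore_eq_ker, MonoidHom.ker_eq_bot_iff] at hb
      have h1 := Nat.le_of_dvd (Nat.card_pos) (Subgroup.card_dvd_of_injective _ hb)
      rw [Nat.card_perm, Nat.card_perm, Nat.card_fin, ← Subgroup.index_eq_card] at h1
      exact absurd h1 (not_le.2 ((Nat.factorial_lt (Nat.pos_of_ne_zero Subgroup.index_ne_zero_of_finite)).2 hlt))
    · have : Nontrivial H.normalCore := (Subgroup.nontrivial_iff_ne_bot _).2 hb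
      have h1 : alternatingGroup (Fin n) ≤ H :=
        le_trans (Equiv.Perm.alternatingGroup_le_of_normal (by simpa using hn5) this) (Subgroup.normalCore_le H)
      haveI : Nontrivial (Fin n) := Fin.nontrivial_iff_two_le.2 (by omega)
      have h2 := Subgroup.index_antitone h1
      rw [alternatingGroup.index_eq_two] at h2
      have h3 := Subgroup.index_dvd_of_le h1
      rw [alternatingGroup.index_eq_two] at h3
      rcases (Nat.dvd_prime Nat.prime_two).1 h3 with h4 | h4
      · exact hH (Subgroup.index_eq_one.1 h4)
      · exact hA (Equiv.Perm.eq_alternatingGroup_of_index_eq_two h4)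

end Cfsg.Agent.S5944
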