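import Cfsg.Statements.S5945
import Cfsg.Agent.Lib.KnownA.IndexSix
import Cfsg.Agent.Lib.KnownA.AutAlt
-- import your own Cfsg.Agent.* helpers here

set_option autoImplicit false
open Cfsg
open CfsgLib.KnownA.Six

namespace Cfsg.Agent.S5945

/-- The symmetric group S_6 has exactly 12 subgroups of index 6; each of them is isomorphic to S_5, and at least one of them is not the stabilizer of any point. -/
theorem result : Nat.card {H : Subgroup (Equiv.Perm (Fin 6)) // H.index = 6} = 12 ∧ (∀ H : Subgroup (Equiv.Perm (Fin 6)), H.index = 6 → Nonempty (H ≃* Equiv.Perm (Fin 5))) ∧ ∃ H : Subgroup (Equiv.Perm (Fin 6)), H.index = 6 ∧ ∀ a : Fin 6, H ≠ MulAction.stabilizer (Equiv.Perm (Fin 6)) a := by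
  classical
  refine ⟨?_, fun H hH => ?_, X0, index_X0, X0_ne_stab⟩
  · let F : Fin 6 ⊕ Fin 6 → {H : Subgroup (Equiv.Perm (Fin 6)) // H.index = 6} :=
      Sum.elim (fun i => ⟨MulAction.stabilizer (Equiv.Perm (Fin 6)) i, index_stab i⟩)
        (fun i => ⟨X0.map (MulAut.conj (Equiv.swap (5 : Fin 6) i)).toMonoidHom, by
          rw [Subgroup.index_map_of_bijective (f := (MulAut.conj (Equiv.swap (5 : Fin 6) i)).toMonoidHom)
            (MulAut.conj (Equiv.swap (5 : Fin 6) i)).bijective]
          exact index_X0⟩)
    have hself : ∀ k : Equiv.Perm (Fin 6), k ∈ X0 → X0.map (MulAut.conj k).toMonoidHom = X0 := by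
      intro k hk
      refine le_antisymm ?_ fun x hx => ⟨k⁻¹ * x * k, X0.mul_mem (X0.mul_mem (X0.inv_mem hk) hx) hk, ?_⟩
      · rintro _ ⟨x, hx, rfl⟩
        exact X0.mul_mem (X0.mul_mem hk hx) (X0.inv_mem hk)
      · simp [mul_assoc]
    have hne : ∀ a i, (F (Sum.inl a)).1 ≠ (F (Sum.inr i)).1 := by
      intro a i h
      refine map_conj_stab_ne_X0 (Equiv.swap (5 : Fin 6) i)⁻¹ a ?_
      simp only [F, Sum.elim_inl, Sum.elim_inr] at h
      rw [h, Subgroup.map_map]
      convert Subgroup.map_id X0
      ext x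
      simp [mul_assoc]
    have hF : Function.Bijective F := by
      refine ⟨?_, ?_⟩
      · rintro (a | i) (b | j) h
        · have h' : MulAction.stabilizer (Equiv.Perm (Fin 6)) a =
              MulAction.stabilizer (Equiv.Perm (Fin 6)) b := congrArg Subtype.val h
          rw [CfsgLib.KnownA.eq_of_stabilizer_le (x := a) (y := b) (by simp) fun g hg => by
            show (g : Equiv.Perm (Fin 6)) ∈ MulAction.stabilizer (Equiv.Perm (Fin 6)) b
            rw [← h']
            exact hg]
        · exact absurd (congrArg Subtype.val h) (hne a j)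
        · exact absurd (congrArg Subtype.val h).symm (hne b i)
        · by_contra hij
          refine conj_X0_distinct j i (fun e => hij (by rw [e])) ?_
          have h' : X0.map (MulAut.conj (Equiv.swap (5 : Fin 6) i)).toMonoidHom =
              X0.map (MulAut.conj (Equiv.swap (5 : Fin 6) j)).toMonoidHom := congrArg Subtype.val h
          obtain ⟨y, hy, e⟩ := h' ▸ Subgroup.mem_map_of_mem
            (MulAut.conj (Equiv.swap (5 : Fin 6) i)).toMonoidHom c₀_mem
          simp only [MulEquiv.coe_toMonoidHom, MulAut.conj_apply] at e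
          suffices hxy : (Equiv.swap (5 : Fin 6) j)⁻¹ * Equiv.swap 5 i * c₀ *
              ((Equiv.swap (5 : Fin 6) j)⁻¹ * Equiv.swap 5 i)⁻¹ = y by rwa [hxy]
          calc _ = (Equiv.swap (5 : Fin 6) j)⁻¹ *
                (Equiv.swap 5 i * c₀ * (Equiv.swap 5 i)⁻¹) * Equiv.swap 5 j := by group
            _ = y := by rw [← e]; group
      · rintro ⟨H, hH⟩
        obtain ⟨g, hg⟩ := exists_conj H hH
        have hback : H = (H.map (MulAut.conj g).toMonoidHom).map (MulAut.conj g⁻¹).toMonoidHom := by
          rw [Subgroup.map_map]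
          convert (Subgroup.map_id H).symm
          ext x
          simp [mul_assoc]
        rcases hg with hg | hg <;> rw [hg] at hback
        · exact ⟨Sum.inl (g⁻¹ 5), Subtype.ext (hback.trans (map_conj_stab g⁻¹ 5)).symm⟩
        · obtain ⟨i, hi⟩ := exists_coset g⁻¹
          refine ⟨Sum.inr i, Subtype.ext ?_⟩
          show X0.map _ = H
          rw [hback]
          conv_lhs => rw [← hself _ hi]
          rw [Subgroup.map_map]
          congr 1
          ext x
          simp [mul_assoc]
    rw [← Nat.card_eq_of_bijective F hF]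
    simp
  · obtain ⟨ι, hι, rfl⟩ := exists_hom (Fintype.card_fin 6) H hH
    exact ⟨(MonoidHom.ofInjective hι).symm⟩

end Cfsg.Agent.S5945
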