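import Cfsg.Statements.S5949
import Cfsg.Agent.Lib.ThreeTransp.PrimeInv

set_option autoImplicit false
open scoped MatrixGroups
open Cfsg

namespace Cfsg.Agent.S5949

/-- Elements of prime order of PSL_n(q) with no fixed `m`-space. Here `T = PSL_n(F)` for a field `F` with `q = p^f` elements (`n ≥ 2`, `(n, q) ≠ (2, 2), (2, 3)`); an element of `T` of prime order `r` is represented by a matrix `x` of determinant 1 with `x^r` scalar and `x` not scalar; `i` denotes the multiplicative order of `q` modulo `r` (when `r ≠ p`), and `(a)_r` the `r`-part of `a`. Let `1 ≤ m ≤ n/2` and let `r` be a prime dividing the number of `m`-dimensional subspaces of `F^n`. Then every element of `T` of order `r` fixes some `m`-dimensional subspace (the action on `m`-spaces is `r`-elusive) if and only if `r ≠ p` and either (i) `i = 1` and (`r ∣ m`, or `(q−1)_r ≥ (n)_r` where in addition `q ≡ 1 (mod 4)` is required when `r = 2` and `n` is even), or (ii) `2 ≤ i ≤ m` and `n mod i ≥ m mod i`. -/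
theorem result {F : Type*} [Field F] [Fintype F] {p : ℕ} [Fact p.Prime] [CharP F p] {q : ℕ} (hq : Fintype.card F = q)
    (n m : ℕ) (hn : 2 ≤ n) (hT : (n, q) ≠ (2, 2) ∧ (n, q) ≠ (2, 3)) (hm : 1 ≤ m) (hmn : 2 * m ≤ n)
    (r : ℕ) [Fact r.Prime] (hrΩ : r ∣ Nat.card {W : Submodule F (Fin n → F) // Module.finrank F ↥W = m}) :
    (∀ x : Matrix.SpecialLinearGroup (Fin n) F,
      (∃ c : F, ((x ^ r : Matrix.SpecialLinearGroup (Fin n) F) : Matrix (Fin n) (Fin n) F) = c • (1 : Matrix (Fin n) (Fin n) F)) →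
      (∀ c : F, (x : Matrix (Fin n) (Fin n) F) ≠ c • (1 : Matrix (Fin n) (Fin n) F)) →
      ∃ W : Submodule F (Fin n → F), Module.finrank F ↥W = m ∧ W.map (Matrix.toLin' (x : Matrix (Fin n) (Fin n) F)) ≤ W) ↔
    (r ≠ p ∧
      ((orderOf (q : ZMod r) = 1 ∧ (r ∣ m ∨ (padicValNat r n ≤ padicValNat r (q - 1) ∧ (r = 2 → Even n → q % 4 = 1)))) ∨
       (2 ≤ orderOf (q : ZMod r) ∧ orderOf (q : ZMod r) ≤ m ∧ m % orderOf (q : ZMod r) ≤ n % orderOf (q : ZMod r)))) := by
  open CfsgLib.ThreeTransp.PrimeInv CfsgLib.PrimeOrderSp in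
  classical
  subst hq
  obtain ⟨hrp, j, hj, hjd⟩ := exists_dvd_of_dvd_card (F := F) (V := Fin n → F) (p := p) Fact.out
    (by rw [Module.finrank_fin_fun]; omega) hrΩ
  rw [Module.finrank_fin_fun, dvd_pow_sub_one_iff Fintype.card_pos] at hjd
  have hr : (r : F) ≠ 0 := cast_ne_zero_of_prime_ne Fact.out hrp
  have hnm : ∀ i, m < i → i ∣ n - j → n % i < m := by
    intro i hmi hd
    by_contra hlt
    obtain ⟨a, ha⟩ := hd
    have h1 := Nat.mod_add_div n i
    have h2 : i * a = i * (n / i) + (n % i - j) := by omega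
    have h3 : i ∣ n % i - j := (Nat.dvd_add_right (dvd_mul_right i _)).1 ⟨a, h2.symm⟩
    have h4 := Nat.le_of_dvd (by omega) h3
    have := Nat.mod_lt n (show 0 < i by omega)
    omega
  constructor
  · intro hall
    refine ⟨hrp, ?_⟩
    rcases Nat.lt_or_ge (orderOf ((Fintype.card F : ℕ) : ZMod r)) 2 with hi | hi
    · have hi1 : orderOf ((Fintype.card F : ℕ) : ZMod r) = 1 := by
        have := orderOf_card_pos (F := F) hr; omega
      refine Or.inl ⟨hi1, ?_⟩
      by_contra hbad
      obtain ⟨hm', x, hx, hns, hdiv⟩ := exists_no_small_inv (n := n) hr hi1 (by omega) hbad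
      obtain ⟨W, hW, hWi⟩ := hall x hx hns
      exact hm' (hW ▸ hdiv W (Submodule.map_le_iff_le_comap.1 hWi))
    · refine Or.inr ⟨hi, ?_⟩
      set i := orderOf ((Fintype.card F : ℕ) : ZMod r) with hidef
      have key : n % i < m % i → n % i < n → False := fun h1 h2 => by
        obtain ⟨x, hx, hns, hxr, hfix⟩ := exists_small_fix (n := n) hr hi h2
        obtain ⟨W, hW, hWi⟩ := hall x ⟨1, hx⟩ hns
        obtain ⟨b, hb⟩ := inv_dim hr hxr (Submodule.map_le_iff_le_comap.1 hWi)
        rw [hW, ← hidef] at hb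
        have hle := (Submodule.finrank_mono (inf_le_right (a := W))).trans_eq hfix
        rw [hb, Nat.add_mul_mod_self_right] at h1
        exact absurd (h1.trans_le ((Nat.mod_le _ _).trans hle)) (lt_irrefl _)
      constructor
      · by_contra hmi
        have := hnm i (by omega) hjd
        refine key ?_ (by omega)
        rwa [Nat.mod_eq_of_lt (show m < i by omega)]
      · by_contra hmi
        have := Nat.mod_le m i
        exact key (by omega) (by omega)
  · rintro ⟨-, hc⟩ x ⟨z, hz⟩ -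
    rw [Matrix.SpecialLinearGroup.coe_pow] at hz
    have h1 : orderOf ((Fintype.card F : ℕ) : ZMod r) = 1 → OneCond F r m n := fun hi => by
      rcases hc with ⟨-, h⟩ | ⟨h, -⟩
      · exact h
      · omega
    have h2 : 2 ≤ orderOf ((Fintype.card F : ℕ) : ZMod r) →
        1 * (m % orderOf ((Fintype.card F : ℕ) : ZMod r)) ≤ n % orderOf ((Fintype.card F : ℕ) : ZMod r) := fun hi => by
      rcases hc with ⟨h, -⟩ | ⟨-, -, h⟩
      · omega
      · rwa [one_mul]
    obtain ⟨-, U, -, hU, -, -, hdim, -⟩ := exists_two_of_good hr x.2 hz (by omega) (Or.inl rfl) (by omega) h1 h2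
    exact ⟨U, hdim, Submodule.map_le_iff_le_comap.2 hU⟩

end Cfsg.Agent.S5949
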