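import Cfsg.Statements.S5950
import Cfsg.Agent.Lib.ThreeTransp.PrimeInv
import Cfsg.Agent.Lib.ThreeTransp.UnipInv

set_option autoImplicit false
open scoped MatrixGroups
open Cfsg

namespace Cfsg.Agent.S5950

/-- Elements of prime order of PSL_n(q) fixing no decomposition `F^n = U ⊕ W` with `dim U = m`. Here `T = PSL_n(F)` for a field `F` with `q = p^f` elements (`n ≥ 2`, `(n, q) ≠ (2, 2), (2, 3)`); an element of `T` of prime order `r` is represented by a matrix `x` of determinant 1 with `x^r` scalar and `x` not scalar; `i` denotes the multiplicative order of `q` modulo `r` (when `r ≠ p`), and `(a)_r` the `r`-part of `a`. Let `n ≥ 3`, `1 ≤ m < n/2`, and let `r` be a prime dividing the number of such decompositions (unordered pairs `{U, W}` of complementary subspaces with `dim U = m`; since `m ≠ n − m` these are the ordered pairs with `dim U = m`). Then every element of `T` of order `r` fixes such a pair (fixes both `U` and `W` for some complementary `U, W` with `dim U = m`) if and only if one of: (i) `r =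 p > 2` and every partition of `n` into parts of size at most `p` contains, as a sub-multiset, a partition of `m`; (ii) `r = p = 2` and `n` is odd or `m` is even; (iii) `r ≠ p`, `i = 1`, and `r ∣ m` or `(q−1)_r ≥ (n)_r` (with `q ≡ 1 (mod 4)` required when `r = 2` and `n` is even); (iv) `r ≠ p`, `2 ≤ i ≤ m` and `n mod i ≥ m mod i`. -/
theorem result {F : Type*} [Field F] [Fintype F] {p : ℕ} [Fact p.Prime] [CharP F p] {q : ℕ} (hq : Fintype.card F = q)
    (n m : ℕ) (hn : 3 ≤ n) (hm : 1 ≤ m) (hmn : 2 * m < n)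
    (r : ℕ) [Fact r.Prime]
    (hrΩ : r ∣ Nat.card {P : Submodule F (Fin n → F) × Submodule F (Fin n → F) // IsCompl P.1 P.2 ∧ Module.finrank F ↥P.1 = m}) :
    (∀ x : Matrix.SpecialLinearGroup (Fin n) F,
      (∃ c : F, ((x ^ r : Matrix.SpecialLinearGroup (Fin n) F) : Matrix (Fin n) (Fin n) F) = c • (1 : Matrix (Fin n) (Fin n) F)) →
      (∀ c : F, (x : Matrix (Fin n) (Fin n) F) ≠ c • (1 : Matrix (Fin n) (Fin n) F)) →
      ∃ U W : Submodule F (Fin n → F), IsCompl U W ∧ Module.finrank F ↥U = m ∧
        U.map (Matrix.toLin' (x : Matrix (Fin n) (Fin n) F)) ≤ U ∧ W.map (Matrix.toLin' (x : Matrix (Fin n) (Fin n) F)) ≤ W) ↔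
    ((r = p ∧ 2 < p ∧ (∀ μ : Multiset ℕ, (∀ a ∈ μ, 0 < a ∧ a ≤ p) → μ.sum = n → ∃ ν : Multiset ℕ, ν ≤ μ ∧ ν.sum = m)) ∨
     (r = p ∧ p = 2 ∧ (Odd n ∨ Even m)) ∨
     (r ≠ p ∧
      ((orderOf (q : ZMod r) = 1 ∧ (r ∣ m ∨ (padicValNat r n ≤ padicValNat r (q - 1) ∧ (r = 2 → Even n → q % 4 = 1)))) ∨
       (2 ≤ orderOf (q : ZMod r) ∧ orderOf (q : ZMod r) ≤ m ∧ m % orderOf (q : ZMod r) ≤ n % orderOf (q : ZMod r))))) := by
  open CfsgLib.ThreeTransp.PrimeInv CfsgLib.ThreeTransp.UnipInv CfsgLib.PrimeOrderSp CfsgLib.KnownB.Jordan in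
  classical
  subst hq
  by_cases hrp : r = p
  · subst hrp
    haveI : Nonempty (Fin n) := ⟨⟨0, by omega⟩⟩
    have hroot : ∀ c : F, c ^ r = 1 → c = 1 := fun c h => by
      have h0 : (c - 1) ^ r = 0 := by rw [sub_pow_char, h, one_pow, sub_self]
      exact sub_eq_zero.1 (eq_zero_of_pow_eq_zero h0)
    have key : (∀ x : Matrix.SpecialLinearGroup (Fin n) F,
        (∃ c : F, ((x ^ r : Matrix.SpecialLinearGroup (Fin n) F) : Matrix (Fin n) (Fin n) F) = c • (1 : Matrix (Fin n) (Fin n) F)) →
        (∀ c : F, (x : Matrix (Fin n) (Fin n) F) ≠ c • (1 : Matrix (Fin n) (Fin n) F)) →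
        ∃ U W : Submodule F (Fin n → F), IsCompl U W ∧ Module.finrank F ↥U = m ∧
          U.map (Matrix.toLin' (x : Matrix (Fin n) (Fin n) F)) ≤ U ∧ W.map (Matrix.toLin' (x : Matrix (Fin n) (Fin n) F)) ≤ W) ↔
        ∀ μ : Multiset ℕ, (∀ a ∈ μ, 0 < a ∧ a ≤ r) → μ.sum = n → ∃ ν : Multiset ℕ, ν ≤ μ ∧ ν.sum = m := by
      constructor
      · intro hall μ hμ hsum
        by_cases hones : ∀ b ∈ μ, b = 1
        · have h1 : μ = Multiset.replicate (Multiset.card μ) 1 := Multiset.eq_replicate_card.2 hones
          have h2 : Multiset.card μ = n := by rw [h1] at hsum; simpa using hsum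
          refine ⟨Multiset.replicate m 1, ?_, by simp⟩
          rw [h1, h2]
          exact Multiset.le_replicate_iff.2 ⟨m, by omega, rfl⟩
        push Not at hones
        obtain ⟨b₀, hb₀, hb₀1⟩ := hones
        obtain ⟨t, d, u, hmap, hd1, hrk⟩ := exists_unip (F := F) μ (fun a ha => (hμ a ha).1) hsum
        have hdp : ∀ k, d k ≤ r := fun k => (hμ _ (hmap ▸ Multiset.mem_map_of_mem d (Finset.mem_univ k))).2
        have hNp : Matrix.toLin' (u - 1) ^ r = 0 := by
          rw [← LinearMap.range_eq_bot, ← Submodule.finrank_eq_zero, hrk]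
          exact Finset.sum_eq_zero fun k _ => Nat.sub_eq_zero_of_le (hdp k)
        have hup : u ^ r = 1 := by
          have h0 : (u - 1) ^ r = 0 := Matrix.toLin'.injective (by rw [Matrix.toLin'_pow, hNp, map_zero])
          rw [sub_pow_char_of_commute r (Commute.one_right u), one_pow, sub_eq_zero] at h0
          exact h0
        have hu1 : u ≠ 1 := fun h1 => by
          have := hrk 1
          rw [pow_one, h1, sub_self, map_zero, LinearMap.range_zero, finrank_bot, eq_comm, Finset.sum_eq_zero_iff] at this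
          rw [← hmap, Multiset.mem_map] at hb₀
          obtain ⟨k, -, rfl⟩ := hb₀
          have := this k (Finset.mem_univ k)
          have := hd1 k
          omega
        obtain ⟨U, W, hc, hdim, hUi, hWi⟩ := hall ⟨u, hroot _ (by rw [← Matrix.det_pow, hup, Matrix.det_one])⟩
          ⟨1, by show u ^ r = (1 : F) • 1; rw [one_smul]; exact hup⟩
          (fun z hz => by
            have hz' : u = z • (1 : Matrix (Fin n) (Fin n) F) := hz
            refine hu1 ?_
            have h1 := hup
            rw [hz', _root_.smul_pow, one_pow] at h1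
            have h2 := congrFun (congrFun h1 ⟨0, by omega⟩) ⟨0, by omega⟩
            simp at h2
            rw [hz', hroot z h2, one_smul])
        have hN : ∀ (S : Submodule F (Fin n → F)), S.map (Matrix.toLin' u) ≤ S →
            ∀ v ∈ S, Matrix.toLin' (u - 1) v ∈ S := fun S hS v hv => by
          rw [map_sub, LinearMap.sub_apply, Matrix.toLin'_one, LinearMap.id_apply]
          exact sub_mem (hS (Submodule.mem_map_of_mem hv)) hv
        obtain ⟨ν, hν, hνs⟩ := exists_sub_type ⟨r, hNp⟩ hrk (hN U hUi) (hN W hWi) hc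
        exact ⟨ν, hmap ▸ hν, hνs.trans hdim⟩
      · intro hcond x ⟨z, hz⟩ _
        rw [Matrix.SpecialLinearGroup.coe_pow] at hz
        obtain ⟨c, rfl⟩ : ∃ c : F, c ^ r = z := (PerfectRing.bijective_frobenius (R := F) (p := r)).2 z
        have hc : c ≠ 0 := fun h => by
          have hd : ((x : Matrix (Fin n) (Fin n) F) ^ r).det = 1 := by rw [Matrix.det_pow, x.2, one_pow]
          rw [hz, h, zero_pow (Fact.out : r.Prime).ne_zero, zero_smul, Matrix.det_zero] at hd
          exact zero_ne_one hd
        set M := c⁻¹ • (x : Matrix (Fin n) (Fin n) F) - 1 with hM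
        have hM0 : M ^ r = 0 := by
          rw [hM, sub_pow_char_of_commute r (Commute.one_right _), _root_.smul_pow, hz, smul_smul, one_pow, inv_pow,
            inv_mul_cancel₀ (pow_ne_zero r hc), one_smul, sub_self]
        obtain ⟨t, d, b, hd, hb⟩ := exists_chains (Matrix.toLin' M) ⟨r, by rw [← Matrix.toLin'_pow, hM0, map_zero]⟩
        have hdle : ∀ k, d k ≤ r := by
          intro k
          have h := finrank_range_pow _ d b hb r
          rw [← Matrix.toLin'_pow, hM0, map_zero, LinearMap.range_zero, finrank_bot, eq_comm, Finset.sum_eq_zero_iff] at h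
          exact Nat.sub_eq_zero_iff_le.1 (h k (Finset.mem_univ k))
        have hsum : (Multiset.map d (Finset.univ : Finset (Fin t)).val).sum = n := by
          show ∑ k, d k = n
          have := Module.finrank_eq_card_basis b
          rw [Module.finrank_fin_fun, Fintype.card_sigma] at this
          simpa using this.symm
        obtain ⟨ν, hν, hνs⟩ := hcond _ (fun a ha => by
          obtain ⟨k, -, rfl⟩ := Multiset.mem_map.1 ha
          exact ⟨hd k, hdle k⟩) hsum
        obtain ⟨U, W, hU, hW, hcompl, hdim⟩ := exists_compl_pair b hb hν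
        have hx : (x : Matrix (Fin n) (Fin n) F) = c • (1 + M) := by
          rw [hM, add_sub_cancel, smul_smul, mul_inv_cancel₀ hc, one_smul]
        have hinv : ∀ S : Submodule F (Fin n → F), (∀ v ∈ S, Matrix.toLin' M v ∈ S) →
            S.map (Matrix.toLin' (x : Matrix (Fin n) (Fin n) F)) ≤ S := fun S hS => by
          rintro _ ⟨v, hv, rfl⟩
          rw [hx, map_smul, map_add, Matrix.toLin'_one, LinearMap.smul_apply, LinearMap.add_apply, LinearMap.id_apply]
          exact S.smul_mem c (add_mem hv (hS v hv))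
        exact ⟨U, W, hcompl, hdim.trans hνs, hinv U hU, hinv W hW⟩
    rw [key]
    constructor
    · intro hcond
      by_cases h2 : 2 < r
      · exact Or.inl ⟨rfl, h2, hcond⟩
      · have hr2 : r = 2 := by have := (Fact.out : r.Prime).two_le; omega
        refine Or.inr (Or.inl ⟨rfl, hr2, ?_⟩)
        by_contra hpar
        rw [not_or, Nat.not_odd_iff_even] at hpar
        obtain ⟨⟨n', rfl⟩, hm'⟩ := hpar
        obtain ⟨ν, hν, hνs⟩ := hcond (Multiset.replicate n' 2) (fun a ha => by
          rw [Multiset.eq_of_mem_replicate ha]; omega) (by simp; ring)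
        obtain ⟨k, -, rfl⟩ := Multiset.le_replicate_iff.1 hν
        refine hm' ⟨k, ?_⟩
        rw [← hνs]; simp; ring
    · rintro (⟨-, -, h⟩ | ⟨-, h2, hpar⟩ | ⟨h, -⟩)
      · exact h
      · intro μ hμ hsum
        have hμ' : μ = Multiset.replicate (μ.count 1) 1 + Multiset.replicate (μ.count 2) 2 := by
          ext a
          rw [Multiset.count_add, Multiset.count_replicate, Multiset.count_replicate]
          by_cases ha : a ∈ μ
          · have := hμ a ha
            obtain rfl | rfl : a = 1 ∨ a = 2 := by omega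
            · simp
            · simp
          · rw [Multiset.count_eq_zero_of_notMem ha]
            split_ifs with h1 h2 h2 <;> subst_vars <;> simp_all [Multiset.count_eq_zero_of_notMem]
        set c₁ := μ.count 1
        set c₂ := μ.count 2
        rw [hμ'] at hsum ⊢
        simp at hsum
        refine ⟨Multiset.replicate (m - 2 * min c₂ (m / 2)) 1 + Multiset.replicate (min c₂ (m / 2)) 2, ?_, ?_⟩
        · refine add_le_add (Multiset.le_replicate_iff.2 ⟨_, ?_, rfl⟩) (Multiset.le_replicate_iff.2 ⟨_, min_le_left _ _, rfl⟩)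
          rcases hpar with ⟨a, ha⟩ | ⟨a, ha⟩ <;> omega
        · simp
          omega
      · exact absurd rfl h
  have hr : (r : F) ≠ 0 := cast_ne_zero_of_prime_ne Fact.out hrp
  obtain ⟨-, j, hj, hjd⟩ := exists_dvd_of_dvd_card (F := F) (V := Fin n → F) (p := p) Fact.out
    (by rw [Module.finrank_fin_fun]; omega) (dvd_of_dvd_card_compl Fact.out hrp hrΩ)
  rw [Module.finrank_fin_fun, dvd_pow_sub_one_iff Fintype.card_pos] at hjd
  constructor
  · intro hall
    refine Or.inr (Or.inr ⟨hrp, ?_⟩)
    rcases Nat.lt_or_ge (orderOf ((Fintype.card F : ℕ) : ZMod r)) 2 with hi | hi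
    · have hi1 : orderOf ((Fintype.card F : ℕ) : ZMod r) = 1 := by
        have := orderOf_card_pos (F := F) hr; omega
      refine Or.inl ⟨hi1, ?_⟩
      by_contra hbad
      obtain ⟨hm', x, hx, hns, hdiv⟩ := exists_no_small_inv (n := n) hr hi1 (by omega) hbad
      obtain ⟨U, W, -, hU, hUi, -⟩ := hall x hx hns
      exact hm' (hU ▸ hdiv U (Submodule.map_le_iff_le_comap.1 hUi))
    · refine Or.inr ⟨hi, ?_⟩
      set i := orderOf ((Fintype.card F : ℕ) : ZMod r) with hidef
      have hin : n % i < n := by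
        have h1 := Nat.le_of_dvd (by omega) hjd
        have := Nat.mod_lt n (show i > 0 by omega)
        omega
      have key : n % i < m % i → False := fun h1 => by
        obtain ⟨x, hx, hns, hxr, hfix⟩ := exists_small_fix (n := n) hr hi hin
        obtain ⟨U, W, -, hU, hUi, -⟩ := hall x ⟨1, hx⟩ hns
        obtain ⟨b, hb⟩ := inv_dim hr hxr (Submodule.map_le_iff_le_comap.1 hUi)
        rw [hU, ← hidef] at hb
        have hle := (Submodule.finrank_mono (inf_le_right (a := U))).trans_eq hfix
        rw [hb, Nat.add_mul_mod_self_right] at h1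
        exact absurd (h1.trans_le ((Nat.mod_le _ _).trans hle)) (lt_irrefl _)
      constructor
      · by_contra hmi
        refine key ?_
        rw [Nat.mod_eq_of_lt (show m < i by omega)]
        exact mod_lt_of_dvd (by omega) (show n - m < n - j by omega) (by omega) hjd
      · by_contra hmi
        exact key (by omega)
  · rintro (⟨h, -⟩ | ⟨h, -⟩ | ⟨-, hc⟩) x ⟨z, hz⟩ -
    · exact absurd h hrp
    · exact absurd h hrp
    rw [Matrix.SpecialLinearGroup.coe_pow] at hz
    have h1 : orderOf ((Fintype.card F : ℕ) : ZMod r) = 1 → OneCond F r m n := fun hi => by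
      rcases hc with ⟨-, h⟩ | ⟨h, -⟩
      · exact h
      · omega
    have h2 : 2 ≤ orderOf ((Fintype.card F : ℕ) : ZMod r) →
        1 * (m % orderOf ((Fintype.card F : ℕ) : ZMod r)) ≤ n % orderOf ((Fintype.card F : ℕ) : ZMod r) := fun hi => by
      rcases hc with ⟨h, -⟩ | ⟨-, -, h⟩
      · omega
      · rwa [one_mul]
    obtain ⟨hss, U, -, hU, -, -, hdim, -⟩ := exists_two_of_good hr x.2 hz (by omega) (Or.inl rfl) (by omega) h1 h2
    obtain ⟨W, hW, -, hsup, hdis⟩ := exists_compl_inv hss hU (W' := ⊤) (fun v _ => trivial) le_top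
    exact ⟨U, W, ⟨hdis, codisjoint_iff.2 hsup⟩, hdim, Submodule.map_le_iff_le_comap.2 hU, Submodule.map_le_iff_le_comap.2 hW⟩

end Cfsg.Agent.S5950
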