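import Cfsg.Statements.S5951
import Cfsg.Agent.Lib.ThreeTransp.PrimeInv

set_option autoImplicit false
open scoped MatrixGroups
open Cfsg

namespace Cfsg.Agent.S5951

/-- Elements of prime order of PSL_n(q) fixing no pair of subspaces `U < W` with `dim U = m`, `dim W = n − m`. Here `T = PSL_n(F)` for a field `F` with `q = p^f` elements (`n ≥ 2`, `(n, q) ≠ (2, 2), (2, 3)`); an element of `T` of prime order `r` is represented by a matrix `x` of determinant 1 with `x^r` scalar and `x` not scalar; `i` denotes the multiplicative order of `q` modulo `r` (when `r ≠ p`), and `(a)_r` the `r`-part of `a`. Let `1 ≤ m < n/2` and let `r` be a prime dividing the number of such pairs. Then every element of `T` of order `r` fixes such a pair (both `U` and `W`) if and only if `r ≠ p` and either (i) `i = 1` and (`r ∣ m`, or `(q−1)_r ≥ (n)_r` with `q ≡ 1 (mod 4)` required when `r = 2` and `n` is even), or (ii) `2 ≤ i ≤ m` and `n mod i ≥ 2 (m mod i)`. -/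
theorem result {F : Type*} [Field F] [Fintype F] {p : ℕ} [Fact p.Prime] [CharP F p] {q : ℕ} (hq : Fintype.card F = q)
    (n m : ℕ) (hn : 2 ≤ n) (hT : (n, q) ≠ (2, 2) ∧ (n, q) ≠ (2, 3)) (hm : 1 ≤ m) (hmn : 2 * m < n)
    (r : ℕ) [Fact r.Prime]
    (hrΩ : r ∣ Nat.card {P : Submodule F (Fin n → F) × Submodule F (Fin n → F) //
        P.1 ≤ P.2 ∧ Module.finrank F ↥P.1 = m ∧ Module.finrank F ↥P.2 = n - m}) :
    (∀ x : Matrix.SpecialLinearGroup (Fin n) F,
      (∃ c : F, ((x ^ r : Matrix.SpecialLinearGroup (Fin n) F) : Matrix (Fin n) (Fin n) F) = c • (1 : Matrix (Fin n) (Fin n) F)) →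
      (∀ c : F, (x : Matrix (Fin n) (Fin n) F) ≠ c • (1 : Matrix (Fin n) (Fin n) F)) →
      ∃ U W : Submodule F (Fin n → F), U ≤ W ∧ Module.finrank F ↥U = m ∧ Module.finrank F ↥W = n - m ∧
        U.map (Matrix.toLin' (x : Matrix (Fin n) (Fin n) F)) ≤ U ∧ W.map (Matrix.toLin' (x : Matrix (Fin n) (Fin n) F)) ≤ W) ↔
    (r ≠ p ∧
      ((orderOf (q : ZMod r) = 1 ∧ (r ∣ m ∨ (padicValNat r n ≤ padicValNat r (q - 1) ∧ (r = 2 → Even n → q % 4 = 1)))) ∨
       (2 ≤ orderOf (q : ZMod r) ∧ orderOf (q : ZMod r) ≤ m ∧ 2 * (m % orderOf (q : ZMod r)) ≤ n % orderOf (q : ZMod r)))) := by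
  open CfsgLib.ThreeTransp.PrimeInv CfsgLib.PrimeOrderSp in
  classical
  subst hq
  rw [card_flags_eq (by omega) (by rw [Module.finrank_fin_fun]; omega)] at hrΩ
  obtain ⟨hrp, k, hk, hkn, hkd⟩ : r ≠ p ∧ ∃ k, n - 2 * m < k ∧ k ≤ n ∧ r ∣ Fintype.card F ^ k - 1 := by
    rcases (Fact.out : r.Prime).dvd_mul.1 hrΩ with h | h
    · obtain ⟨h1, j, hj, hjd⟩ := exists_dvd_of_dvd_card (F := F) (V := Fin n → F) (p := p) Fact.out
        (by rw [Module.finrank_fin_fun]; omega) h
      rw [Module.finrank_fin_fun] at hjd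
      exact ⟨h1, n - j, by omega, by omega, hjd⟩
    · rw [card_subspaces_symm (by rw [Module.finrank_fin_fun, Module.finrank_fin_fun]; omega), Module.finrank_fin_fun,
        Module.finrank_fin_fun, show n - m - (n - m - m) = m by omega] at h
      obtain ⟨h1, j, hj, hjd⟩ := exists_dvd_of_dvd_card (F := F) (V := Fin (n - m) → F) (p := p) Fact.out
        (by rw [Module.finrank_fin_fun]; omega) h
      rw [Module.finrank_fin_fun] at hjd
      exact ⟨h1, n - m - j, by omega, by omega, hjd⟩
  rw [dvd_pow_sub_one_iff Fintype.card_pos] at hkd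
  have hr : (r : F) ≠ 0 := cast_ne_zero_of_prime_ne Fact.out hrp
  constructor
  · intro hall
    refine ⟨hrp, ?_⟩
    rcases Nat.lt_or_ge (orderOf ((Fintype.card F : ℕ) : ZMod r)) 2 with hi | hi
    · have hi1 : orderOf ((Fintype.card F : ℕ) : ZMod r) = 1 := by
        have := orderOf_card_pos (F := F) hr; omega
      refine Or.inl ⟨hi1, ?_⟩
      by_contra hbad
      obtain ⟨hm', x, hx, hns, hdiv⟩ := exists_no_small_inv (n := n) hr hi1 (by omega) hbad
      obtain ⟨U, W, -, hU, -, hUi, -⟩ := hall x hx hns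
      exact hm' (hU ▸ hdiv U (Submodule.map_le_iff_le_comap.1 hUi))
    · refine Or.inr ⟨hi, ?_⟩
      set i := orderOf ((Fintype.card F : ℕ) : ZMod r) with hidef
      have hin : n % i < n := by
        have h1 := Nat.le_of_dvd (by omega) hkd
        have := Nat.mod_lt n (show i > 0 by omega)
        omega
      have key : n % i < 2 * (m % i) → False := fun h1 => by
        obtain ⟨x, hx, hns, hxr, hfix⟩ := exists_small_fix (n := n) hr hi hin
        obtain ⟨U, W, hUW, hU, hW, hUi, hWi⟩ := hall x ⟨1, hx⟩ hns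
        obtain ⟨b, hb⟩ := inv_dim hr hxr (Submodule.map_le_iff_le_comap.1 hUi)
        obtain ⟨b', hb'⟩ := inv_dim hr hxr (Submodule.map_le_iff_le_comap.1 hWi)
        rw [hU, ← hidef] at hb
        rw [hW, ← hidef] at hb'
        have hle : ∀ W : Submodule F (Fin n → F),
            Module.finrank F (W ⊓ fixSp (Matrix.toLin' (x : Matrix (Fin n) (Fin n) F)) : Submodule F (Fin n → F)) ≤ n % i :=
          fun W => (Submodule.finrank_mono inf_le_right).trans_eq hfix
        have hle' := hle W
        have hmono := Submodule.finrank_mono (R := F)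
          (inf_le_inf_right (fixSp (Matrix.toLin' (x : Matrix (Fin n) (Fin n) F))) hUW)
        set a := Module.finrank F (U ⊓ fixSp (Matrix.toLin' (x : Matrix (Fin n) (Fin n) F)) : Submodule F (Fin n → F))
        set a' := Module.finrank F (W ⊓ fixSp (Matrix.toLin' (x : Matrix (Fin n) (Fin n) F)) : Submodule F (Fin n → F))
        have h3 : m + b' * i = (n % i - a') + (n / i) * i := by
          have := Nat.mod_add_div n i
          rw [mul_comm i] at this
          omega
        have h4 := congrArg (· % i) h3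
        simp only [Nat.add_mul_mod_self_right] at h4
        have h5 : m % i = a % i := by rw [hb, Nat.add_mul_mod_self_right]
        have := Nat.mod_le a i
        have := Nat.mod_le (n % i - a') i
        omega
      constructor
      · by_contra hmi
        refine key ?_
        rw [Nat.mod_eq_of_lt (show m < i by omega)]
        exact mod_lt_of_dvd (by omega) hk hkn hkd
      · by_contra hmi
        exact key (by omega)
  · rintro ⟨-, hc⟩ x ⟨z, hz⟩ -
    rw [Matrix.SpecialLinearGroup.coe_pow] at hz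
    have h1 : orderOf ((Fintype.card F : ℕ) : ZMod r) = 1 → OneCond F r m n := fun hi => by
      rcases hc with ⟨-, h⟩ | ⟨h, -⟩
      · exact h
      · omega
    have h2 : 2 ≤ orderOf ((Fintype.card F : ℕ) : ZMod r) →
        2 * (m % orderOf ((Fintype.card F : ℕ) : ZMod r)) ≤ n % orderOf ((Fintype.card F : ℕ) : ZMod r) := fun hi => by
      rcases hc with ⟨h, -⟩ | ⟨-, -, h⟩
      · omega
      · exact h
    obtain ⟨hss, U₁, U₂, i1, i2, hd, r1, r2⟩ := exists_two_of_good hr x.2 hz (by omega) (Or.inr rfl) (by omega) h1 h2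
    obtain ⟨R, hR, -, hsup, hdis⟩ := exists_compl_inv hss (i1.sup i2) (W' := ⊤) (fun v _ => trivial) le_top
    refine ⟨U₁, U₁ ⊔ R, le_sup_left, r1, ?_, Submodule.map_le_iff_le_comap.2 i1,
      Submodule.map_le_iff_le_comap.2 (i1.sup hR)⟩
    have e1 := Submodule.finrank_sup_add_finrank_inf_eq U₁ U₂
    have e2 := Submodule.finrank_sup_add_finrank_inf_eq (U₁ ⊔ U₂) R
    have e3 := Submodule.finrank_sup_add_finrank_inf_eq U₁ R
    rw [hd.eq_bot, finrank_bot] at e1
    rw [hsup, hdis.eq_bot, finrank_bot, finrank_top, Module.finrank_fin_fun] at e2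
    rw [(hdis.mono_left le_sup_left).eq_bot, finrank_bot] at e3
    omega

end Cfsg.Agent.S5951
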