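import Cfsg.Statements.S5952

set_option autoImplicit false
open Cfsg

namespace Cfsg.Agent.S5952

open Module

/-- If `U` is invariant and irreducible, an invariant subspace meeting `P ⊔ U` gains either 0 or `dim U` dimensions over `P`. -/
private lemma step_dim {F V : Type*} [Field F] [AddCommGroup V] [Module F V] [FiniteDimensional F V]
    (f : V →ₗ[F] V) (P U W : Submodule F V) (hP : P.map f ≤ P) (hU : U.map f ≤ U) (hW : W.map f ≤ W)
    (hdisj : Disjoint P U) (hirr : ∀ X : Submodule F V, X ≤ U → X.map f ≤ X → X = ⊥ ∨ X = U) :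
    finrank F ↥(W ⊓ (P ⊔ U)) = finrank F ↥(W ⊓ P) ∨
      finrank F ↥(W ⊓ (P ⊔ U)) = finrank F ↥(W ⊓ P) + finrank F U := by
  set A := W ⊓ (P ⊔ U) with hA
  -- the projection of A to U
  set X := (A ⊔ P) ⊓ U with hX
  have hAinv : A.map f ≤ A :=
    (Submodule.map_inf_le f).trans (inf_le_inf hW (by rw [Submodule.map_sup]; exact sup_le_sup hP hU))
  have hXinv : X.map f ≤ X :=
    (Submodule.map_inf_le f).trans (inf_le_inf (by rw [Submodule.map_sup]; exact sup_le_sup hAinv hP) hU)
  have hsup : X ⊔ P = A ⊔ P := by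
    rw [hX, inf_sup_assoc_of_le U (le_sup_right : P ≤ A ⊔ P)]
    exact inf_eq_left.2 (sup_le (inf_le_right.trans (by rw [sup_comm])) le_sup_right)
  have hXP : X ⊓ P = ⊥ := by
    have : X ⊓ P ≤ P ⊓ U := le_inf inf_le_right (inf_le_left.trans inf_le_right)
    exact le_bot_iff.1 (this.trans hdisj.le_bot)
  have hAP : A ⊓ P = W ⊓ P := by
    rw [hA, inf_assoc, inf_eq_right.2 (le_sup_left : P ≤ P ⊔ U)]
  have h1 := Submodule.finrank_sup_add_finrank_inf_eq X P
  have h2 := Submodule.finrank_sup_add_finrank_inf_eq A P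
  rw [hsup, hXP, finrank_bot] at h1
  rw [hAP] at h2
  rcases hirr X inf_le_right hXinv with h | h
  · left; rw [h, finrank_bot] at h1; omega
  · right; rw [h] at h1; omega


/-- Which dimensions of invariant subspaces a semisimple linear map has. Let `V` be a finite-dimensional vector space over a field `F` and `f` an invertible semisimple linear map of `V`. Suppose `V` is the internal direct sum of the fixed space `C_V(f)` (the eigenspace for 1) and subspaces `U_1, …, U_s`, each `f`-invariant of dimension `a ≥ 1` on which `f` acts irreducibly (no `f`-invariant subspaces other than 0 and `U_j`). Let `0 < m < dim V` and `ℓ = m mod a`. Then `f` leaves some `m`-dimensional subspace invariant if and only if `dim C_V(f) ≥ m`, or `a ≤ m` and `dim C_V(f) ≥ ℓ`. -/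
theorem result {F V : Type*} [Field F] [AddCommGroup V] [Module F V]
    [FiniteDimensional F V] (f : V →ₗ[F] V) (hf : Function.Bijective f) (hss : Module.End.IsSemisimple f)
    {s a : ℕ} (ha : 1 ≤ a) (U : Fin s → Submodule F V)
    (hUinv : ∀ j, (U j).map f ≤ U j) (hUdim : ∀ j, Module.finrank F ↥(U j) = a)
    (hUirr : ∀ j, ∀ W : Submodule F V, W ≤ U j → W.map f ≤ W → W = ⊥ ∨ W = U j)
    (hdec : DirectSum.IsInternal (fun o : Option (Fin s) => o.elim (Module.End.eigenspace f 1) U))
    (m : ℕ) (hm : 0 < m) (hmV : m < Module.finrank F V) :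
    (∃ W : Submodule F V, Module.finrank F ↥W = m ∧ W.map f ≤ W) ↔
    (m ≤ Module.finrank F ↥(Module.End.eigenspace f 1) ∨
      (a ≤ m ∧ m % a ≤ Module.finrank F ↥(Module.End.eigenspace f 1))) := by
  classical
  let C := Module.End.eigenspace f 1
  let P : ℕ → Submodule F V := fun k => C ⊔ ⨆ j ∈ (Finset.univ.filter (fun j : Fin s => (j : ℕ) < k)), U j
  have hind := hdec.submodule_iSupIndep
  have hCinv : C.map f ≤ C := by
    rintro _ ⟨v, hv, rfl⟩
    have : f v = v := by simpa using Module.End.mem_eigenspace_iff.1 hv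
    rw [this]; exact hv
  have hP0 : P 0 = C := by simp [P]
  have hPsucc : ∀ k (hk : k < s), P (k + 1) = P k ⊔ U ⟨k, hk⟩ := by
    intro k hk
    have : (Finset.univ.filter (fun j : Fin s => (j : ℕ) < k + 1)) =
        insert ⟨k, hk⟩ (Finset.univ.filter (fun j : Fin s => (j : ℕ) < k)) := by
      ext j; simp [Fin.ext_iff]; omega
    simp only [P, this, Finset.iSup_insert]
    rw [sup_comm (U _), sup_assoc]
  have hdisj : ∀ k (hk : k < s), Disjoint (P k) (U ⟨k, hk⟩) := by
    intro k hk
    refine ((hind (some ⟨k, hk⟩)).mono_right ?_).symm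
    refine sup_le ?_ (iSup₂_le fun j hj => ?_)
    · exact le_iSup₂_of_le (f := fun (o : Option (Fin s)) (_ : o ≠ some ⟨k, hk⟩) => o.elim (Module.End.eigenspace f 1) U) none (by simp) le_rfl
    · exact le_iSup₂_of_le (f := fun (o : Option (Fin s)) (_ : o ≠ some ⟨k, hk⟩) => o.elim (Module.End.eigenspace f 1) U) (some j)
        (by intro h; simp [Option.some.inj h] at hj) le_rfl
  have hPinv : ∀ k, (P k).map f ≤ P k := by
    intro k
    simp only [P, Submodule.map_sup, Submodule.map_iSup]
    exact sup_le_sup hCinv (iSup₂_mono fun j _ => hUinv j)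
  have hPtop : P s = ⊤ := by
    rw [← hdec.submodule_iSup_eq_top, iSup_option]
    simp [P, C]
  have hdimP : ∀ k, k ≤ s → Module.finrank F ↥(P k) = Module.finrank F C + k * a := by
    intro k hk
    induction k with
    | zero => rw [hP0]; simp
    | succ k ih =>
      have h := Submodule.finrank_sup_add_finrank_inf_eq (P k) (U ⟨k, hk⟩)
      rw [← hPsucc k hk, (hdisj k hk).eq_bot, finrank_bot, hUdim, ih (by omega)] at h
      rw [Nat.succ_mul]; omega
  constructor
  · rintro ⟨W, hWdim, hW⟩
    have hk : ∀ k, k ≤ s → ∃ l, Module.finrank F ↥(W ⊓ P k) = Module.finrank F ↥(W ⊓ C) + l * a := by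
      intro k hk
      induction k with
      | zero => exact ⟨0, by rw [hP0]; simp⟩
      | succ k ih =>
        obtain ⟨l, hl⟩ := ih (by omega)
        rw [hPsucc k hk]
        rcases step_dim f (P k) (U ⟨k, hk⟩) W (hPinv k) (hUinv _) hW (hdisj k hk) (hUirr _) with h | h
        · exact ⟨l, h.trans hl⟩
        · exact ⟨l + 1, by rw [h, hl, hUdim, Nat.succ_mul]; omega⟩
    obtain ⟨l, hl⟩ := hk s le_rfl
    rw [hPtop, inf_top_eq, hWdim] at hl
    have hle : Module.finrank F ↥(W ⊓ C) ≤ Module.finrank F C := Submodule.finrank_mono inf_le_right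
    rcases Nat.eq_zero_or_pos l with rfl | hl0
    · left; show m ≤ Module.finrank F C; omega
    · right
      refine ⟨?_, ?_⟩
      · have : a ≤ l * a := Nat.le_mul_of_pos_left a hl0
        omega
      · show m % a ≤ Module.finrank F C
        rw [hl, Nat.add_mul_mod_self_right]
        exact (Nat.mod_le _ _).trans hle
  · intro h
    -- choose the number of irreducible summands
    obtain ⟨k, d, hks, hdc, hmd⟩ : ∃ k d, k ≤ s ∧ d ≤ Module.finrank F C ∧ m = d + k * a := by
      rcases h with h | ⟨h1, h2⟩
      · exact ⟨0, m, Nat.zero_le _, h, by simp⟩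
      · have htot := hdimP s le_rfl
        rw [hPtop, finrank_top] at htot
        rcases Nat.lt_or_ge (m / a) s with hlt | hge
        · exact ⟨m / a, m % a, hlt.le, h2, by rw [Nat.mul_comm]; exact (Nat.mod_add_div m a).symm⟩
        · have : s * a ≤ m := (Nat.le_div_iff_mul_le (by omega)).1 hge
          exact ⟨s, m - s * a, le_rfl, by omega, by omega⟩
    obtain ⟨D, hDC, hDdim⟩ : ∃ D : Submodule F V, D ≤ C ∧ Module.finrank F D = d := by
      obtain ⟨g, hg⟩ := exists_linearIndependent_of_le_finrank (R := F) (M := C) hdc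
      exact ⟨(Submodule.span F (Set.range g)).map C.subtype, Submodule.map_subtype_le _ _, by rw [Submodule.finrank_map_subtype_eq, finrank_span_eq_card hg, Fintype.card_fin]⟩
    let Q : Submodule F V := ⨆ j ∈ (Finset.univ.filter (fun j : Fin s => (j : ℕ) < k)), U j
    have hdis : Disjoint C Q := by
      refine (hind none).mono_right (iSup₂_le fun j _ => ?_)
      exact le_iSup₂_of_le (f := fun (o : Option (Fin s)) (_ : o ≠ none) => o.elim (Module.End.eigenspace f 1) U) (some j) (by simp) le_rfl
    refine ⟨D ⊔ Q, ?_, ?_⟩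
    · have h1 := Submodule.finrank_sup_add_finrank_inf_eq C Q
      rw [hdis.eq_bot, finrank_bot, show C ⊔ Q = P k from rfl, hdimP k hks] at h1
      have h2 := Submodule.finrank_sup_add_finrank_inf_eq D Q
      rw [(hdis.mono_left hDC).eq_bot, finrank_bot, hDdim] at h2
      omega
    · rw [Submodule.map_sup]
      refine sup_le_sup ?_ ?_
      · rintro _ ⟨v, hv, rfl⟩
        have : f v = v := by simpa using Module.End.mem_eigenspace_iff.1 (hDC hv)
        rw [this]; exact hv
      · simp only [Q, Submodule.map_iSup]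
        exact iSup₂_mono fun j _ => hUinv j

end Cfsg.Agent.S5952
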