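import Cfsg.Statements.S5954
import Cfsg.Agent.Lib.ThreeTransp.UnipUnitary
import Cfsg.Agent.Lib.ThreeTransp.UnipInv
import Cfsg.Agent.Lib.ThreeTransp.UnitNondeg
import Cfsg.Agent.Lib.ThreeTransp.PrimeInv
import Cfsg.Agent.Lib.Classical.UnitarySU

set_option autoImplicit false
set_option linter.unusedSectionVars false
open scoped MatrixGroups Matrix
open Cfsg

namespace Cfsg.Agent.S5954

open Module CfsgLib.PrimeOrderSp CfsgLib.Classical CfsgLib.Classical.Unitary CfsgLib.ThreeTransp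
open CfsgLib.ThreeTransp.UnitAtoms CfsgLib.ThreeTransp.UnitNondeg CfsgLib.KnownB.PrimeOrder

universe u

variable {F : Type u} [Field F] {σ : F →+* F} {q n : ℕ}

local notation "MN" => Matrix (Fin n) (Fin n) F

theorem sigma_eq (hh : UFrob σ q) (z : F) : z * σ z = z ^ (q + 1) := by rw [hh.pow, pow_succ, mul_comm]

theorem pow_iso {X : Module.End F (Fin n → F)} (h : ∀ u v, H σ n (X u) (X v) = H σ n u v) :
    ∀ (k : ℕ) u v, H σ n ((X ^ k) u) ((X ^ k) v) = H σ n u v := by
  intro k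
  induction k with
  | zero => intro u v; simp
  | succ k ih => intro u v; rw [pow_succ, Module.End.mul_apply, Module.End.mul_apply, ih, h]

section fin

variable [Finite F]

theorem norm_of_scalar (hh : UFrob σ q) (hn : 0 < n) {X : MN} (hX : Xᵀ * X.map σ = 1) {z : F} (hz : X = z • 1) :
    z * σ z = 1 := by
  have h := (iso_iff hh).2 hX (Pi.single ⟨0, hn⟩ 1) (Pi.single ⟨0, hn⟩ 1)
  rw [hz, map_smul, Matrix.toLin'_one] at h
  simp only [LinearMap.smul_apply, LinearMap.id_apply, map_smul, map_smulₛₗ, smul_eq_mul] at h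
  have h1 : H σ n (Pi.single ⟨0, hn⟩ (1 : F)) (Pi.single ⟨0, hn⟩ (1 : F)) = 1 := by
    rw [H_apply hh, hh.hermForm_eq, uh_single_right]
    simp
  rw [h1, mul_one] at h
  linear_combination h

theorem norm_of_pow (hh : UFrob σ q) (hn : 0 < n) {X : MN} (hX : Xᵀ * X.map σ = 1) {r : ℕ} {z : F} (hz : X ^ r = z • 1) :
    z * σ z = 1 := by
  refine norm_of_scalar hh hn (X := X ^ r) ((iso_iff hh).1 fun u v => ?_) hz
  rw [Matrix.toLin'_pow]
  exact pow_iso ((iso_iff hh).2 hX) r u v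

/-- A map of order `r` from a root. -/
theorem reduce (hh : UFrob σ q) {X : MN} (hX : Xᵀ * X.map σ = 1) {r : ℕ} {z : F} (hz : X ^ r = z • 1) {w : F}
    (hw : w * σ w = 1) (hwz : w ^ r = z) :
    ∃ g : Module.End F (Fin n → F), g ^ r = 1 ∧ (∀ u v, H σ n (g u) (g v) = H σ n u v) ∧
      ∀ W, Inv g W → W.map (Matrix.toLin' X) ≤ W := by
  have hw0 : w ≠ 0 := left_ne_zero_of_mul_eq_one hw
  refine ⟨w⁻¹ • Matrix.toLin' X, ?_, fun u v => ?_, fun W hW => Submodule.map_le_iff_le_comap.2 fun v hv => ?_⟩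
  · rw [smul_pow, ← Matrix.toLin'_pow, hz, map_smul, Matrix.toLin'_one, smul_smul, ← hwz, _root_.inv_pow,
      inv_mul_cancel₀ (pow_ne_zero _ hw0), one_smul]
    rfl
  · simp only [LinearMap.smul_apply, map_smul, map_smulₛₗ, smul_eq_mul, (iso_iff hh).2 hX, map_inv₀]
    rw [← mul_assoc, ← mul_inv, mul_comm (σ w) w, hw, inv_one, one_mul]
  · have := W.smul_mem w (hW v hv)
    rwa [LinearMap.smul_apply, smul_smul, mul_inv_cancel₀ hw0, one_smul] at this

theorem mk_sub (hh : UFrob σ q) (X : MN) {m : ℕ} (W : Submodule F (Fin n → F)) (h1 : finrank F W = m)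
    (h2 : Nondeg (H σ n) W) (h3 : W.map (Matrix.toLin' X) ≤ W) :
    ∃ W : Submodule F (Fin n → F), finrank F ↥W = m ∧ (∀ u ∈ W, u ≠ 0 → ∃ v ∈ W, Cfsg.hermForm n F q u v ≠ 0) ∧
      W.map (Matrix.toLin' X) ≤ W :=
  ⟨W, h1, (nondeg_iff hh).2 h2, h3⟩

end fin

variable [Fintype F]

/-- Nondegenerate invariant subspaces of unipotent unitary maps. -/
theorem exists_unip_sub (hh : UFrob σ q) {p : ℕ} [Fact p.Prime] [CharP F p] {m : ℕ} (hmn : m ≤ n) (hn : 0 < n)
    (hall : ∀ μ : Multiset ℕ, (∀ a ∈ μ, 0 < a ∧ a ≤ p) → μ.sum = n → ∃ ν : Multiset ℕ, ν ≤ μ ∧ ν.sum = m)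
    {U : MN} (hU : Uᵀ * U.map σ = 1) (hUp : U ^ p = 1) :
    ∃ W : Submodule F (Fin n → F), finrank F W = m ∧ Nondeg (H σ n) W ∧ W.map (Matrix.toLin' U) ≤ W := by
  classical
  haveI : Nonempty (Fin n) := ⟨⟨0, hn⟩⟩
  have hnil : (U - 1) ^ p = 0 := by rw [sub_pow_char_of_commute p (Commute.one_right U), hUp, one_pow, sub_self]
  have hN : IsNilpotent (Matrix.toLin' (U - 1)) := ⟨p, by rw [← Matrix.toLin'_pow, hnil, map_zero]⟩
  obtain ⟨t, d, b, hd, hb⟩ := CfsgLib.KnownB.Jordan.exists_chains (Matrix.toLin' (U - 1)) hN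
  have hr : ∀ j, ((U - 1) ^ j).rank = ∑ k, (d k - j) := fun j => by
    rw [← UnipInv.finrank_range_pow _ d b hb j, ← Matrix.toLin'_pow]
    rfl
  have hsum : ∑ k, d k = n := by
    have e := Module.finrank_eq_card_basis b
    rw [Module.finrank_fin_fun, Fintype.card_sigma] at e
    simpa using e.symm
  obtain ⟨ν, hν, hνs⟩ := hall (Multiset.map d (Finset.univ : Finset (Fin t)).val) (fun a ha => by
      obtain ⟨k, -, rfl⟩ := Multiset.mem_map.1 ha
      have e := hr p
      rw [hnil, Matrix.rank_zero, eq_comm, Finset.sum_eq_zero_iff] at e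
      have := e k (Finset.mem_univ k)
      have := hd k
      omega) (by rw [← hsum]; rfl)
  obtain ⟨Q, hQ, hQi⟩ := UnipUnitary.exists_split hh.ne hh.invol hmn hU ⟨p, hnil⟩ (fun j => by
    rw [hr j, Multiset.map_map]; rfl) hν hνs
  let ι : (Fin m → F) →ₗ[F] (Fin n → F) :=
    { toFun := fun v i => if h : (i : ℕ) < m then v ⟨i, h⟩ else 0
      map_add' := fun a b => funext fun i => by by_cases h : (i : ℕ) < m <;> simp [h]
      map_smul' := fun a b => funext fun i => by by_cases h : (i : ℕ) < m <;> simp [h] }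
  have hι : ∀ v (i : Fin m), ι v (Fin.castLE hmn i) = v i := fun v i => dif_pos i.isLt
  have hinjι : Function.Injective ι := fun a b hab => funext fun i => by rw [← hι a i, ← hι b i, hab]
  have hQiso := (iso_iff hh).2 hQ
  have hQinj : Function.Injective (Matrix.toLin' Q) := injective_of_iso (uformH hh).herm hQiso
  have htail : ∀ v (i : Fin n), m ≤ (i : ℕ) → ι v i = 0 := fun v i hi => dif_neg (not_lt.2 hi)
  have hmem : ∀ w : Fin n → F, (∀ i : Fin n, m ≤ (i : ℕ) → w i = 0) → ι (fun i => w (Fin.castLE hmn i)) = w :=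
    fun w hw => funext fun i => by
      by_cases h : (i : ℕ) < m
      · exact dif_pos h
      · exact (dif_neg h).trans (hw i (not_lt.1 h)).symm
  refine ⟨LinearMap.range (Matrix.toLin' Q ∘ₗ ι), ?_, ?_, ?_⟩
  · rw [LinearMap.finrank_range_of_inj (f := Matrix.toLin' Q ∘ₗ ι) (hQinj.comp hinjι), Module.finrank_fin_fun]
  · rintro _ ⟨v, rfl⟩ hv
    rw [LinearMap.comp_apply]
    suffices v = 0 by rw [this, map_zero, map_zero]
    funext i
    have e := hv _ ⟨Pi.single i 1, rfl⟩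
    rw [LinearMap.comp_apply, LinearMap.comp_apply, hQiso] at e
    have e' : ι (Pi.single i 1) = Pi.single (Fin.castLE hmn i) 1 := funext fun z => by
      by_cases h : (z : ℕ) < m
      · refine (dif_pos h).trans ?_
        simp [Pi.single_apply, Fin.ext_iff]
      · refine (dif_neg h).trans (Pi.single_eq_of_ne (M := fun _ => F) (fun e => h ?_) 1).symm
        rw [e]; exact i.isLt
    rw [e', H_apply hh, hh.hermForm_eq, uh_single_right, map_one, mul_one, hι] at e
    exact e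
  · rintro _ ⟨_, ⟨v, rfl⟩, rfl⟩
    obtain ⟨w, hw, hw'⟩ := hQi (ι v) (htail v)
    refine ⟨fun i => w (Fin.castLE hmn i), ?_⟩
    rw [LinearMap.comp_apply, hmem w hw, Matrix.toLin'_apply, Matrix.toLin'_apply, LinearMap.comp_apply, Matrix.toLin'_apply]
    exact hw'.symm

/-- A partition into ones and twos. -/
theorem sub_one_two {m : ℕ} (hmn : 2 * m < n) (h : Odd n ∨ Even m) {μ : Multiset ℕ} (hμ : ∀ a ∈ μ, 0 < a ∧ a ≤ 2)
    (hs : μ.sum = n) : ∃ ν : Multiset ℕ, ν ≤ μ ∧ ν.sum = m := by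
  have e : μ = Multiset.replicate (μ.count 1) 1 + Multiset.replicate (μ.count 2) 2 := by
    ext a
    rw [Multiset.count_add, Multiset.count_replicate, Multiset.count_replicate]
    by_cases ha : a ∈ μ
    · obtain ⟨h1, h2⟩ := hμ a ha
      obtain rfl | rfl : a = 1 ∨ a = 2 := by omega
      · simp
      · simp
    · rw [Multiset.count_eq_zero_of_notMem ha]
      split_ifs with h1 h2 h2 <;> subst_vars <;> simp [Multiset.count_eq_zero_of_notMem, ha] at *
  generalize μ.count 1 = c₁ at e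
  generalize μ.count 2 = c₂ at e
  subst e
  rw [Multiset.sum_add, Multiset.sum_replicate, Multiset.sum_replicate, smul_eq_mul, smul_eq_mul, mul_one] at hs
  obtain ⟨t₁, t₂, h1, h2, h3⟩ : ∃ t₁ t₂, t₁ ≤ c₁ ∧ t₂ ≤ c₂ ∧ t₁ + t₂ * 2 = m := by
    rcases le_total (m / 2) c₂ with h' | h'
    · refine ⟨m % 2, m / 2, ?_, h', by omega⟩
      rcases h with h | h
      · obtain ⟨k, hk⟩ := h; omega
      · rw [Nat.even_iff.1 h]; omega
    · exact ⟨m - 2 * c₂, c₂, by omega, le_rfl, by omega⟩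
  refine ⟨Multiset.replicate t₁ 1 + Multiset.replicate t₂ 2,
    add_le_add ((Multiset.replicate_le_replicate 1).2 h1) ((Multiset.replicate_le_replicate 2).2 h2), ?_⟩
  rw [Multiset.sum_add, Multiset.sum_replicate, Multiset.sum_replicate, smul_eq_mul, smul_eq_mul, mul_one, h3]

/-- Elements of the special group with scalar power. -/
def Good (F : Type u) [Field F] (q n m r : ℕ) : Prop :=
  ∀ x : Matrix.SpecialLinearGroup (Fin n) F, x ∈ Cfsg.SU n F q →
    (∃ z : F, ((x ^ r : Matrix.SpecialLinearGroup (Fin n) F) : Matrix (Fin n) (Fin n) F) = z • (1 : Matrix (Fin n) (Fin n) F)) →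
    (∀ z : F, (x : Matrix (Fin n) (Fin n) F) ≠ z • (1 : Matrix (Fin n) (Fin n) F)) →
    ∃ W : Submodule F (Fin n → F), finrank F ↥W = m ∧ (∀ u ∈ W, u ≠ 0 → ∃ v ∈ W, Cfsg.hermForm n F q u v ≠ 0) ∧
      W.map (Matrix.toLin' (x : Matrix (Fin n) (Fin n) F)) ≤ W

theorem pow_gcd_one {a : F} {r k : ℕ} (hr : r.Prime) (hk : ¬ r ∣ k) (h1 : a ^ r = 1) (h2 : a ^ k = 1) : a = 1 := by
  have := pow_gcd_eq_one.2 ⟨h1, h2⟩
  rwa [((hr.coprime_iff_not_dvd).2 hk).gcd_eq_one, pow_one] at this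

/-- Equal characteristic. -/
theorem good_char_iff (hh : UFrob σ q) (p : ℕ) [Fact p.Prime] [CharP F p] {m : ℕ} (hn : 0 < n) (hmn : m ≤ n) :
    Good F q n m p ↔ ∀ μ : Multiset ℕ, (∀ a ∈ μ, 0 < a ∧ a ≤ p) → μ.sum = n → ∃ ν : Multiset ℕ, ν ≤ μ ∧ ν.sum = m := by
  classical
  have hp : p.Prime := Fact.out
  haveI : Nonempty (Fin n) := ⟨⟨0, hn⟩⟩
  haveI : ExpChar F p := ExpChar.prime hp
  have hone : ∀ a : F, a ^ p = 1 → a = 1 := fun a ha => by
    refine frobenius_inj F p ?_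
    rw [frobenius_def, frobenius_def, ha, one_pow]
  constructor
  · intro HG μ hμ hs
    obtain ⟨t, d, hmap, hd, hds, hj⟩ := UnipUnitary.exists_fin μ
    obtain ⟨A, hA, hAr⟩ := UnipUnitary.exists_unitary_type (σ := σ) hh.ne hh.invol d (hds.trans hs)
    have hnil : (A - 1) ^ p = 0 := UnipUnitary.isNilpotent_of_ranks hAr fun k => (hμ _ (hd k)).2
    have hAp : A ^ p = 1 := by
      rw [sub_pow_char_of_commute p (Commute.one_right A), one_pow, sub_eq_zero] at hnil
      exact hnil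
    have hdet : A.det = 1 := hone _ (by rw [← Matrix.det_pow, hAp, Matrix.det_one])
    by_cases hsc : ∃ z : F, A = z • 1
    · obtain ⟨z, hz⟩ := hsc
      have hz1 : z = 1 := hone z (by
        have e := congrFun (congrFun hAp ⟨0, hn⟩) ⟨0, hn⟩
        rw [hz, smul_pow, one_pow] at e
        simpa using e)
      have hall : ∀ a ∈ μ, a = 1 := fun a ha => by
        have h1 := hAr 1
        rw [hz, hz1, one_smul, sub_self, pow_one, Matrix.rank_zero, eq_comm, hj, Multiset.sum_eq_zero_iff] at h1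
        have := h1 (a - 1) (Multiset.mem_map.2 ⟨a, ha, rfl⟩)
        have := hμ a ha
        omega
      have hrep := Multiset.eq_replicate_card.2 hall
      rw [hrep, Multiset.sum_replicate, smul_eq_mul, mul_one] at hs
      exact ⟨Multiset.replicate m 1, by rw [hrep]; exact (Multiset.replicate_le_replicate 1).2 (by omega), by simp⟩
    push Not at hsc
    obtain ⟨W, hW, hWn, hWi⟩ := HG ⟨A, hdet⟩ ((mem_SU_iff_mul hh).2 hA)
      ⟨1, (Matrix.SpecialLinearGroup.coe_pow _ _).trans (by rw [one_smul]; exact hAp)⟩ hsc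
    rw [nondeg_iff hh] at hWn
    have hiso := (iso_iff hh).2 hA
    have hWi' : Inv (Matrix.toLin' A) W := Submodule.map_le_iff_le_comap.1 hWi
    have hP := hWi'.perp (uformH hh).herm hiso
    have hc : IsCompl W (perp (H σ n) W) := by
      have h1 : W ⊓ perp (H σ n) W = ⊥ := (Submodule.eq_bot_iff _).2 fun u hu => hWn u hu.1 hu.2
      refine ⟨disjoint_iff.2 h1, codisjoint_iff.2 (Submodule.eq_top_of_finrank_eq ?_)⟩
      have h2 := Submodule.finrank_sup_add_finrank_inf_eq W (perp (H σ n) W)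
      have h3 := finrank_perp (uformH hh).herm (uformH hh).herm.nondeg_top (W := W) le_top
      rw [inf_top_eq, finrank_top] at h3
      rw [h1, finrank_bot, add_zero] at h2
      omega
    have hN : ∀ {W : Submodule F (Fin n → F)}, Inv (Matrix.toLin' A) W → ∀ v ∈ W, Matrix.toLin' (A - 1) v ∈ W :=
      fun hi v hv => by
        rw [map_sub, Matrix.toLin'_one, LinearMap.sub_apply, LinearMap.id_apply]
        exact sub_mem (hi v hv) hv
    obtain ⟨ν, hν, hνs⟩ := UnipInv.exists_sub_type (N := Matrix.toLin' (A - 1))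
      ⟨p, by rw [← Matrix.toLin'_pow, hnil, map_zero]⟩ (d := d)
      (fun j => by rw [← hAr j, ← Matrix.toLin'_pow]; rfl) (hN hWi') (hN hP) hc
    exact ⟨ν, hmap ▸ hν, hνs.trans hW⟩
  · intro hall x hx hxr _
    obtain ⟨z, hz⟩ := hxr
    rw [Matrix.SpecialLinearGroup.coe_pow] at hz
    have hX := (mem_SU_iff_mul hh).1 hx
    have hzn := norm_of_pow hh hn hX hz
    obtain ⟨w, hw⟩ : ∃ w : F, w ^ p = z := by
      obtain ⟨w, hw⟩ := (bijective_frobenius F p).2 z
      exact ⟨w, by rw [← hw, frobenius_def]⟩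
    have hwn : w * σ w = 1 := hone _ (by rw [mul_pow, ← map_pow, hw, hzn])
    have hw0 : w ≠ 0 := left_ne_zero_of_mul_eq_one hwn
    obtain ⟨U, hU⟩ : ∃ U, U = w⁻¹ • (x : MN) := ⟨_, rfl⟩
    have hUu : Uᵀ * U.map σ = 1 := by
      rw [hU, Matrix.transpose_smul, Matrix.map_smul' σ _ _ (map_mul σ), Matrix.smul_mul, Matrix.mul_smul, smul_smul, hX,
        map_inv₀, ← mul_inv, hwn, inv_one, one_smul]
    have hUp : U ^ p = 1 := by
      rw [hU, smul_pow, hz, smul_smul, ← hw, _root_.inv_pow, inv_mul_cancel₀ (pow_ne_zero _ hw0), one_smul]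
    obtain ⟨W, h1, h2, h3⟩ := exists_unip_sub hh (p := p) hmn hn hall hUu hUp
    refine mk_sub hh _ W h1 h2 (Submodule.map_le_iff_le_comap.2 fun v hv => ?_)
    have := W.smul_mem w (Submodule.map_le_iff_le_comap.1 h3 hv)
    rwa [hU, map_smul, LinearMap.smul_apply, smul_smul, mul_inv_cancel₀ hw0, one_smul] at this

/-- Blocks of dimension one, when roots exist. -/
theorem exists_of_root [DecidableEq F] (hh : UFrob σ q) {p k : ℕ} [Fact p.Prime] [CharP F p] (hqk : q = p ^ k)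
    (hF : Fintype.card F = q ^ 2) {r : ℕ} [Fact r.Prime] (hr : (r : F) ≠ 0) (hdvd : r ∣ q + 1) {m : ℕ} (hmn : m ≤ n)
    {X : MN} (hX : Xᵀ * X.map σ = 1) {z : F} (hz : X ^ r = z • 1) {w : F} (hw : w * σ w = 1) (hwz : w ^ r = z) :
    ∃ W : Submodule F (Fin n → F), finrank F ↥W = m ∧ (∀ u ∈ W, u ≠ 0 → ∃ v ∈ W, Cfsg.hermForm n F q u v ≠ 0) ∧
      W.map (Matrix.toLin' X) ≤ W := by
  have hbo : orderOf ((Fintype.card F : ℕ) : ZMod r) = 1 := by
    rw [PrimeInv.orderOf_eq_one_iff_dvd, hF, ← one_pow 2, Nat.sq_sub_sq]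
    exact dvd_mul_of_dvd_left hdvd _
  obtain ⟨g, hg1, hgi, hgW⟩ := reduce hh hX hz hw hwz
  obtain ⟨W, hWi, hWn, hWr⟩ := exists_of_order (uformH hh) hgi hr hg1 one_pos
    (fun D hD hDi hDn h0 => atom_odd (uformH hh) hgi hqk hF hr hg1 odd_one hbo (by rwa [pow_one]) hD hDi hDn h0)
    (m := m) (by simp [Nat.mod_one]) (by rw [Module.finrank_fin_fun]; exact hmn)
  exact mk_sub hh X W hWr hWn (hgW W hWi)

theorem padic_card {r : ℕ} [Fact r.Prime] (hq2 : 2 ≤ q) (hF : Fintype.card F = q ^ 2) (hd : ¬ r ∣ q - 1) :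
    padicValNat r (Fintype.card F - 1) = padicValNat r (q + 1) := by
  rw [hF, ← one_pow 2, Nat.sq_sub_sq, one_pow, padicValNat.mul (by omega) (by omega),
    padicValNat.eq_zero_of_not_dvd hd, add_zero]

/-- Odd prime divisors of `q + 1`. -/
theorem good_plus_iff [DecidableEq F] (hh : UFrob σ q) {p k : ℕ} [Fact p.Prime] [CharP F p] (hqk : q = p ^ k)
    (hq2 : 2 ≤ q) (hF : Fintype.card F = q ^ 2) {r : ℕ} [Fact r.Prime] (hr : (r : F) ≠ 0) (hr2 : r ≠ 2)
    (hdvd : r ∣ q + 1) {m : ℕ} (hn : 0 < n) (hmn : m ≤ n) :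
    Good F q n m r ↔ (r ∣ m ∨ padicValNat r n ≤ padicValNat r (q + 1)) := by
  have hrp : r.Prime := Fact.out
  have hodd : Odd r := hrp.odd_of_ne_two hr2
  have hnd : ¬ r ∣ q - 1 := fun h => by
    have := Nat.le_of_dvd (by omega) ((Nat.dvd_sub hdvd h))
    have := hrp.two_le
    omega
  have hd : r ∣ Fintype.card F - 1 := by rw [hF, ← one_pow 2, Nat.sq_sub_sq]; exact dvd_mul_of_dvd_left hdvd _
  have hcoef : ((-1 : F) ^ (r + 1)) = 1 := (Odd.add_one hodd).neg_one_pow
  constructor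
  · intro HG
    by_contra hc
    push Not at hc
    obtain ⟨hrm, hlt⟩ := hc
    have hrn : r ∣ n := by
      by_contra h'
      rw [padicValNat.eq_zero_of_not_dvd h'] at hlt
      omega
    obtain ⟨t, rfl⟩ := hrn
    have ht : t ≠ 0 := fun h => by simp [h] at hn
    have hval : padicValNat r (q + 1) ≤ padicValNat r t := by
      rw [padicValNat.mul hrp.ne_zero ht, padicValNat_self] at hlt
      omega
    obtain ⟨z, hzk, hznr⟩ := PrimeInv.exists_non_power (F := F) hd (k := Nat.gcd t (q + 1)) (by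
      rw [padic_card hq2 hF hnd]
      exact Nat.dvd_gcd ((pow_dvd_pow r hval).trans pow_padicValNat_dvd) pow_padicValNat_dvd)
    obtain ⟨u1, hu1⟩ := Nat.gcd_dvd_left t (q + 1)
    obtain ⟨u2, hu2⟩ := Nat.gcd_dvd_right t (q + 1)
    have hzn : z * σ z = 1 := by rw [sigma_eq hh, hu2, pow_mul, hzk, one_pow]
    obtain ⟨X, hX, hXr, hXd⟩ := exists_root_elt (n := r * t) (σ := σ) hrp.pos rfl hzn
    have hdet : X.det = 1 := by
      rw [hXd, (Nat.Odd.sub_odd hodd odd_one).neg_one_pow, one_mul, hu1, pow_mul, hzk, one_pow]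
    obtain ⟨W, hW, hWn, hWi⟩ := HG ⟨X, hdet⟩ ((mem_SU_iff_mul hh).2 hX) ⟨z, (Matrix.SpecialLinearGroup.coe_pow _ _).trans (hXr)⟩
      fun a ha => hznr a (by
        have e := congrFun (congrFun hXr ⟨0, hn⟩) ⟨0, hn⟩
        rw [show X = a • 1 from ha, smul_pow, one_pow] at e
        simpa using e)
    rw [nondeg_iff hh] at hWn
    obtain ⟨w, -, hwz⟩ := exists_root_of_sub (uformH hh) ((iso_iff hh).2 hX) hrp hzn
      (by rw [← Matrix.toLin'_pow, hXr, map_smul, Matrix.toLin'_one]; rfl) (Submodule.map_le_iff_le_comap.1 hWi) hWn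
      (by rwa [hW])
    exact hznr w hwz
  · intro hcase x hx hxr _
    obtain ⟨z, hz⟩ := hxr
    rw [Matrix.SpecialLinearGroup.coe_pow] at hz
    have hX := (mem_SU_iff_mul hh).1 hx
    have hzn := norm_of_pow hh hn hX hz
    by_cases hroot : ∃ w, w ^ r = z
    · obtain ⟨w, hw⟩ := hroot
      refine exists_of_root hh hqk hF hr hdvd hmn hX hz (pow_gcd_one hrp hnd (by rw [mul_pow, ← map_pow, hw, hzn]) ?_) hw
      have ha0 : w * σ w ≠ 0 := fun e => by
        have e' : (w * σ w) ^ r = 1 := by rw [mul_pow, ← map_pow, hw, hzn]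
        rw [e, zero_pow hrp.ne_zero] at e'
        exact zero_ne_one e'
      refine mul_right_cancel₀ ha0 ?_
      rw [← pow_succ, Nat.sub_add_cancel (by omega : 1 ≤ q), one_mul, ← hh.pow, map_mul, hh.invol, mul_comm]
    push Not at hroot
    obtain ⟨hk, hss, t, hnt, hdet⟩ := PrimeInv.killed_of_root hr hz hroot
    rw [x.2, hcoef, one_mul] at hdet
    rcases hcase with hrm | hval
    · obtain ⟨-, hsub⟩ := exists_sub_of_atoms (uformH hh).herm ((iso_iff hh).2 hX) hrp.pos
        (fun D _ hDi hDn h0 => by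
          obtain ⟨U, h1, h2, h3, h4⟩ := atom_killed (uformH hh) ((iso_iff hh).2 hX)
            (hk.irr _ (Finset.mem_singleton_self _)) hDi hDn h0 (fun v _ => by
              have e := hk.kill v trivial
              rwa [Finset.prod_singleton] at e)
          exact ⟨U, h1, h2, h3, h4.trans (hk.deg _ (Finset.mem_singleton_self _))⟩)
        ⊤ le_top (fun v _ => trivial) (uformH hh).herm.nondeg_top
      obtain ⟨a, ha⟩ := hrm
      obtain ⟨W, -, hWi, hWn, hWr⟩ := hsub a (by rw [finrank_top, Module.finrank_fin_fun, mul_comm]; omega)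
      exact mk_sub hh _ W (by rw [hWr, ha, mul_comm]) hWn (Submodule.map_le_iff_le_comap.2 hWi)
    · exfalso
      have ht : t ≠ 0 := fun h => by rw [h, mul_zero] at hnt; omega
      have h1 := PrimeInv.padic_le_of_pow hroot hdet.symm ht
      rw [padic_card hq2 hF hnd] at h1
      rw [hnt, padicValNat.mul hrp.ne_zero ht, padicValNat_self] at hval
      omega

/-- Odd characteristic, `r = 2`. -/
theorem good_two_iff [DecidableEq F] (hh : UFrob σ q) {p k : ℕ} [Fact p.Prime] [CharP F p] (hqk : q = p ^ k)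
    (hq2 : 2 ≤ q) (hF : Fintype.card F = q ^ 2) (hp2 : p ≠ 2) (hqodd : Odd q) {m : ℕ} (hn : 0 < n) (hmn : m ≤ n) :
    Good F q n m 2 ↔ (Odd n ∨ Even m ∨ (padicValNat 2 n ≤ padicValNat 2 (q + 1) ∧ q % 4 = 3)) := by
  haveI : Fact (Nat.Prime 2) := ⟨Nat.prime_two⟩
  have h2 : ((2 : ℕ) : F) ≠ 0 := cast_ne_zero_of_prime_ne Nat.prime_two (Ne.symm hp2)
  have h2' : (2 : F) ≠ 0 := by exact_mod_cast h2
  have hdvd : 2 ∣ q + 1 := (hqodd.add_one).two_dvd
  obtain ⟨h, hh2⟩ := hdvd
  have hneg : (-1 : F) ≠ 1 := fun e => h2' (by linear_combination -e)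
  constructor
  · intro HG
    by_contra hc
    push Not at hc
    obtain ⟨hne, hmo, hlast⟩ := hc
    obtain ⟨t, ht'⟩ : 2 ∣ n := (Nat.not_odd_iff_even.1 hne).two_dvd
    subst ht'
    obtain ⟨z, hzh, hzt⟩ : ∃ z : F, z ^ h = -1 ∧ (-z) ^ t = 1 := by
      by_cases hq4 : q % 4 = 3
      · obtain ⟨v, hv⟩ : ∃ v, v = padicValNat 2 (q + 1) := ⟨_, rfl⟩
        have hlt : padicValNat 2 (q + 1) < padicValNat 2 (2 * t) := by
          by_contra h'
          exact hlast (not_lt.1 h') hq4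
        rw [padicValNat.mul two_ne_zero (by omega), padicValNat_self, ← hv] at hlt
        have hvt : 2 ^ v ∣ t := (pow_dvd_pow 2 (by omega)).trans pow_padicValNat_dvd
        have hvq : 2 ^ v ∣ q + 1 := hv ▸ pow_padicValNat_dvd
        have hv2 : 2 ≤ v := hv ▸ (padicValNat_dvd_iff_le (by omega)).1 (show 2 ^ 2 ∣ q + 1 by omega)
        obtain ⟨o, ho⟩ := hvq
        have hoo : Odd o := Nat.not_even_iff_odd.1 fun ⟨a, ha⟩ =>
          pow_succ_padicValNat_not_dvd (p := 2) (n := q + 1) (by omega) ⟨a, by rw [← hv, ho, ha, pow_succ]; ring⟩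
        obtain ⟨g, hg⟩ := IsCyclic.exists_generator (α := Fˣ)
        have hord : orderOf g = Fintype.card F - 1 := by
          rw [orderOf_eq_card_of_forall_mem_zpowers hg, Nat.card_eq_fintype_card, Fintype.card_units]
        have hcard : Fintype.card F - 1 = 2 ^ v * (o * (q - 1)) := by
          rw [hF, ← one_pow 2, Nat.sq_sub_sq, one_pow, ho, mul_assoc]
        obtain ⟨w, hw⟩ : ∃ w, v = w + 1 := ⟨v - 1, by omega⟩
        have hs0 : o * (q - 1) ≠ 0 := Nat.mul_ne_zero (by obtain ⟨a, ha⟩ := hoo; omega) (by omega)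
        have hu : ((g ^ (o * (q - 1)) : Fˣ) : F) ^ (2 ^ w) = -1 := by
          have h1 : (((g ^ (o * (q - 1)) : Fˣ) : F) ^ (2 ^ w)) * (((g ^ (o * (q - 1)) : Fˣ) : F) ^ (2 ^ w)) = 1 := by
            rw [← pow_add, ← two_mul, ← pow_succ', ← hw, ← Units.val_pow_eq_pow_val, ← pow_mul, mul_comm, ← hcard, ← hord,
              pow_orderOf_eq_one, Units.val_one]
          refine (mul_self_eq_one_iff.1 h1).resolve_left fun h2 => ?_
          rw [← Units.val_pow_eq_pow_val, ← pow_mul, Units.val_eq_one, ← orderOf_dvd_iff_pow_eq_one, hord, hcard,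
            mul_comm (2 ^ v)] at h2
          have := Nat.le_of_dvd (by positivity) (Nat.dvd_of_mul_dvd_mul_left (Nat.pos_of_ne_zero hs0) h2)
          rw [hw, pow_succ] at this
          have : 0 < 2 ^ w := by positivity
          omega
        generalize ((g ^ (o * (q - 1)) : Fˣ) : F) = u at hu
        have hh' : h = 2 ^ w * o := by
          rw [hw, pow_succ] at ho
          have : 2 * h = 2 * (2 ^ w * o) := by rw [← hh2, ho]; ring
          omega
        refine ⟨-u, ?_, ?_⟩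
        · rw [Even.neg_pow (by rw [hh']; exact (Nat.even_pow.2 ⟨even_two, by omega⟩).mul_right o), hh', pow_mul, hu,
            hoo.neg_one_pow]
        · obtain ⟨a, rfl⟩ := hvt
          rw [neg_neg, pow_mul, hw, pow_succ, pow_mul, hu, neg_one_sq, one_pow]
      · refine ⟨-1, ?_, by rw [neg_neg, one_pow]⟩
        refine Odd.neg_one_pow (Nat.odd_iff.2 ?_)
        obtain ⟨a, ha⟩ := hqodd
        omega
    have hzn : z * σ z = 1 := by rw [sigma_eq hh, hh2, mul_comm 2 h, pow_mul, hzh, neg_one_sq]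
    have hnr : ∀ w, w * σ w = 1 → w ^ 2 ≠ z := fun w hw e => by
      rw [← e, ← pow_mul, ← hh2, ← sigma_eq hh, hw] at hzh
      exact hneg hzh.symm
    obtain ⟨X, hX, hXr, hXd⟩ := exists_root_elt (n := 2 * t) (σ := σ) two_pos rfl hzn
    have hdet : X.det = 1 := by
      rw [hXd, show (-1 : F) ^ (2 - 1) * z = -z by norm_num]
      exact hzt
    obtain ⟨W, hW, hWn, hWi⟩ := HG ⟨X, hdet⟩ ((mem_SU_iff_mul hh).2 hX) ⟨z, (Matrix.SpecialLinearGroup.coe_pow _ _).trans (hXr)⟩
      fun a ha => hnr a (norm_of_scalar hh hn hX ha) (by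
        have e := congrFun (congrFun hXr ⟨0, hn⟩) ⟨0, hn⟩
        rw [show X = a • 1 from ha, smul_pow, one_pow] at e
        simpa using e)
    rw [nondeg_iff hh] at hWn
    obtain ⟨w, hwn, hwz⟩ := exists_root_of_sub (uformH hh) ((iso_iff hh).2 hX) Nat.prime_two hzn
      (by rw [← Matrix.toLin'_pow, hXr, map_smul, Matrix.toLin'_one]; rfl) (Submodule.map_le_iff_le_comap.1 hWi) hWn
      (by rw [hW]; exact fun h => hmo (even_iff_two_dvd.2 h))
    exact hnr w hwn hwz
  · intro hcase x hx hxr _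
    obtain ⟨z, hz⟩ := hxr
    rw [Matrix.SpecialLinearGroup.coe_pow] at hz
    have hX := (mem_SU_iff_mul hh).1 hx
    have hzn := norm_of_pow hh hn hX hz
    have hz0 : z ≠ 0 := left_ne_zero_of_mul_eq_one hzn
    obtain ⟨c, hc⟩ : ∃ c, c ^ 2 = z := by
      obtain ⟨a, ha⟩ := hqodd
      have hring : ringChar F ≠ 2 := fun e => hp2 (by rw [← ringChar.eq F p, e])
      obtain ⟨c, hc⟩ := (FiniteField.isSquare_iff hring hz0).2 (by
        rw [hF, show q ^ 2 / 2 = (q + 1) * a from Nat.div_eq_of_lt_le (by subst ha; ring_nf; omega) (by subst ha; ring_nf; omega),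
          pow_mul, ← sigma_eq hh, hzn, one_pow])
      exact ⟨c, by rw [hc, sq]⟩
    rcases mul_self_eq_one_iff.1 (show (c * σ c) * (c * σ c) = 1 by rw [← hzn, ← hc, map_pow]; ring) with hcn | hcn
    · exact exists_of_root hh hqk hF h2 (by omega) hmn hX hz hcn hc
    have hc0 : c ≠ 0 := fun e => by rw [e, zero_mul] at hcn; exact neg_ne_zero.2 one_ne_zero hcn.symm
    obtain ⟨g, hg⟩ : ∃ g : Module.End F (Fin n → F), g = c⁻¹ • Matrix.toLin' (x : MN) := ⟨_, rfl⟩
    have hgg : ∀ v, g (g v) = v := fun v => by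
      rw [hg, LinearMap.smul_apply, LinearMap.smul_apply, map_smul, smul_smul, ← LinearMap.comp_apply, ← Matrix.toLin'_mul,
        ← pow_two (x : MN), hz, map_smul, Matrix.toLin'_one, LinearMap.smul_apply, LinearMap.id_apply, smul_smul, ← hc, sq]
      rw [show c⁻¹ * c⁻¹ * (c * c) = 1 by field_simp, one_smul]
    have hgi : ∀ u v, H σ n (g u) (g v) = -H σ n u v := fun u v => by
      simp only [hg, LinearMap.smul_apply, map_smul, map_smulₛₗ, smul_eq_mul, (iso_iff hh).2 hX, map_inv₀]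
      rw [← mul_assoc, ← mul_inv, mul_comm (σ c) c, hcn, inv_neg_one, neg_one_mul]
    obtain ⟨t, hnt, hgd⟩ := det_two (uformH hh) h2' hgg hgi
    rw [Module.finrank_fin_fun] at hnt
    have hdet : (-z) ^ t = 1 := by
      have e : Matrix.toLin' (x : MN) = c • g := by rw [hg, smul_smul, mul_inv_cancel₀ hc0, one_smul]
      have e' := congrArg LinearMap.det e
      rw [LinearMap.det_toLin', x.2, LinearMap.det_smul, Module.finrank_fin_fun, hgd, hnt, pow_mul, hc, ← mul_pow,
        mul_neg_one] at e'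
      exact e'.symm
    rcases hcase with ho | he | ⟨hval, hq4⟩
    · obtain ⟨a, ha⟩ := ho
      omega
    · obtain ⟨-, hsub⟩ := exists_sub_of_atoms (uformH hh).herm ((iso_iff hh).2 hX) two_pos
        (fun D _ hDi hDn h0 => by
          obtain ⟨U, h1, h2, h3, h4⟩ := atom_plane (uformH hh) h2' hgg hgi (D := D)
            (fun v hv => by rw [hg, LinearMap.smul_apply]; exact D.smul_mem _ (hDi v hv)) hDn h0
          refine ⟨U, h1, fun v hv => ?_, h3, h4⟩
          have := U.smul_mem c (h2 v hv)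
          rwa [hg, LinearMap.smul_apply, smul_smul, mul_inv_cancel₀ hc0, one_smul] at this)
        ⊤ le_top (fun v _ => trivial) (uformH hh).herm.nondeg_top
      obtain ⟨a, ha⟩ := he.two_dvd
      obtain ⟨W, -, hWi, hWn, hWr⟩ := hsub a (by rw [finrank_top, Module.finrank_fin_fun]; omega)
      exact mk_sub hh _ W (by omega) hWn (Submodule.map_le_iff_le_comap.2 hWi)
    · exfalso
      subst hnt
      have ht : t ≠ 0 := by omega
      rw [padicValNat.mul two_ne_zero ht, padicValNat_self] at hval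
      obtain ⟨s, hs⟩ : ∃ s, s = padicValNat 2 t := ⟨_, rfl⟩
      obtain ⟨o, ho⟩ : 2 ^ s ∣ t := hs ▸ pow_padicValNat_dvd
      have hoo : Odd o := Nat.not_even_iff_odd.1 fun ⟨a, ha⟩ =>
        pow_succ_padicValNat_not_dvd (p := 2) (n := t) ht ⟨a, by rw [← hs, ho, ha, pow_succ]; ring⟩
      have hzh : (-z) ^ h = -1 := by
        rw [Even.neg_pow (Nat.even_iff.2 (by omega)), ← hc, ← pow_mul, ← hh2, ← sigma_eq hh, hcn]
      obtain ⟨u, hu⟩ : 2 ^ (s + 1) ∣ q + 1 := (pow_dvd_pow 2 (by omega)).trans pow_padicValNat_dvd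
      have e : h = 2 ^ s * u := by
        have : 2 * h = 2 * (2 ^ s * u) := by rw [← hh2, hu, pow_succ]; ring
        omega
      have e1 : (-z) ^ (h * o) = 1 := by
        rw [show h * o = t * u by rw [e, ho]; ring, pow_mul, hdet, one_pow]
      rw [pow_mul, hzh, hoo.neg_one_pow] at e1
      exact hneg e1

/-- The other primes. -/
theorem good_other_iff [DecidableEq F] (hh : UFrob σ q) {p k : ℕ} [Fact p.Prime] [CharP F p] (hqk : q = p ^ k)
    (hF : Fintype.card F = q ^ 2) {r : ℕ} [Fact r.Prime] (hr : (r : F) ≠ 0) (hdq : ¬ r ∣ q + 1) {m c : ℕ} (hn : 0 < n)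
    (hc0 : 0 < c) (hpow : (-(q : ZMod r)) ^ c = 1)
    (atom : ∀ {j : ℕ} {g : Module.End F (Fin j → F)}, (∀ u v, H σ j (g u) (g v) = H σ j u v) → g ^ r = 1 →
      ∀ D ≤ movSp g, Inv g D → Nondeg (H σ j) D → D ≠ ⊥ →
        ∃ U ≤ D, Inv g U ∧ Nondeg (H σ j) U ∧ finrank F U = c)
    (hmn : m ≤ n) (hlt : n % c < m) :
    Good F q n m r ↔ (c ≤ m ∧ m % c ≤ n % c) := by
  have hrp : r.Prime := Fact.out
  have hFN : Nat.card F = q ^ 2 := by rw [Nat.card_eq_fintype_card, hF]
  constructor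
  · intro HG
    obtain ⟨A, hA, hAr, hA1⟩ := exists_order hFN hh (r := r) hc0 hpow
    have hg1 : Matrix.toLin' A ^ r = 1 := by rw [← Matrix.toLin'_pow, hAr, Matrix.toLin'_one]; rfl
    have hAfix : ∀ v, A.mulVec v = v → v = 0 := by
      have hi := (iso_iff hh).2 hA
      obtain ⟨⟨b, hb⟩, -⟩ := exists_sub_of_atoms (uformH hh).herm hi hc0 (atom hi hg1) (movSp (Matrix.toLin' A))
        le_rfl inv_movSp (nondeg_movSp hr hg1 (uformH hh).herm hi)
      have hdim := Submodule.finrank_add_eq_of_isCompl (isCompl_fix_mov (f := Matrix.toLin' A) hr hg1)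
      rw [Module.finrank_fin_fun] at hdim
      have hb0 : b ≠ 0 := fun e => hA1 (by
        rw [e, mul_zero, Submodule.finrank_eq_zero, movSp, LinearMap.range_eq_bot, sub_eq_zero] at hb
        exact Matrix.toLin'.injective (hb.trans Matrix.toLin'_one.symm))
      have h0 : finrank F (fixSp (Matrix.toLin' A)) = 0 := by
        have := Nat.le_mul_of_pos_right c (Nat.pos_of_ne_zero hb0)
        omega
      intro v hv
      have hv' : v ∈ fixSp (Matrix.toLin' A) := mem_fixSp.2 (by rwa [Matrix.toLin'_apply])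
      rw [Submodule.finrank_eq_zero.1 h0] at hv'
      exact (Submodule.mem_bot F).1 hv'
    obtain ⟨X, hX, hXr, hXfix⟩ := exists_fix_le hA hAr hAfix (n := n) (N := n / c) (k := n % c) (Nat.div_add_mod n c)
    have hdet : X.det = 1 := by
      refine pow_gcd_one hrp hdq (by rw [← Matrix.det_pow, hXr, Matrix.det_one]) ?_
      rw [← sigma_eq hh]
      exact det_norm hX
    obtain ⟨W, hW, hWn, hWi⟩ := HG ⟨X, hdet⟩ ((mem_SU_iff_mul hh).2 hX)
      ⟨1, (Matrix.SpecialLinearGroup.coe_pow _ _).trans (by rw [one_smul]; exact hXr)⟩ (fun a ha => by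
        have ha1 : a = 1 := pow_gcd_one hrp hdq (by
          have e := congrFun (congrFun hXr ⟨0, hn⟩) ⟨0, hn⟩
          rw [show X = a • 1 from ha, smul_pow, one_pow] at e
          simpa using e) (by rw [← sigma_eq hh]; exact norm_of_scalar hh hn hX ha)
        have htop : fixSp (Matrix.toLin' X) = ⊤ := Submodule.eq_top_iff'.2 fun v => mem_fixSp.2 (by
          rw [show X = a • 1 from ha, ha1, one_smul, Matrix.toLin'_one, LinearMap.id_apply])
        rw [htop, finrank_top, Module.finrank_fin_fun] at hXfix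
        have := Nat.mod_le n c
        omega)
    rw [nondeg_iff hh] at hWn
    have hgiso := (iso_iff hh).2 hX
    have hg : Matrix.toLin' X ^ r = 1 := by rw [← Matrix.toLin'_pow, hXr, Matrix.toLin'_one]; rfl
    have hWi' : Inv (Matrix.toLin' X) W := Submodule.map_le_iff_le_comap.1 hWi
    set f : Module.End F (Fin n → F) := Matrix.toLin' X with hf
    have hs := split_inv hr hg hWi'
    have hsplit : (W ⊓ fixSp f) ⊔ (W ⊓ movSp f) = W := by
      refine Submodule.eq_of_le_of_finrank_le (sup_le inf_le_left inf_le_left) ?_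
      have h1 := Submodule.finrank_sup_add_finrank_inf_eq (W ⊓ fixSp f) (W ⊓ movSp f)
      rw [((isCompl_fix_mov hr hg).disjoint.mono inf_le_right inf_le_right).eq_bot, finrank_bot, add_zero, ← hs] at h1
      exact h1.ge
    have hDn : Nondeg (UnitNondeg.H σ n) (W ⊓ movSp f : Submodule F (Fin n → F)) := by
      intro u hu hu'
      refine hWn u hu.1 fun v hv => ?_
      rw [← hsplit] at hv
      obtain ⟨v1, hv1, v2, hv2, rfl⟩ := Submodule.mem_sup.1 hv
      rw [map_add, (orth_fix_mov (uformH hh).herm hgiso v1 hv1.2 u hu.2).2, zero_add]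
      exact hu' v2 hv2
    obtain ⟨⟨b, hb⟩, -⟩ := exists_sub_of_atoms (uformH hh).herm hgiso hc0 (atom hgiso hg)
      (W ⊓ movSp f) inf_le_right (hWi'.inf inv_movSp) hDn
    have hl := Submodule.finrank_mono (inf_le_right : W ⊓ fixSp f ≤ fixSp f)
    rw [hW, hb] at hs
    have hkc := Nat.mod_lt n hc0
    refine ⟨?_, ?_⟩
    · rcases Nat.eq_zero_or_pos b with rfl | hb0
      · omega
      · have := Nat.le_mul_of_pos_right c hb0
        omega
    · rw [hs, Nat.add_mul_mod_self_left, Nat.mod_eq_of_lt (by omega)]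
      omega
  · intro hcond x hx hxr _
    obtain ⟨z, hz⟩ := hxr
    rw [Matrix.SpecialLinearGroup.coe_pow] at hz
    have hX := (mem_SU_iff_mul hh).1 hx
    have hzn := norm_of_pow hh hn hX hz
    have hq1 : 1 < q + 1 := by
      have := two_le_q hFN; omega
    obtain ⟨a, -, ha⟩ := Nat.exists_mul_mod_eq_one_of_coprime (hrp.coprime_iff_not_dvd.2 hdq) hq1
    have hwz : (z ^ a) ^ r = z := by
      rw [← pow_mul, mul_comm a r, ← Nat.mod_add_div (r * a) (q + 1), ha, pow_add, pow_one, pow_mul, ← sigma_eq hh, hzn,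
        one_pow, mul_one]
    have hwn : z ^ a * σ (z ^ a) = 1 := by rw [map_pow, ← mul_pow, hzn, one_pow]
    obtain ⟨g, hg1, hgi, hgW⟩ := reduce hh hX hz hwn hwz
    obtain ⟨W, hWi, hWn, hWr⟩ := exists_of_order (uformH hh) hgi hr hg1 hc0 (atom hgi hg1) (m := m)
      (by rw [Module.finrank_fin_fun]; exact hcond.2) (by rw [Module.finrank_fin_fun]; exact hmn)
    exact mk_sub hh _ W hWr hWn (hgW W hWi)

/-- Elements of prime order of PSU_n(q) with no fixed nondegenerate `m`-space. Here `T = PSU_n(q)` (`n ≥ 3`, `(n, q) ≠ (3, 2)`), realised through the matrices of determinant 1 over the field `F` with `q²` elements preserving the Hermitian form `h(u, v) = Σ u_i v_i^q`; an element of `T` of prime order `r` is such a matrix `x` with `x^r` scalar and `x` not scalar. For `r ≠ p` let `i` be the multiplicative order of `q` modulo `r`, `b = i/2` for `i` even and `b = i` for `i` odd, `c = i, i/2, 2i` according as `i ≡ 0, 2 (mod 4)` or `i` odd, and write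 `k = n mod c`, `ℓ = m mod b`, `ℓ' = m mod c`, `n' = ⌊n/b⌋`, `m' = ⌊m/b⌋`, `s = (r−1)/b`; `(a)_r` is the `r`-part of `a`. Let `1 ≤ m < n/2` and let `r` be a prime dividing the number of nondegenerate `m`-spaces. Then every element of `T` of order `r` fixes a nondegenerate `m`-space if and only if one of: (i) `r = p > 2` and every partition of `n` into parts of size at most `p` contains (as a sub-multiset) a partition of `m`; (ii) `r = p = 2` and (`n` is odd or `m` is even); (iii) `r = 2 ≠ p` and (`n` is odd, or `m` is even, or `(q+1)_2 ≥ (n)_2` and `q ≡ 3 (mod 4)`); (iv) `r ≠ p`, `r > 2`, and either `i ≠ 2`, `c ≤ m` and `k ≥ ℓ'`, or `i = 2` and (`r ∣ m` or `(q+1)_r ≥ (n)_r`). -/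
theorem result {F : Type*} [Field F] [Fintype F] {p : ℕ} [Fact p.Prime] [CharP F p] {q : ℕ} (hq : Fintype.card F = q ^ 2)
    (n m : ℕ) (hn : 3 ≤ n) (hT : (n, q) ≠ (3, 2)) (hm : 1 ≤ m) (hmn : 2 * m < n)
    (r : ℕ) [Fact r.Prime]
    (hrΩ : r ∣ Nat.card {W : Submodule F (Fin n → F) // Module.finrank F ↥W = m ∧ (∀ u ∈ W, u ≠ 0 → ∃ v ∈ W, Cfsg.hermForm n F q u v ≠ 0)})
    (i b c : ℕ) (hi : i = orderOf (q : ZMod r)) (hb : b = if Even i then i / 2 else i)
    (hc : c = if i % 4 = 0 then i else if i % 4 = 2 then i / 2 else 2 * i) :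
    (∀ x : Matrix.SpecialLinearGroup (Fin n) F, x ∈ Cfsg.SU n F q →
      (∃ z : F, ((x ^ r : Matrix.SpecialLinearGroup (Fin n) F) : Matrix (Fin n) (Fin n) F) = z • (1 : Matrix (Fin n) (Fin n) F)) →
      (∀ z : F, (x : Matrix (Fin n) (Fin n) F) ≠ z • (1 : Matrix (Fin n) (Fin n) F)) →
      ∃ W : Submodule F (Fin n → F), Module.finrank F ↥W = m ∧ (∀ u ∈ W, u ≠ 0 → ∃ v ∈ W, Cfsg.hermForm n F q u v ≠ 0) ∧
        W.map (Matrix.toLin' (x : Matrix (Fin n) (Fin n) F)) ≤ W) ↔
    ((r = p ∧ 2 < p ∧ (∀ μ : Multiset ℕ, (∀ a ∈ μ, 0 < a ∧ a ≤ p) → μ.sum = n → ∃ ν : Multiset ℕ, ν ≤ μ ∧ ν.sum = m)) ∨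
     (r = p ∧ p = 2 ∧ (Odd n ∨ Even m)) ∨
     (r = 2 ∧ p ≠ 2 ∧ (Odd n ∨ Even m ∨ (padicValNat 2 n ≤ padicValNat 2 (q + 1) ∧ q % 4 = 3))) ∨
     (r ≠ p ∧ 2 < r ∧ ((i ≠ 2 ∧ c ≤ m ∧ m % c ≤ n % c) ∨ (i = 2 ∧ (r ∣ m ∨ padicValNat r n ≤ padicValNat r (q + 1)))))) := by
  classical
  change Good F q n m r ↔ _
  have hp : p.Prime := Fact.out
  have hrp : r.Prime := Fact.out
  have hFN : Nat.card F = q ^ 2 := by rw [Nat.card_eq_fintype_card, hq]
  have hq2 : 2 ≤ q := two_le_q hFN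
  obtain ⟨σ, hh⟩ := exists_uFrob hFN
  obtain ⟨k, hqk⟩ : ∃ k, q = p ^ k := by
    obtain ⟨N, -, hN⟩ := FiniteField.card F p
    rw [hq] at hN
    obtain ⟨k, -, hk⟩ := (Nat.dvd_prime_pow hp).1 (hN ▸ dvd_pow_self q two_ne_zero)
    exact ⟨k, hk⟩
  have hmn' : m ≤ n := by omega
  by_cases hrp' : r = p
  · subst hrp'
    rw [good_char_iff hh r (by omega) hmn']
    constructor
    · intro H
      by_cases h2 : r = 2
      · subst h2
        refine Or.inr (Or.inl ⟨rfl, rfl, ?_⟩)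
        by_contra hc'
        push Not at hc'
        obtain ⟨t, ht⟩ := (Nat.not_odd_iff_even.1 hc'.1)
        obtain ⟨ν, hν, hνs⟩ := H (Multiset.replicate t 2) (fun a ha => by rw [Multiset.eq_of_mem_replicate ha]; omega)
          (by rw [Multiset.sum_replicate, smul_eq_mul]; omega)
        refine hc'.2 ⟨Multiset.card ν, ?_⟩
        have e := Multiset.eq_replicate_card.2 fun a ha => Multiset.eq_of_mem_replicate (Multiset.mem_of_le hν ha)
        rw [← hνs, e, Multiset.sum_replicate, Multiset.card_replicate, smul_eq_mul]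
        omega
      · exact Or.inl ⟨rfl, lt_of_le_of_ne hp.two_le (Ne.symm h2), H⟩
    · rintro (⟨-, -, H⟩ | ⟨-, h2, H⟩ | ⟨h2, h', -⟩ | ⟨h', -⟩)
      · exact H
      · subst h2
        exact fun μ hμ hs => sub_one_two hmn H hμ hs
      · exact absurd h2 h'
      · exact absurd rfl h'
  have hr : (r : F) ≠ 0 := cast_ne_zero_of_prime_ne hrp hrp'
  have hrq : ¬ r ∣ q := fun h => hrp' ((Nat.prime_dvd_prime_iff_eq hrp hp).1 (hrp.dvd_of_dvd_pow (hqk ▸ h)))
  by_cases hr2 : r = 2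
  · subst hr2
    rw [good_two_iff hh hqk hq2 hq (Ne.symm hrp') (Nat.not_even_iff_odd.1 fun h => hrq h.two_dvd) (by omega) hmn']
    constructor
    · exact fun H => Or.inr (Or.inr (Or.inl ⟨rfl, Ne.symm hrp', H⟩))
    · rintro (⟨h', -⟩ | ⟨h', -⟩ | ⟨-, -, H⟩ | ⟨-, h', -⟩)
      · exact absurd h' hrp'
      · exact absurd h' hrp'
      · exact H
      · exact absurd h' (lt_irrefl 2)
  have hr3 : 2 < r := lt_of_le_of_ne hrp.two_le (Ne.symm hr2)
  haveI : Fact (2 < r) := ⟨hr3⟩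
  have hqr0 : (q : ZMod r) ≠ 0 := fun e => hrq ((ZMod.natCast_eq_zero_iff q r).1 e)
  have hi0 : 0 < i := hi ▸ orderOf_pos_iff.2 (isOfFinOrder_iff_pow_eq_one.2
    ⟨r - 1, by omega, ZMod.pow_card_sub_one_eq_one hqr0⟩)
  have hneg : (-1 : ZMod r) ≠ 1 := ZMod.neg_one_ne_one
  have hplus : ∀ t, (r ∣ q ^ t + 1) ↔ (q : ZMod r) ^ t = -1 := fun t => by
    rw [← ZMod.natCast_eq_zero_iff, Nat.cast_add, Nat.cast_pow, Nat.cast_one, add_eq_zero_iff_eq_neg]
  have hord : ∀ t, (q : ZMod r) ^ t = 1 ↔ i ∣ t := fun t => by rw [hi, orderOf_dvd_iff_pow_eq_one]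
  have hhalf : ∀ t, i = 2 * t → (q : ZMod r) ^ t = -1 := fun t ht => by
    refine (mul_self_eq_one_iff.1 ?_).resolve_left fun e => ?_
    · rw [← pow_add, hord]; exact ⟨1, by omega⟩
    · have := Nat.le_of_dvd (by omega) ((hord t).1 e)
      omega
  have hi2 : i = 2 ↔ r ∣ q + 1 := by
    constructor
    · intro h
      have := (hplus 1).2 (hhalf 1 (by omega))
      rwa [pow_one] at this
    · intro h
      have e := (hplus 1).1 (by rwa [pow_one])
      have h2 : i ∣ 2 := (hord 2).1 (by rw [show 2 = 1 + 1 from rfl, pow_add, e, neg_one_mul, neg_neg])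
      rcases (Nat.dvd_prime Nat.prime_two).1 h2 with h1 | h1
      · exact absurd (e.symm.trans ((hord 1).2 (by rw [h1]))) hneg
      · exact h1
  by_cases hdvd : r ∣ q + 1
  · rw [good_plus_iff hh hqk hq2 hq hr hr2 hdvd (by omega) hmn']
    constructor
    · exact fun H => Or.inr (Or.inr (Or.inr ⟨hrp', hr3, Or.inr ⟨hi2.2 hdvd, H⟩⟩))
    · rintro (⟨h', -⟩ | ⟨h', -⟩ | ⟨h', -⟩ | ⟨-, -, ⟨h', -⟩ | ⟨-, H⟩⟩)
      · exact absurd h' hrp'
      · exact absurd h' hrp'
      · exact absurd h' hr2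
      · exact absurd (hi2.2 hdvd) h'
      · exact H
  have hbo : orderOf ((Fintype.card F : ℕ) : ZMod r) = b := by
    rw [hq, Nat.cast_pow, orderOf_pow' _ two_ne_zero, ← hi, hb]
    split_ifs with h
    · rw [Nat.gcd_eq_right h.two_dvd]
    · rw [(Nat.coprime_two_right.2 (Nat.not_even_iff_odd.1 h)).gcd_eq_one, Nat.div_one]
  have hcdvd : ∀ j, (-(q : ZMod r)) ^ j = 1 → c ∣ j := by
    intro j hj
    have h2 : i ∣ 2 * j := (hord _).1 (by rw [← (even_two_mul j).neg_pow, mul_comm, pow_mul, hj, one_pow])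
    rcases Nat.even_or_odd j with hje | hjo
    · rw [hje.neg_pow] at hj
      have h1 := (hord j).1 hj
      rw [hc]; split_ifs with h4 h4'
      · exact h1
      · exact (Nat.div_dvd_of_dvd (by omega)).trans h1
      · exact (Nat.coprime_two_left.2 (Nat.odd_iff.2 (by omega))).mul_dvd_of_dvd_of_dvd hje.two_dvd h1
    · rw [hjo.neg_pow, neg_eq_iff_eq_neg] at hj
      have hne : i % 4 = 2 := by
        rcases Nat.even_or_odd i with he | ho
        · obtain ⟨t, ht⟩ := he
          have h3 : t ∣ j := Nat.dvd_of_mul_dvd_mul_left two_pos (by rwa [← two_mul, ← ht] at *)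
          have : Odd t := hjo.of_dvd_nat h3
          obtain ⟨a, ha⟩ := this
          omega
        · have h1 := (hord j).2 ((Nat.coprime_two_right.2 ho).dvd_of_dvd_mul_left h2)
          exact absurd (hj.symm.trans h1) hneg
      rw [hc, if_neg (by omega), if_pos hne]
      exact Nat.dvd_of_mul_dvd_mul_left two_pos (by rwa [show 2 * (i / 2) = i by omega])
  have hpow : (-(q : ZMod r)) ^ c = 1 := by
    rw [hc]; split_ifs with h4 h4'
    · rw [Even.neg_pow (Nat.even_iff.2 (by omega)), hord]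
    · rw [Odd.neg_pow (Nat.odd_iff.2 (by omega)), hhalf (i / 2) (by omega), neg_neg]
    · rw [(even_two_mul i).neg_pow, hord]
      exact dvd_mul_left i 2
  have hc0 : 0 < c := by rw [hc]; split_ifs <;> omega
  obtain ⟨j, hj1, hj2, hj3⟩ := exists_dvd_of_dvd_card hFN hh hrp hrq hmn' hrΩ
  have hlt : n % c < m := PrimeInv.mod_lt_of_dvd hc0 hj1 hj2 (hcdvd j hj3)
  rw [good_other_iff hh hqk hq hr hdvd (by omega) hc0 hpow (fun {l g} hgi hg D hD hDi hDn h0 => by
    by_cases h4 : i % 4 = 2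
    · have hbc : c = b := by rw [hc, hb, if_neg (by omega), if_pos h4, if_pos (Nat.even_iff.2 (by omega))]
      have hbi : b = i / 2 := by rw [hb, if_pos (Nat.even_iff.2 (by omega))]
      rw [hbc]
      exact atom_odd (uformH hh) hgi hqk hq hr hg (b := b) (Nat.odd_iff.2 (by omega)) hbo
        ((hplus b).2 (hhalf b (by omega))) hD hDi hDn h0
    · have hbc : c = 2 * b := by
        rw [hc, hb, if_neg h4]
        split_ifs with h1 h2 h2 <;> simp only [Nat.even_iff, Nat.not_even_iff] at * <;> omega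
      rw [hbc]
      refine atom_even (uformH hh) hgi hqk hq hr hg (fun t ht hd => h4 ?_) hrq hbo hD hDi hDn h0
      have e := (hplus t).1 hd
      have h2 : i ∣ 2 * t := (hord _).1 (by rw [two_mul, pow_add, e, neg_one_mul, neg_neg])
      rcases Nat.even_or_odd i with he | ho
      · obtain ⟨s, hs⟩ := he
        have h3 : s ∣ t := Nat.dvd_of_mul_dvd_mul_left two_pos (by rwa [← two_mul, ← hs] at *)
        obtain ⟨a, ha⟩ := ht.of_dvd_nat h3
        omega
      · exact absurd (e.symm.trans ((hord t).2 ((Nat.coprime_two_right.2 ho).dvd_of_dvd_mul_left h2))) hneg)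
    hmn' hlt]
  constructor
  · exact fun H => Or.inr (Or.inr (Or.inr ⟨hrp', hr3, Or.inl ⟨fun h => hdvd (hi2.1 h), H⟩⟩))
  · rintro (⟨h', -⟩ | ⟨h', -⟩ | ⟨h', -⟩ | ⟨-, -, ⟨-, H⟩ | ⟨h', -⟩⟩)
    · exact absurd h' hrp'
    · exact absurd h' hrp'
    · exact absurd h' hr2
    · exact H
    · exact absurd (hi2.1 h') hdvd

end Cfsg.Agent.S5954
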