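import Cfsg.Statements.S5953
import Cfsg.Agent.Lib.ThreeTransp.UnitTI
import Cfsg.Agent.S5954

set_option autoImplicit false
set_option linter.unusedSectionVars false
open scoped MatrixGroups Matrix
open Cfsg

namespace Cfsg.Agent.S5953

open Module Polynomial CfsgLib.PrimeOrderSp CfsgLib.Classical CfsgLib.Classical.Unitary CfsgLib.ThreeTransp
open CfsgLib.ThreeTransp.UnitAtoms CfsgLib.ThreeTransp.UnitNondeg CfsgLib.ThreeTransp.UnitTI CfsgLib.KnownB.PrimeOrder
open Cfsg.Agent.S5954 (sigma_eq norm_of_scalar norm_of_pow reduce pow_gcd_one)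

universe u

variable {F : Type u} [Field F] [Fintype F] {σ : F →+* F} {q n m r : ℕ}

local notation "MN" => Matrix (Fin n) (Fin n) F

theorem ti_iff (hh : UFrob σ q) {W : Submodule F (Fin n → F)} :
    (∀ u ∈ W, ∀ v ∈ W, Cfsg.hermForm n F q u v = 0) ↔ TI (H σ n) W := by
  simp only [TI, H_apply hh]

/-- Elements of the special group with scalar power. -/
def Good (F : Type u) [Field F] (q n m r : ℕ) : Prop :=
  ∀ x : Matrix.SpecialLinearGroup (Fin n) F, x ∈ Cfsg.SU n F q →
    (∃ z : F, ((x ^ r : Matrix.SpecialLinearGroup (Fin n) F) : Matrix (Fin n) (Fin n) F) = z • (1 : Matrix (Fin n) (Fin n) F)) →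
    (∀ z : F, (x : Matrix (Fin n) (Fin n) F) ≠ z • (1 : Matrix (Fin n) (Fin n) F)) →
    ∃ W : Submodule F (Fin n → F), finrank F ↥W = m ∧ (∀ u ∈ W, ∀ v ∈ W, Cfsg.hermForm n F q u v = 0) ∧
      W.map (Matrix.toLin' (x : Matrix (Fin n) (Fin n) F)) ≤ W

theorem mk_ti (hh : UFrob σ q) (X : MN) (W : Submodule F (Fin n → F)) (h1 : finrank F W = m)
    (h2 : TI (H σ n) W) (h3 : W.map (Matrix.toLin' X) ≤ W) :
    ∃ W : Submodule F (Fin n → F), finrank F ↥W = m ∧ (∀ u ∈ W, ∀ v ∈ W, Cfsg.hermForm n F q u v = 0) ∧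
      W.map (Matrix.toLin' X) ≤ W :=
  ⟨W, h1, (ti_iff hh).2 h2, h3⟩

/-- Scalar maps fix everything. -/
theorem good_all (hh : UFrob σ q) {p k : ℕ} [Fact p.Prime] [CharP F p] (hqk : q = p ^ k) (hq2 : 2 ≤ q)
    (hF : Fintype.card F = q ^ 2) [Fact r.Prime] (hr : (r : F) ≠ 0) (hm : 2 * m ≤ n) (hG : Good F q n m r)
    {X : MN} (hd : X.det = 1) (hX : Xᵀ * X.map σ = 1) {z : F} (hz : X ^ r = z • 1) :
    ∃ W : Submodule F (Fin n → F), finrank F W = m ∧ TI (H σ n) W ∧ Inv (Matrix.toLin' X) W := by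
  by_cases hs : ∃ a : F, X = a • 1
  · obtain ⟨a, rfl⟩ := hs
    obtain ⟨W, -, -, hW, hWr⟩ := exists_ti_fix (uformH hh (n := n)) (f := 1) (fun u v => rfl) hqk hq2 hF hr (one_pow r) (l := m) (by
      rw [show fixSp (1 : Module.End F (Fin n → F)) = ⊤ from Submodule.eq_top_iff'.2 fun v => mem_fixSp.2 rfl, finrank_top,
        Module.finrank_fin_fun]
      exact hm)
    refine ⟨W, hWr, hW, fun v hv => ?_⟩
    rw [map_smul, Matrix.toLin'_one, LinearMap.smul_apply, LinearMap.id_apply]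
    exact W.smul_mem a hv
  · push Not at hs
    obtain ⟨W, h1, h2, h3⟩ := hG ⟨X, hd⟩ ((mem_SU_iff_mul hh).2 hX)
      ⟨z, (Matrix.SpecialLinearGroup.coe_pow _ _).trans hz⟩ hs
    exact ⟨W, h1, (ti_iff hh).1 h2, Submodule.map_le_iff_le_comap.1 h3⟩

/-- A bad element from a map of order `r`. -/
theorem exists_ti_of_good (hh : UFrob σ q) {p k : ℕ} [Fact p.Prime] [CharP F p] (hqk : q = p ^ k) (hq2 : 2 ≤ q)
    (hF : Fintype.card F = q ^ 2) [Fact r.Prime] (hr : (r : F) ≠ 0) (hm : 2 * m ≤ n) (hG : Good F q n m r)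
    {X : MN} (hX : Xᵀ * X.map σ = 1) (hXr : X ^ r = 1) {w : F} (hw : w * σ w = 1) (hd : w ^ n * X.det = 1) :
    ∃ W : Submodule F (Fin n → F), finrank F W = m ∧ TI (H σ n) W ∧ Inv (Matrix.toLin' X) W := by
  obtain ⟨W, h1, h2, h3⟩ := good_all hh hqk hq2 hF hr hm hG (X := w • X) (z := w ^ r)
    (by rw [Matrix.det_smul, Fintype.card_fin, hd])
    (by rw [Matrix.transpose_smul, Matrix.map_smul' σ _ _ (map_mul σ), Matrix.smul_mul, Matrix.mul_smul, smul_smul, hX, hw,
      one_smul])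
    (by rw [_root_.smul_pow, hXr])
  refine ⟨W, h1, h2, fun v hv => ?_⟩
  have := W.smul_mem w⁻¹ (h3 v hv)
  rwa [map_smul, LinearMap.smul_apply, smul_smul, inv_mul_cancel₀ (left_ne_zero_of_mul_eq_one hw), one_smul] at this

theorem half_sum_zero {α ι : Type*} [Fintype ι] [DecidableEq α] {P : ι → α} (hP : Function.Injective P) (S : Finset α) :
    ∑ Q ∈ S, (Finset.univ.filter fun s => P s = Q).card / 2 = 0 :=
  Finset.sum_eq_zero fun Q _ => Nat.div_eq_of_lt (Nat.lt_succ_iff.2 (Finset.card_le_one.2 fun a ha b hb =>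
    hP ((Finset.mem_filter.1 ha).2.trans (Finset.mem_filter.1 hb).2.symm)))

/-- All but one of the types are distinct. -/
theorem exists_types_fun {α : Type*} [DecidableEq α] (S : Finset α) {N u : ℕ} (hu0 : 0 < u) (hu : u ≤ S.card) :
    ∃ P : Fin N → α, (∀ s, P s ∈ S) ∧ ∑ Q ∈ S, (Finset.univ.filter fun s => P s = Q).card / 2 ≤ (N - u + 1) / 2 := by
  let em : Fin u ↪ S := (Fin.castLEEmb hu).trans S.equivFin.symm.toEmbedding
  let P : Fin N → α := fun k => if h : k.val < u then (em ⟨k, h⟩).1 else (em ⟨0, hu0⟩).1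
  refine ⟨P, fun s => by simp only [P]; split_ifs <;> exact Subtype.coe_prop _, ?_⟩
  have h0 : ∀ Q ∈ S, Q ≠ (em ⟨0, hu0⟩).1 → (Finset.univ.filter fun k => P k = Q).card / 2 = 0 := by
    intro Q _ hQ
    refine Nat.div_eq_of_lt (Nat.lt_succ_iff.2 (Finset.card_le_one.2 fun a ha b hb => ?_))
    rw [Finset.mem_filter] at ha hb
    have key : ∀ k : Fin N, P k = Q → ∃ h : k.val < u, (em ⟨k, h⟩).1 = Q := fun k hk => by
      simp only [P] at hk
      split_ifs at hk with h
      · exact ⟨h, hk⟩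
      · exact absurd hk.symm hQ
    obtain ⟨ha', ea⟩ := key a ha.2
    obtain ⟨hb', eb⟩ := key b hb.2
    exact Fin.ext (congrArg Fin.val (em.injective (Subtype.ext (ea.trans eb.symm))) :)
  rw [Finset.sum_eq_single_of_mem _ (em ⟨0, hu0⟩).2 h0]
  refine Nat.div_le_div_right ?_
  have hsub : (Finset.univ.filter fun k => P k = (em ⟨0, hu0⟩).1) ⊆
      (Finset.univ.filter fun k : Fin N => k.val = 0 ∨ u ≤ k.val) := by
    intro k hk
    rw [Finset.mem_filter] at hk ⊢
    refine ⟨hk.1, ?_⟩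
    have hk' := hk.2
    simp only [P] at hk'
    split_ifs at hk' with h
    · exact Or.inl (congrArg Fin.val (em.injective (Subtype.ext hk')) :)
    · exact Or.inr (not_lt.1 h)
  refine (Finset.card_le_card hsub).trans ?_
  let g : Fin N → ℕ := fun k => if k.val = 0 then 0 else k.val - u + 1
  refine (Finset.card_le_card_of_injOn (t := Finset.range (N - u + 1)) g (fun k hk => ?_)
    (fun a ha b hb hab => ?_)).trans (Finset.card_range _).le
  · simp only [Finset.coe_filter, Set.mem_setOf_eq, Finset.mem_univ, true_and] at hk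
    simp only [g, Finset.coe_range, Set.mem_Iio]
    have := k.isLt
    split_ifs <;> omega
  · simp only [Finset.coe_filter, Set.mem_setOf_eq, Finset.mem_univ, true_and] at ha hb
    simp only [g] at hab
    refine Fin.ext ?_
    split_ifs at hab <;> omega

theorem mem_factors_linear [DecidableEq F] [Fact r.Prime] {a : F} (ha : a ^ r = 1) (ha1 : a ≠ 1) :
    (X - C a : F[X]) ∈ factors F r :=
  (mem_factors (Fact.out : r.Prime).ne_zero).2 ⟨irreducible_X_sub_C a, monic_X_sub_C a,
    dvd_iff_isRoot.2 (by simp [IsRoot, ha]), fun e => ha1 (by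
      have := congrArg (fun P : F[X] => P.eval a) e
      exact sub_eq_zero.1 (by simpa using this.symm))⟩

theorem scalar_block {a : F} (ha : a * σ a = 1) :
    (a • (1 : Matrix (Fin 1) (Fin 1) F))ᵀ * (a • (1 : Matrix (Fin 1) (Fin 1) F)).map σ = 1 ∧
      aeval (Matrix.toLin' (a • (1 : Matrix (Fin 1) (Fin 1) F))) (X - C a : F[X]) = 0 := by
  refine ⟨?_, ?_⟩
  · rw [Matrix.transpose_smul, Matrix.map_smul' σ _ _ (map_mul σ), Matrix.smul_mul, Matrix.mul_smul, smul_smul, ha,
      Matrix.transpose_one, Matrix.map_one σ (map_zero σ) (map_one σ), Matrix.one_mul, one_smul]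
  · rw [map_sub, aeval_X, aeval_C, map_smul, Matrix.toLin'_one, Algebra.algebraMap_eq_smul_one]
    exact sub_self _

theorem det_of_sq {V : Type*} [AddCommGroup V] [Module F V] [FiniteDimensional F V] (h2 : ((2 : ℕ) : F) ≠ 0)
    {g : Module.End F V} (hg : g ^ 2 = 1) : LinearMap.det g = (-1) ^ finrank F (movSp g) := by
  have hc := isCompl_fix_mov (f := g) h2 hg
  have hM : ∀ v ∈ movSp g, g v = -v := by
    rintro _ ⟨w, rfl⟩
    have e : g (g w) = w := by rw [← Module.End.mul_apply, ← pow_two, hg, Module.End.one_apply]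
    rw [LinearMap.sub_apply, Module.End.one_apply, map_sub, e, neg_sub]
  let e := Submodule.prodEquivOfIsCompl (fixSp g) (movSp g) hc
  have hge : g = (e.toLinearMap ∘ₗ (LinearMap.prodMap LinearMap.id ((-1 : F) • LinearMap.id)) ∘ₗ e.symm.toLinearMap) := by
    refine LinearMap.ext fun v => ?_
    obtain ⟨⟨a, b⟩, rfl⟩ := e.surjective v
    rw [LinearMap.comp_apply, LinearMap.comp_apply, LinearEquiv.coe_coe, LinearEquiv.coe_coe, LinearEquiv.symm_apply_apply]
    simp only [LinearMap.prodMap_apply, LinearMap.id_apply, LinearMap.smul_apply, e, Submodule.coe_prodEquivOfIsCompl',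
      SetLike.val_smul]
    rw [map_add, mem_fixSp.1 a.2, hM _ b.2, neg_one_smul]
  conv_lhs => rw [hge]
  rw [LinearMap.det_conj, LinearMap.det_prodMap, LinearMap.det_id, LinearMap.det_smul, LinearMap.det_id, one_mul, mul_one]

/-- Anti-isometric involutions have large totally isotropic eigenspaces. -/
theorem exists_ti_anti {V : Type*} [AddCommGroup V] [Module F V] [FiniteDimensional F V] {B : V →ₗ[F] V →ₛₗ[σ] F}
    (hh : UForm σ q B) (h2 : (2 : F) ≠ 0) {g : Module.End F V} (hg : ∀ v, g (g v) = v)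
    (hgi : ∀ u v, B (g u) (g v) = -B u v) (hm : 2 * m ≤ finrank F V) :
    ∃ W : Submodule F V, (∀ v ∈ W, g v = v) ∧ TI B W ∧ finrank F W = m := by
  let P : Submodule F V := LinearMap.ker (g - 1)
  let M : Submodule F V := LinearMap.ker (g + 1)
  have hP : ∀ v, v ∈ P ↔ g v = v := fun v => by simp [P, sub_eq_zero]
  have hM : ∀ v, v ∈ M ↔ g v = -v := fun v => by simp [M, add_eq_zero_iff_eq_neg]
  have hc : IsCompl P M := by
    refine ⟨Submodule.disjoint_def.2 fun v h1 h2' => ?_, ?_⟩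
    · have e : (2 : F) • v = 0 := by
        rw [two_smul]
        exact eq_neg_iff_add_eq_zero.1 (((hP v).1 h1).symm.trans ((hM v).1 h2'))
      exact (smul_eq_zero.1 e).resolve_left h2
    · rw [codisjoint_iff, Submodule.eq_top_iff']
      intro v
      refine Submodule.mem_sup.2 ⟨(2 : F)⁻¹ • (v + g v), (hP _).2 ?_, (2 : F)⁻¹ • (v - g v), (hM _).2 ?_, ?_⟩
      · rw [map_smul, map_add, hg, add_comm]
      · rw [map_smul, map_sub, hg, ← smul_neg, neg_sub]
      · rw [← smul_add, show v + g v + (v - g v) = (2 : F) • v by rw [two_smul]; abel, smul_smul,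
          inv_mul_cancel₀ h2, one_smul]
  have hle : ∀ W : Submodule F V, TI B W → 2 * finrank F W ≤ finrank F V := fun W hW => by
    have := two_mul_ti_le hh.herm hh.herm.nondeg_top (W := W) le_top hW
    rwa [finrank_top] at this
  have hPt : TI B P := fun u hu v hv => by
    have e1 := hgi u v
    rw [(hP u).1 hu, (hP v).1 hv] at e1
    exact (mul_eq_zero.1 (show (2 : F) * B u v = 0 by linear_combination e1)).resolve_left h2
  have hMt : TI B M := fun u hu v hv => by
    have e1 := hgi u v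
    rw [(hM u).1 hu, (hM v).1 hv] at e1
    simp only [map_neg, LinearMap.neg_apply, neg_neg] at e1
    exact (mul_eq_zero.1 (show (2 : F) * B u v = 0 by linear_combination e1)).resolve_left h2
  have h1 := hle P hPt
  have h1' := hle M hMt
  have hsum := Submodule.finrank_add_eq_of_isCompl hc
  obtain ⟨v, hv⟩ := exists_linearIndependent_of_le_finrank (R := F) (M := P) (n := m) (by omega)
  refine ⟨(Submodule.span F (Set.range v)).map P.subtype, ?_, hPt.mono (Submodule.map_subtype_le _ _), ?_⟩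
  · intro x hx
    exact (hP x).1 (Submodule.map_subtype_le _ _ hx)
  · rw [Submodule.finrank_map_subtype_eq, finrank_span_eq_card hv, Fintype.card_fin]

/-- Odd characteristic, `r = 2`. -/
theorem good_two_iff [DecidableEq F] (hh : UFrob σ q) {p k : ℕ} [Fact p.Prime] [CharP F p] (hqk : q = p ^ k)
    (hq2 : 2 ≤ q) (hF : Fintype.card F = q ^ 2) (hp2 : p ≠ 2) (hqodd : Odd q) (hm1 : 1 ≤ m) (hm : 2 * m ≤ n) :
    Good F q n m 2 ↔ (2 * m < n ∨ padicValNat 2 (q + 1) ≤ padicValNat 2 n) := by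
  haveI : Fact (Nat.Prime 2) := ⟨Nat.prime_two⟩
  have hn : 0 < n := by omega
  have h2 : ((2 : ℕ) : F) ≠ 0 := cast_ne_zero_of_prime_ne Nat.prime_two (Ne.symm hp2)
  have h2' : (2 : F) ≠ 0 := by exact_mod_cast h2
  have hdvd : 2 ∣ q + 1 := (hqodd.add_one).two_dvd
  have hneg : (-1 : F) ≠ 1 := fun e => h2' (by linear_combination -e)
  have hdc : 2 ∣ Fintype.card F - 1 := by rw [hF, ← one_pow 2, Nat.sq_sub_sq]; exact dvd_mul_of_dvd_left hdvd _
  have hbo : orderOf ((Fintype.card F : ℕ) : ZMod 2) = 1 := PrimeInv.orderOf_eq_one_iff_dvd.2 hdc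
  constructor
  · intro hG
    by_contra hc
    push Not at hc
    obtain ⟨hc1, hlt⟩ := hc
    obtain ⟨s, hs⟩ : ∃ s, s = padicValNat 2 n := ⟨_, rfl⟩
    obtain ⟨o, ho⟩ : 2 ^ s ∣ n := hs ▸ pow_padicValNat_dvd
    have hoo : Odd o := Nat.not_even_iff_odd.1 fun ⟨a, ha⟩ =>
      pow_succ_padicValNat_not_dvd (p := 2) (n := n) (by omega) ⟨a, by rw [← hs, ho, ha, pow_succ]; ring⟩
    obtain ⟨u', hu'⟩ : 2 ^ (s + 1) ∣ q + 1 := (pow_dvd_pow 2 (by omega)).trans pow_padicValNat_dvd
    obtain ⟨g, hg⟩ := IsCyclic.exists_generator (α := Fˣ)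
    have hord : orderOf g = Fintype.card F - 1 := by
      rw [orderOf_eq_card_of_forall_mem_zpowers hg, Nat.card_eq_fintype_card, Fintype.card_units]
    have hcard : Fintype.card F - 1 = 2 ^ (s + 1) * (u' * (q - 1)) := by
      rw [hF, ← one_pow 2, Nat.sq_sub_sq, one_pow, hu', mul_assoc]
    have hs0 : 0 < u' * (q - 1) := Nat.mul_pos (Nat.pos_of_ne_zero fun e => by rw [e, mul_zero] at hu'; omega) (by omega)
    have hu : ((g ^ (u' * (q - 1)) : Fˣ) : F) ^ (2 ^ s) = -1 := by
      have h1 : (((g ^ (u' * (q - 1)) : Fˣ) : F) ^ (2 ^ s)) * (((g ^ (u' * (q - 1)) : Fˣ) : F) ^ (2 ^ s)) = 1 := by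
        rw [← pow_add, ← two_mul, ← pow_succ', ← Units.val_pow_eq_pow_val, ← pow_mul, mul_comm, ← hcard, ← hord,
          pow_orderOf_eq_one, Units.val_one]
      refine (mul_self_eq_one_iff.1 h1).resolve_left fun h2 => ?_
      rw [← Units.val_pow_eq_pow_val, ← pow_mul, Units.val_eq_one, ← orderOf_dvd_iff_pow_eq_one, hord, hcard,
        mul_comm (2 ^ (s + 1))] at h2
      have := Nat.le_of_dvd (by positivity) (Nat.dvd_of_mul_dvd_mul_left hs0 h2)
      rw [pow_succ] at this
      have : 0 < 2 ^ s := by positivity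
      omega
    generalize ((g ^ (u' * (q - 1)) : Fˣ) : F) = w at hu
    have hwn : w ^ n = -1 := by rw [ho, pow_mul, hu, hoo.neg_one_pow]
    have hw : w * σ w = 1 := by rw [sigma_eq hh, hu', pow_succ, mul_assoc, pow_mul, hu, pow_mul, neg_one_sq, one_pow]
    have hs1 := scalar_block (σ := σ) (show (-1 : F) * σ (-1) = 1 by simp)
    obtain ⟨X, hX, hXr, hXd, hb⟩ := exists_types (n := n) hh hqk hF h2 odd_one (by rwa [pow_one]) hbo (ι := Unit)
      (fun _ => (-1 : F) • 1) (fun _ => hs1.1) (fun _ => by rw [_root_.smul_pow, neg_one_sq, one_pow, one_smul])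
      (fun _ => Polynomial.X - C (-1 : F)) (fun _ => mem_factors_linear neg_one_sq hneg) (fun _ => hs1.2) (e := n - 1)
      (by rw [Fintype.card_unit]; omega)
    obtain ⟨W, hW, hWt, hWi⟩ := exists_ti_of_good hh hqk hq2 hF h2 hm hG hX hXr hw (by
      rw [hwn, hXd]; simp)
    obtain ⟨l, j, hlj, hl, hj⟩ := hb W hWi hWt
    rw [half_sum_zero (fun a b _ => Subsingleton.elim a b)] at hj
    rw [hW, Nat.le_zero.1 hj, zero_mul] at hlj
    omega
  · intro hcase x hx hxr _
    obtain ⟨z, hz⟩ := hxr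
    rw [Matrix.SpecialLinearGroup.coe_pow] at hz
    have hX := (mem_SU_iff_mul hh).1 hx
    have hzn := norm_of_pow hh hn hX hz
    have hz0 : z ≠ 0 := left_ne_zero_of_mul_eq_one hzn
    obtain ⟨c, hc⟩ : ∃ c, c ^ 2 = z := by
      obtain ⟨a, ha⟩ := hqodd
      have hring : ringChar F ≠ 2 := fun e => hp2 (by rw [← ringChar.eq F p, e])
      obtain ⟨c, hc⟩ := (FiniteField.isSquare_iff hring hz0).2 (by
        rw [hF, show q ^ 2 / 2 = (q + 1) * a from Nat.div_eq_of_lt_le (by subst ha; ring_nf; omega) (by subst ha; ring_nf; omega),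
          pow_mul, ← sigma_eq hh, hzn, one_pow])
      exact ⟨c, by rw [hc, sq]⟩
    rcases mul_self_eq_one_iff.1 (show (c * σ c) * (c * σ c) = 1 by rw [← hzn, ← hc, map_pow]; ring) with hcn | hcn
    · obtain ⟨g, hgeq⟩ : ∃ g : Module.End F (Fin n → F), g = c⁻¹ • Matrix.toLin' (x : MN) := ⟨_, rfl⟩
      have hcne : c ≠ 0 := left_ne_zero_of_mul_eq_one hcn
      have hg1 : g ^ 2 = 1 := by
        rw [hgeq, _root_.smul_pow, ← Matrix.toLin'_pow, hz, map_smul, Matrix.toLin'_one, smul_smul, ← hc, _root_.inv_pow,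
          inv_mul_cancel₀ (pow_ne_zero _ hcne), one_smul]
        rfl
      have hgi : ∀ u v, H σ n (g u) (g v) = H σ n u v := fun u v => by
        simp only [hgeq, LinearMap.smul_apply, map_smul, map_smulₛₗ, smul_eq_mul, (iso_iff hh).2 hX, map_inv₀]
        rw [← mul_assoc, ← mul_inv, mul_comm (σ c) c, hcn, inv_one, one_mul]
      have hgW : ∀ W, Inv g W → W.map (Matrix.toLin' (x : MN)) ≤ W := fun W hW =>
        Submodule.map_le_iff_le_comap.2 fun v hv => by
          have := W.smul_mem c (hW v hv)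
          rwa [hgeq, LinearMap.smul_apply, smul_smul, mul_inv_cancel₀ hcne, one_smul] at this
      have hk := killed_movSp (f := g) h2 hg1
      obtain ⟨J, hJ, hW⟩ := exists_ti_conj (uformH hh) hgi (isSemisimple_of_pow h2 hg1) (nondeg_movSp h2 hg1 (uformH hh).herm hgi)
        hk (fun P hP => monic_factor two_ne_zero hP) (fun P hP => conj_factor hh hqk hq2 hF h2 odd_one hbo (by rwa [pow_one]) hP)
      have hcard := card_factors (F := F) (r := 2) h2
      rw [hbo, mul_one] at hcard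
      rw [hbo] at hJ hW
      rw [mul_one, hcard] at hJ
      obtain ⟨W, hWi, hWt, hWr⟩ : ∃ W : Submodule F (Fin n → F), Inv g W ∧ TI (H σ n) W ∧ finrank F W = m := by
        rcases hcase with hlt | hval
        · exact exists_ti_dim (uformH hh) hgi hqk hq2 hF h2 hg1 one_pos (N := finrank F (movSp g)) (t := 1) (mul_one _).symm
            (by omega) hW (by rwa [Module.finrank_fin_fun]) (by simp [Nat.mod_one])
            (Or.inr ⟨by rw [Module.finrank_fin_fun, Nat.div_one, Nat.div_one]; omega, by simp [Nat.mod_one]⟩)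
        · have hev : Even (finrank F (movSp g)) := by
            by_contra hodd
            rw [Nat.not_even_iff_odd] at hodd
            obtain ⟨v, hv⟩ : ∃ v, v = padicValNat 2 (q + 1) := ⟨_, rfl⟩
            obtain ⟨o, ho⟩ : 2 ^ v ∣ q + 1 := hv ▸ pow_padicValNat_dvd
            have hoo : Odd o := Nat.not_even_iff_odd.1 fun ⟨a, ha⟩ =>
              pow_succ_padicValNat_not_dvd (p := 2) (n := q + 1) (by omega) ⟨a, by rw [← hv, ho, ha, pow_succ]; ring⟩
            obtain ⟨n', hn'⟩ : 2 ^ v ∣ n := (pow_dvd_pow 2 (by omega)).trans pow_padicValNat_dvd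
            have e : c ^ n = -1 := by
              have e : Matrix.toLin' (x : MN) = c • (c⁻¹ • Matrix.toLin' (x : MN)) := by
                rw [smul_smul, mul_inv_cancel₀ (left_ne_zero_of_mul_eq_one hcn), one_smul]
              have hd := det_of_sq h2 (g := c⁻¹ • Matrix.toLin' (x : MN)) (by
                rw [_root_.smul_pow, ← Matrix.toLin'_pow, hz, map_smul, Matrix.toLin'_one, smul_smul, ← hc, _root_.inv_pow,
                  inv_mul_cancel₀ (pow_ne_zero _ (left_ne_zero_of_mul_eq_one hcn)), one_smul]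
                rfl)
              have e' := congrArg LinearMap.det e
              rw [LinearMap.det_toLin', x.2, LinearMap.det_smul, Module.finrank_fin_fun] at e'
              have hdet : LinearMap.det (c⁻¹ • Matrix.toLin' (x : MN)) = -1 := by
                rw [hd, ← hgeq]
                exact hodd.neg_one_pow
              rw [hdet] at e'
              linear_combination e'
            have h1 : c ^ (n * o) = 1 := by
              rw [hn', show 2 ^ v * n' * o = (2 ^ v * o) * n' by ring, ← ho, pow_mul, ← sigma_eq hh, hcn, one_pow]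
            rw [pow_mul, e, hoo.neg_one_pow] at h1
            exact hneg h1
          obtain ⟨a, ha⟩ := hev
          exact exists_ti_dim (uformH hh) hgi hqk hq2 hF h2 hg1 one_pos (N := finrank F (movSp g)) (t := 0) (mul_one _).symm
            (by omega) hW (by rwa [Module.finrank_fin_fun]) (by simp [Nat.mod_one]) (Or.inl rfl)
      exact mk_ti hh _ W hWr hWt (hgW W hWi)
    have hc0 : c ≠ 0 := fun e => by rw [e, zero_mul] at hcn; exact neg_ne_zero.2 one_ne_zero hcn.symm
    obtain ⟨g, hg⟩ : ∃ g : Module.End F (Fin n → F), g = c⁻¹ • Matrix.toLin' (x : MN) := ⟨_, rfl⟩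
    have hgg : ∀ v, g (g v) = v := fun v => by
      rw [hg, LinearMap.smul_apply, LinearMap.smul_apply, map_smul, smul_smul, ← LinearMap.comp_apply, ← Matrix.toLin'_mul,
        ← pow_two (x : MN), hz, map_smul, Matrix.toLin'_one, LinearMap.smul_apply, LinearMap.id_apply, smul_smul, ← hc, sq]
      rw [show c⁻¹ * c⁻¹ * (c * c) = 1 by field_simp, one_smul]
    have hgi : ∀ u v, H σ n (g u) (g v) = -H σ n u v := fun u v => by
      simp only [hg, LinearMap.smul_apply, map_smul, map_smulₛₗ, smul_eq_mul, (iso_iff hh).2 hX, map_inv₀]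
      rw [← mul_assoc, ← mul_inv, mul_comm (σ c) c, hcn, inv_neg_one, neg_one_mul]
    obtain ⟨W, hW, hWt, hWr⟩ := exists_ti_anti (uformH hh) h2' hgg hgi (m := m) (by rwa [Module.finrank_fin_fun])
    refine mk_ti hh _ W hWr hWt (Submodule.map_le_iff_le_comap.2 fun v hv => ?_)
    have e := W.smul_mem c hv
    rw [show c • v = c • g v by rw [hW v hv], hg, LinearMap.smul_apply, smul_smul, mul_inv_cancel₀ hc0, one_smul] at e
    exact e

/-- Odd prime divisors of `q + 1`. -/
theorem good_plus_iff [DecidableEq F] (hh : UFrob σ q) {p k : ℕ} [Fact p.Prime] [CharP F p] (hqk : q = p ^ k)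
    (hq2 : 2 ≤ q) (hF : Fintype.card F = q ^ 2) [Fact r.Prime] (hr : (r : F) ≠ 0) (hr2 : r ≠ 2) (hdvd : r ∣ q + 1)
    (hm1 : 1 ≤ m) (hm : 2 * m ≤ n) :
    Good F q n m r ↔ ((r - 1) + 2 * m ≤ n ∧ (r ∣ m ∨ padicValNat r n ≤ padicValNat r (q + 1))) := by
  have hrp : r.Prime := Fact.out
  have hodd : Odd r := hrp.odd_of_ne_two hr2
  have hn : 0 < n := by omega
  have hnd : ¬ r ∣ q - 1 := fun h => by
    have := Nat.le_of_dvd (by omega) ((Nat.dvd_sub hdvd h))
    have := hrp.two_le
    omega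
  have hd : r ∣ Fintype.card F - 1 := by rw [hF, ← one_pow 2, Nat.sq_sub_sq]; exact dvd_mul_of_dvd_left hdvd _
  have hbo : orderOf ((Fintype.card F : ℕ) : ZMod r) = 1 := PrimeInv.orderOf_eq_one_iff_dvd.2 hd
  have hcoef : ((-1 : F) ^ (r + 1)) = 1 := (Odd.add_one hodd).neg_one_pow
  constructor
  · intro hG
    refine ⟨?_, ?_⟩
    · by_contra hlt
      obtain ⟨ξ', hξ'⟩ := exists_prime_orderOf_dvd_card' (G := Fˣ) r (by
        rwa [Nat.card_eq_fintype_card, Fintype.card_units])
      obtain ⟨ξ, hξ⟩ : ∃ ξ : F, ξ = (ξ' : F) := ⟨_, rfl⟩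
      have hprim : IsPrimitiveRoot ξ r := IsPrimitiveRoot.iff_orderOf.2 (by rw [hξ, orderOf_units, hξ'])
      have hnorm : ∀ i : ℕ, ξ ^ i * σ (ξ ^ i) = 1 := fun i => by
        obtain ⟨c, hc⟩ := hdvd
        rw [sigma_eq hh, ← pow_mul, mul_comm i, pow_mul, hc, pow_mul, hprim.pow_eq_one, one_pow, one_pow]
      obtain ⟨pp, hpp⟩ : ∃ pp, pp = min (n / 2) ((r - 1) / 2) := ⟨_, rfl⟩
      obtain ⟨t, ht⟩ := hodd
      let ζ : Fin pp ⊕ Fin pp → F := Sum.elim (fun s => ξ ^ ((s : ℕ) + 1)) (fun s => ξ ^ (r - ((s : ℕ) + 1)))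
      have hex : ∀ s, ∃ i, 0 < i ∧ i < r ∧ ζ s = ξ ^ i := by
        rintro (s | s) <;> have := s.isLt
        · exact ⟨(s : ℕ) + 1, by omega, by omega, rfl⟩
        · exact ⟨r - ((s : ℕ) + 1), by omega, by omega, rfl⟩
      have hζr : ∀ s, ζ s ^ r = 1 := fun s => by
        obtain ⟨i, -, -, e⟩ := hex s
        rw [e, ← pow_mul, mul_comm, pow_mul, hprim.pow_eq_one, one_pow]
      have hζ1 : ∀ s, ζ s ≠ 1 := fun s => by
        obtain ⟨i, h0, h1, e⟩ := hex s
        rw [e]
        exact hprim.pow_ne_one_of_pos_of_lt h0.ne' h1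
      have hζn : ∀ s, ζ s * σ (ζ s) = 1 := fun s => by
        obtain ⟨i, -, -, e⟩ := hex s
        rw [e, hnorm]
      have hinj : Function.Injective ζ := by
        rintro (a | a) (b | b) hab <;> have := a.isLt <;> have := b.isLt <;>
          have e := hprim.pow_inj (by omega) (by omega) hab
        · exact congrArg Sum.inl (Fin.ext (by omega))
        · omega
        · omega
        · exact congrArg Sum.inr (Fin.ext (by omega))
      obtain ⟨X, hX, hXr, hXd, hb⟩ := exists_types (n := n) hh hqk hF hr odd_one (by rwa [pow_one]) hbo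
        (fun s => ζ s • (1 : Matrix (Fin 1) (Fin 1) F)) (fun s => (scalar_block (hζn s)).1)
        (fun s => by rw [_root_.smul_pow, hζr, one_pow, one_smul]) (fun s => Polynomial.X - C (ζ s))
        (fun s => mem_factors_linear (hζr s) (hζ1 s)) (fun s => (scalar_block (hζn s)).2) (e := n - 2 * pp)
        (by rw [Fintype.card_sum, Fintype.card_fin]; omega)
      obtain ⟨W, hW, hWt, hWi⟩ := exists_ti_of_good hh hqk hq2 hF hr hm hG hX hXr (w := (1 : F)) (by simp) (by
        rw [hXd, one_pow, one_mul, Fintype.prod_sum_type, ← Finset.prod_mul_distrib]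
        refine Finset.prod_eq_one fun s _ => ?_
        have := s.isLt
        simp only [ζ, Sum.elim_inl, Sum.elim_inr, Matrix.det_smul, Matrix.det_one, Fintype.card_fin, pow_one, mul_one]
        rw [← pow_add, Nat.add_sub_cancel' (by omega : (s : ℕ) + 1 ≤ r), hprim.pow_eq_one])
      obtain ⟨l, j, hlj, hl, hj⟩ := hb W hWi hWt
      rw [half_sum_zero (fun a b hab => hinj (by simpa using congrArg (fun P : F[X] => P.coeff 0) hab))] at hj
      rw [hW, Nat.le_zero.1 hj, zero_mul] at hlj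
      omega
    · by_contra hc
      push Not at hc
      obtain ⟨hrm, hlt⟩ := hc
      have hrn : r ∣ n := by
        by_contra h'
        rw [padicValNat.eq_zero_of_not_dvd h'] at hlt
        omega
      obtain ⟨t, rfl⟩ := hrn
      have ht : t ≠ 0 := fun h => by simp [h] at hn
      have hval : padicValNat r (q + 1) ≤ padicValNat r t := by
        rw [padicValNat.mul hrp.ne_zero ht, padicValNat_self] at hlt
        omega
      obtain ⟨z, hzk, hznr⟩ := PrimeInv.exists_non_power (F := F) hd (k := Nat.gcd t (q + 1)) (by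
        rw [Cfsg.Agent.S5954.padic_card hq2 hF hnd]
        exact Nat.dvd_gcd ((pow_dvd_pow r hval).trans pow_padicValNat_dvd) pow_padicValNat_dvd)
      obtain ⟨u1, hu1⟩ := Nat.gcd_dvd_left t (q + 1)
      obtain ⟨u2, hu2⟩ := Nat.gcd_dvd_right t (q + 1)
      have hzn : z * σ z = 1 := by rw [sigma_eq hh, hu2, pow_mul, hzk, one_pow]
      obtain ⟨X, hX, hXr, hXd⟩ := exists_root_elt (n := r * t) (σ := σ) hrp.pos rfl hzn
      have hdet : X.det = 1 := by
        rw [hXd, (Nat.Odd.sub_odd hodd odd_one).neg_one_pow, one_mul, hu1, pow_mul, hzk, one_pow]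
      obtain ⟨W, hW, -, hWi⟩ := good_all hh hqk hq2 hF hr hm hG hdet hX hXr
      obtain ⟨hk, hss, -⟩ := PrimeInv.killed_of_root hr hXr hznr
      have h := finrank_dvd hss (hk.mono hWi le_top)
      rw [hW] at h
      exact hrm h
  · rintro ⟨hbig, hcase⟩ x hx hxr -
    obtain ⟨z, hz⟩ := hxr
    rw [Matrix.SpecialLinearGroup.coe_pow] at hz
    have hX := (mem_SU_iff_mul hh).1 hx
    have hzn := norm_of_pow hh hn hX hz
    by_cases hroot : ∃ w, w ^ r = z
    · obtain ⟨w, hw⟩ := hroot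
      have ha : (w * σ w) ^ r = 1 := by rw [mul_pow, ← map_pow, hw, hzn]
      have ha0 : w * σ w ≠ 0 := fun e => by
        rw [e, zero_pow hrp.ne_zero] at ha
        exact zero_ne_one ha
      have hwn : w * σ w = 1 := pow_gcd_one hrp hnd ha (by
        refine mul_right_cancel₀ ha0 ?_
        rw [← pow_succ, Nat.sub_add_cancel (by omega : 1 ≤ q), one_mul, ← hh.pow, map_mul, hh.invol, mul_comm])
      obtain ⟨g, hg1, hgi, hgW⟩ := reduce hh hX hz hwn hw
      obtain ⟨J, hJ, hW⟩ := exists_ti_conj (uformH hh) hgi (isSemisimple_of_pow hr hg1)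
        (nondeg_movSp hr hg1 (uformH hh).herm hgi) (killed_movSp (f := g) hr hg1)
        (fun P hP => monic_factor hrp.ne_zero hP) (fun P hP => conj_factor hh hqk hq2 hF hr odd_one hbo (by rwa [pow_one]) hP)
      have hcard := card_factors (F := F) (r := r) hr
      rw [hbo, mul_one] at hcard
      rw [hbo] at hJ hW
      rw [mul_one, hcard] at hJ
      obtain ⟨W, hWi, hWt, hWr⟩ := exists_ti_dim (m := m) (uformH hh) hgi hqk hq2 hF hr hg1 one_pos (N := finrank F (movSp g))
        (t := r - 1) (mul_one _).symm (by omega) hW (by rwa [Module.finrank_fin_fun]) (by simp [Nat.mod_one])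
        (Or.inr ⟨by rw [Module.finrank_fin_fun, Nat.div_one, Nat.div_one]; omega, by simp [Nat.mod_one]⟩)
      exact mk_ti hh _ W hWr hWt (hgW W hWi)
    push Not at hroot
    obtain ⟨hk, hss, t, hnt, hdet⟩ := PrimeInv.killed_of_root hr hz hroot
    rw [x.2, hcoef, one_mul] at hdet
    rcases hcase with hrm | hval
    · obtain ⟨a, ha⟩ := hrm
      obtain ⟨J, hJ, hW⟩ := exists_ti_conj (uformH hh) ((iso_iff hh).2 hX) hss (uformH hh).herm.nondeg_top hk
        (fun P hP => by rw [Finset.mem_singleton.1 hP]; exact monic_X_pow_sub_C z hrp.ne_zero) (fun P hP => by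
          rw [Finset.mem_singleton.1 hP]
          refine exists_conj hh hqk hq2 hF (hk.irr _ (Finset.mem_singleton_self _)) (monic_X_pow_sub_C z hrp.ne_zero) hodd
            natDegree_X_pow_sub_C ?_
          obtain ⟨c, hc⟩ : r * (q + 1) ∣ q ^ r + 1 := by
            have h1 := geom_sum_mul (-(q : ℤ)) r
            rw [hodd.neg_pow] at h1
            have h2 : (r : ℤ) ∣ ∑ i ∈ Finset.range r, (-(q : ℤ)) ^ i := by
              rw [← ZMod.intCast_zmod_eq_zero_iff_dvd]
              push_cast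
              have e : (-(q : ZMod r)) = 1 := by
                rw [← ZMod.natCast_eq_zero_iff, Nat.cast_add, Nat.cast_one] at hdvd
                linear_combination -hdvd
              simp [e]
            obtain ⟨s, hs⟩ := h2
            rw [← Int.natCast_dvd_natCast]
            exact ⟨s, by push_cast; rw [hs] at h1; linear_combination h1⟩
          have hroot' : AdjoinRoot.root (Polynomial.X ^ r - C z : F[X]) ^ r = AdjoinRoot.of (Polynomial.X ^ r - C z : F[X]) z := by
            have := AdjoinRoot.mk_self (f := (Polynomial.X ^ r - C z : F[X]))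
            rwa [map_sub, map_pow, AdjoinRoot.mk_X, AdjoinRoot.mk_C, sub_eq_zero] at this
          rw [hc, pow_mul, pow_mul, hroot', ← map_pow, ← sigma_eq hh, hzn, map_one, one_pow])
      rw [Finset.card_singleton, finrank_top, Module.finrank_fin_fun] at hJ
      have h3 : r * (2 * a) < r * t := by
        have h4 : r * (2 * a) = 2 * (r * a) := by ring
        have := hrp.two_le
        omega
      have h5 := Nat.lt_of_mul_lt_mul_left h3
      have h6 : t ≤ 2 * J + 1 := Nat.le_of_mul_le_mul_right (by rw [mul_comm t r, ← hnt]; exact hJ) hrp.pos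
      obtain ⟨W, -, hWi, hWt, hWr⟩ := hW a (by omega)
      exact mk_ti hh _ W (by rw [hWr, ha, mul_comm]) hWt (Submodule.map_le_iff_le_comap.2 hWi)
    · exfalso
      have ht : t ≠ 0 := fun h => by rw [h, mul_zero] at hnt; omega
      have h1 := PrimeInv.padic_le_of_pow hroot hdet.symm ht
      rw [Cfsg.Agent.S5954.padic_card hq2 hF hnd] at h1
      rw [hnt, padicValNat.mul hrp.ne_zero ht, padicValNat_self] at hval
      omega

/-- The other primes: the two parities. -/
theorem good_other_iff [DecidableEq F] (hh : UFrob σ q) {p k : ℕ} [Fact p.Prime] [CharP F p] (hqk : q = p ^ k)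
    (hq2 : 2 ≤ q) (hF : Fintype.card F = q ^ 2) [Fact r.Prime] (hr : (r : F) ≠ 0) (hrq : ¬ r ∣ q) (hdq : ¬ r ∣ q + 1)
    {b c : ℕ} (hb0 : 0 < b) (hbo : orderOf ((Fintype.card F : ℕ) : ZMod r) = b) (hpow : (-(q : ZMod r)) ^ c = 1)
    (hcase : (c = 2 * b ∧ ∀ t : ℕ, Odd t → ¬ r ∣ q ^ t + 1) ∨ (c = b ∧ Odd b ∧ r ∣ q ^ b + 1))
    (hm1 : 1 ≤ m) (hm : 2 * m ≤ n) (hlt : n % c < 2 * m) :
    Good F q n m r ↔ (b ≤ m ∧ 2 * (m % b) ≤ n % c ∧ (c = b → (r - 1) / b + 2 * (m / b) ≤ n / b)) := by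
  have hrp : r.Prime := Fact.out
  have hn : 0 < n := by omega
  have hFN : Nat.card F = q ^ 2 := by rw [Nat.card_eq_fintype_card, hF]
  have hc0 : 0 < c := by rcases hcase with ⟨h, -⟩ | ⟨h, -⟩ <;> omega
  have atom : ∀ {j : ℕ} {g : Module.End F (Fin j → F)}, (∀ u v, H σ j (g u) (g v) = H σ j u v) → g ^ r = 1 →
      ∀ D ≤ movSp g, Inv g D → Nondeg (H σ j) D → D ≠ ⊥ →
        ∃ U ≤ D, Inv g U ∧ Nondeg (H σ j) U ∧ finrank F U = c := by
    intro j g hgi hg D hD hDi hDn h0
    rcases hcase with ⟨h1, h2⟩ | ⟨h1, h2, h3⟩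
    · rw [h1]; exact atom_even (uformH hh) hgi hqk hF hr hg h2 hrq hbo hD hDi hDn h0
    · rw [h1]; exact atom_odd (uformH hh) hgi hqk hF hr hg h2 hbo h3 hD hDi hDn h0
  have hdet1 : ∀ {X : MN}, Xᵀ * X.map σ = 1 → X ^ r = 1 → X.det = 1 := fun hX hXr => by
    refine pow_gcd_one hrp hdq (by rw [← Matrix.det_pow, hXr, Matrix.det_one]) ?_
    rw [← sigma_eq hh]
    exact det_norm hX
  have hdm : ∀ {l j : ℕ}, l < b → m = l + j * b → m % b = l ∧ m / b = j := fun {l j} hl e => by
    rw [e, Nat.add_mul_mod_self_right, Nat.mod_eq_of_lt hl, Nat.add_mul_div_right _ _ hb0, Nat.div_eq_of_lt hl, zero_add]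
    exact ⟨rfl, rfl⟩
  constructor
  · intro hG
    have hmod : 2 * (m % b) ≤ n % c := by
      obtain ⟨A, hA, hAr, hA1⟩ := exists_order hFN hh (r := r) hc0 hpow
      have hg1 : Matrix.toLin' A ^ r = 1 := by rw [← Matrix.toLin'_pow, hAr, Matrix.toLin'_one]; rfl
      have hAfix : ∀ v, A.mulVec v = v → v = 0 := by
        have hi := (iso_iff hh).2 hA
        obtain ⟨⟨a, ha⟩, -⟩ := exists_sub_of_atoms (uformH hh).herm hi hc0 (atom hi hg1) (movSp (Matrix.toLin' A))
          le_rfl inv_movSp (nondeg_movSp hr hg1 (uformH hh).herm hi)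
        have hdim := Submodule.finrank_add_eq_of_isCompl (isCompl_fix_mov (f := Matrix.toLin' A) hr hg1)
        rw [Module.finrank_fin_fun] at hdim
        have ha0 : a ≠ 0 := fun e => hA1 (by
          rw [e, mul_zero, Submodule.finrank_eq_zero, movSp, LinearMap.range_eq_bot, sub_eq_zero] at ha
          exact Matrix.toLin'.injective (ha.trans Matrix.toLin'_one.symm))
        have h0 : finrank F (fixSp (Matrix.toLin' A)) = 0 := by
          have := Nat.le_mul_of_pos_right c (Nat.pos_of_ne_zero ha0)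
          omega
        intro v hv
        have hv' : v ∈ fixSp (Matrix.toLin' A) := mem_fixSp.2 (by rwa [Matrix.toLin'_apply])
        rw [Submodule.finrank_eq_zero.1 h0] at hv'
        exact (Submodule.mem_bot F).1 hv'
      obtain ⟨X, hX, hXr, hXfix⟩ := exists_fix_le hA hAr hAfix (n := n) (N := n / c) (k := n % c) (Nat.div_add_mod n c)
      obtain ⟨W, hW, hWt, hWi⟩ := exists_ti_of_good hh hqk hq2 hF hr hm hG hX hXr (w := (1 : F)) (by simp)
        (by rw [hdet1 hX hXr, one_pow, mul_one])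
      obtain ⟨l, j, hlj, hl, -⟩ := ti_decomp (uformH hh) ((iso_iff hh).2 hX) hr
        (by rw [← Matrix.toLin'_pow, hXr, Matrix.toLin'_one]; rfl) hWi hWt
      rw [hbo, hW] at hlj
      have := Nat.mod_lt n hc0
      rw [(hdm (by rcases hcase with ⟨h, -⟩ | ⟨h, -⟩ <;> omega) hlj).1]
      omega
    have hbm : b ≤ m := by
      by_contra h
      rw [Nat.mod_eq_of_lt (not_le.1 h)] at hmod
      omega
    refine ⟨hbm, hmod, fun hcb => ?_⟩
    rcases hcase with ⟨h, -⟩ | ⟨-, hb, hdvd⟩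
    · omega
    by_contra hbad
    have hcard := card_factors (F := F) (r := r) hr
    rw [hbo] at hcard
    have ht : (factors F r).card = (r - 1) / b := by rw [← hcard, Nat.mul_div_cancel _ hb0]
    have ht0 : 0 < (factors F r).card := by
      rcases Nat.eq_zero_or_pos (factors F r).card with h0 | h0
      · rw [h0, zero_mul] at hcard
        have := hrp.two_le
        omega
      · exact h0
    have hj0 : 1 ≤ m / b := (Nat.one_le_div_iff hb0).2 hbm
    have hN0 : 1 ≤ n / b := (Nat.one_le_div_iff hb0).2 (by omega)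
    obtain ⟨N, hN1, hN2, hN3⟩ : ∃ N, N ≤ n / b ∧ n / b ≤ N + 1 ∧
        (N - min (factors F r).card N + 1) / 2 < m / b := by
      rcases le_or_gt (n / b) (factors F r).card with h | h
      · exact ⟨n / b, le_rfl, by omega, by rw [min_eq_right h]; omega⟩
      · by_cases hev : (n / b - (factors F r).card) % 2 = 0
        · exact ⟨n / b, le_rfl, by omega, by rw [min_eq_left h.le]; omega⟩
        · exact ⟨n / b - 1, by omega, by omega, by rw [min_eq_left (by omega)]; omega⟩
    obtain ⟨P, hP, hPs⟩ : ∃ P : Fin N → F[X], (∀ s, P s ∈ factors F r) ∧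
        ∑ Q ∈ factors F r, (Finset.univ.filter fun s => P s = Q).card / 2 ≤ (N - min (factors F r).card N + 1) / 2 := by
      rcases Nat.eq_zero_or_pos N with rfl | hN
      · exact ⟨Fin.elim0, fun s => s.elim0, by simp⟩
      · exact exists_types_fun _ (lt_min ht0 hN) (min_le_left _ _)
    choose A hA hAr hAP using fun s => exists_block_of_factor hh hqk hF hr hb hdvd hbo (hP s)
    have hle : b * N ≤ n := (Nat.mul_le_mul_left b hN1).trans (Nat.mul_div_le n b)
    obtain ⟨X, hX, hXr, -, hbd⟩ := exists_types (n := n) hh hqk hF hr hb hdvd hbo A hA hAr P hP hAP (e := n - b * N)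
      (by rw [Fintype.card_fin]; omega)
    obtain ⟨W, hW, hWt, hWi⟩ := exists_ti_of_good hh hqk hq2 hF hr hm hG hX hXr (w := (1 : F)) (by simp)
      (by rw [hdet1 hX hXr, one_pow, mul_one])
    obtain ⟨l, j, hlj, hl, hj⟩ := hbd W hWi hWt
    rw [hW] at hlj
    have := Nat.mul_le_mul_left b hN2
    have := Nat.mod_add_div n b
    have := Nat.mod_lt n hb0
    rw [mul_add, mul_one] at *
    have h2 := (hdm (by omega) hlj).2
    omega
  · rintro ⟨hbm, hmod, hbig⟩ x hx hxr -
    obtain ⟨z, hz⟩ := hxr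
    rw [Matrix.SpecialLinearGroup.coe_pow] at hz
    have hX := (mem_SU_iff_mul hh).1 hx
    have hzn := norm_of_pow hh hn hX hz
    obtain ⟨a, -, ha⟩ := Nat.exists_mul_mod_eq_one_of_coprime (hrp.coprime_iff_not_dvd.2 hdq) (by omega : 1 < q + 1)
    have hwz : (z ^ a) ^ r = z := by
      rw [← pow_mul, mul_comm a r, ← Nat.mod_add_div (r * a) (q + 1), ha, pow_add, pow_one, pow_mul, ← sigma_eq hh, hzn,
        one_pow, mul_one]
    have hwn : z ^ a * σ (z ^ a) = 1 := by rw [map_pow, ← mul_pow, hzn, one_pow]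
    obtain ⟨g, hg1, hgi, hgW⟩ := reduce hh hX hz hwn hwz
    obtain ⟨N, hN, hdim⟩ := PrimeInv.finrank_mov (f := g) hr hg1
    rw [hbo] at hN hdim
    rw [Module.finrank_fin_fun] at hdim
    obtain ⟨⟨M, hM⟩, -⟩ := exists_sub_of_atoms (uformH hh).herm hgi hc0 (atom hgi hg1) (movSp g) le_rfl inv_movSp
      (nondeg_movSp hr hg1 (uformH hh).herm hgi)
    have hfix : 2 * (m % b) ≤ finrank F (fixSp g) := by
      have e' : n = finrank F (fixSp g) + c * M := by omega
      have e : n % c = finrank F (fixSp g) % c := (congrArg (· % c) e').trans (Nat.add_mul_mod_self_left _ _ _)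
      have := Nat.mod_le (finrank F (fixSp g)) c
      omega
    obtain ⟨W, hWi, hWt, hWr⟩ : ∃ W : Submodule F (Fin n → F), Inv g W ∧ TI (H σ n) W ∧ finrank F W = m := by
      rcases hcase with ⟨-, hpar⟩ | ⟨hcb, hb, hdvd⟩
      · obtain ⟨J, hJ, hW⟩ := exists_ti_even (uformH hh) hgi hqk hF hr hg1 hpar hrq hbo
        exact exists_ti_dim (t := 0) (uformH hh) hgi hqk hq2 hF hr hg1 hb0 hN
          (Nat.le_of_mul_le_mul_right (by rw [add_zero, ← hN]; exact hJ) hb0) hW (by rwa [Module.finrank_fin_fun]) hfix (Or.inl rfl)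
      · obtain ⟨J, hJ, hW⟩ := exists_ti_conj (uformH hh) hgi (isSemisimple_of_pow hr hg1)
          (nondeg_movSp hr hg1 (uformH hh).herm hgi) (killed_movSp (f := g) hr hg1)
          (fun P hP => monic_factor hrp.ne_zero hP) (fun P hP => conj_factor hh hqk hq2 hF hr hb hbo hdvd hP)
        have hcard := card_factors (F := F) (r := r) hr
        rw [hbo] at hJ hW hcard
        exact exists_ti_dim (t := (factors F r).card) (uformH hh) hgi hqk hq2 hF hr hg1 hb0 hN
          (Nat.le_of_mul_le_mul_right (by rw [← hN]; exact hJ) hb0) hW (by rwa [Module.finrank_fin_fun]) hfix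
          (Or.inr ⟨by rw [Module.finrank_fin_fun, ← Nat.mul_div_cancel (factors F r).card hb0, hcard]; exact hbig hcb,
            by rw [Module.finrank_fin_fun, ← hcb]; rw [hcb] at hmod ⊢; exact hmod⟩)
    exact mk_ti hh _ W hWr hWt (hgW W hWi)

/-- Elements of prime order of PSU_n(q) with no fixed totally isotropic `m`-space. Here `T = PSU_n(q)` (`n ≥ 3`, `(n, q) ≠ (3, 2)`), realised through the matrices of determinant 1 over the field `F` with `q²` elements preserving the Hermitian form `h(u, v) = Σ u_i v_i^q`; an element of `T` of prime order `r` is such a matrix `x` with `x^r` scalar and `x` not scalar. For `r ≠ p` let `i` be the multiplicative order of `q` modulo `r`, `b = i/2` for `i` even and `b = i` for `i` odd, `c = i, i/2, 2i` according as `i ≡ 0, 2 (mod 4)` or `i` odd, and write `k = n mod c`, `ℓ = m mod b`, `ℓ' = m mod c`, `n' = ⌊n/b⌋`, `m' = ⌊m/b⌋`, `s = (r−1)/b`; `(a)_r` is the `r`-part of `a`. Let `1 ≤ m ≤ n/2` and let `r` be a prime dividing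 the number of totally isotropic `m`-spaces. Then every element of `T` of order `r` fixes a totally isotropic `m`-space if and only if either (i) `r = 2`, `p ≠ 2`, and (`m < n/2` or `(q+1)_2 ≤ (n)_2`); or (ii) `r ≠ p`, `r > 2`, `b ≤ m`, `k ≥ 2ℓ`, and either `i ≢ 2 (mod 4)`, or `i ≡ 2 (mod 4)`, `n' − 2m' ≥ s` and (`i > 2`, or `i = 2` and (`r ∣ m` or `(q+1)_r ≥ (n)_r`)). -/
theorem result {F : Type*} [Field F] [Fintype F] {p : ℕ} [Fact p.Prime] [CharP F p] {q : ℕ} (hq : Fintype.card F = q ^ 2)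
    (n m : ℕ) (hn : 3 ≤ n) (hT : (n, q) ≠ (3, 2)) (hm : 1 ≤ m) (hmn : 2 * m ≤ n)
    (r : ℕ) [Fact r.Prime]
    (hrΩ : r ∣ Nat.card {W : Submodule F (Fin n → F) // Module.finrank F ↥W = m ∧ (∀ u ∈ W, ∀ v ∈ W, Cfsg.hermForm n F q u v = 0)})
    (i b c : ℕ) (hi : i = orderOf (q : ZMod r)) (hb : b = if Even i then i / 2 else i)
    (hc : c = if i % 4 = 0 then i else if i % 4 = 2 then i / 2 else 2 * i) :
    (∀ x : Matrix.SpecialLinearGroup (Fin n) F, x ∈ Cfsg.SU n F q →
      (∃ z : F, ((x ^ r : Matrix.SpecialLinearGroup (Fin n) F) : Matrix (Fin n) (Fin n) F) = z • (1 : Matrix (Fin n) (Fin n) F)) →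
      (∀ z : F, (x : Matrix (Fin n) (Fin n) F) ≠ z • (1 : Matrix (Fin n) (Fin n) F)) →
      ∃ W : Submodule F (Fin n → F), Module.finrank F ↥W = m ∧ (∀ u ∈ W, ∀ v ∈ W, Cfsg.hermForm n F q u v = 0) ∧
        W.map (Matrix.toLin' (x : Matrix (Fin n) (Fin n) F)) ≤ W) ↔
    ((r = 2 ∧ p ≠ 2 ∧ (2 * m < n ∨ padicValNat 2 (q + 1) ≤ padicValNat 2 n)) ∨
     (r ≠ p ∧ 2 < r ∧ b ≤ m ∧ 2 * (m % b) ≤ n % c ∧
       (i % 4 ≠ 2 ∨ (i % 4 = 2 ∧ (r - 1) / b + 2 * (m / b) ≤ n / b ∧
         (2 < i ∨ (i = 2 ∧ (r ∣ m ∨ padicValNat r n ≤ padicValNat r (q + 1)))))))) := by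
  classical
  change Good F q n m r ↔ _
  have hp : p.Prime := Fact.out
  have hrp : r.Prime := Fact.out
  have hFN : Nat.card F = q ^ 2 := by rw [Nat.card_eq_fintype_card, hq]
  have hq2 : 2 ≤ q := two_le_q hFN
  obtain ⟨σ, hh⟩ := exists_uFrob hFN
  obtain ⟨k, hqk⟩ : ∃ k, q = p ^ k := by
    obtain ⟨N, -, hN⟩ := FiniteField.card F p
    rw [hq] at hN
    obtain ⟨k, -, hk⟩ := (Nat.dvd_prime_pow hp).1 (hN ▸ dvd_pow_self q two_ne_zero)
    exact ⟨k, hk⟩
  obtain ⟨hrq, j, hj1, hj2, hj3⟩ := exists_dvd_of_dvd_card_ti hq hrp hmn hrΩ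
  have hrp' : r ≠ p := fun e => by
    rcases Nat.eq_zero_or_pos k with rfl | hk
    · rw [pow_zero] at hqk; omega
    · exact hrq (hqk ▸ e ▸ dvd_pow_self r hk.ne')
  have hr : (r : F) ≠ 0 := cast_ne_zero_of_prime_ne hrp hrp'
  by_cases hr2 : r = 2
  · subst hr2
    rw [good_two_iff hh hqk hq2 hq (Ne.symm hrp') (Nat.not_even_iff_odd.1 fun h => hrq h.two_dvd) hm hmn]
    constructor
    · exact fun H => Or.inl ⟨rfl, Ne.symm hrp', H⟩
    · rintro (⟨-, -, H⟩ | ⟨-, h', -⟩)
      · exact H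
      · exact absurd h' (lt_irrefl 2)
  have hr3 : 2 < r := lt_of_le_of_ne hrp.two_le (Ne.symm hr2)
  haveI : Fact (2 < r) := ⟨hr3⟩
  have hqr0 : (q : ZMod r) ≠ 0 := fun e => hrq ((ZMod.natCast_eq_zero_iff q r).1 e)
  have hi0 : 0 < i := hi ▸ orderOf_pos_iff.2 (isOfFinOrder_iff_pow_eq_one.2
    ⟨r - 1, by omega, ZMod.pow_card_sub_one_eq_one hqr0⟩)
  have hneg : (-1 : ZMod r) ≠ 1 := ZMod.neg_one_ne_one
  have hplus : ∀ t, (r ∣ q ^ t + 1) ↔ (q : ZMod r) ^ t = -1 := fun t => by
    rw [← ZMod.natCast_eq_zero_iff, Nat.cast_add, Nat.cast_pow, Nat.cast_one, add_eq_zero_iff_eq_neg]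
  have hord : ∀ t, (q : ZMod r) ^ t = 1 ↔ i ∣ t := fun t => by rw [hi, orderOf_dvd_iff_pow_eq_one]
  have hhalf : ∀ t, i = 2 * t → (q : ZMod r) ^ t = -1 := fun t ht => by
    refine (mul_self_eq_one_iff.1 ?_).resolve_left fun e => ?_
    · rw [← pow_add, hord]; exact ⟨1, by omega⟩
    · have := Nat.le_of_dvd (by omega) ((hord t).1 e)
      omega
  have hi2 : i = 2 ↔ r ∣ q + 1 := by
    constructor
    · intro h
      have := (hplus 1).2 (hhalf 1 (by omega))
      rwa [pow_one] at this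
    · intro h
      have e := (hplus 1).1 (by rwa [pow_one])
      have h2 : i ∣ 2 := (hord 2).1 (by rw [show 2 = 1 + 1 from rfl, pow_add, e, neg_one_mul, neg_neg])
      rcases (Nat.dvd_prime Nat.prime_two).1 h2 with h1 | h1
      · exact absurd (e.symm.trans ((hord 1).2 (by rw [h1]))) hneg
      · exact h1
  by_cases hdvd : r ∣ q + 1
  · have h2 := hi2.2 hdvd
    have hb1 : b = 1 := by rw [hb, h2]; simp
    have hc1 : c = 1 := by rw [hc, h2]; simp
    subst hb1 hc1
    rw [good_plus_iff hh hqk hq2 hq hr hr2 hdvd hm hmn]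
    simp only [Nat.div_one, Nat.mod_one]
    constructor
    · exact fun H => Or.inr ⟨hrp', hr3, hm, le_rfl, Or.inr ⟨by omega, H.1, Or.inr ⟨h2, H.2⟩⟩⟩
    · rintro (⟨h', -⟩ | ⟨-, -, -, -, h' | ⟨-, h1, h' | ⟨-, H⟩⟩⟩)
      · exact absurd h' hr2
      · omega
      · omega
      · exact ⟨h1, H⟩
  have hbo : orderOf ((Fintype.card F : ℕ) : ZMod r) = b := by
    rw [hq, Nat.cast_pow, orderOf_pow' _ two_ne_zero, ← hi, hb]
    split_ifs with h
    · rw [Nat.gcd_eq_right h.two_dvd]
    · rw [(Nat.coprime_two_right.2 (Nat.not_even_iff_odd.1 h)).gcd_eq_one, Nat.div_one]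
  have hcdvd : ∀ j, (-(q : ZMod r)) ^ j = 1 → c ∣ j := by
    intro j hj
    have h2 : i ∣ 2 * j := (hord _).1 (by rw [← (even_two_mul j).neg_pow, mul_comm, pow_mul, hj, one_pow])
    rcases Nat.even_or_odd j with hje | hjo
    · rw [hje.neg_pow] at hj
      have h1 := (hord j).1 hj
      rw [hc]; split_ifs with h4 h4'
      · exact h1
      · exact (Nat.div_dvd_of_dvd (by omega)).trans h1
      · exact (Nat.coprime_two_left.2 (Nat.odd_iff.2 (by omega))).mul_dvd_of_dvd_of_dvd hje.two_dvd h1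
    · rw [hjo.neg_pow, neg_eq_iff_eq_neg] at hj
      have hne : i % 4 = 2 := by
        rcases Nat.even_or_odd i with he | ho
        · obtain ⟨t, ht⟩ := he
          have h3 : t ∣ j := Nat.dvd_of_mul_dvd_mul_left two_pos (by rwa [← two_mul, ← ht] at *)
          have : Odd t := hjo.of_dvd_nat h3
          obtain ⟨a, ha⟩ := this
          omega
        · have h1 := (hord j).2 ((Nat.coprime_two_right.2 ho).dvd_of_dvd_mul_left h2)
          exact absurd (hj.symm.trans h1) hneg
      rw [hc, if_neg (by omega), if_pos hne]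
      exact Nat.dvd_of_mul_dvd_mul_left two_pos (by rwa [show 2 * (i / 2) = i by omega])
  have hpow : (-(q : ZMod r)) ^ c = 1 := by
    rw [hc]; split_ifs with h4 h4'
    · rw [Even.neg_pow (Nat.even_iff.2 (by omega)), hord]
    · rw [Odd.neg_pow (Nat.odd_iff.2 (by omega)), hhalf (i / 2) (by omega), neg_neg]
    · rw [(even_two_mul i).neg_pow, hord]
      exact dvd_mul_left i 2
  have hc0 : 0 < c := by rw [hc]; split_ifs <;> omega
  have hlt : n % c < 2 * m := PrimeInv.mod_lt_of_dvd hc0 hj1 hj2 (hcdvd j hj3)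
  have hb0 : 0 < b := by
    rw [hb]; split_ifs with h
    · obtain ⟨a, ha⟩ := h; omega
    · exact hi0
  have hcase : (c = 2 * b ∧ ∀ t : ℕ, Odd t → ¬ r ∣ q ^ t + 1) ∨ (c = b ∧ Odd b ∧ r ∣ q ^ b + 1) := by
    by_cases h4 : i % 4 = 2
    · have hbi : b = i / 2 := by rw [hb, if_pos (Nat.even_iff.2 (by omega))]
      refine Or.inr ⟨by rw [hc, hbi, if_neg (by omega), if_pos h4], Nat.odd_iff.2 (by omega), (hplus b).2 (hhalf b (by omega))⟩
    · refine Or.inl ⟨?_, fun t ht hd => h4 ?_⟩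
      · rw [hc, hb, if_neg h4]
        split_ifs with h1 h2 h2 <;> simp only [Nat.even_iff, Nat.not_even_iff] at * <;> omega
      have e := (hplus t).1 hd
      have h2 : i ∣ 2 * t := (hord _).1 (by rw [two_mul, pow_add, e, neg_one_mul, neg_neg])
      rcases Nat.even_or_odd i with he | ho
      · obtain ⟨s, hs⟩ := he
        have h3 : s ∣ t := Nat.dvd_of_mul_dvd_mul_left two_pos (by rwa [← two_mul, ← hs] at *)
        obtain ⟨a, ha⟩ := ht.of_dvd_nat h3
        omega
      · exact absurd (e.symm.trans ((hord t).2 ((Nat.coprime_two_right.2 ho).dvd_of_dvd_mul_left h2))) hneg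
  have hcb : i % 4 = 2 ↔ c = b := by
    by_cases h4 : i % 4 = 2
    · refine iff_of_true h4 ?_
      rw [hc, hb, if_neg (by omega), if_pos h4, if_pos (Nat.even_iff.2 (by omega))]
    · refine iff_of_false h4 fun e => ?_
      rw [hc, hb, if_neg h4] at e
      split_ifs at e with h1 h2 h2 <;> simp only [Nat.even_iff, Nat.not_even_iff] at * <;> omega
  have hne2 : i ≠ 2 := fun h => hdvd (hi2.1 h)
  rw [good_other_iff hh hqk hq2 hq hr hrq hdvd hb0 hbo hpow hcase hm hmn hlt]
  constructor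
  · rintro ⟨h1, h2, h3⟩
    refine Or.inr ⟨hrp', hr3, h1, h2, ?_⟩
    by_cases h4 : i % 4 = 2
    · exact Or.inr ⟨h4, h3 (hcb.1 h4), Or.inl (by omega)⟩
    · exact Or.inl h4
  · rintro (⟨h', -⟩ | ⟨-, -, h1, h2, h3⟩)
    · exact absurd h' hr2
    · refine ⟨h1, h2, fun h => ?_⟩
      rcases h3 with h3 | ⟨-, h3, -⟩
      · exact absurd (hcb.2 h) h3
      · exact h3

end Cfsg.Agent.S5953
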