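import Cfsg.Statements.S5955
import Cfsg.Agent.Lib.PrimeOrderSp.Config
import Cfsg.Agent.Lib.PrimeOrderSp.InvolutionTI

set_option autoImplicit false
open scoped MatrixGroups
open Cfsg

namespace Cfsg.Agent.S5955

/-- Elements of prime order of PSp_n(q) with no fixed totally isotropic `m`-space. Here `T = PSp_n(q)` with `n = 2d ≥ 4`, `(n, q) ≠ (4, 2)`, realised through the symplectic matrices over the field `F` with `q` elements (preserving the standard alternating form); an element of `T` of prime order `r` is such a matrix `x` with `x^r` scalar and `x` not scalar. For `r ≠ p` let `i` be the multiplicative order of `q` modulo `r`, `c = i` for `i` even and `c = 2i` for `i` odd, and write `k = n mod c`, `ℓ = m mod i`, `ℓ' = m mod c`, `n' = ⌊n/i⌋`, `m' = ⌊m/i⌋`, `t = (r−1)/i`. Let `1 ≤ m ≤ n/2` and let `r` be a prime dividing the number of totally isotropic `m`-spaces. Then every element of `T` of order `r` fixes a totally isotropic `m`-space if and only if either (i) `r = 2 ≠ p` and (`m` is even or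 `q ≡ 1 (mod 4)`); or (ii) `r ≠ p`, `r > 2`, `i ≤ m`, `k ≥ 2ℓ`, and (`i` is odd or `n' − 2m' ≥ t`). -/
theorem result {F : Type*} [Field F] [Fintype F] {p : ℕ} [Fact p.Prime] [CharP F p] {q : ℕ} (hq : Fintype.card F = q)
    (d m : ℕ) (hd : 2 ≤ d) (hT : (d, q) ≠ (2, 2)) (hm : 1 ≤ m) (hmd : m ≤ d)
    (r : ℕ) [Fact r.Prime]
    (hrΩ : r ∣ Nat.card {W : Submodule F (Fin d ⊕ Fin d → F) // Module.finrank F ↥W = m ∧ (∀ u ∈ W, ∀ v ∈ W, Cfsg.sympForm d F u v = 0)})
    (i c : ℕ) (hi : i = orderOf (q : ZMod r)) (hc : c = if Even i then i else 2 * i) :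
    (∀ x : ↥(Matrix.symplecticGroup (Fin d) F),
      (∃ z : F, ((x ^ r : ↥(Matrix.symplecticGroup (Fin d) F)) : Matrix (Fin d ⊕ Fin d) (Fin d ⊕ Fin d) F) = z • (1 : Matrix (Fin d ⊕ Fin d) (Fin d ⊕ Fin d) F)) →
      (∀ z : F, (x : Matrix (Fin d ⊕ Fin d) (Fin d ⊕ Fin d) F) ≠ z • (1 : Matrix (Fin d ⊕ Fin d) (Fin d ⊕ Fin d) F)) →
      ∃ W : Submodule F (Fin d ⊕ Fin d → F), Module.finrank F ↥W = m ∧ (∀ u ∈ W, ∀ v ∈ W, Cfsg.sympForm d F u v = 0) ∧
        W.map (Matrix.toLin' (x : Matrix (Fin d ⊕ Fin d) (Fin d ⊕ Fin d) F)) ≤ W) ↔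
    ((r = 2 ∧ p ≠ 2 ∧ (Even m ∨ q % 4 = 1)) ∨
     (r ≠ p ∧ 2 < r ∧ i ≤ m ∧ 2 * (m % i) ≤ (2 * d) % c ∧ (Odd i ∨ (r - 1) / i + 2 * (m / i) ≤ (2 * d) / i))) := by
  open CfsgLib.PrimeOrderSp CfsgLib.Geometry in
  classical
  obtain ⟨hrp, j₀, hj₀, hj₀d, hidvd⟩ := exists_dvd_of_dvd_card_ti (p := p) hmd hrΩ
  have hr : (r : F) ≠ 0 := cast_ne_zero_of_prime_ne Fact.out hrp
  subst hq
  rw [← hi] at hidvd
  have hA := sympBilin_isAlt d F
  have hnd := fun u h => (sympBilin_nondegenerate d F).1 u h
  have h := sympHerm (F := F) (d := d)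
  have hiso : ∀ (y : Matrix.symplecticGroup (Fin d) F) u v,
      sympBilin d F (Matrix.toLin' (y : Matrix (Fin d ⊕ Fin d) (Fin d ⊕ Fin d) F) u)
        (Matrix.toLin' (y : Matrix (Fin d ⊕ Fin d) (Fin d ⊕ Fin d) F) v) = sympBilin d F u v :=
    fun y u v => (mem_sp_iff d F _).1 y.2 u v
  have hdim : Module.finrank F (Fin d ⊕ Fin d → F) = 2 * d := by
    rw [Module.finrank_fintype_fun_eq_card, Fintype.card_sum, Fintype.card_fin, two_mul]
  by_cases hr2 : r = 2
  · subst hr2
    have h2 : (2 : F) ≠ 0 := by exact_mod_cast hr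
    constructor
    · intro H
      refine Or.inl ⟨rfl, Ne.symm hrp, ?_⟩
      by_contra hc
      rw [not_or] at hc
      have hodd : Fintype.card F % 2 = 1 := by
        rcases Nat.mod_two_eq_zero_or_one (Fintype.card F) with h0 | h0
        · exact absurd (by
            rw [← FiniteField.even_card_iff_char_two] at h0
            exact_mod_cast (h0 ▸ ringChar.Nat.cast_ringChar : ((2 : ℕ) : F) = 0)) h2
        · exact h0
      have h4 : Fintype.card F % 4 = 3 := by omega
      let xJ : ↥(Matrix.symplecticGroup (Fin d) F) := ⟨Matrix.J (Fin d) F, SymplecticGroup.J_mem _ _⟩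
      obtain ⟨W, hW, hWti, hWi⟩ := H xJ ⟨-1, by
          rw [SubmonoidClass.coe_pow, pow_two, neg_one_smul]
          exact Matrix.J_squared _ _⟩
        (fun z hz => by
          have := congrFun (congrFun hz (Sum.inl ⟨0, by omega⟩)) (Sum.inr ⟨0, by omega⟩)
          simp [xJ, Matrix.J, Matrix.smul_apply] at this)
      have hff : ∀ v, Matrix.toLin' (Matrix.J (Fin d) F) (Matrix.toLin' (Matrix.J (Fin d) F) v) = -v := fun v => by
        rw [← LinearMap.comp_apply, ← Matrix.toLin'_mul, Matrix.J_squared]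
        simp
      have hk := killed_sq_neg_one h4 hff (D := W) (Submodule.map_le_iff_le_comap.1 hWi)
      have hd2 := finrank_dvd (isSemisimple_sq_neg_one h4 hff) hk
      rw [hW] at hd2
      exact hc.1 (even_iff_two_dvd.2 hd2)
    · rintro (⟨-, -, hcase⟩ | ⟨-, h0, -⟩)
      swap
      · omega
      intro x ⟨z, hz⟩ _
      obtain ⟨hzz, -⟩ := exists_planeSys_sp (show 0 < d by omega) x hz
      set f : Module.End F (Fin d ⊕ Fin d → F) :=
        Matrix.toLin' (x : Matrix (Fin d ⊕ Fin d) (Fin d ⊕ Fin d) F) with hfdef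
      have hff : f ^ 2 = z • 1 := by
        rw [hfdef, ← pow_apply_toLin', ← SubmonoidClass.coe_pow, hz, map_smul, Matrix.toLin'_one]
        rfl
      obtain ⟨W, h1, h3, h4⟩ : ∃ W : Submodule F (Fin d ⊕ Fin d → F), Module.finrank F W = m ∧
          TI (σ := RingHom.id F) (sympBilin d F) W ∧ Inv f W := by
        rcases mul_self_eq_one_iff.1 hzz with rfl | rfl
        · exact exists_ti_sq_one h2 (hiso x) (by rw [hff, one_smul]) hmd
        · have hff' : ∀ v, f (f v) = -v := fun v => by
            have := LinearMap.congr_fun hff v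
            simpa [pow_two] using this
          by_cases h4 : Fintype.card F % 4 = 3
          · exact exists_ti_sq_neg_one_nonsplit h4 (hiso x) hff' hmd (hcase.resolve_right (by omega))
          · obtain ⟨s, hs⟩ := FiniteField.isSquare_neg_one_iff.2 h4
            exact exists_ti_sq_neg_one_split h2 (hiso x) hff' hs.symm hmd
      exact ⟨W, h1, h3, Submodule.map_le_iff_le_comap.2 h4⟩
  -- odd `r`
  have hrprime : r.Prime := Fact.out
  have hr3 : 2 < r := lt_of_le_of_ne hrprime.two_le (Ne.symm hr2)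
  have hodd : Odd r := hrprime.odd_of_ne_two hr2
  have hi0 : 0 < i := hi ▸ orderOf_card_pos hr
  have hti : i ≤ r - 1 := by
    have h1 := CfsgLib.KnownB.PrimeOrder.card_factors (F := F) (r := r) hr
    rw [← hi] at h1
    rcases Nat.eq_zero_or_pos (CfsgLib.KnownB.PrimeOrder.factors F r).card with h0 | h0
    · rw [h0, zero_mul] at h1; omega
    · rw [← h1]; exact Nat.le_mul_of_pos_left _ h0
  have ht0 : 0 < (r - 1) / i := Nat.div_pos hti hi0
  have hc0 : 0 < c ∧ i ∣ c := by
    rw [hc]; split_ifs
    · exact ⟨hi0, dvd_rfl⟩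
    · exact ⟨by omega, Dvd.intro_left 2 rfl⟩
  constructor
  · intro H
    refine Or.inr ⟨hrp, hr3, ?_⟩
    by_contra hcon
    -- an element without an invariant totally isotropic `m`-space
    have finish : ∀ x : ↥(Matrix.symplecticGroup (Fin d) F),
        ((x ^ r : ↥(Matrix.symplecticGroup (Fin d) F)) : Matrix (Fin d ⊕ Fin d) (Fin d ⊕ Fin d) F) =
          (1 : F) • (1 : Matrix (Fin d ⊕ Fin d) (Fin d ⊕ Fin d) F) →
        Module.finrank F (fixSp (Matrix.toLin' (x : Matrix (Fin d ⊕ Fin d) (Fin d ⊕ Fin d) F))) < 2 * d →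
        (∀ W l j, Inv (Matrix.toLin' (x : Matrix (Fin d ⊕ Fin d) (Fin d ⊕ Fin d) F)) W →
          TI (σ := RingHom.id F) (sympBilin d F) W → m = l + j * i →
          2 * l ≤ Module.finrank F (fixSp (Matrix.toLin' (x : Matrix (Fin d ⊕ Fin d) (Fin d ⊕ Fin d) F))) →
          Module.finrank F (W ⊓ movSp (Matrix.toLin' (x : Matrix (Fin d ⊕ Fin d) (Fin d ⊕ Fin d) F)) :
            Submodule F (Fin d ⊕ Fin d → F)) = j * i → False) → False := by
      intro x hx hfix hno
      have hfr : (Matrix.toLin' (x : Matrix (Fin d ⊕ Fin d) (Fin d ⊕ Fin d) F)) ^ r = 1 := by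
        rw [← pow_apply_toLin', ← SubmonoidClass.coe_pow, hx, one_smul, Matrix.toLin'_one]
        rfl
      obtain ⟨W, hW, hWti, hWi⟩ := H x ⟨1, hx⟩ (fun z hz => by
        obtain ⟨g, -, -, hzz, -⟩ := exists_unipower (show 0 < d by omega) x hodd hx
        have hlin : ∀ v, Matrix.toLin' (x : Matrix (Fin d ⊕ Fin d) (Fin d ⊕ Fin d) F) v = z • v := fun v => by
          rw [hz, Matrix.toLin'_apply, Matrix.smul_mulVec, Matrix.one_mulVec]
        have hpow : ∀ k : ℕ, ∀ v, (Matrix.toLin' (x : Matrix (Fin d ⊕ Fin d) (Fin d ⊕ Fin d) F) ^ k) v =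
            z ^ k • v := fun k => by
          induction k with
          | zero => simp
          | succ k ih => intro v; rw [pow_succ', Module.End.mul_apply, ih, hlin, smul_smul, pow_succ']
        let v₀ : Fin d ⊕ Fin d → F := Pi.single (Sum.inl ⟨0, by omega⟩) 1
        let v₁ : Fin d ⊕ Fin d → F := Pi.single (Sum.inr ⟨0, by omega⟩) 1
        have h01 : sympBilin d F v₀ v₁ ≠ 0 := by
          simp [v₀, v₁, sympForm_eq, Pi.single_apply]
        have hzr : z ^ r = 1 := by
          have e := hpow r v₀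
          rw [hfr, Module.End.one_apply] at e
          by_contra hne
          refine h01 ?_
          have e' : (z ^ r - 1) • v₀ = 0 := by rw [sub_smul, one_smul, ← e, sub_self]
          rw [(smul_eq_zero.1 e').resolve_left (sub_ne_zero.2 hne), map_zero, LinearMap.zero_apply]
        have hz2 : z * z = 1 := by
          have e := hiso x v₀ v₁
          rw [hlin, hlin, map_smul, map_smul, LinearMap.smul_apply, smul_eq_mul, smul_eq_mul, ← mul_assoc] at e
          exact (mul_eq_right₀ h01).1 e
        have hz1 : z = 1 := by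
          obtain ⟨k, hk⟩ := hodd
          rwa [hk, pow_succ, pow_mul, pow_two, hz2, one_pow, one_mul] at hzr
        have htop : fixSp (Matrix.toLin' (x : Matrix (Fin d ⊕ Fin d) (Fin d ⊕ Fin d) F)) = ⊤ :=
          Submodule.eq_top_iff'.2 fun v => mem_fixSp.2 (by rw [hlin, hz1, one_smul])
        rw [htop, finrank_top, hdim] at hfix
        exact lt_irrefl _ hfix)
      have hWinv := Submodule.map_le_iff_le_comap.1 hWi
      obtain ⟨l, j, e1, e2, e3⟩ := ti_decomp hA hnd (hiso x) hr hfr hWinv hWti
      rw [hW, ← hi] at e1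
      rw [← hi] at e3
      exact hno W l j hWinv hWti e1 e2 e3
    -- the element with the smallest fixed space
    have hkdiv := Nat.mod_add_div (2 * d) c
    obtain ⟨e, he⟩ : 2 ∣ (2 * d) % c := by
      refine (Nat.dvd_add_left ?_).1 (hkdiv.symm ▸ dvd_mul_right 2 d)
      refine dvd_mul_of_dvd_left ?_ _
      rw [hc]; split_ifs with hev
      · exact hev.two_dvd
      · exact dvd_mul_right 2 i
    by_cases hk2 : 2 * m ≤ (2 * d) % c ∧ m < i
    · -- impossible, as `r` divides the number of subspaces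
      obtain ⟨hk2, hmi⟩ := hk2
      have hcd : c ∣ 2 * j₀ := by
        rw [hc]; split_ifs with hev
        · exact hidvd
        · exact mul_dvd_mul_left 2 ((Nat.Coprime.dvd_of_dvd_mul_left
            (Nat.coprime_two_right.2 (Nat.not_even_iff_odd.1 hev))) hidvd)
      obtain ⟨a, ha⟩ := hcd
      have hlt := Nat.mod_lt (2 * d) hc0.1
      have h1 : c * ((2 * d) / c) < c * a := by omega
      have h2 : c * ((2 * d) / c) + c ≤ c * a := by
        have := Nat.lt_of_mul_lt_mul_left h1
        calc c * ((2 * d) / c) + c = c * ((2 * d) / c + 1) := by ring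
          _ ≤ c * a := Nat.mul_le_mul_left _ this
      omega
    have hsmall : i ≤ m ∧ 2 * (m % i) ≤ (2 * d) % c := by
      by_contra hns
      have hNpos : 0 < (2 * d) / c := by
        by_contra h0
        rw [Nat.not_lt, Nat.le_zero] at h0
        rw [h0, mul_zero, add_zero] at hkdiv
        by_cases him : i ≤ m
        · refine hns ⟨him, ?_⟩
          have := Nat.mod_le m i
          omega
        · exact hk2 ⟨by omega, by omega⟩
      have hex : ∃ x : ↥(Matrix.symplecticGroup (Fin d) F),
          ((x ^ r : ↥(Matrix.symplecticGroup (Fin d) F)) : Matrix (Fin d ⊕ Fin d) (Fin d ⊕ Fin d) F) =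
            (1 : F) • (1 : Matrix (Fin d ⊕ Fin d) (Fin d ⊕ Fin d) F) ∧
          Module.finrank F (fixSp (Matrix.toLin' (x : Matrix (Fin d ⊕ Fin d) (Fin d ⊕ Fin d) F))) = 2 * e := by
        rw [he] at hkdiv
        by_cases hev : Even i
        · rw [if_pos hev] at hc
          subst hc
          obtain ⟨x, hx, hfix, -⟩ := exists_sp_type (d := d) (e := e) (N := (2 * d) / c) (u := 1) hr hr2
            (hi ▸ hev) one_pos (by rw [← hi]; omega) (by omega) (by rw [← hi, mul_comm ((2 * d) / c)]; exact hkdiv)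
          exact ⟨x, hx, hfix⟩
        · rw [if_neg hev] at hc
          subst hc
          exact exists_sp_fixed_dim (d := d) (e := e) (N := (2 * d) / (2 * i)) hr (by
            rw [← hi, show 2 * ((2 * d) / (2 * i)) * i = 2 * i * ((2 * d) / (2 * i)) by ring]; exact hkdiv)
      obtain ⟨x, hx, hfix⟩ := hex
      have hpos : 0 < c * ((2 * d) / c) := Nat.mul_pos hc0.1 hNpos
      refine finish x hx (by omega) fun W l j hWi hWti hm' hl _ => ?_
      by_cases him : i ≤ m
      · have h1 : ¬ 2 * (m % i) ≤ (2 * d) % c := fun h => hns ⟨him, h⟩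
        have h2 : m % i = l % i := by rw [hm', Nat.add_mul_mod_self_right]
        have := Nat.mod_le l i
        omega
      · rcases Nat.eq_zero_or_pos j with rfl | hj
        · rw [zero_mul, add_zero] at hm'
          exact hk2 ⟨by omega, by omega⟩
        · have := Nat.le_mul_of_pos_left i hj
          omega
    obtain ⟨him, hkl⟩ := hsmall
    have hev : Even i := by
      by_contra hev
      exact hcon ⟨him, hkl, Or.inl (Nat.not_even_iff_odd.1 hev)⟩
    have hlarge : ¬ (r - 1) / i + 2 * (m / i) ≤ (2 * d) / i := fun h => hcon ⟨him, hkl, Or.inr h⟩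
    rw [if_pos hev] at hc
    subst hc
    have hml := Nat.mod_add_div m c
    have hm0 : 0 < m / c := Nat.div_pos him hc0.1
    have hklt := Nat.mod_lt (2 * d) hc0.1
    have hmlt := Nat.mod_lt m hc0.1
    have hNpos : 0 < (2 * d) / c := Nat.div_pos (by omega) hc0.1
    generalize ht : (r - 1) / c = t at hlarge ht0
    generalize hn' : (2 * d) / c = n at hlarge hNpos hkdiv
    -- three choices of the type
    obtain ⟨N, u, e', hu0, hut, huN, hdim', hbad⟩ : ∃ N u e', 0 < u ∧ u ≤ t ∧ u ≤ N ∧
        2 * e' + N * c = 2 * d ∧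
        ∀ l j, m = l + j * c → 2 * l ≤ 2 * e' → j ≤ (N - u + 1) / 2 → False := by
      rcases le_or_gt n t with hnt | hnt
      · refine ⟨n, n, e, hNpos, hnt, le_rfl, by rw [mul_comm n]; omega, fun l j h1 h2 h3 => ?_⟩
        have : j = 0 := by omega
        subst this
        omega
      by_cases hpar : (n - t) % 2 = 0
      · refine ⟨n, t, e, ht0, le_rfl, hnt.le, by rw [mul_comm n]; omega, fun l j h1 h2 h3 => ?_⟩
        have h4 : j + 1 ≤ m / c := by omega
        have h5 : j * c + c ≤ c * (m / c) := by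
          calc j * c + c = c * (j + 1) := by ring
            _ ≤ c * (m / c) := Nat.mul_le_mul_left _ h4
        omega
      · obtain ⟨c', hc'⟩ := hev
        refine ⟨n - 1, t, e + c', ht0, le_rfl, by omega, ?_, fun l j h1 h2 h3 => ?_⟩
        · obtain ⟨n₁, rfl⟩ : ∃ n₁, n = n₁ + 1 := ⟨n - 1, by omega⟩
          rw [Nat.add_sub_cancel]
          have : c * (n₁ + 1) = n₁ * c + c := by ring
          omega
        · have h4 : j + 1 ≤ m / c := by omega
          have h5 : j * c + c ≤ c * (m / c) := by
            calc j * c + c = c * (j + 1) := by ring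
              _ ≤ c * (m / c) := Nat.mul_le_mul_left _ h4
          omega
    obtain ⟨x, hx, hfix, hbound⟩ := exists_sp_type (d := d) (e := e') (N := N) (u := u) hr hr2 (hi ▸ hev) hu0
      (by rw [← hi, ht]; exact hut) huN (by rw [← hi]; exact hdim')
    have hpos : 0 < N * c := Nat.mul_pos (by omega) hc0.1
    refine finish x hx (by omega) fun W l j hWi hWti hm' hl hj => hbad l j hm' (by omega) ?_
    have hb := hbound (W ⊓ movSp _) inf_le_right (hWi.inf inv_movSp) (hWti.mono inf_le_left)
    rw [hj, ← hi] at hb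
    exact Nat.le_of_mul_le_mul_right hb hc0.1
  · rintro (⟨h0, -⟩ | ⟨-, -, him, hkl, hcase⟩)
    · omega
    intro x ⟨z, hz⟩ _
    obtain ⟨g, hgr, hgiso, hzz, hgdef⟩ := exists_unipower (show 0 < d by omega) x hodd hz
    obtain ⟨e, he⟩ := even_finrank hA (nondeg_fixSp hr hgr h hgiso)
    obtain ⟨N, J, hN, hNodd, hNle, hW⟩ := exists_ti_mov hA hnd hgiso hr hgr
    rw [← hi] at hN hNodd hNle hW
    have hsum := Submodule.finrank_add_eq_of_isCompl (isCompl_fix_mov hr hgr)
    rw [hdim, he, hN] at hsum
    -- the dimensions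
    obtain ⟨j, l, hjJ, hle, hm'⟩ : ∃ j l, j ≤ J ∧ l ≤ e ∧ m = j * i + l := by
      have hml := Nat.mod_add_div m i
      rw [mul_comm i] at hml
      by_cases hmJ : m / i ≤ J
      · refine ⟨m / i, m % i, hmJ, ?_, by omega⟩
        have hk : (2 * d) % c = (2 * e) % c := by
          rw [← hsum, ← two_mul e, hc]
          split_ifs with hev
          · exact Nat.add_mul_mod_self_right _ _ _
          · rw [hNodd (Nat.not_even_iff_odd.1 hev), show 2 * J * i = J * (2 * i) by ring]
            exact Nat.add_mul_mod_self_right _ _ _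
        have := Nat.mod_le (2 * e) c
        omega
      · refine ⟨J, m - J * i, le_rfl, ?_, ?_⟩
        · rcases hcase with ho | hev'
          · have hN2 := hNodd ho
            subst hN2
            rw [show 2 * J * i = 2 * (J * i) by ring] at hsum
            omega
          · rcases Nat.even_or_odd i with hev | ho
            swap
            · have hN2 := hNodd ho
              subst hN2
              rw [show 2 * J * i = 2 * (J * i) by ring] at hsum
              omega
            rw [if_pos hev] at hc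
            subst hc
            have hdiv : (2 * d) / c = N + (2 * e) / c := by
              rw [← hsum, ← two_mul e, Nat.add_mul_div_right _ _ hi0, add_comm]
            have hk : (2 * d) % c = (2 * e) % c := by
              rw [← hsum, ← two_mul e, Nat.add_mul_mod_self_right]
            rw [hdiv] at hev'
            have hE := Nat.mod_add_div (2 * e) c
            have h6 : 2 * (m / c) * c ≤ (2 * J + (2 * e) / c) * c := Nat.mul_le_mul_right _ (by omega)
            rw [mul_assoc, add_mul, mul_assoc, mul_comm ((2 * e) / c)] at h6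
            omega
        · have : J * i ≤ m / i * i := Nat.mul_le_mul_right _ (by omega)
          omega
    obtain ⟨W₁, h1a, h1b, h1c, h1d⟩ := exists_ti_fix (l := l) hA hnd hgiso hr hgr (by omega)
    obtain ⟨W₂, h2a, h2b, h2c, h2d⟩ := hW j hjJ
    refine ⟨W₁ ⊔ W₂, ?_, h1c.sup h h2c fun v hv => mem_perp.2 fun u hu =>
      (orth_fix_mov h hgiso u (h1a hu) v (h2a hv)).2, ?_⟩
    · have h5 := Submodule.finrank_sup_add_finrank_inf_eq W₁ W₂
      rw [((isCompl_fix_mov hr hgr).disjoint.mono h1a h2a).eq_bot, finrank_bot, add_zero] at h5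
      omega
    · rw [← inv_iff_map_le hzz, ← hgdef]
      exact h1b.sup h2b

end Cfsg.Agent.S5955
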