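import Cfsg.Statements.S5956
import Cfsg.Agent.Lib.ThreeTransp.SpNondeg
import Cfsg.Agent.Lib.ThreeTransp.SpUnipSub
import Cfsg.Agent.Lib.InvolTwo.SpMatrix

set_option autoImplicit false
open scoped MatrixGroups
open Cfsg

namespace Cfsg.Agent.S5956

open CfsgLib.PrimeOrderSp CfsgLib.Geometry CfsgLib.ThreeTransp.SpNondeg CfsgLib.ThreeTransp.SpUnipSub
open CfsgLib.FgsC.SpUnip CfsgLib.FgsC.FormClasses CfsgLib.KnownB.JordanCent

universe u

variable {F : Type u} [Field F] {d : ℕ}

local notation "VS" => (Fin d ⊕ Fin d → F)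
local notation "MS" => Matrix (Fin d ⊕ Fin d) (Fin d ⊕ Fin d) F

theorem iso_toLin (x : Matrix.symplecticGroup (Fin d) F) (u v : VS) :
    sympBilin d F (Matrix.toLin' (x : MS) u) (Matrix.toLin' (x : MS) v) = sympBilin d F u v :=
  (mem_sp_iff d F _).1 x.2 u v

theorem z_sq (hd : 0 < d) (x : Matrix.symplecticGroup (Fin d) F) {z : F} (hx : (x : MS) = z • (1 : MS)) :
    z * z = 1 := by
  have h := iso_toLin x (Pi.single (Sum.inl ⟨0, hd⟩) 1) (Pi.single (Sum.inr ⟨0, hd⟩) 1)
  rw [hx] at h
  simp only [Matrix.toLin'_apply, Matrix.smul_mulVec, Matrix.one_mulVec, map_smul, LinearMap.smul_apply, smul_eq_mul] at h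
  rw [← mul_assoc] at h
  refine (mul_eq_right₀ ?_).1 h
  rw [sympBilin_apply, sympForm_eq, Finset.sum_eq_single ⟨0, hd⟩] <;> simp +contextual [Pi.single_apply]

theorem top_nondeg : Nondeg (σ := RingHom.id F) (sympBilin d F) (⊤ : Submodule F VS) :=
  fun u _ h => (sympBilin_nondegenerate d F).1 u fun v => h v trivial

theorem finrank_VS : Module.finrank F VS = 2 * d := by
  rw [Module.finrank_fintype_fun_eq_card, Fintype.card_sum, Fintype.card_fin, two_mul]

variable [Fintype F]

theorem herm : IsHerm (σ := RingHom.id F) (sympBilin d F) :=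
  isHerm_alt (sympBilin_isAlt d F) fun u h => (sympBilin_nondegenerate d F).1 u h

theorem isCompl_perp {W : Submodule F VS} (hW : Nondeg (σ := RingHom.id F) (sympBilin d F) W) :
    IsCompl W (perp (sympBilin d F) W) := by
  refine ⟨Submodule.disjoint_def.2 fun u h1 h2 => hW u h1 h2, codisjoint_iff.2 ?_⟩
  have := sup_perp herm top_nondeg le_top hW
  rwa [inf_top_eq] at this

theorem nondeg_perp_top {W : Submodule F VS} (hW : Nondeg (σ := RingHom.id F) (sympBilin d F) W) :
    Nondeg (σ := RingHom.id F) (sympBilin d F) (perp (sympBilin d F) W) := by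
  have := nondeg_perp herm top_nondeg le_top hW
  rwa [inf_top_eq] at this

/-- A symplectic matrix of prescribed unipotent type. -/
theorem exists_of_type {p : ℕ} [Fact p.Prime] [CharP F p] (h2 : (2 : F) ≠ 0) {μ : Multiset ℕ}
    (hμ : ∀ a ∈ μ, 0 < a ∧ a ≤ p) (hodd : ∀ a, Odd a → Even (μ.count a)) (hsum : μ.sum = 2 * d) :
    ∃ (g : Matrix.symplecticGroup (Fin d) F) (t : ℕ) (e : Fin t → ℕ) (H : Matrix (Idx e) (Idx e) F),
      (g : MS) ^ p = 1 ∧ SForm (RingHom.id F) (-1) e H ∧ sizes e = μ ∧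
        Iso (1 + shift e F) H (g : MS) (Matrix.J (Fin d) F) := by
  classical
  obtain ⟨t, e, H, hH, hsz, -⟩ := exists_model (F := F) h2 (fun a ha => (hμ a ha).1) hodd (S := ∅) (Finset.empty_subset _)
  have hd' : ∀ k, e k ≤ p := fun k => (hμ _ (show e k ∈ μ by rw [← hsz]; exact mem_sizes_iff.2 ⟨k, rfl⟩)).2
  let eq : Idx e ≃ Fin d ⊕ Fin d := Fintype.equivOfCardEq (by
    rw [← sum_sizes, hsz, hsum, Fintype.card_sum, Fintype.card_fin]; omega)
  obtain ⟨H', hH'⟩ : ∃ H', H' = H.submatrix eq.symm eq.symm := ⟨_, rfl⟩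
  have hHs : H'.transpose = (-1 : F) • H' := by
    rw [hH', Matrix.transpose_submatrix, ← cT_id H, hH.herm]; rfl
  have hHd : H'.det ≠ 0 := by rw [hH', Matrix.det_submatrix_equiv_self]; exact hH.det_ne
  obtain ⟨X, hX⟩ := exists_congr_matrix h2 (Or.inr rfl) hHs J_props.1 hHd J_props.2
    (fun h => absurd (by linear_combination -h) h2)
  have hXd : IsUnit X.det := isUnit_iff_ne_zero.2 fun h0 => hHd (by rw [← hX, Matrix.det_mul, h0, mul_zero])
  obtain ⟨A, hA⟩ : ∃ A, A = X * (1 + shift e F).submatrix eq.symm eq.symm * X⁻¹ := ⟨_, rfl⟩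
  have hI : Iso (1 + shift e F) H A (Matrix.J (Fin d) F) := by
    refine (Iso.submatrix eq.symm (1 + shift e F) H).symm.trans
      ⟨X, X⁻¹, Matrix.mul_nonsing_inv X hXd, Matrix.nonsing_inv_mul X hXd, ?_, hX.trans hH'⟩
    rw [hA, Matrix.mul_assoc, Matrix.nonsing_inv_mul X hXd, Matrix.mul_one]
  refine ⟨⟨A, SymplecticGroup.mem_iff'.2 (iso_preserves hI (by rw [← cT_id]; exact hH.inv))⟩, t, e, H, ?_, hH, hsz, hI⟩
  exact iso_pow_one hI p (by rw [one_add_shift_pow, (shift_pow_eq_zero_iff p).2 hd', add_zero])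

/-- An alternating involution on a subspace with invariant complement. -/
theorem rank_part [CharP F 2] {x : Matrix.symplecticGroup (Fin d) F} (hx : x * x = 1)
    (halt : CfsgLib.InvolTwo.SpMatrix.IsAltType x) {W : Submodule F VS}
    (hW : Inv (Matrix.toLin' (x : MS)) W) (hWn : Nondeg (σ := RingHom.id F) (sympBilin d F) W) :
    2 * Module.finrank F (W.map (CfsgLib.InvolTwo.mov (spEquiv d F x))) ≤ Module.finrank F W ∧
      Even (Module.finrank F (W.map (CfsgLib.InvolTwo.mov (spEquiv d F x)))) := by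
  open CfsgLib.InvolTwo in
  have hM := SpMatrix.isMov (m := d) hx
  have hWN : ∀ v ∈ W, mov (spEquiv d F x) v ∈ W := fun v hv => by
    rw [mov_apply]; exact W.sub_mem (hW v hv) hv
  have hM' : IsMov ((sympBilin d F).restrict W) ((mov (spEquiv d F x)).restrict hWN) :=
    ⟨fun v => Subtype.ext (hM.sq v), fun u v => hM.adj u v⟩
  have hnd : ((sympBilin d F).restrict W).Nondegenerate := by
    refine ⟨fun u hu => Subtype.ext (hWn u u.2 fun v hv => hu ⟨v, hv⟩), fun u hu => Subtype.ext (hWn u u.2 fun v hv => ?_)⟩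
    rw [← LinearMap.IsAlt.neg (sympBilin_isAlt d F) v (u : VS)]
    exact neg_eq_zero.2 (hu ⟨v, hv⟩)
  have hr : Module.finrank F (LinearMap.range ((mov (spEquiv d F x)).restrict hWN)) =
      Module.finrank F (W.map (mov (spEquiv d F x))) := by
    rw [← Submodule.finrank_map_subtype_eq, ← LinearMap.range_comp]
    refine congrArg (fun S : Submodule F VS => Module.finrank F S) ?_
    rw [show W.subtype ∘ₗ (mov (spEquiv d F x)).restrict hWN = mov (spEquiv d F x) ∘ₗ W.subtype from rfl,
      LinearMap.range_comp, Submodule.range_subtype]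
  rw [← hr]
  refine ⟨two_rank_le hM', even_rank_of_alt hnd (fun v => sympBilin_isAlt d F v) hM' fun v => ?_⟩
  exact (SpMatrix.form_eq x (v : VS)).symm.trans (halt v)

/-- Elements of prime order of PSp_n(q) with no fixed nondegenerate `m`-space. Here `T = PSp_n(q)` with `n = 2d ≥ 4`, `(n, q) ≠ (4, 2)`, realised through the symplectic matrices over the field `F` with `q` elements (preserving the standard alternating form); an element of `T` of prime order `r` is such a matrix `x` with `x^r` scalar and `x` not scalar. For `r ≠ p` let `i` be the multiplicative order of `q` modulo `r`, `c = i` for `i` even and `c = 2i` for `i` odd, and write `k = n mod c`, `ℓ = m mod i`, `ℓ' = m mod c`, `n' = ⌊n/i⌋`, `m' = ⌊m/i⌋`, `t = (r−1)/i`. Let `m` be even with `2 ≤ m < n/2` and let `r` be a prime dividing the number of nondegenerate `m`-spaces. Then every element of `T` of order `r` fixes a nondegenerate `m`-space if and only if one of: (i) `r = p > 2` and every partition of `n` into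 parts of size at most `p` in which every odd part has even multiplicity contains (as a sub-multiset) a partition of `m` in which every odd part has even multiplicity; (ii) `r = p = 2` and (`n ≡ 2 (mod 4)` or `m ≡ 0 (mod 4)`); (iii) `r = 2 ≠ p`; (iv) `r ≠ p`, `r > 2`, `c ≤ m` and `k ≥ ℓ'`. -/
theorem result {F : Type*} [Field F] [Fintype F] {p : ℕ} [Fact p.Prime] [CharP F p] {q : ℕ} (hq : Fintype.card F = q)
    (d m : ℕ) (hd : 2 ≤ d) (hT : (d, q) ≠ (2, 2)) (hm : 2 ≤ m) (hme : Even m) (hmd : m < d)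
    (r : ℕ) [Fact r.Prime]
    (hrΩ : r ∣ Nat.card {W : Submodule F (Fin d ⊕ Fin d → F) // Module.finrank F ↥W = m ∧ (∀ u ∈ W, u ≠ 0 → ∃ v ∈ W, Cfsg.sympForm d F u v ≠ 0)})
    (i c : ℕ) (hi : i = orderOf (q : ZMod r)) (hc : c = if Even i then i else 2 * i) :
    (∀ x : ↥(Matrix.symplecticGroup (Fin d) F),
      (∃ z : F, ((x ^ r : ↥(Matrix.symplecticGroup (Fin d) F)) : Matrix (Fin d ⊕ Fin d) (Fin d ⊕ Fin d) F) = z • (1 : Matrix (Fin d ⊕ Fin d) (Fin d ⊕ Fin d) F)) →
      (∀ z : F, (x : Matrix (Fin d ⊕ Fin d) (Fin d ⊕ Fin d) F) ≠ z • (1 : Matrix (Fin d ⊕ Fin d) (Fin d ⊕ Fin d) F)) →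
      ∃ W : Submodule F (Fin d ⊕ Fin d → F), Module.finrank F ↥W = m ∧ (∀ u ∈ W, u ≠ 0 → ∃ v ∈ W, Cfsg.sympForm d F u v ≠ 0) ∧
        W.map (Matrix.toLin' (x : Matrix (Fin d ⊕ Fin d) (Fin d ⊕ Fin d) F)) ≤ W) ↔
    ((r = p ∧ 2 < p ∧ (∀ μ : Multiset ℕ, (∀ a ∈ μ, 0 < a ∧ a ≤ p) → (∀ a : ℕ, Odd a → Even (μ.count a)) → μ.sum = 2 * d →
        ∃ ν : Multiset ℕ, ν ≤ μ ∧ ν.sum = m ∧ ∀ a : ℕ, Odd a → Even (ν.count a))) ∨
     (r = p ∧ p = 2 ∧ ((2 * d) % 4 = 2 ∨ m % 4 = 0)) ∨
     (r = 2 ∧ p ≠ 2) ∨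
     (r ≠ p ∧ 2 < r ∧ c ≤ m ∧ m % c ≤ (2 * d) % c)) := by
  classical
  subst hq
  obtain ⟨a, ha⟩ := hme
  have hp : p.Prime := Fact.out
  have hr : r.Prime := Fact.out
  have hA := sympBilin_isAlt d F
  have hnd := fun u h => (sympBilin_nondegenerate d F).1 u h
  have hpF : (p : F) = 0 := CharP.cast_eq_zero F p
  have mk : ∀ (x : Matrix.symplecticGroup (Fin d) F) (W : Submodule F (Fin d ⊕ Fin d → F)),
      Module.finrank F W = m → Nondeg (σ := RingHom.id F) (sympBilin d F) W → Inv (Matrix.toLin' (x : Matrix (Fin d ⊕ Fin d) (Fin d ⊕ Fin d) F)) W →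
      ∃ W : Submodule F (Fin d ⊕ Fin d → F), Module.finrank F ↥W = m ∧
        (∀ u ∈ W, u ≠ 0 → ∃ v ∈ W, Cfsg.sympForm d F u v ≠ 0) ∧
        W.map (Matrix.toLin' (x : Matrix (Fin d ⊕ Fin d) (Fin d ⊕ Fin d) F)) ≤ W :=
    fun x W h1 h2 h3 => ⟨W, h1, nondeg_iff.2 h2, Submodule.map_le_iff_le_comap.2 h3⟩
  by_cases hrp : r = p
  · subst hrp
    by_cases hr2 : r = 2
    · -- characteristic two
      subst hr2
      constructor
      · intro H
        refine Or.inr (Or.inl ⟨rfl, rfl, ?_⟩)
        by_contra hc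
        push Not at hc
        obtain ⟨x, hx2, hrank, halt⟩ := CfsgLib.InvolTwo.SpMatrix.exists_pairs (m := d) (F := F) (d / 2) (by omega)
          (by omega)
        have hxx : x * x = 1 := by rw [← pow_two, ← hx2, pow_orderOf_eq_one]
        have hsc : ∀ z : F, (x : Matrix (Fin d ⊕ Fin d) (Fin d ⊕ Fin d) F) ≠ z • 1 := fun z hz => by
          have h1 := z_sq (by omega) x hz
          rcases mul_self_eq_one_iff.1 h1 with rfl | rfl
          · rw [hz, one_smul, sub_self, Matrix.rank_zero] at hrank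
            omega
          · rw [hz, CharTwo.neg_eq, one_smul, sub_self, Matrix.rank_zero] at hrank
            omega
        obtain ⟨W, hW, hWn, hWi⟩ := H x ⟨1, by rw [pow_two, hxx, one_smul]; rfl⟩ hsc
        have hWi' : Inv (Matrix.toLin' (x : Matrix (Fin d ⊕ Fin d) (Fin d ⊕ Fin d) F)) W := Submodule.map_le_iff_le_comap.1 hWi
        rw [nondeg_iff] at hWn
        have hc' := isCompl_perp hWn
        obtain ⟨l1, e1⟩ := rank_part hxx halt hWi' hWn
        obtain ⟨l2, e2⟩ := rank_part hxx halt (hWi'.perp herm (iso_toLin x)) (nondeg_perp_top hWn)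
        have hsum := Submodule.finrank_sup_add_finrank_inf_eq W (perp (sympBilin d F) W)
        rw [hc'.sup_eq_top, hc'.inf_eq_bot, finrank_top, finrank_bot, finrank_VS, hW, add_zero] at hsum
        rw [CfsgLib.InvolTwo.SpMatrix.rank_eq, LinearMap.range_eq_map, ← hc'.sup_eq_top, Submodule.map_sup] at hrank
        have := Submodule.finrank_add_le_finrank_add_finrank
          (W.map (CfsgLib.InvolTwo.mov (spEquiv d F x))) ((perp (sympBilin d F) W).map (CfsgLib.InvolTwo.mov (spEquiv d F x)))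
        obtain ⟨b, hb⟩ := e1
        omega
      · intro hcase x hxr _
        have hcase' : 2 * d % 4 = 2 ∨ m % 4 = 0 := by
          rcases hcase with ⟨-, h, -⟩ | ⟨-, -, h⟩ | ⟨-, h⟩ | ⟨h, -⟩ <;> first | exact h | omega
        obtain ⟨z, hz⟩ := hxr
        have hz1 : z = 1 := by
          rcases mul_self_eq_one_iff.1 (z_sq (by omega) (x ^ 2) hz) with h | h
          · exact h
          · rw [h, CharTwo.neg_eq]
        have hff : ∀ v, Matrix.toLin' (x : Matrix (Fin d ⊕ Fin d) (Fin d ⊕ Fin d) F) (Matrix.toLin' (x : Matrix (Fin d ⊕ Fin d) (Fin d ⊕ Fin d) F) v) = v := fun v => by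
          rw [← LinearMap.comp_apply, ← Matrix.toLin'_mul, ← Submonoid.coe_mul, ← pow_two, hz, hz1, one_smul,
            Matrix.toLin'_one, LinearMap.id_apply]
        obtain ⟨U, -, hUi, hUn, hUr⟩ := exists_sub_two hA hnd (iso_toLin x) hff (2 * d) ⊤
          (by rw [finrank_top, finrank_VS]) (fun v _ => trivial) top_nondeg m (by omega) (by omega) hcase'
        exact mk x U hUr hUn hUi
    · -- unipotent, odd characteristic
      have hp2 : 2 < r := lt_of_le_of_ne hr.two_le (Ne.symm hr2)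
      have h2 : (2 : F) ≠ 0 := fun h => hr2 ((Nat.prime_dvd_prime_iff_eq hr Nat.prime_two).1
        ((CharP.cast_eq_zero_iff F r 2).1 (by exact_mod_cast h)))
      constructor
      · intro H
        refine Or.inl ⟨rfl, hp2, fun μ hμ hodd hsum => ?_⟩
        obtain ⟨g, t, e, K, hgp, hK, hsz, hI⟩ := exists_of_type (d := d) h2 hμ hodd hsum
        by_cases hg1 : (g : Matrix (Fin d ⊕ Fin d) (Fin d ⊕ Fin d) F) = 1
        · refine ⟨Multiset.replicate m 1, ?_, by simp, fun b _ => ?_⟩
          · have hall : ∀ k, e k = 1 := fun k => by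
              have h1 := rank_of_iso hI 1
              rw [hg1, sub_self, pow_one, Matrix.rank_zero, eq_comm, Finset.sum_eq_zero_iff] at h1
              have := h1 k (Finset.mem_univ k)
              have := hK.pos k
              omega
            have e1 : μ = Multiset.replicate (2 * d) 1 := by
              rw [Multiset.eq_replicate]
              have hm1 : ∀ b ∈ μ, b = 1 := fun b hb => by
                rw [← hsz] at hb
                obtain ⟨k, rfl⟩ := mem_sizes_iff.1 hb
                exact hall k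
              refine ⟨?_, hm1⟩
              have := Multiset.eq_replicate_card.2 hm1
              rw [this, Multiset.sum_replicate, smul_eq_mul, mul_one] at hsum
              exact hsum
            rw [e1]
            exact Multiset.replicate_le_replicate 1 |>.2 (by omega)
          · rw [Multiset.count_replicate]
            split_ifs with h
            · exact ⟨a, ha⟩
            · exact Even.zero
        have hsc : ∀ z : F, (g : Matrix (Fin d ⊕ Fin d) (Fin d ⊕ Fin d) F) ≠ z • 1 := fun z hz => by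
          have h1 := z_sq (by omega) g hz
          have h2' : z ^ r = 1 := by
            have := congrArg (fun M : Matrix (Fin d ⊕ Fin d) (Fin d ⊕ Fin d) F => M (Sum.inl ⟨0, by omega⟩) (Sum.inl ⟨0, by omega⟩))
              (hgp ▸ congrArg (· ^ r) hz)
            rw [smul_pow, one_pow] at this
            simpa using this.symm
          obtain ⟨k, hk⟩ := hr.odd_of_ne_two hr2
          rw [hk, pow_succ, pow_mul, pow_two, h1, one_pow, one_mul] at h2'
          exact hg1 (by rw [hz, h2', one_smul])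
        obtain ⟨W, hW, hWn, hWi⟩ := H g ⟨1, by rw [SubmonoidClass.coe_pow, hgp, one_smul]⟩ hsc
        have hWi' : Inv (Matrix.toLin' (g : Matrix (Fin d ⊕ Fin d) (Fin d ⊕ Fin d) F)) W := Submodule.map_le_iff_le_comap.1 hWi
        rw [nondeg_iff] at hWn
        obtain ⟨ν, hν, hνs, hνo⟩ := exists_sub_sizes (p := r) h2 J_props.1 (SymplecticGroup.mem_iff'.1 g.2) hgp hK hI
          (isCompl_perp hWn) hWi' (hWi'.perp herm (iso_toLin g)) hWn (nondeg_perp_top hWn)
        exact ⟨ν, hsz ▸ hν, hνs.trans hW, hνo⟩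
      · intro hcase x hxr _
        have hall : ∀ μ : Multiset ℕ, (∀ a ∈ μ, 0 < a ∧ a ≤ r) → (∀ a : ℕ, Odd a → Even (μ.count a)) → μ.sum = 2 * d →
            ∃ ν : Multiset ℕ, ν ≤ μ ∧ ν.sum = m ∧ ∀ a : ℕ, Odd a → Even (ν.count a) := by
          rcases hcase with ⟨-, -, h⟩ | ⟨-, h, -⟩ | ⟨h, -⟩ | ⟨h, -⟩ <;> first | exact h | omega
        obtain ⟨z, hz⟩ := hxr
        obtain ⟨g, hg1, hgiso, hzz, hg⟩ := exists_unipower (by omega) x (hr.odd_of_ne_two hr2) hz
        obtain ⟨A, hA'⟩ : ∃ A, A = z • (x : Matrix (Fin d ⊕ Fin d) (Fin d ⊕ Fin d) F) := ⟨_, rfl⟩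
        have hgA : g = Matrix.toLin' A := by rw [hg, hA', map_smul]
        have hAJ : A.transpose * Matrix.J (Fin d) F * A = Matrix.J (Fin d) F := by
          rw [hA', Matrix.transpose_smul, Matrix.smul_mul, Matrix.smul_mul, Matrix.mul_smul, smul_smul, hzz, one_smul,
            SymplecticGroup.mem_iff'.1 x.2]
        have hAp : A ^ r = 1 := Matrix.toLin'.injective (by
          rw [pow_apply_toLin', ← hgA, hg1, Matrix.toLin'_one]; rfl)
        obtain ⟨t, e, K, hK, hle, hI⟩ := exists_unip (p := r) J_props.1 J_props.2 hAJ hAp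
        have hsum : (sizes e).sum = 2 * d := by
          have h1 := rank_of_iso hI 0
          rw [pow_zero, Matrix.rank_one, Fintype.card_sum, Fintype.card_fin] at h1
          simp only [Nat.sub_zero] at h1
          rw [show (sizes e).sum = ∑ k, e k by simp [sizes, List.sum_ofFn]]
          omega
        obtain ⟨ν, hν, hνs, hνo⟩ := hall (sizes e) (fun b hb => by
            obtain ⟨k, rfl⟩ := mem_sizes_iff.1 hb
            exact ⟨hK.pos k, hle k⟩)
          (fun b hb => odd_count h2 hK hb) hsum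
        obtain ⟨W, hW, hWi, hWn⟩ := exists_inv_nondeg h2 hK hI hν hνo
        refine mk x W (hW.trans hνs) hWn fun v hv => ?_
        have := W.smul_mem z (hWi v hv)
        rwa [hA', Matrix.smul_mulVec, smul_smul, hzz, one_smul, ← Matrix.toLin'_apply] at this
  · -- semisimple
    have hrF : (r : F) ≠ 0 := cast_ne_zero_of_prime_ne hr hrp
    by_cases hr2 : r = 2
    · subst hr2
      refine ⟨fun _ => Or.inr (Or.inr (Or.inl ⟨rfl, Ne.symm hrp⟩)), fun _ x hxr _ => ?_⟩
      obtain ⟨z, hz⟩ := hxr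
      have hff : ∀ v, Matrix.toLin' (x : Matrix (Fin d ⊕ Fin d) (Fin d ⊕ Fin d) F) (Matrix.toLin' (x : Matrix (Fin d ⊕ Fin d) (Fin d ⊕ Fin d) F) v) = z • v := fun v => by
        rw [← LinearMap.comp_apply, ← Matrix.toLin'_mul, ← Submonoid.coe_mul, ← pow_two, hz, Matrix.toLin'_apply,
          Matrix.smul_mulVec, Matrix.one_mulVec]
      have h2 : (2 : F) ≠ 0 := by exact_mod_cast hrF
      obtain ⟨-, hsub⟩ := exists_sub_of_atoms herm (iso_toLin x) two_pos
        (fun D _ hDi hD h0 => atom_sq hA h2 (iso_toLin x) hff (mul_self_eq_one_iff.1 (z_sq (by omega) (x ^ 2) hz)) hDi hD h0)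
        (⊤ : Submodule F (Fin d ⊕ Fin d → F)) le_top (fun v _ => trivial) top_nondeg
      obtain ⟨U, -, hUi, hUn, hUr⟩ := hsub a (by rw [finrank_top, finrank_VS]; omega)
      exact mk x U (by omega) hUn hUi
    have hr3 : 2 < r := lt_of_le_of_ne hr.two_le (Ne.symm hr2)
    have hodd : Odd r := hr.odd_of_ne_two hr2
    have hi0 : 0 < i := hi ▸ orderOf_card_pos hrF
    have hblock : blockDim F r = c := by rw [blockDim, hc, hi]
    have hc0 : 0 < c ∧ 2 ∣ c := by
      rw [hc]; split_ifs with h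
      · exact ⟨hi0, h.two_dvd⟩
      · exact ⟨by omega, dvd_mul_right 2 i⟩
    have hkdiv := Nat.mod_add_div (2 * d) c
    have hkm : 2 * d % c < m := by
      obtain ⟨j, hj1, hj2, hj3⟩ := exists_dvd_of_dvd_card_nd (F := F) (d := d) (a := a) (p := p) hrp (by omega)
        (by rwa [two_mul, ← ha])
      rw [← hi] at hj3
      have hcj : c ∣ 2 * j := by
        rw [hc]; split_ifs with hev
        · exact hj3
        · exact mul_dvd_mul_left 2 ((Nat.Coprime.dvd_of_dvd_mul_left
            (Nat.coprime_two_right.2 (Nat.not_even_iff_odd.1 hev))) hj3)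
      obtain ⟨b, hb⟩ := hcj
      by_contra hk
      have h1 : c * ((2 * d) / c) < c * b := by omega
      have h2 : c * ((2 * d) / c) + c ≤ c * b := by
        have := Nat.lt_of_mul_lt_mul_left h1
        calc c * ((2 * d) / c) + c = c * ((2 * d) / c + 1) := by ring
          _ ≤ c * b := Nat.mul_le_mul_left _ this
      have := Nat.mod_lt (2 * d) hc0.1
      omega
    obtain ⟨e, he⟩ : 2 ∣ (2 * d) % c :=
      (Nat.dvd_add_left (dvd_mul_of_dvd_left hc0.2 _)).1 (hkdiv.symm ▸ dvd_mul_right 2 d)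
    constructor
    · intro H
      refine Or.inr (Or.inr (Or.inr ⟨hrp, hr3, ?_⟩))
      have hNpos : 0 < (2 * d) / c := by
        by_contra h0
        rw [Nat.not_lt, Nat.le_zero] at h0
        rw [h0, mul_zero, add_zero] at hkdiv
        omega
      obtain ⟨x, hx, hfix⟩ : ∃ x : ↥(Matrix.symplecticGroup (Fin d) F),
          ((x ^ r : ↥(Matrix.symplecticGroup (Fin d) F)) : Matrix (Fin d ⊕ Fin d) (Fin d ⊕ Fin d) F) =
            (1 : F) • (1 : Matrix (Fin d ⊕ Fin d) (Fin d ⊕ Fin d) F) ∧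
          Module.finrank F (fixSp (Matrix.toLin' (x : Matrix (Fin d ⊕ Fin d) (Fin d ⊕ Fin d) F))) = 2 * e := by
        rw [he] at hkdiv
        by_cases hev : Even i
        · rw [if_pos hev] at hc
          subst hc
          have ht : 1 ≤ (r - 1) / c := by
            rw [hi]
            have h1 := CfsgLib.KnownB.PrimeOrder.card_factors (F := F) (r := r) hrF
            rw [← h1, Nat.mul_div_cancel _ (hi ▸ hi0)]
            rcases Nat.eq_zero_or_pos (CfsgLib.KnownB.PrimeOrder.factors F r).card with h0 | h0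
            · rw [h0, zero_mul] at h1; omega
            · exact h0
          obtain ⟨x, hx, hfix, -⟩ := exists_sp_type (d := d) (e := e) (N := (2 * d) / c) (u := 1) hrF hr2
            (hi ▸ hev) one_pos (by rw [← hi]; exact ht) (by omega) (by rw [← hi, mul_comm ((2 * d) / c)]; exact hkdiv)
          exact ⟨x, hx, hfix⟩
        · rw [if_neg hev] at hc
          subst hc
          exact exists_sp_fixed_dim (d := d) (e := e) (N := (2 * d) / (2 * i)) hrF (by
            rw [← hi, show 2 * ((2 * d) / (2 * i)) * i = 2 * i * ((2 * d) / (2 * i)) by ring]; exact hkdiv)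
      have hpos : 0 < c * ((2 * d) / c) := Nat.mul_pos hc0.1 hNpos
      obtain ⟨g, hg1, hgiso, -, hg⟩ := exists_unipower (by omega) x hodd hx
      rw [one_smul] at hg
      subst hg
      obtain ⟨W, hW, hWn, hWi⟩ := H x ⟨1, hx⟩ (fun z hz => by
        have hz2 := z_sq (by omega) x hz
        have hz1 : z = 1 := by
          have e0 := congrFun (congrFun hx (Sum.inl ⟨0, by omega⟩)) (Sum.inl ⟨0, by omega⟩)
          rw [SubmonoidClass.coe_pow, hz, smul_pow, one_pow] at e0
          simp at e0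
          obtain ⟨k, hk⟩ := hodd
          rwa [hk, pow_succ, pow_mul, pow_two, hz2, one_pow, one_mul] at e0
        have htop : fixSp (Matrix.toLin' (x : Matrix (Fin d ⊕ Fin d) (Fin d ⊕ Fin d) F)) = ⊤ :=
          Submodule.eq_top_iff'.2 fun v => mem_fixSp.2 (by
            rw [Matrix.toLin'_apply, hz, hz1, one_smul, Matrix.one_mulVec])
        rw [htop, finrank_top, finrank_VS] at hfix
        omega)
      have hWi' : Inv (Matrix.toLin' (x : Matrix (Fin d ⊕ Fin d) (Fin d ⊕ Fin d) F)) W := Submodule.map_le_iff_le_comap.1 hWi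
      rw [nondeg_iff] at hWn
      set f : Module.End F (Fin d ⊕ Fin d → F) := Matrix.toLin' (x : Matrix (Fin d ⊕ Fin d) (Fin d ⊕ Fin d) F) with hf
      have hsplit : (W ⊓ fixSp f) ⊔ (W ⊓ movSp f) = W := by
        refine Submodule.eq_of_le_of_finrank_le (sup_le inf_le_left inf_le_left) ?_
        have h1 := Submodule.finrank_sup_add_finrank_inf_eq (W ⊓ fixSp f) (W ⊓ movSp f)
        rw [((isCompl_fix_mov hrF hg1).disjoint.mono inf_le_right inf_le_right).eq_bot, finrank_bot, add_zero,
          ← split_inv hrF hg1 hWi'] at h1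
        exact h1.ge
      have hDn : Nondeg (σ := RingHom.id F) (sympBilin d F) (W ⊓ movSp f : Submodule F (Fin d ⊕ Fin d → F)) := by
        intro u hu hu'
        refine hWn u hu.1 fun v hv => ?_
        rw [← hsplit] at hv
        obtain ⟨v1, hv1, v2, hv2, rfl⟩ := Submodule.mem_sup.1 hv
        rw [map_add, (orth_fix_mov herm hgiso v1 hv1.2 u hu.2).2, zero_add]
        exact hu' v2 hv2
      obtain ⟨⟨b, hb⟩, -⟩ := exists_sub_of_atoms herm hgiso hc0.1
        (fun D hD hDi hDn h0 => hblock ▸ atom_mov hA hnd hgiso hrF hr2 hg1 hD hDi hDn h0)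
        (W ⊓ movSp f) inf_le_right (hWi'.inf inv_movSp) hDn
      have hl := Submodule.finrank_mono (inf_le_right : W ⊓ fixSp f ≤ fixSp f)
      have hs := split_inv hrF hg1 hWi'
      rw [hW, hb] at hs
      rw [hfix, ← he] at hl
      have hlt := Nat.mod_lt (2 * d) hc0.1
      constructor
      · rcases Nat.eq_zero_or_pos b with rfl | hb0
        · omega
        · have := Nat.le_mul_of_pos_right c hb0
          omega
      · rw [hs, Nat.add_mul_mod_self_left, Nat.mod_eq_of_lt (by omega)]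
        exact hl
    · intro hcase x hxr _
      have hcond : c ≤ m ∧ m % c ≤ 2 * d % c := by
        rcases hcase with ⟨h, -⟩ | ⟨h, -⟩ | ⟨h, -⟩ | ⟨-, -, h⟩ <;> first | exact h | omega
      obtain ⟨z, hz⟩ := hxr
      obtain ⟨g, hg1, hgiso, hzz, hg⟩ := exists_unipower (by omega) x hodd hz
      have hmn := nondeg_movSp hrF hg1 herm hgiso
      have hfn := nondeg_fixSp hrF hg1 herm hgiso
      obtain ⟨⟨N, hN⟩, hmov⟩ := exists_sub_of_atoms herm hgiso hc0.1
        (fun D hD hDi hDn h0 => hblock ▸ atom_mov hA hnd hgiso hrF hr2 hg1 hD hDi hDn h0)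
        (movSp g) le_rfl inv_movSp hmn
      obtain ⟨⟨E, hE⟩, hfx⟩ := exists_sub_of_atoms herm hgiso two_pos
        (fun D hD _ hDn h0 => atom_fix hA hD hDn h0) (fixSp g) le_rfl (inv_fixSp hrF hg1) hfn
      have hdim := (Submodule.finrank_sup_add_finrank_inf_eq (fixSp g) (movSp g))
      rw [(isCompl_fix_mov hrF hg1).sup_eq_top, (isCompl_fix_mov hrF hg1).inf_eq_bot, finrank_top, finrank_bot,
        finrank_VS] at hdim
      have hml := Nat.mod_add_div m c
      have hmlt := Nat.mod_lt m hc0.1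
      obtain ⟨n₁, hn1, hn2⟩ : ∃ n₁, n₁ * c ≤ Module.finrank F (movSp g) ∧ n₁ * c ≤ m ∧
          m - n₁ * c ≤ Module.finrank F (fixSp g) := by
        rcases le_or_gt N (m / c) with h | h
        · refine ⟨N, by rw [hN, mul_comm], ?_, ?_⟩
          · calc N * c ≤ (m / c) * c := Nat.mul_le_mul_right _ h
              _ ≤ m := by rw [mul_comm]; omega
          · have e1 : N * c = c * N := mul_comm _ _
            omega
        · refine ⟨m / c, by rw [hN, mul_comm c N]; exact Nat.mul_le_mul_right _ h.le, by rw [mul_comm]; omega, ?_⟩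
          have hmod : Module.finrank F (fixSp g) % c = 2 * d % c := by
            rw [show 2 * d = Module.finrank F (fixSp g) + c * N by omega, Nat.add_mul_mod_self_left]
          have := Nat.mod_le (Module.finrank F (fixSp g)) c
          rw [mul_comm]
          omega
      obtain ⟨U₁, hU₁, hU₁i, hU₁n, hU₁r⟩ := hmov n₁ hn1
      obtain ⟨n₂, hn2'⟩ : 2 ∣ m - n₁ * c := Nat.dvd_sub ⟨a, by omega⟩ (dvd_mul_of_dvd_right hc0.2 _)
      obtain ⟨U₂, hU₂, hU₂i, hU₂n, hU₂r⟩ := hfx n₂ (by omega)
      refine mk x (U₁ ⊔ U₂) ?_ (nondeg_sup_orth herm hU₁n hU₂n fun u hu => mem_perp.2 fun w hw =>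
        (orth_fix_mov herm hgiso u (hU₂ hu) w (hU₁ hw)).1) ?_
      · have h3 := Submodule.finrank_sup_add_finrank_inf_eq U₁ U₂
        rw [((isCompl_fix_mov hrF hg1).symm.disjoint.mono hU₁ hU₂).eq_bot, finrank_bot, hU₁r, hU₂r] at h3
        omega
      · exact Submodule.map_le_iff_le_comap.1 ((inv_iff_map_le hzz _ _).1 (hg ▸ (hU₁i.sup hU₂i)))

end Cfsg.Agent.S5956
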