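import Cfsg.Statements.S5958
import Cfsg.Agent.Lib.ThreeTransp.DecPerm

set_option autoImplicit false
set_option maxHeartbeats 1000000
open scoped MatrixGroups
open Cfsg

namespace Cfsg.Agent.S5958

/-- Elements of odd prime order of PSL_n(q) and imprimitive subgroups. Here `T = PSL_n(F)` for a field `F` with `q = p^f` elements (`n ≥ 2`, `(n, q) ≠ (2, 2), (2, 3)`), `n = a·t` with `t ≥ 2`, and Ω is the set of direct-sum decompositions of `F^n` into `t` subspaces of dimension `a` (unordered; their number is the number of ordered ones divided by `t!`), whose stabilizers are the imprimitive subgroups of type GL_a(q) ≀ S_t (maximal except in some small cases; maximality is not assumed); an element of `T` of prime order `r` (a matrix `x` of determinant 1 with `x^r` scalar, `x` not scalar) fixes a point of Ω when it permutes the summands of some such decomposition. Let `r ≠ p` be an odd prime dividing the number of such decompositions, let `c` be the multiplicative order of `q` modulo `r`, and write `k = n mod c`, `ℓ = a mod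 c`. Then every element of `T` of order `r` stabilizes such a decomposition if and only if either `a = 1`, `c = r − 1 > 1` and `n ≤ k·r`, or `c ≤ a` and `k = t·ℓ`. -/
theorem result {F : Type*} [Field F] [Fintype F] {p : ℕ} [Fact p.Prime] [CharP F p] {q : ℕ} (hq : Fintype.card F = q)
    (n a t : ℕ) (hn : 2 ≤ n) (hT : (n, q) ≠ (2, 2) ∧ (n, q) ≠ (2, 3)) (hat : n = a * t) (ha : 1 ≤ a) (ht : 2 ≤ t)
    (r : ℕ) [Fact r.Prime] (hr2 : r ≠ 2) (hrp : r ≠ p) (hΩ : r ∣ Nat.card {D : Fin t → Submodule F (Fin n → F) // Cfsg.Geo.IsMDecomposition a D} / Nat.factorial t)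
    (c : ℕ) (hc : c = orderOf (q : ZMod r)) :
    (∀ x : Matrix.SpecialLinearGroup (Fin n) F,
      (∃ z : F, ((x ^ r : Matrix.SpecialLinearGroup (Fin n) F) : Matrix (Fin n) (Fin n) F) = z • (1 : Matrix (Fin n) (Fin n) F)) →
      (∀ z : F, (x : Matrix (Fin n) (Fin n) F) ≠ z • (1 : Matrix (Fin n) (Fin n) F)) →
      ∃ D : Fin t → Submodule F (Fin n → F), Cfsg.Geo.IsMDecomposition a D ∧
        ∃ σ : Equiv.Perm (Fin t), ∀ j, (D j).map (Matrix.toLin' (x : Matrix (Fin n) (Fin n) F)) = D (σ j)) ↔
    ((a = 1 ∧ 1 < c ∧ c = r - 1 ∧ n ≤ (n % c) * r) ∨ (c ≤ a ∧ n % c = t * (a % c))) := by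
  open Module CfsgLib.PrimeOrderSp CfsgLib.ThreeTransp.PrimeInv CfsgLib.ThreeTransp.DecPerm in
  classical
  subst hq
  have hrprime : r.Prime := Fact.out
  have hr : (r : F) ≠ 0 := cast_ne_zero_of_prime_ne hrprime hrp
  have hc0 : 0 < c := hc ▸ orderOf_card_pos hr
  have hcr : c ≤ r - 1 := by
    have h1 := CfsgLib.KnownB.PrimeOrder.card_factors (F := F) (r := r) hr
    rw [← hc] at h1
    rcases Nat.eq_zero_or_pos (CfsgLib.KnownB.PrimeOrder.factors F r).card with h0 | h0
    · have := hrprime.two_le
      rw [h0, zero_mul] at h1; omega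
    · rw [← h1]; exact Nat.le_mul_of_pos_left _ h0
  haveI : Nonempty {D : Fin t → Submodule F (Fin n → F) // Cfsg.Geo.IsMDecomposition a D} := by
    let e : Fin t × Fin a ≃ Fin n := finProdFinEquiv.trans (finCongr (by rw [hat, mul_comm]))
    obtain ⟨D, ⟨h1, h2, h3, h4, h5⟩, -⟩ := exists_dec_of_family (f := (1 : Module.End F (Fin n → F)))
      (fun u v h => h) ht (show 0 < a by omega) (Fintype.card_fin t) (Fintype.card_fin a)
      (by rw [finrank_fin_fun, hat, mul_comm]) (fun x => Pi.basisFun F (Fin n) (e x))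
      (by
        rw [show Set.range (fun x => Pi.basisFun F (Fin n) (e x)) = Set.range (Pi.basisFun F (Fin n)) from
          e.surjective.range_comp _]
        exact (Pi.basisFun F (Fin n)).span_eq)
      1 (fun j l => Submodule.subset_span ⟨l, rfl⟩)
    exact ⟨⟨D, h1, h2, h3, h4, h5⟩⟩
  have hcn : c ≤ n := by
    have h := dvd_card_of_dvd_decs hrprime hΩ inferInstance
    rw [Matrix.card_GL_field] at h
    obtain ⟨i, -, hi⟩ := (hrprime.prime.dvd_finsetProd_iff _).1 h
    rw [show Fintype.card F ^ n - Fintype.card F ^ (i : ℕ) = Fintype.card F ^ (i : ℕ) * (Fintype.card F ^ (n - i) - 1) by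
      rw [Nat.mul_sub, mul_one, ← pow_add, Nat.add_sub_cancel' i.2.le]] at hi
    rcases hrprime.dvd_mul.1 hi with h1 | h1
    · exfalso
      obtain ⟨f, hf, hF⟩ := FiniteField.card F p
      rw [hF, ← pow_mul] at h1
      exact hrp ((Nat.prime_dvd_prime_iff_eq hrprime hf).1 (hrprime.dvd_of_dvd_pow h1))
    · rw [dvd_pow_sub_one_iff Fintype.card_pos, ← hc] at h1
      have := Nat.le_of_dvd (by omega) h1
      omega
  have hmodle : n % c ≤ t * (a % c) := by
    rw [hat, mul_comm, Nat.mul_mod]
    calc (t % c * (a % c)) % c ≤ t % c * (a % c) := Nat.mod_le _ _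
      _ ≤ t * (a % c) := Nat.mul_le_mul_right _ (Nat.mod_le _ _)
  constructor
  · intro hall
    by_contra hcon
    rw [not_or] at hcon
    have hc2 : 2 ≤ c := by
      by_contra h
      refine hcon.2 ?_
      obtain rfl : c = 1 := by omega
      simp [Nat.mod_one]
      omega
    have hnd : ¬ r ∣ Fintype.card F - 1 := not_dvd_of_two_le (hc ▸ hc2)
    -- an element and the decomposition it permutes
    have use' : ∀ e N, e + N * c = n → e < n → ∃ (f : Module.End F (Fin n → F)) (D : Fin t → Submodule F (Fin n → F))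
        (σ : Equiv.Perm (Fin t)), f ^ r = 1 ∧ finrank F (fixSp f) = e ∧ Cfsg.Geo.IsMDecomposition a D ∧
          σ ^ r = 1 ∧ ∀ j, (D j).map f = D (σ j) := by
      intro e N he hen
      obtain ⟨x, hx, hns, hxr, hfix⟩ := exists_fix_dim (n := n) (e := e) (N := N) hr (hc ▸ hc2) (hc ▸ he) hen
      obtain ⟨D, hD, σ, hσ⟩ := hall x ⟨1, hx⟩ hns
      refine ⟨_, D, σ, hxr, hfix, hD, Equiv.ext fun j => hD.indep.injective (fun i h0 => ?_) ?_, hσ⟩
      · have := hD.finrank_eq i
        rw [h0, finrank_bot] at this
        omega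
      · rw [← map_pow_eq hσ r j, hxr, Module.End.one_eq_id, Submodule.map_id]
        rfl
    have inv_of : ∀ {f : Module.End F (Fin n → F)} {D : Fin t → Submodule F (Fin n → F)} {σ : Equiv.Perm (Fin t)} {j},
        (D j).map f = D (σ j) → σ j = j → Inv f (D j) := fun {f D σ j} h hj =>
      Submodule.map_le_iff_le_comap.1 (by rw [h, hj])
    by_cases hca : c ≤ a
    · have hlt : n % c < t * (a % c) := lt_of_le_of_ne hmodle fun h => hcon.2 ⟨hca, h⟩
      have hlt' := Nat.mod_lt n hc0
      obtain ⟨f, D, σ, hfr, hfix, hD, hσr, hmap⟩ := use' (n % c) (n / c)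
        (by rw [mul_comm]; exact Nat.mod_add_div n c) (by omega)
      have hall' : ∀ j, σ j = j := fun j => by
        by_contra hj
        have := le_fix_of_moved hD.indep hD.finrank_eq hmap hfr hσr hj
        omega
      obtain ⟨N, hN, hsum⟩ := finrank_mov hr hfr
      rw [finrank_fin_fun, hfix, ← hc] at hsum
      rw [← hc] at hN
      have hmov : movSp f ≤ ⨆ j ∈ (Finset.univ : Finset (Fin t)), D j ⊓ movSp f := by
        have e : movSp f = ⨆ j, (D j).map (f - 1) := by
          rw [movSp, LinearMap.range_eq_map, ← hD.iSup_eq_top, Submodule.map_iSup]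
        refine e.trans_le (iSup_le fun j => le_iSup₂_of_le (f := fun j (_ : j ∈ (Finset.univ : Finset (Fin t))) => D j ⊓ movSp f) j
          (Finset.mem_univ j) (le_inf ?_ ?_))
        · rintro _ ⟨v, hv, rfl⟩
          exact sub_mem (inv_of (hmap j) (hall' j) v hv) hv
        · rintro _ ⟨v, -, rfl⟩
          exact ⟨v, rfl⟩
      have h2 := (Submodule.finrank_mono hmov).trans (finrank_biSup_le _ _)
      have h3 : ∀ j, a % c + finrank F (D j ⊓ movSp f : Submodule F (Fin n → F)) ≤ a := by
        intro j
        have hW := inv_of (hmap j) (hall' j)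
        obtain ⟨b, hb⟩ := inv_dim hr hfr hW
        have h := split_inv hr hfr hW
        rw [hD.finrank_eq, ← hc] at hb
        rw [hD.finrank_eq] at h
        have hm : a % c ≤ finrank F (D j ⊓ fixSp f : Submodule F (Fin n → F)) := by
          rw [hb, Nat.add_mul_mod_self_right]; exact Nat.mod_le _ _
        omega
      have h4 := Finset.sum_le_sum (fun j (_ : j ∈ (Finset.univ : Finset (Fin t))) => h3 j)
      rw [Finset.sum_add_distrib, Finset.sum_const, Finset.sum_const, Finset.card_univ, Fintype.card_fin, smul_eq_mul,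
        smul_eq_mul, mul_comm t a, ← hat] at h4
      omega
    by_cases hbig : a = 1 ∧ c = r - 1
    · obtain ⟨rfl, hcr'⟩ := hbig
      rw [one_mul] at hat
      subst hat
      obtain ⟨f, D, σ, hfr, hfix, hD, hσr, hmap⟩ := use' (n % c) (n / c)
        (by rw [mul_comm]; exact Nat.mod_add_div n c) (by have := Nat.mod_lt n hc0; omega)
      have hv : ∀ j, ∃ v, v ∈ D j ∧ v ≠ 0 := fun j =>
        Submodule.exists_mem_ne_zero_of_ne_bot fun h => by
          have := hD.finrank_eq j; rw [h, finrank_bot] at this; omega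
      choose v hv hv0 using hv
      have hli : LinearIndependent F v := hD.indep.linearIndependent _ hv hv0
      have hspan : ∀ j, D j = Submodule.span F {v j} := fun j =>
        (Submodule.eq_of_le_of_finrank_eq ((Submodule.span_singleton_le_iff_mem _ _).2 (hv j))
          (by rw [finrank_span_singleton (hv0 j), hD.finrank_eq])).symm
      haveI : Nonempty (Fin n) := ⟨⟨0, by omega⟩⟩
      let b := basisOfLinearIndependentOfCardEqFinrank hli (by rw [Fintype.card_fin, finrank_fin_fun])
      have hb : ⇑b = v := coe_basisOfLinearIndependentOfCardEqFinrank _ _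
      have key := le_mul_fix hr hnd hfr hσr b fun j => by
        have : f (v j) ∈ D (σ j) := hmap j ▸ Submodule.mem_map_of_mem (hv j)
        rw [hspan, Submodule.mem_span_singleton] at this
        obtain ⟨s, hs⟩ := this
        exact ⟨s, by rw [hb, hs]⟩
      rw [hfix] at key
      exact hcon.1 ⟨rfl, by omega, hcr', key⟩
    obtain ⟨f, D, σ, hfr, hfix, hD, hσr, hmap⟩ := use' (n - c) 1 (by omega) (by omega)
    obtain ⟨N, hN, hsum⟩ := finrank_mov hr hfr
    rw [finrank_fin_fun, hfix, ← hc] at hsum
    rw [← hc] at hN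
    obtain ⟨j, hj⟩ : ∃ j, σ j ≠ j := by
      by_contra h
      push Not at h
      have hle : ∀ j, D j ≤ fixSp f := fun j => by
        have hW := inv_of (hmap j) (h j)
        obtain ⟨b, hb⟩ := inv_dim hr hfr hW
        rw [hD.finrank_eq, ← hc] at hb
        have hb0 : b = 0 := by
          by_contra hb0
          have := Nat.le_mul_of_pos_left c (Nat.pos_of_ne_zero hb0)
          omega
        subst hb0
        exact inf_eq_left.1 (Submodule.eq_of_le_of_finrank_eq inf_le_left (by rw [hD.finrank_eq]; omega))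
      have : fixSp f = ⊤ := top_unique (hD.iSup_eq_top ▸ iSup_le hle)
      rw [this, finrank_top, finrank_fin_fun] at hfix
      omega
    have h1 := le_mov_of_moved hD.indep hD.finrank_eq hmap hfr hσr hj
    have hN1 : N * c = c := by omega
    rw [hN, hN1] at h1
    have h2 : r - 1 ≤ a * (r - 1) := Nat.le_mul_of_pos_left _ (by omega)
    have h3 : a * (r - 1) = 1 * (r - 1) := by omega
    exact hbig ⟨Nat.eq_of_mul_eq_mul_right (by omega) h3, by omega⟩
  · intro hcrit x ⟨z, hz⟩ hns
    rw [Matrix.SpecialLinearGroup.coe_pow] at hz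
    set f : Module.End F (Fin n → F) := Matrix.toLin' (x : Matrix (Fin n) (Fin n) F) with hf
    have hfz : f ^ r = z • 1 := by
      rw [hf, ← Matrix.toLin'_pow, hz, map_smul, Matrix.toLin'_one]; rfl
    have hz0 : z ≠ 0 := fun h => by
      haveI : Nonempty (Fin n) := ⟨⟨0, by omega⟩⟩
      have := congrArg Matrix.det hz
      rw [Matrix.det_pow, x.2, one_pow, h, zero_smul, Matrix.det_zero] at this
      exact one_ne_zero this
    have hinj : Function.Injective f := fun u v huv => by
      have := congrArg (fun w => (f ^ (r - 1)) w) huv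
      simp only [← Module.End.mul_apply, ← pow_succ, Nat.sub_add_cancel hrprime.one_lt.le, hfz, LinearMap.smul_apply,
        Module.End.one_apply] at this
      exact smul_right_injective _ hz0 this
    have hdim : finrank F (Fin n → F) = t * a := by rw [finrank_fin_fun, hat, mul_comm]
    have fin : (∃ D : Fin t → Submodule F (Fin n → F), (2 ≤ t ∧ 0 < a ∧ (∀ i, finrank F (D i) = a) ∧ iSupIndep D ∧
        iSup D = ⊤) ∧ ∃ s : Equiv.Perm (Fin t), ∀ i, (D i).map f = D (s i)) →
        ∃ D : Fin t → Submodule F (Fin n → F), Cfsg.Geo.IsMDecomposition a D ∧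
          ∃ σ : Equiv.Perm (Fin t), ∀ j, (D j).map f = D (σ j) := fun ⟨D, ⟨h1, h2, h3, h4, h5⟩, hs⟩ =>
      ⟨D, ⟨h1, h2, h3, h4, h5⟩, hs⟩
    by_cases hpow : ∃ k, k ^ r = z
    · obtain ⟨k, rfl⟩ := hpow
      have hk : k ≠ 0 := fun h => hz0 (by rw [h, zero_pow hrprime.ne_zero])
      set g := k⁻¹ • f with hg
      have hgr : g ^ r = 1 := by
        rw [hg, _root_.smul_pow, hfz, smul_smul, inv_pow, inv_mul_cancel₀ (pow_ne_zero _ hk), one_smul]
      have hback : f = k • g := by rw [hg, smul_smul, mul_inv_cancel₀ hk, one_smul]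
      obtain ⟨N, hN, hsum⟩ := finrank_mov hr hgr
      rw [hdim, ← hc] at hsum
      rw [← hc] at hN
      have hne : n % c ≤ finrank F (fixSp g) := by
        have h1 : n % c = finrank F (fixSp g) % c := by
          rw [← Nat.add_mul_mod_self_right (finrank F (fixSp g)) N c, hsum, hat, mul_comm]
        rw [h1]
        exact Nat.mod_le _ _
      rcases hcrit with ⟨rfl, hc1, hcr', hle⟩ | ⟨-, heq⟩
      · rw [one_mul] at hat
        subst hat
        rw [mul_one] at hsum
        set e := finrank F (fixSp g) with he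
        have hNe : N ≤ e := by
          rcases le_or_gt N (n % c) with h1 | h1
          · omega
          exfalso
          have h2 : N * c ≥ (n % c + 1) * c := Nat.mul_le_mul_right _ h1
          rw [show r = c + 1 by omega, Nat.mul_succ] at hle
          rw [Nat.succ_mul] at h2
          omega
        obtain ⟨w, hw, hwspan⟩ := exists_gen (isSemisimple_of_pow hr hgr) (killed_movSp hr hgr) N (by rw [hN, hc])
        let u := Module.finBasisOfFinrankEq F (fixSp g) he.symm
        have hgu : ∀ (l : ℕ), ∀ y ∈ fixSp g, (g ^ l) y = y := fun l => by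
          induction l with
          | zero => intro y _; rfl
          | succ l ih => intro y hy; rw [pow_succ', Module.End.mul_apply, ih y hy, mem_fixSp.1 hy]
        let v : Fin N → (Fin n → F) := fun i => (u (Fin.castLE hNe i) : Fin n → F) + w i
        haveI : NeZero r := ⟨hrprime.ne_zero⟩
        refine fin (exists_dec_of_family hinj ht Nat.one_pos (J := (Fin N × Fin r) ⊕ Fin (e - N)) (L := Fin 1) ?_
          (Fintype.card_fin 1) hdim
          (fun p => Sum.elim (fun q => (g ^ (q.2 : ℕ)) (v q.1))
            (fun l : Fin (e - N) => (u (⟨N + l, by have := l.2; omega⟩ : Fin e) : Fin n → F)) p.1) ?_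
          (Equiv.sumCongr (Equiv.prodCongr (Equiv.refl _) (Equiv.addRight (1 : Fin r))) (Equiv.refl _)) ?_)
        · rw [Fintype.card_sum, Fintype.card_prod, Fintype.card_fin, Fintype.card_fin, Fintype.card_fin,
            show r = c + 1 by omega, Nat.mul_succ]
          omega
        · set S := Submodule.span F (Set.range fun p : ((Fin N × Fin r) ⊕ Fin (e - N)) × Fin 1 =>
            Sum.elim (fun q => (g ^ (q.2 : ℕ)) (v q.1)) (fun l : Fin (e - N) => (u (⟨N + l, by have := l.2; omega⟩ : Fin e) : Fin n → F)) p.1) with hS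
          have hv : ∀ i j, (g ^ j) (v i) ∈ S := fun i j =>
            pow_mem_of_scalar (z := 1) (by rw [hgr, one_smul]) hrprime.pos
              (fun l hl => by rw [hS]; exact Submodule.subset_span ⟨(Sum.inl (i, ⟨l, hl⟩), 0), rfl⟩) j
          have hu : ∀ i, (u i : Fin n → F) ∈ S := by
            intro i
            by_cases hi : (i : ℕ) < N
            · have h1 : ∑ l ∈ Finset.range r, (g ^ l) (v ⟨i, hi⟩) = (r : F) • (u i : Fin n → F) := by
                simp only [v, map_add, Finset.sum_add_distrib, show Fin.castLE hNe ⟨i, hi⟩ = i from rfl]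
                obtain ⟨y, hy⟩ := hw ⟨i, hi⟩
                have h2 : ∑ l ∈ Finset.range r, (g ^ l) (w ⟨i, hi⟩) = 0 := by
                  rw [← hy, ← LinearMap.sum_apply, ← Module.End.mul_apply, geom_sum_mul, hgr, sub_self, LinearMap.zero_apply]
                rw [h2, add_zero, Finset.sum_congr rfl fun l _ => hgu l _ (u i).2,
                  Finset.sum_const, Finset.card_range, ← Nat.cast_smul_eq_nsmul F]
              have h2 : (r : F) • (u i : Fin n → F) ∈ S := h1 ▸ Submodule.sum_mem _ fun l _ => hv _ l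
              simpa [smul_smul, inv_mul_cancel₀ hr] using S.smul_mem (r : F)⁻¹ h2
            · rw [hS]
              refine Submodule.subset_span ⟨(Sum.inr ⟨i - N, by omega⟩, 0), ?_⟩
              show (u ⟨N + (i - N), _⟩ : Fin n → F) = _
              congr 2
              exact Fin.ext (Nat.add_sub_cancel' (by omega))
          have hfix : fixSp g ≤ S := by
            intro y hy
            have h1 : (⟨y, hy⟩ : fixSp g) ∈ Submodule.span F (Set.range u) := u.span_eq ▸ Submodule.mem_top
            have h2 : Submodule.span F (Set.range u) ≤ S.comap (fixSp g).subtype :=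
              Submodule.span_le.2 (by rintro _ ⟨i, rfl⟩; exact hu i)
            exact h2 h1
          have hmov : movSp g ≤ S := by
            refine hwspan.trans (Submodule.span_le.2 ?_)
            rintro _ ⟨⟨i, j⟩, rfl⟩
            have h1 : (g ^ j) (w i) = (g ^ j) (v i) - (g ^ j) (u (Fin.castLE hNe i) : Fin n → F) := by
              rw [← map_sub]; simp [v]
            have h2 : (g ^ j) (u (Fin.castLE hNe i) : Fin n → F) ∈ fixSp g := by
              rw [hgu j _ (u (Fin.castLE hNe i)).2]; exact (u (Fin.castLE hNe i)).2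
            show (g ^ j) (w i) ∈ S
            rw [h1]
            exact sub_mem (hv i j) (hfix h2)
          exact top_unique ((isCompl_fix_mov hr hgr).sup_eq_top ▸ sup_le hfix hmov)
        · rintro (⟨i, l⟩ | l) o
          · rw [hback, LinearMap.smul_apply]
            refine Submodule.smul_mem _ k (Submodule.subset_span ⟨o, ?_⟩)
            show (g ^ ((l + 1 : Fin r) : ℕ)) (v i) = g ((g ^ (l : ℕ)) (v i))
            rw [← Module.End.mul_apply, ← pow_succ', pow_eq_pow_mod ((l : ℕ) + 1) hgr, Fin.val_add, Fin.val_one',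
              Nat.add_mod_mod]
          · rw [hback, LinearMap.smul_apply]
            refine Submodule.smul_mem _ k (Submodule.subset_span ⟨o, ?_⟩)
            exact (mem_fixSp.1 (u ⟨N + l, by omega⟩).2).symm
      · obtain ⟨D, hD, hsup⟩ := exists_split hr hgr a t (fixSp g) (movSp g) _ N le_rfl le_rfl (inv_fixSp hr hgr)
          inv_movSp rfl (by rw [hN, hc]) (by rw [← hc]; exact hsum) (by rw [← hc, ← heq]; exact hne)
        have htop : iSup D = ⊤ := top_unique ((isCompl_fix_mov hr hgr).sup_eq_top ▸ hsup)
        refine ⟨D, ⟨ht, by omega, fun j => (hD j).2, indep_of_sum_le D htop (by simp [fun j => (hD j).2, hdim]), htop⟩,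
          1, fun j => Submodule.eq_of_le_of_finrank_eq ?_ ?_⟩
        · rintro _ ⟨y, hy, rfl⟩
          rw [hback, LinearMap.smul_apply]
          exact Submodule.smul_mem _ k ((hD j).1 y hy)
        · rw [← (Submodule.equivMapOfInjective f hinj (D j)).finrank_eq]
          rfl
    · push Not at hpow
      obtain ⟨hk, hss, K, hK, -⟩ := killed_of_root hr hz hpow
      obtain ⟨w, -, hwspan⟩ := exists_gen hss hk K (by rw [finrank_top, finrank_fin_fun, hK, mul_comm])
      haveI : NeZero r := ⟨hrprime.ne_zero⟩
      have hmem : ∀ {S : Submodule F (Fin n → F)}, (∀ i (l : Fin r), (f ^ (l : ℕ)) (w i) ∈ S) → S = ⊤ := fun {S} h => by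
        refine top_unique (hwspan.trans (Submodule.span_le.2 ?_))
        rintro _ ⟨⟨i, j⟩, rfl⟩
        exact pow_mem_of_scalar hfz hrprime.pos (fun l hl => h i ⟨l, hl⟩) j
      have hstep : ∀ i (l : Fin r), ∃ s : F, f ((f ^ (l : ℕ)) (w i)) = s • (f ^ ((l + 1 : Fin r) : ℕ)) (w i) := fun i l => by
        rw [← Module.End.mul_apply, ← pow_succ', Fin.val_add, Fin.val_one', Nat.add_mod_mod]
        refine ⟨z ^ (((l : ℕ) + 1) / r), ?_⟩
        conv_lhs => rw [← Nat.div_add_mod ((l : ℕ) + 1) r, pow_add, pow_mul, hfz, _root_.smul_pow, one_pow]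
        rfl
      by_cases hra : r ∣ a
      · obtain ⟨a', rfl⟩ := hra
        have hK' : t * a' = K := Nat.eq_of_mul_eq_mul_left hrprime.pos (by rw [← hK, hat]; ring)
        let eK : Fin t × Fin a' ≃ Fin K := finProdFinEquiv.trans (finCongr hK')
        refine fin (exists_dec_of_family hinj ht (by omega) (J := Fin t) (L := Fin a' × Fin r) (Fintype.card_fin t)
          (by simp [mul_comm]) hdim (fun p => (f ^ (p.2.2 : ℕ)) (w (eK (p.1, p.2.1)))) (hmem fun i l => ?_) 1 ?_)
        · obtain ⟨⟨j, m⟩, rfl⟩ := eK.surjective i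
          exact Submodule.subset_span ⟨(j, (m, l)), rfl⟩
        · rintro j ⟨m, l⟩
          obtain ⟨s, hs⟩ := hstep (eK (j, m)) l
          show f ((f ^ (l : ℕ)) (w (eK (j, m)))) ∈ _
          rw [hs]
          exact Submodule.smul_mem _ s (Submodule.subset_span ⟨(m, l + 1), rfl⟩)
      · obtain ⟨t', rfl⟩ : r ∣ t := (hrprime.dvd_mul.1 (show r ∣ a * t from hat ▸ hK ▸ dvd_mul_right r K)).resolve_left hra
        have hK' : t' * a = K := Nat.eq_of_mul_eq_mul_left hrprime.pos (by rw [← hK, hat]; ring)
        let eK : Fin t' × Fin a ≃ Fin K := finProdFinEquiv.trans (finCongr hK')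
        refine fin (exists_dec_of_family hinj ht (by omega) (J := Fin t' × Fin r) (L := Fin a) (by simp [mul_comm])
          (Fintype.card_fin a) hdim (fun p => (f ^ (p.1.2 : ℕ)) (w (eK (p.1.1, p.2)))) (hmem fun i l => ?_)
          (Equiv.prodCongr (Equiv.refl _) (Equiv.addRight (1 : Fin r))) ?_)
        · obtain ⟨⟨j, m⟩, rfl⟩ := eK.surjective i
          exact Submodule.subset_span ⟨((j, l), m), rfl⟩
        · rintro ⟨j, l⟩ m
          obtain ⟨s, hs⟩ := hstep (eK (j, m)) l
          show f ((f ^ (l : ℕ)) (w (eK (j, m)))) ∈ _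
          rw [hs]
          exact Submodule.smul_mem _ s (Submodule.subset_span ⟨m, rfl⟩)

end Cfsg.Agent.S5958
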