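import Cfsg.Statements.S5959
import Cfsg.Agent.Lib.KnownB.Jordan

set_option autoImplicit false
open scoped MatrixGroups
open Cfsg

namespace Cfsg.Agent.S5959

open Module in
private theorem finrank_range_pow {F V : Type*} [Field F] [AddCommGroup V] [Module F V] {ι : Type*} [Fintype ι]
    (N : Module.End F V) (d : ι → ℕ) (b : Module.Basis ((k : ι) × Fin (d k)) F V)
    (hb : ∀ x : (k : ι) × Fin (d k), N (b x) =
        if h : (x.2 : ℕ) + 1 < d x.1 then b ⟨x.1, ⟨x.2 + 1, h⟩⟩ else 0) (j : ℕ) :
    finrank F (LinearMap.range (N ^ j)) = ∑ k, (d k - j) := by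
  classical
  have hpow : ∀ (i : ℕ) (x : (k : ι) × Fin (d k)), (N ^ i) (b x) =
      if h : (x.2 : ℕ) + i < d x.1 then b ⟨x.1, ⟨x.2 + i, h⟩⟩ else 0 := by
    intro i
    induction i with
    | zero => intro x; rw [dif_pos (show (x.2 : ℕ) + 0 < d x.1 by simp)]; simp
    | succ i ih =>
      intro x
      rw [pow_succ', Module.End.mul_apply, ih]
      by_cases h : (x.2 : ℕ) + i < d x.1
      · rw [dif_pos h, hb]
        rfl
      · rw [dif_neg h, map_zero, dif_neg (by omega)]
  have hr : LinearMap.range (N ^ j) =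
      Submodule.span F (Set.range fun y : {x : (k : ι) × Fin (d k) // j ≤ (x.2 : ℕ)} => b y.1) := by
    rw [LinearMap.range_eq_map, ← b.span_eq, Submodule.map_span]
    apply le_antisymm <;> rw [Submodule.span_le]
    · rintro _ ⟨_, ⟨x, rfl⟩, rfl⟩
      rw [hpow]
      split_ifs with h
      · exact Submodule.subset_span ⟨⟨⟨x.1, ⟨x.2 + j, h⟩⟩, by simp⟩, rfl⟩
      · exact zero_mem _
    · rintro _ ⟨⟨⟨k, i⟩, hi⟩, rfl⟩
      refine Submodule.subset_span ⟨b ⟨k, ⟨i - j, by omega⟩⟩, ⟨_, rfl⟩, ?_⟩
      have hij : (i : ℕ) - j + j = i := Nat.sub_add_cancel hi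
      rw [hpow, dif_pos (show (i : ℕ) - j + j < d k by omega)]
      simp only [hij]
  let eqv : {x : (k : ι) × Fin (d k) // j ≤ (x.2 : ℕ)} ≃ ((k : ι) × Fin (d k - j)) :=
    { toFun := fun x => ⟨x.1.1, ⟨(x.1.2 : ℕ) - j, by have := x.1.2.2; have := x.2; omega⟩⟩
      invFun := fun y => ⟨⟨y.1, ⟨(y.2 : ℕ) + j, by have := y.2.2; omega⟩⟩, by simp⟩
      left_inv := fun ⟨⟨k, i⟩, hi⟩ => by simp [Nat.sub_add_cancel hi]
      right_inv := fun ⟨k, i⟩ => by simp }
  rw [hr, finrank_span_eq_card (R := F) (b := fun y : {x : (k : ι) × Fin (d k) // j ≤ (x.2 : ℕ)} => b y.1)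
      (b.linearIndependent.comp _ Subtype.val_injective), Fintype.card_congr eqv, Fintype.card_sigma]
  simp

/-- Elements of order `p` of PSL_n(q) and imprimitive subgroups: a necessary condition. Here `T = PSL_n(F)` for a field `F` with `q = p^f` elements (`n ≥ 2`, `(n, q) ≠ (2, 2), (2, 3)`), `n = a·t` with `t ≥ 2`, and Ω is the set of direct-sum decompositions of `F^n` into `t` subspaces of dimension `a` (unordered; their number is the number of ordered ones divided by `t!`), whose stabilizers are the imprimitive subgroups of type GL_a(q) ≀ S_t (maximal except in some small cases; maximality is not assumed); an element of `T` of prime order `r` (a matrix `x` of determinant 1 with `x^r` scalar, `x` not scalar) fixes a point of Ω when it permutes the summands of some such decomposition. Suppose `p > 2` divides the number of such decompositions. If every element of `T` of order `p` stabilizes such a decomposition, then every partition of `n` into parts of size at most `p` in which the part `p` occurs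 fewer than `a` times contains (as a sub-multiset) a partition of `a`. -/
theorem result {F : Type*} [Field F] [Fintype F] {p : ℕ} [Fact p.Prime] [CharP F p] {q : ℕ} (hq : Fintype.card F = q)
    (n a t : ℕ) (hn : 2 ≤ n) (hT : (n, q) ≠ (2, 2) ∧ (n, q) ≠ (2, 3)) (hat : n = a * t) (ha : 1 ≤ a) (ht : 2 ≤ t)
    (hp : 2 < p) (hΩ : p ∣ Nat.card {D : Fin t → Submodule F (Fin n → F) // Cfsg.Geo.IsMDecomposition a D} / Nat.factorial t)
    (h : ∀ x : Matrix.SpecialLinearGroup (Fin n) F,
      (∃ z : F, ((x ^ p : Matrix.SpecialLinearGroup (Fin n) F) : Matrix (Fin n) (Fin n) F) = z • (1 : Matrix (Fin n) (Fin n) F)) →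
      (∀ z : F, (x : Matrix (Fin n) (Fin n) F) ≠ z • (1 : Matrix (Fin n) (Fin n) F)) →
      ∃ D : Fin t → Submodule F (Fin n → F), Cfsg.Geo.IsMDecomposition a D ∧
        ∃ σ : Equiv.Perm (Fin t), ∀ j, (D j).map (Matrix.toLin' (x : Matrix (Fin n) (Fin n) F)) = D (σ j)) :
    (∀ μ : Multiset ℕ, (∀ b ∈ μ, 0 < b ∧ b ≤ p) → μ.sum = n → μ.count p < a → ∃ ν : Multiset ℕ, ν ≤ μ ∧ ν.sum = a) := by
  open Matrix CfsgLib.KnownB.Jordan in
  classical
  intro μ hμ hsum hcount
  by_cases hall : ∀ b ∈ μ, b = 1
  · have h1 : μ = Multiset.replicate (Multiset.card μ) 1 := Multiset.eq_replicate_card.2 hall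
    have h2 : Multiset.card μ = n := by rw [h1] at hsum; simpa using hsum
    refine ⟨Multiset.replicate a 1, ?_, by simp⟩
    rw [h1, h2]
    exact Multiset.le_replicate_iff.2 ⟨a, by nlinarith, rfl⟩
  push Not at hall
  obtain ⟨b₀, hb₀, hb₀1⟩ := hall
  let d : Fin μ.toList.length → ℕ := fun k => μ.toList.get k
  have hmap : Multiset.map d (Finset.univ : Finset (Fin μ.toList.length)).val = μ := by
    rw [Fin.univ_val_map]
    exact (congrArg _ (List.ofFn_get _)).trans (Multiset.coe_toList μ)
  have hdmem : ∀ k, d k ∈ μ := fun k => Multiset.mem_toList.1 (List.get_mem _ _)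
  have hd1 : ∀ k, 1 ≤ d k := fun k => (hμ _ (hdmem k)).1
  have hdp : ∀ k, d k ≤ p := fun k => (hμ _ (hdmem k)).2
  have hsum' : ∑ k, d k = n := by
    show (Multiset.map d (Finset.univ : Finset (Fin μ.toList.length)).val).sum = n
    rw [hmap, hsum]
  let e : ((k : Fin μ.toList.length) × Fin (d k)) ≃ Fin n := Fintype.equivFinOfCardEq (by simp [hsum'])
  set u : Matrix (Fin n) (Fin n) F := Matrix.reindex e e (Cfsg.jordanTypeMatrix d F) with hu
  set N : Module.End F (Fin n → F) := Matrix.toLin' (u - 1) with hN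
  have hrk : ∀ j, Module.finrank F (LinearMap.range (N ^ j)) = ∑ k, (d k - j) := fun j => by
    rw [hN, ← Matrix.toLin'_pow, ← rank_pow_conj (u := u) (e := e) (IsConj.refl _) j, Matrix.toLin'_apply']
    rfl
  have hNp : N ^ p = 0 := by
    rw [← LinearMap.range_eq_bot, ← Submodule.finrank_eq_zero, hrk]
    exact Finset.sum_eq_zero fun k _ => Nat.sub_eq_zero_of_le (hdp k)
  have hup : u ^ p = 1 := by
    have h0 : (u - 1) ^ p = 0 := Matrix.toLin'.injective (by rw [Matrix.toLin'_pow, ← hN, hNp, map_zero])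
    haveI : Nonempty (Fin n) := ⟨⟨0, by omega⟩⟩
    rw [sub_pow_char_of_commute p (Commute.one_right u), one_pow, sub_eq_zero] at h0
    exact h0
  have hroot : ∀ c : F, c ^ p = 1 → c = 1 := fun c hc => by
    have h0 : (c - 1) ^ p = 0 := by rw [sub_pow_char, hc, one_pow, sub_self]
    exact sub_eq_zero.1 (eq_zero_of_pow_eq_zero h0)
  have hud : u.det = 1 := hroot _ (by rw [← det_pow, hup, det_one])
  have hu1 : u ≠ 1 := fun h1 => by
    have := hrk 1
    rw [pow_one, hN, h1, sub_self, map_zero, LinearMap.range_zero, finrank_bot, eq_comm, Finset.sum_eq_zero_iff] at this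
    rw [← hmap, Multiset.mem_map] at hb₀
    obtain ⟨k, -, rfl⟩ := hb₀
    have := this k (Finset.mem_univ k)
    have := hd1 k
    omega
  obtain ⟨D, hD, σ, hσ⟩ := h ⟨u, hud⟩
    ⟨1, by show u ^ p = (1 : F) • 1; rw [one_smul]; exact hup⟩
    (fun z hz => by
      have hz' : u = z • (1 : Matrix (Fin n) (Fin n) F) := hz
      refine hu1 ?_
      have h1 := hup
      rw [hz', smul_pow, one_pow] at h1
      have h2 := congrFun (congrFun h1 ⟨0, by omega⟩) ⟨0, by omega⟩
      simp at h2
      rw [hz', hroot z h2, one_smul])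
  have hσ' : ∀ j, (D j).map (Matrix.toLin' u) = D (σ j) := hσ
  have hDinj : Function.Injective D := hD.indep.injective fun i h0 => by
    have := hD.finrank_eq i
    rw [h0, finrank_bot] at this
    omega
  have hmapi : ∀ (i : ℕ) j, (D j).map (Matrix.toLin' (u ^ i)) = D ((σ ^ i) j) := by
    intro i
    induction i with
    | zero => intro j; simp
    | succ i ih =>
      intro j
      rw [pow_succ', pow_succ', Matrix.toLin'_mul, Submodule.map_comp, ih, hσ']
      rfl
  have hσp : σ ^ p = 1 := Equiv.ext fun j => hDinj (by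
    rw [← hmapi p j, hup, Matrix.toLin'_one, Submodule.map_id]
    rfl)
  by_cases hσ1 : σ = 1
  · subst hσ1
    let j₀ : Fin t := ⟨0, by omega⟩
    set E := ⨆ (k : Fin t) (_ : k ≠ j₀), D k with hE
    have hNmem : ∀ j, ∀ v ∈ D j, N v ∈ D j := fun j v hv => by
      have h1 : Matrix.toLin' u v ∈ D j := by
        have := Submodule.mem_map_of_mem (f := Matrix.toLin' u) hv
        rwa [hσ'] at this
      rw [hN, map_sub, LinearMap.sub_apply, Matrix.toLin'_one, LinearMap.id_apply]
      exact sub_mem h1 hv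
    have hNE : ∀ v ∈ E, N v ∈ E := fun v hv => by
      have : E.map N ≤ E := by
        rw [hE, Submodule.map_iSup]
        refine iSup_le fun k => ?_
        rw [Submodule.map_iSup]
        refine iSup_le fun hk => ?_
        exact (Submodule.map_le_iff_le_comap.2 (hNmem k)).trans (le_iSup₂ (f := fun (k : Fin t) (_ : k ≠ j₀) => D k) k hk)
      exact this (Submodule.mem_map_of_mem hv)
    have hres : ∀ (W : Submodule F (Fin n → F)) (hW : ∀ v ∈ W, N v ∈ W),
        ∃ (s : ℕ) (d' : Fin s → ℕ), (∀ k, 1 ≤ d' k) ∧ ∑ k, d' k = Module.finrank F W ∧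
          ∀ j, Module.finrank F (W.map (N ^ j)) = ∑ k, (d' k - j) := by
      intro W hW
      obtain ⟨s, d', b', hd', hb'⟩ := exists_chains (N.restrict hW) ⟨p, by
        rw [Module.End.pow_restrict]
        apply LinearMap.ext
        intro v
        apply Subtype.ext
        rw [LinearMap.restrict_apply]
        simp [hNp]⟩
      refine ⟨s, d', hd', ?_, fun j => ?_⟩
      · rw [Module.finrank_eq_card_basis b', Fintype.card_sigma]; simp
      · rw [← finrank_range_pow _ d' b' hb' j, ← Submodule.finrank_map_subtype_eq, ← LinearMap.range_comp]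
        have hc : W.subtype ∘ₗ (N.restrict hW) ^ j = (N ^ j) ∘ₗ W.subtype := by
          rw [Module.End.pow_restrict]
          rfl
        rw [hc, LinearMap.range_comp, Submodule.range_subtype]
    obtain ⟨s₁, d₁, hd₁, hs₁, hr₁⟩ := hres (D j₀) (hNmem j₀)
    obtain ⟨s₂, d₂, hd₂, hs₂, hr₂⟩ := hres E hNE
    have hcod : (⊤ : Submodule F (Fin n → F)) = D j₀ ⊔ E := by
      refine le_antisymm ?_ le_top
      rw [← hD.iSup_eq_top]
      refine iSup_le fun k => ?_
      by_cases hk : k = j₀
      · exact hk ▸ le_sup_left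
      · exact (le_iSup₂ (f := fun (k : Fin t) (_ : k ≠ j₀) => D k) k hk).trans le_sup_right
    have hadd : ∀ j, ∑ k, (d k - j) = ∑ k, (d₁ k - j) + ∑ k, (d₂ k - j) := by
      intro j
      rw [← hrk j, ← hr₁ j, ← hr₂ j, LinearMap.range_eq_map, hcod, Submodule.map_sup,
        ← Submodule.finrank_sup_add_finrank_inf_eq ((D j₀).map (N ^ j)) (E.map (N ^ j))]
      have hinf : (D j₀).map (N ^ j) ⊓ E.map (N ^ j) = ⊥ := by
        have hle : ∀ (W : Submodule F (Fin n → F)), (∀ v ∈ W, N v ∈ W) → W.map (N ^ j) ≤ W := fun W hW => by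
          refine Submodule.map_le_iff_le_comap.2 fun v hv => ?_
          exact Module.End.pow_apply_mem_of_forall_mem j hW v hv
        exact eq_bot_iff.2 ((inf_le_inf (hle _ (hNmem j₀)) (hle _ hNE)).trans (hD.indep j₀).le_bot)
      rw [hinf, finrank_bot, add_zero]
    refine ⟨Multiset.map d₁ (Finset.univ : Finset (Fin s₁)).val, ?_, ?_⟩
    · rw [← hmap, Multiset.le_iff_count]
      intro j
      have e1 : ∀ {s : ℕ} (f : Fin s → ℕ), Multiset.count j (Multiset.map f (Finset.univ : Finset (Fin s)).val) =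
          (Finset.univ.filter (fun k => f k = j)).card := fun f => by
        rw [Multiset.count_map, ← Finset.filter_val]
        exact congrArg Finset.card (Finset.filter_congr fun a _ => eq_comm)
      rw [e1, e1]
      rcases Nat.eq_zero_or_pos j with rfl | hj
      · rw [Finset.filter_eq_empty_iff.2 (fun k _ => by have := hd₁ k; omega)]
        simp
      · have h1 := sum_second_diff d hj
        have h2 := sum_second_diff d₁ hj
        have h3 := sum_second_diff d₂ hj
        rw [hadd (j - 1), hadd (j + 1), hadd j] at h1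
        omega
    · show ∑ k, d₁ k = a
      rw [hs₁, hD.finrank_eq]
  · exfalso
    obtain ⟨j₀, hj₀⟩ : ∃ j, σ j ≠ j := by
      by_contra hc
      push Not at hc
      exact hσ1 (Equiv.ext hc)
    have hmove : ∀ i, 0 < i → i < p → (σ ^ i) j₀ ≠ j₀ := by
      intro i hi0 hip heq
      have h1 : Function.IsPeriodicPt σ p j₀ := by
        show σ^[p] j₀ = j₀
        rw [← Equiv.Perm.coe_pow, hσp]; rfl
      have h2 : Function.IsPeriodicPt σ i j₀ := by
        show σ^[i] j₀ = j₀
        rw [← Equiv.Perm.coe_pow]; exact heq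
      have h3 := h1.gcd h2
      rw [Nat.Coprime.gcd_eq_one ((Fact.out : p.Prime).coprime_iff_not_dvd.2 fun hdv => by
        have := Nat.le_of_dvd hi0 hdv; omega)] at h3
      exact hj₀ h3
    have hgeom : (u - 1) ^ (p - 1) = ∑ i ∈ Finset.range p, u ^ i := by
      have h1 : ((Polynomial.X : Polynomial F) - 1) ^ (p - 1) = ∑ i ∈ Finset.range p, Polynomial.X ^ i := by
        have hX : ((Polynomial.X : Polynomial F) - 1) ≠ 0 := by
          simpa using Polynomial.X_sub_C_ne_zero (1 : F)
        apply mul_right_cancel₀ hX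
        rw [geom_sum_mul, ← pow_succ, Nat.sub_add_cancel (by omega), sub_pow_char, one_pow]
      have := congrArg (Polynomial.aeval u) h1
      simpa using this
    have hinj : Function.Injective ((N ^ (p - 1)).domRestrict (D j₀)) := by
      rw [← LinearMap.ker_eq_bot, LinearMap.ker_eq_bot']
      rintro ⟨v, hv⟩ h0
      have h1 : ∑ i ∈ Finset.range p, Matrix.toLin' (u ^ i) v = 0 := by
        rw [← LinearMap.sum_apply, ← map_sum, ← hgeom, Matrix.toLin'_pow]
        exact h0
      rw [Finset.range_eq_Ico, Finset.sum_eq_sum_Ico_succ_bot (by omega)] at h1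
      have hmem : ∑ i ∈ Finset.Ico (0 + 1) p, Matrix.toLin' (u ^ i) v ∈ ⨆ (k : Fin t) (_ : k ≠ j₀), D k := by
        refine Submodule.sum_mem _ fun i hi => ?_
        rw [Finset.mem_Ico] at hi
        refine (le_iSup₂ (f := fun (k : Fin t) (_ : k ≠ j₀) => D k) ((σ ^ i) j₀) (hmove i (by omega) hi.2)) ?_
        rw [← hmapi]
        exact Submodule.mem_map_of_mem hv
      have hv0 : v ∈ D j₀ ⊓ ⨆ (k : Fin t) (_ : k ≠ j₀), D k := by
        refine ⟨hv, ?_⟩
        simp only [pow_zero, Matrix.toLin'_one, LinearMap.id_apply] at h1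
        rw [eq_neg_of_add_eq_zero_left h1]
        exact neg_mem hmem
      exact Subtype.ext ((hD.indep j₀).le_bot hv0)
    have h1 := LinearMap.finrank_range_of_inj hinj
    rw [hD.finrank_eq, LinearMap.range_domRestrict] at h1
    have h2 := h1 ▸ Submodule.finrank_mono (LinearMap.map_le_range (f := N ^ (p - 1)) (p := D j₀))
    rw [hrk] at h2
    have h3 : ∑ k, (d k - (p - 1)) = Multiset.count p μ := by
      conv_rhs => rw [← hmap]
      rw [Multiset.count_map, ← Finset.filter_val]
      show _ = Finset.card _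
      rw [Finset.card_filter]
      refine Finset.sum_congr rfl fun k _ => ?_
      have := hdp k
      split_ifs <;> omega
    omega

end Cfsg.Agent.S5959
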