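import Cfsg.Statements.S5960
import Cfsg.Agent.Lib.PrimeOrderSp.SympInv
import Cfsg.Agent.Lib.PrimeOrderSp.BlockInv

set_option autoImplicit false
open scoped MatrixGroups
open Cfsg

namespace Cfsg.Agent.S5960

/-- Involutions of PSp_n(q) and imprimitive subgroups. Here `T = PSp_n(q)`, `n = 2d ≥ 4`, `(n, q) ≠ (4, 2)`, realised through the symplectic matrices over the field `F` with `q` elements and the standard alternating form; `n = a·t` with `a` even and `t ≥ 2`, and Ω is the (nonempty) set of orthogonal decompositions of `F^n` into `t` nondegenerate subspaces of dimension `a` (unordered; counted as ordered ones divided by `t!`), whose stabilizers are the imprimitive subgroups of type Sp_a(q) ≀ S_t (maximality is not assumed); an element of `T` of prime order `r` (a symplectic matrix `x` with `x^r` scalar, `x` not scalar) fixes a point of Ω when it permutes the summands of some such decomposition. If the number of such decompositions is even, then every involution of `T`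 stabilizes one of them (the action is 2-elusive). -/
theorem result {F : Type*} [Field F] [Fintype F] {p : ℕ} [Fact p.Prime] [CharP F p] {q : ℕ} (hq : Fintype.card F = q)
    (d : ℕ) (hd : 2 ≤ d) (hT : (d, q) ≠ (2, 2))
    (a t : ℕ) (hat : 2 * d = a * t) (ha : 2 ≤ a) (hae : Even a) (ht : 2 ≤ t) (hΩ : 2 ∣ Nat.card {D : Fin t → Submodule F (Fin d ⊕ Fin d → F) // (Cfsg.Geo.IsMDecomposition a D ∧ (∀ j, ∀ u ∈ D j, u ≠ 0 → ∃ v ∈ D j, Cfsg.sympForm d F u v ≠ 0) ∧
          (∀ j j', j ≠ j' → ∀ u ∈ D j, ∀ v ∈ D j', Cfsg.sympForm d F u v = 0))} / Nat.factorial t)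
    (x : ↥(Matrix.symplecticGroup (Fin d) F))
    (hx1 : ∃ z : F, ((x ^ 2 : ↥(Matrix.symplecticGroup (Fin d) F)) : Matrix (Fin d ⊕ Fin d) (Fin d ⊕ Fin d) F) = z • (1 : Matrix (Fin d ⊕ Fin d) (Fin d ⊕ Fin d) F))
    (hx2 : ∀ z : F, (x : Matrix (Fin d ⊕ Fin d) (Fin d ⊕ Fin d) F) ≠ z • (1 : Matrix (Fin d ⊕ Fin d) (Fin d ⊕ Fin d) F)) :
    ∃ D : Fin t → Submodule F (Fin d ⊕ Fin d → F), (Cfsg.Geo.IsMDecomposition a D ∧ (∀ j, ∀ u ∈ D j, u ≠ 0 → ∃ v ∈ D j, Cfsg.sympForm d F u v ≠ 0) ∧
          (∀ j j', j ≠ j' → ∀ u ∈ D j, ∀ v ∈ D j', Cfsg.sympForm d F u v = 0)) ∧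
        ∃ σ : Equiv.Perm (Fin t), ∀ j, (D j).map (Matrix.toLin' (x : Matrix (Fin d ⊕ Fin d) (Fin d ⊕ Fin d) F)) = D (σ j) := by
  open CfsgLib.PrimeOrderSp CfsgLib.Geometry in
  classical
  obtain ⟨z, hz⟩ := hx1
  obtain ⟨-, ⟨S⟩⟩ := exists_planeSys_sp (show 0 < d by omega) x hz
  obtain ⟨h, rfl⟩ : ∃ h, a = 2 * h := ⟨a / 2, by obtain ⟨k, rfl⟩ := hae; omega⟩
  obtain rfl : d = t * h := by
    have : 2 * h * t = 2 * (t * h) := by ring
    omega
  set f := Matrix.toLin' (x : Matrix (Fin (t * h) ⊕ Fin (t * h)) (Fin (t * h) ⊕ Fin (t * h)) F) with hf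
  have hA := sympBilin_isAlt (t * h) F
  obtain ⟨e, σ, he⟩ := exists_blocks (show 0 < h by omega) S.perm S.invol
  let g : Fin t → Fin h ⊕ Fin h → (Fin (t * h) ⊕ Fin (t * h) → F) :=
    fun j => Sum.elim (fun k => S.a (e.symm (j, k))) (fun k => S.b (e.symm (j, k)))
  let D : Fin t → Submodule F (Fin (t * h) ⊕ Fin (t * h) → F) := fun j => Submodule.span F (Set.range (g j))
  have hmem : ∀ i, S.a i ∈ D (e i).1 ∧ S.b i ∈ D (e i).1 := fun i =>
    ⟨Submodule.subset_span ⟨Sum.inl (e i).2, by simp [g]⟩,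
      Submodule.subset_span ⟨Sum.inr (e i).2, by simp [g]⟩⟩
  have horth : ∀ j j', j ≠ j' → ∀ u ∈ D j, ∀ v ∈ D j', sympBilin (t * h) F u v = 0 := by
    intro j j' hne u hu v hv
    have h1 : ∀ q, sympBilin (t * h) F (g j q) v = 0 := fun q =>
      (Submodule.span_le (p := LinearMap.ker (sympBilin (t * h) F (g j q)))).2
        (by
          rintro _ ⟨q', rfl⟩
          have hq : ∀ k k', e.symm (j, k) ≠ e.symm (j', k') := fun k k' hk =>
            hne (Prod.ext_iff.1 (e.symm.injective hk)).1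
          rcases q with k | k <;> rcases q' with k' | k'
          exacts [(S.orth _ _ (hq k k')).1, (S.orth _ _ (hq k k')).2.1, (S.orth _ _ (hq k k')).2.2.1,
            (S.orth _ _ (hq k k')).2.2.2]) hv
    exact (Submodule.span_le (p := LinearMap.ker ((sympBilin (t * h) F).flip v))).2
      (by rintro _ ⟨q, rfl⟩; exact h1 q) hu
  have htop : iSup D = ⊤ := by
    refine top_unique (S.span.trans (Submodule.span_le.2 ?_))
    rintro _ (⟨i, rfl⟩ | ⟨i, rfl⟩)
    · exact le_iSup D _ (hmem i).1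
    · exact le_iSup D _ (hmem i).2
  have hnd : ∀ u, (∀ j, ∀ v ∈ D j, sympBilin (t * h) F u v = 0) → u = 0 := fun u hu =>
    S.eq_zero_of_orth hA ndOn_top fun i => ⟨hu _ _ (hmem i).1, hu _ _ (hmem i).2⟩
  have hrank : ∀ j, Module.finrank F (D j) = 2 * h := by
    intro j
    let φ : Fin h ⊕ Fin h → Fin (t * h) ⊕ Fin (t * h) :=
      Sum.map (fun k => e.symm (j, k)) fun k => e.symm (j, k)
    have hφ : Function.Injective φ := Function.Injective.sumMap
      (fun a b h => (Prod.ext_iff.1 (e.symm.injective h)).2)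
      (fun a b h => (Prod.ext_iff.1 (e.symm.injective h)).2)
    have hgi : LinearIndependent F (g j) := by
      have h1 := (S.linearIndependent hA).comp φ hφ
      have h2 : g j = Sum.elim S.a S.b ∘ φ := funext fun q => by cases q <;> rfl
      rwa [h2]
    rw [finrank_span_eq_card hgi, Fintype.card_sum, Fintype.card_fin, two_mul]
  refine ⟨D, ⟨⟨ht, by omega, hrank, ?_, htop⟩, fun j u hu hu0 => ?_, fun j j' hne => horth j j' hne⟩,
    σ, fun j => ?_⟩
  · intro j
    refine Submodule.disjoint_def.2 fun u hu hu' => hnd u fun i v hv => ?_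
    by_cases hij : i = j
    · subst hij
      have h1 : (⨆ k, ⨆ (_ : k ≠ i), D k) ≤ LinearMap.ker ((sympBilin (t * h) F).flip v) :=
        iSup₂_le fun k hk w hw => horth k i hk w hw v hv
      exact h1 hu'
    · exact horth j i (Ne.symm hij) u hu v hv
  · by_contra hc
    push Not at hc
    exact hu0 (hnd u fun i v hv => by
      by_cases hij : i = j
      · subst hij; exact hc v hv
      · exact horth j i (Ne.symm hij) u hu v hv)
  · have hle : (D j).map f ≤ D (σ j) := by
      refine Submodule.map_le_iff_le_comap.2 (Submodule.span_le.2 ?_)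
      rintro _ ⟨q, rfl⟩
      have hb : ∀ k, (e (S.perm (e.symm (j, k)))).1 = σ j := fun k => by rw [he, Equiv.apply_symm_apply]
      rw [SetLike.mem_coe, Submodule.mem_comap]
      rcases q with k | k <;> simp only [g, Sum.elim_inl, Sum.elim_inr] <;>
        rcases S.kind (e.symm (j, k)) with ⟨c, ha', hb'⟩ | ⟨he', ha', hb'⟩
      · rw [ha', ← hb k]; exact Submodule.smul_mem _ _ (hmem _).1
      · rw [ha', ← hb k, he']; exact (hmem _).2
      · rw [hb', ← hb k]; exact Submodule.smul_mem _ _ (hmem _).2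
      · rw [hb', ← hb k, he']; exact Submodule.smul_mem _ _ (hmem _).1
    have hinj : Function.Injective f := fun a b h => by
      rw [← sub_eq_zero]
      refine ndOn_top _ trivial fun v _ => ?_
      rw [← iso_toLin' x (a - b) v, ← hf, map_sub, h, sub_self, map_zero, LinearMap.zero_apply]
    refine Submodule.eq_of_le_of_finrank_le hle ?_
    rw [← (Submodule.equivMapOfInjective f hinj (D j)).finrank_eq, hrank, hrank]

end Cfsg.Agent.S5960
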