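import Cfsg.Statements.S5961
import Cfsg.Agent.Lib.PrimeOrderSp.ImprimSp

set_option autoImplicit false
open scoped MatrixGroups
open Cfsg

namespace Cfsg.Agent.S5961

/-- Elements of odd prime order of PSp_n(q) and imprimitive subgroups. Here `T = PSp_n(q)`, `n = 2d ≥ 4`, `(n, q) ≠ (4, 2)`, realised through the symplectic matrices over the field `F` with `q` elements and the standard alternating form; `n = a·t` with `a` even and `t ≥ 2`, and Ω is the (nonempty) set of orthogonal decompositions of `F^n` into `t` nondegenerate subspaces of dimension `a` (unordered; counted as ordered ones divided by `t!`), whose stabilizers are the imprimitive subgroups of type Sp_a(q) ≀ S_t (maximality is not assumed); an element of `T` of prime order `r` (a symplectic matrix `x` with `x^r` scalar, `x` not scalar) fixes a point of Ω when it permutes the summands of some such decomposition. Let `r ≠ p` be an odd prime dividing the number of such decompositions, let `i` be the multiplicative order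 of `q` modulo `r`, `c = i` if `i` is even and `c = 2i` if `i` is odd, and write `k = n mod c`, `ℓ = a mod c`. Then every element of `T` of order `r` stabilizes such a decomposition if and only if `c ≤ a` and `k = t·ℓ`. -/
theorem result {F : Type*} [Field F] [Fintype F] {p : ℕ} [Fact p.Prime] [CharP F p] {q : ℕ} (hq : Fintype.card F = q)
    (d : ℕ) (hd : 2 ≤ d) (hT : (d, q) ≠ (2, 2))
    (a t : ℕ) (hat : 2 * d = a * t) (ha : 2 ≤ a) (hae : Even a) (ht : 2 ≤ t)
    (r : ℕ) [Fact r.Prime] (hr2 : r ≠ 2) (hrp : r ≠ p) (hΩ : r ∣ Nat.card {D : Fin t → Submodule F (Fin d ⊕ Fin d → F) // (Cfsg.Geo.IsMDecomposition a D ∧ (∀ j, ∀ u ∈ D j, u ≠ 0 → ∃ v ∈ D j, Cfsg.sympForm d F u v ≠ 0) ∧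
          (∀ j j', j ≠ j' → ∀ u ∈ D j, ∀ v ∈ D j', Cfsg.sympForm d F u v = 0))} / Nat.factorial t)
    (i c : ℕ) (hi : i = orderOf (q : ZMod r)) (hc : c = if Even i then i else 2 * i) :
    (∀ x : ↥(Matrix.symplecticGroup (Fin d) F),
      (∃ z : F, ((x ^ r : ↥(Matrix.symplecticGroup (Fin d) F)) : Matrix (Fin d ⊕ Fin d) (Fin d ⊕ Fin d) F) = z • (1 : Matrix (Fin d ⊕ Fin d) (Fin d ⊕ Fin d) F)) →
      (∀ z : F, (x : Matrix (Fin d ⊕ Fin d) (Fin d ⊕ Fin d) F) ≠ z • (1 : Matrix (Fin d ⊕ Fin d) (Fin d ⊕ Fin d) F)) →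
      ∃ D : Fin t → Submodule F (Fin d ⊕ Fin d → F), (Cfsg.Geo.IsMDecomposition a D ∧ (∀ j, ∀ u ∈ D j, u ≠ 0 → ∃ v ∈ D j, Cfsg.sympForm d F u v ≠ 0) ∧
          (∀ j j', j ≠ j' → ∀ u ∈ D j, ∀ v ∈ D j', Cfsg.sympForm d F u v = 0)) ∧
        ∃ σ : Equiv.Perm (Fin t), ∀ j, (D j).map (Matrix.toLin' (x : Matrix (Fin d ⊕ Fin d) (Fin d ⊕ Fin d) F)) = D (σ j)) ↔
    (c ≤ a ∧ (2 * d) % c = t * (a % c)) := by
  open CfsgLib.PrimeOrderSp CfsgLib.Geometry in
  classical
  subst hq
  have hd0 : 0 < d := by omega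
  have hrP : r.Prime := Fact.out
  have hr : (r : F) ≠ 0 := cast_ne_zero_of_prime_ne hrP hrp
  have hstd : Module.finrank F (Fin d ⊕ Fin d → F) = 2 * d := by
    rw [Module.finrank_fintype_fun_eq_card, Fintype.card_sum, Fintype.card_fin]; omega
  have hA := sympBilin_isAlt d F
  have hnd : ∀ u, (∀ v, sympBilin d F u v = 0) → u = 0 := (sympBilin_nondegenerate d F).1
  subst hi
  set i := orderOf ((Fintype.card F : ℕ) : ZMod r) with hi
  have hi0 : 0 < i := orderOf_card_pos hr
  have hcb : blockDim F r = c := hc.symm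
  have hodd : Odd r := hrP.odd_of_ne_two hr2
  have hir : i ∣ r - 1 := ZMod.orderOf_dvd_card_sub_one fun e => by
    rw [hi, e, orderOf_zero] at hi0; omega
  obtain ⟨e₀, hie, he0r⟩ : ∃ e₀, (Odd i ∧ i = e₀ ∨ i = 2 * e₀) ∧ 2 * e₀ ≤ r - 1 := by
    have h1 := hrP.two_le
    rcases Nat.even_or_odd i with ⟨j, hj⟩ | hio
    · exact ⟨j, Or.inr (by omega), by have := Nat.le_of_dvd (by omega) hir; omega⟩
    · refine ⟨i, Or.inl ⟨hio, rfl⟩, Nat.le_of_dvd (by omega) ?_⟩
      refine (Nat.Coprime.mul_dvd_of_dvd_of_dvd (Nat.coprime_two_left.2 hio) ?_ hir)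
      exact even_iff_two_dvd.1 (Nat.Odd.sub_odd hodd odd_one)
  have hce : c = 2 * e₀ := by
    rcases hie with ⟨hio, h⟩ | h
    · rw [hc, if_neg (Nat.not_even_iff_odd.2 hio), h]
    · rw [hc, if_pos (h ▸ even_two_mul e₀), h]
  have hc0 : 0 < c := by rcases hie with ⟨-, h⟩ | h <;> omega
  have hsplit : ∀ (f : Module.End F (Fin d ⊕ Fin d → F)), f ^ r = 1 →
      Module.finrank F (fixSp f) + Module.finrank F (movSp f) = 2 * d := fun f hf => by
    have h := Submodule.finrank_add_eq_of_isCompl (isCompl_fix_mov hr hf)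
    rwa [hstd] at h
  constructor
  · intro H
    -- there is a decomposition
    have hne : Nonempty {D : Fin t → Submodule F (Fin d ⊕ Fin d → F) // IsOrthDec a D} := by
      have hfix1 : fixSp (1 : Module.End F (Fin d ⊕ Fin d → F)) = ⊤ :=
        Submodule.eq_top_iff'.2 fun v => mem_fixSp.2 rfl
      obtain ⟨D, hD, hDo, hDs⟩ := exists_dec hA hnd (f := 1) (fun u v => rfl) hr hr2 (one_pow r) hae t ⊤ ⊥
        hfix1.ge (fun u _ hu => hnd u fun v => hu v trivial) bot_le
        (fun v hv => hv) (fun u hu _ => (Submodule.mem_bot F).1 hu)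
        (by rw [finrank_top, finrank_bot, hstd, add_zero, hat, mul_comm]) (by simp)
      refine ⟨⟨D, ⟨ht, by omega, fun j => (hD j).2.2, indep_of_orth (fun j => (hD j).2.1) hDo,
        by rw [hDs, sup_bot_eq]⟩, fun j u hu hu0 => ?_, hDo⟩⟩
      by_contra hc'
      push Not at hc'
      exact hu0 ((hD j).2.1 u hu hc')
    obtain ⟨x₀⟩ := hne
    have hrS := dvd_card_of_dvd_decs x₀ hΩ
    rw [CfsgLib.Classical.card_symplecticGroup, Fintype.card_fin, Nat.card_eq_fintype_card] at hrS
    have hnq : ¬ r ∣ Fintype.card F ^ (d ^ 2) := fun h => by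
      obtain ⟨n, hn, hq⟩ := FiniteField.card F p
      rw [hq] at h
      exact hrp ((Nat.prime_dvd_prime_iff_eq hrP hn).1 (hrP.dvd_of_dvd_pow (hrP.dvd_of_dvd_pow h)))
    obtain ⟨j, hj, hjd⟩ := hrP.prime.exists_mem_finset_dvd ((hrP.dvd_mul.1 hrS).resolve_left hnq)
    rw [Finset.mem_range] at hj
    have hcd : c ≤ 2 * d := by
      have h' : i ∣ 2 * (j + 1) := (dvd_pow_sub_one_iff Fintype.card_pos).1 hjd
      rcases hie with ⟨hio, h⟩ | h
      · have := Nat.le_of_dvd (by omega) ((Nat.coprime_two_right.2 hio).dvd_of_dvd_mul_left h')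
        omega
      · have := Nat.le_of_dvd (by omega) h'
        omega
    -- elements of order `r` with `N` blocks
    have hex : ∀ N, 1 ≤ N → N * c ≤ 2 * d → ∃ x : ↥(Matrix.symplecticGroup (Fin d) F),
        (Matrix.toLin' (x : Matrix (Fin d ⊕ Fin d) (Fin d ⊕ Fin d) F)) ^ r = 1 ∧
        Module.finrank F (fixSp (Matrix.toLin' (x : Matrix (Fin d ⊕ Fin d) (Fin d ⊕ Fin d) F))) = 2 * d - N * c ∧
        ((x ^ r : ↥(Matrix.symplecticGroup (Fin d) F)) : Matrix (Fin d ⊕ Fin d) (Fin d ⊕ Fin d) F) =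
          (1 : F) • (1 : Matrix (Fin d ⊕ Fin d) (Fin d ⊕ Fin d) F) ∧
        ∀ z : F, (x : Matrix (Fin d ⊕ Fin d) (Fin d ⊕ Fin d) F) ≠
          z • (1 : Matrix (Fin d ⊕ Fin d) (Fin d ⊕ Fin d) F) := by
      intro N hN1 hN
      rw [hce, mul_left_comm] at hN
      obtain ⟨x, hx, hfix⟩ : ∃ x : ↥(Matrix.symplecticGroup (Fin d) F),
          ((x ^ r : ↥(Matrix.symplecticGroup (Fin d) F)) : Matrix (Fin d ⊕ Fin d) (Fin d ⊕ Fin d) F) =
            (1 : F) • (1 : Matrix (Fin d ⊕ Fin d) (Fin d ⊕ Fin d) F) ∧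
          Module.finrank F (fixSp (Matrix.toLin' (x : Matrix (Fin d ⊕ Fin d) (Fin d ⊕ Fin d) F))) =
            2 * (d - N * e₀) := by
        rcases hie with ⟨hio, h⟩ | h
        · exact exists_sp_fixed_dim (d := d) (e := d - N * e₀) (N := N) hr (by
            rw [← hi, h, mul_assoc]; omega)
        · have ht' : 1 ≤ (r - 1) / i := Nat.div_pos (Nat.le_of_dvd (by have := hrP.two_le; omega) hir) hi0
          obtain ⟨x, hx, hfix, -⟩ := exists_sp_type (d := d) (e := d - N * e₀) (N := N) (u := 1) hr hr2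
            (hi ▸ ⟨e₀, by omega⟩) one_pos ht' hN1 (by rw [← hi, h, mul_left_comm N]; omega)
          exact ⟨x, hx, hfix⟩
      have hfix' : Module.finrank F (fixSp (Matrix.toLin' (x : Matrix (Fin d ⊕ Fin d) (Fin d ⊕ Fin d) F))) =
          2 * d - N * c := by
        rw [hfix, hce, mul_left_comm]; omega
      have hfr : (Matrix.toLin' (x : Matrix (Fin d ⊕ Fin d) (Fin d ⊕ Fin d) F)) ^ r = 1 := by
        rw [← pow_apply_toLin', ← SubmonoidClass.coe_pow, hx, one_smul, Matrix.toLin'_one]
        rfl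
      refine ⟨x, hfr, hfix', hx, fun z hz => ?_⟩
      have hlin : ∀ v, Matrix.toLin' (x : Matrix (Fin d ⊕ Fin d) (Fin d ⊕ Fin d) F) v = z • v := fun v => by
        rw [hz, Matrix.toLin'_apply, Matrix.smul_mulVec, Matrix.one_mulVec]
      have hpow : ∀ k : ℕ, ∀ v, (Matrix.toLin' (x : Matrix (Fin d ⊕ Fin d) (Fin d ⊕ Fin d) F) ^ k) v =
          z ^ k • v := fun k => by
        induction k with
        | zero => simp
        | succ k ih => intro v; rw [pow_succ', Module.End.mul_apply, ih, hlin, smul_smul, ← pow_succ']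
      obtain ⟨v, w, hvw⟩ : ∃ v w, sympBilin d F v w ≠ 0 := by
        by_contra h
        push Not at h
        have h0 : (Pi.single (Sum.inl ⟨0, hd0⟩) 1 : Fin d ⊕ Fin d → F) = 0 := hnd _ (h _)
        simpa using congrFun h0 (Sum.inl ⟨0, hd0⟩)
      have hc2 : z * z = 1 := by
        have h := spGL_iso (spToGL_mem x) v w
        rw [spToGL_val, hlin, hlin, map_smul, map_smul, LinearMap.smul_apply, smul_eq_mul, smul_eq_mul,
          ← mul_assoc] at h
        exact mul_right_cancel₀ hvw (h.trans (one_mul _).symm)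
      obtain ⟨k, hk⟩ := hodd
      have hcr : z = z ^ r := by rw [hk, pow_succ, pow_mul, pow_two, hc2, one_pow, one_mul]
      have htop : fixSp (Matrix.toLin' (x : Matrix (Fin d ⊕ Fin d) (Fin d ⊕ Fin d) F)) = ⊤ :=
        Submodule.eq_top_iff'.2 fun v => mem_fixSp.2 (by rw [hlin, hcr, ← hpow, hfr, Module.End.one_apply])
      rw [htop, finrank_top, hstd] at hfix'
      have : c ≤ N * c := Nat.le_mul_of_pos_left c hN1
      omega
    -- an element stabilising a decomposition
    have main : ∀ N, 1 ≤ N → N * c ≤ 2 * d →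
        (a ≤ 2 * d - N * c ∧ (r - 1) * a ≤ N * c) ∨
        (∃ m : Fin t → ℕ, (∀ j, m j * c ≤ a) ∧ ∑ j, (a - m j * c) ≤ 2 * d - N * c) := by
      intro N hN1 hN
      obtain ⟨x, hfr, hfix, hx, hns⟩ := hex N hN1 hN
      obtain ⟨D, ⟨⟨-, -, hDr, -, -⟩, hDn, hDo⟩, σ, hσ⟩ := H x ⟨1, hx⟩ hns
      have hDn' : ∀ j, Nondeg (σ := RingHom.id F) (sympBilin d F) (D j) := fun j u hu hu' => by
        by_contra hu0
        obtain ⟨v, hv, hne⟩ := hDn j u hu hu0
        exact hne (hu' v hv)
      have hmov := hsplit _ hfr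
      by_cases hall : ∀ j, σ j = j
      · refine Or.inr ?_
        have hfx := fun j => fixed_summand hA hnd (spGL_iso (spToGL_mem x)) hr hr2 (by rw [spToGL_val]; exact hfr)
          (hcb ▸ hc0) (W := D j) (fun v hv => by
            have h := Submodule.mem_map_of_mem
              (f := Matrix.toLin' (x : Matrix (Fin d ⊕ Fin d) (Fin d ⊕ Fin d) F)) hv
            rw [hσ, hall] at h
            rw [spToGL_val]; exact h) (hDn' j)
        simp only [spToGL_val, hcb, hDr] at hfx
        choose m hm using fun j => (hfx j).1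
        refine ⟨m, fun j => ?_, ?_⟩
        · rw [mul_comm, ← hm]; have := (hfx j).2; omega
        · rw [← hfix]
          refine le_trans (le_of_eq (Finset.sum_congr rfl fun j _ => ?_)) (sum_finrank_le hDn' hDo _)
          rw [mul_comm, ← hm]; exact Nat.sub_eq_of_eq_add (hfx j).2.symm
      · push Not at hall
        obtain ⟨j, hj⟩ := hall
        obtain ⟨h1, h2⟩ := moved_summand hDn' hDo (fun j e => by
          have := hDr j
          rw [e, finrank_bot] at this
          omega) hσ hrP hfr hDr hj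
        refine Or.inl ⟨hfix ▸ h1, ?_⟩
        omega
    -- one block
    have hca : c ≤ a := by
      by_contra hlt
      push Not at hlt
      rcases main 1 le_rfl (by rw [one_mul]; exact hcd) with ⟨-, h2⟩ | ⟨m, hm, hsum⟩
      · have h3 : (r - 1) * 2 ≤ (r - 1) * a := Nat.mul_le_mul_left _ ha
        have := hrP.two_le
        omega
      · have h3 : ∀ j, m j = 0 := fun j => by
          by_contra h0
          have := Nat.le_mul_of_pos_left c (Nat.pos_of_ne_zero h0)
          have := hm j
          omega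
        simp only [h3, zero_mul, Nat.sub_zero, Finset.sum_const, Finset.card_univ, Fintype.card_fin, smul_eq_mul,
          one_mul] at hsum
        rw [mul_comm t, ← hat] at hsum
        omega
    refine ⟨hca, ?_⟩
    · -- as many blocks as possible
      have hN1 : 1 ≤ 2 * d / c := Nat.div_pos hcd hc0
      have hk := Nat.div_add_mod (2 * d) c
      have hkc := Nat.mod_lt (2 * d) hc0
      rcases main (2 * d / c) hN1 (Nat.div_mul_le_self _ _) with ⟨h2, -⟩ | ⟨m, hm, hsum⟩
      · rw [mul_comm (2 * d / c) c] at h2; omega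
      · have hge : t * (a % c) ≤ (2 * d) % c := by
          have h3 : ∑ _j : Fin t, a % c ≤ ∑ j, (a - m j * c) := Finset.sum_le_sum fun j _ => by
            have e : a % c = (a - m j * c) % c := by
              conv_lhs => rw [← Nat.sub_add_cancel (hm j), Nat.add_mul_mod_self_right]
            rw [e]
            exact Nat.mod_le _ _
          rw [Finset.sum_const, Finset.card_univ, Fintype.card_fin, smul_eq_mul] at h3
          rw [mul_comm (2 * d / c)] at hsum
          omega
        have e : (2 * d) % c = (t * (a % c)) % c := by rw [hat, mul_comm a, Nat.mul_mod_mod]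
        rw [e, Nat.mod_eq_of_lt (lt_of_le_of_lt hge hkc)]
  · rintro ⟨-, hk⟩ x ⟨z, hz⟩ -
    set T := Matrix.toLin' (x : Matrix (Fin d ⊕ Fin d) (Fin d ⊕ Fin d) F) with hT
    have hiso : ∀ u v, sympBilin d F (T u) (T v) = sympBilin d F u v := fun u v => by
      have h := spGL_iso (spToGL_mem x) u v
      rwa [spToGL_val] at h
    have hTr : ∀ v, (T ^ r) v = z • v := fun v => by
      rw [hT, ← pow_apply_toLin', ← SubmonoidClass.coe_pow, hz, map_smul, Matrix.toLin'_one]
      rfl
    have hisor : ∀ (k : ℕ) u v, sympBilin d F ((T ^ k) u) ((T ^ k) v) = sympBilin d F u v := fun k => by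
      induction k with
      | zero => intro u v; rfl
      | succ k ih => intro u v; rw [pow_succ', Module.End.mul_apply, Module.End.mul_apply, hiso, ih]
    obtain ⟨v, w, hvw⟩ : ∃ v w, sympBilin d F v w ≠ 0 := by
      by_contra h
      push Not at h
      have h0 : (Pi.single (Sum.inl ⟨0, hd0⟩) 1 : Fin d ⊕ Fin d → F) = 0 := hnd _ (h _)
      simpa using congrFun h0 (Sum.inl ⟨0, hd0⟩)
    have hzz : z * z = 1 := by
      have h := hisor r v w
      rw [hTr, hTr, map_smul, map_smul, LinearMap.smul_apply, smul_eq_mul, smul_eq_mul, ← mul_assoc] at h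
      exact mul_right_cancel₀ hvw (h.trans (one_mul _).symm)
    set f : Module.End F (Fin d ⊕ Fin d → F) := z • T with hf'
    have hfr : f ^ r = 1 := by
      obtain ⟨k, hk'⟩ := hodd
      rw [hf', smul_pow]
      refine LinearMap.ext fun v => ?_
      rw [LinearMap.smul_apply, hTr, smul_smul, ← pow_succ, hk', show 2 * k + 1 + 1 = 2 * (k + 1) by omega,
        pow_mul, pow_two, hzz, one_pow, one_smul, Module.End.one_apply]
    have hf : ∀ u v, sympBilin d F (f u) (f v) = sympBilin d F u v := fun u v => by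
      simp only [hf', LinearMap.smul_apply, map_smul, smul_eq_mul, hiso, ← mul_assoc, hzz, one_mul]
    have h := isHerm_alt hA hnd
    have hdim := hsplit f hfr
    obtain ⟨D, hD, hDo, hDs⟩ := exists_dec hA hnd hf hr hr2 hfr hae t (fixSp f) (movSp f) le_rfl
      (nondeg_fixSp hr hfr h hf) le_rfl inv_movSp (nondeg_movSp hr hfr h hf) (by rw [hdim, hat, mul_comm]) (by
        rw [hcb]
        refine le_trans (Nat.div_le_div_right (show Module.finrank F (movSp f) ≤ 2 * d by omega)) (le_of_eq ?_)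
        have h1 := Nat.div_add_mod (2 * d) c
        have h2 := Nat.div_add_mod a c
        refine Nat.eq_of_mul_eq_mul_left hc0 (Nat.add_right_cancel (m := 2 * d % c) ?_)
        rw [h1, hk, ← mul_assoc, mul_comm c t, mul_assoc, ← Nat.mul_add, h2, hat, mul_comm])
    refine ⟨D, ⟨⟨ht, by omega, fun j => (hD j).2.2, indep_of_orth (fun j => (hD j).2.1) hDo, ?_⟩,
      fun j u hu hu0 => ?_, hDo⟩, 1, fun j => ?_⟩
    · rw [hDs, (isCompl_fix_mov hr hfr).sup_eq_top]
    · by_contra hc'
      push Not at hc'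
      exact hu0 ((hD j).2.1 u hu hc')
    · refine Submodule.eq_of_le_of_finrank_eq ?_ ?_
      · rintro _ ⟨u, hu, rfl⟩
        have h1 := (D j).smul_mem z ((hD j).1 u hu)
        rwa [hf', LinearMap.smul_apply, smul_smul, hzz, one_smul] at h1
      · refine (Submodule.equivMapOfInjective _ ?_ (D j)).finrank_eq.symm
        exact injective_of_iso h hiso

end Cfsg.Agent.S5961
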