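import Cfsg.Statements.S5962
import Cfsg.Agent.Lib.PrimeOrderSp.SympInv

set_option autoImplicit false
open scoped MatrixGroups
open Cfsg

namespace Cfsg.Agent.S5962

/-- Involutions of PSp_n(q), q odd, and the subgroups GL_{n/2}(q).2. Here `T = PSp_n(q)`, `n = 2d ≥ 4`, `q` odd, realised through the symplectic matrices over the field `F` with `q` elements; Ω is the set of unordered pairs `{U, W}` of complementary totally isotropic `d`-spaces (`F^n = U ⊕ W`), whose stabilizers are the subgroups of type GL_d(q).2 (maximal except in some small cases; maximality is not assumed); an element of `T` of prime order `r` (a symplectic matrix `x` with `x^r` scalar, `x` not scalar) fixes such a pair when it fixes or interchanges `U` and `W`. If the number of such pairs is even, every involution of `T` fixes one of them (the action is 2-elusive). -/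
theorem result {F : Type*} [Field F] [Fintype F] {p : ℕ} [Fact p.Prime] [CharP F p] {q : ℕ} (hq : Fintype.card F = q)
    (d : ℕ) (hd : 2 ≤ d) (hT : (d, q) ≠ (2, 2)) (hodd : Odd q)
    (hΩ : 2 ∣ Nat.card {P : Submodule F (Fin d ⊕ Fin d → F) × Submodule F (Fin d ⊕ Fin d → F) // IsCompl P.1 P.2 ∧ (∀ u ∈ P.1, ∀ v ∈ P.1, Cfsg.sympForm d F u v = 0) ∧ (∀ u ∈ P.2, ∀ v ∈ P.2, Cfsg.sympForm d F u v = 0)} / 2)
    (x : ↥(Matrix.symplecticGroup (Fin d) F))
    (hx1 : ∃ z : F, ((x ^ 2 : ↥(Matrix.symplecticGroup (Fin d) F)) : Matrix (Fin d ⊕ Fin d) (Fin d ⊕ Fin d) F) = z • (1 : Matrix (Fin d ⊕ Fin d) (Fin d ⊕ Fin d) F))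
    (hx2 : ∀ z : F, (x : Matrix (Fin d ⊕ Fin d) (Fin d ⊕ Fin d) F) ≠ z • (1 : Matrix (Fin d ⊕ Fin d) (Fin d ⊕ Fin d) F)) :
    ∃ U W : Submodule F (Fin d ⊕ Fin d → F), IsCompl U W ∧ (∀ u ∈ U, ∀ v ∈ U, Cfsg.sympForm d F u v = 0) ∧ (∀ u ∈ W, ∀ v ∈ W, Cfsg.sympForm d F u v = 0) ∧
        ((U.map (Matrix.toLin' (x : Matrix (Fin d ⊕ Fin d) (Fin d ⊕ Fin d) F)) = U ∧ W.map (Matrix.toLin' (x : Matrix (Fin d ⊕ Fin d) (Fin d ⊕ Fin d) F)) = W) ∨
         (U.map (Matrix.toLin' (x : Matrix (Fin d ⊕ Fin d) (Fin d ⊕ Fin d) F)) = W ∧ W.map (Matrix.toLin' (x : Matrix (Fin d ⊕ Fin d) (Fin d ⊕ Fin d) F)) = U)) := by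
  open CfsgLib.PrimeOrderSp CfsgLib.Geometry in
  classical
  obtain ⟨z, hz⟩ := hx1
  obtain ⟨hzz, ⟨S⟩⟩ := exists_planeSys_sp (show 0 < d by omega) x hz
  have h2 : (2 : F) ≠ 0 := by
    intro h
    have h1 : ringChar F = 2 := CharP.ringChar_of_prime_eq_zero Nat.prime_two (by exact_mod_cast h)
    rw [FiniteField.even_card_iff_char_two, hq] at h1
    exact Nat.not_even_iff_odd.2 hodd (Nat.even_iff.2 h1)
  set f := Matrix.toLin' (x : Matrix (Fin d ⊕ Fin d) (Fin d ⊕ Fin d) F) with hf
  have hA := sympBilin_isAlt d F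
  have sw : ∀ u v, sympBilin d F u v = - sympBilin d F v u := fun u v =>
    (LinearMap.IsAlt.neg hA v u).symm
  have hff : ∀ v, f (f v) = z • v := fun v => by
    rw [SubmonoidClass.coe_pow] at hz
    rw [hf, ← LinearMap.comp_apply, ← Matrix.toLin'_mul, ← pow_two, hz, Matrix.toLin'_apply,
      Matrix.smul_mulVec, Matrix.one_mulVec]
  have hinj : Function.Injective f := fun a b h => by
    rw [← sub_eq_zero]
    refine ndOn_top _ trivial fun v _ => ?_
    rw [← iso_toLin' x (a - b) v, ← hf, map_sub, h, sub_self, map_zero, LinearMap.zero_apply]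
  -- a plane never rotates when `z = 1`
  have hrot : z = 1 → ∀ i, ¬ (f (S.a i) = S.b i ∧ f (S.b i) = z • S.a i) := by
    rintro rfl i ⟨ha, hb⟩
    have h := iso_toLin' x (S.a i) (S.b i)
    rw [← hf, ha, hb, one_smul, sw] at h
    exact S.pair i ((mul_eq_zero.1 (show (2 : F) * sympBilin d F (S.a i) (S.b i) = 0 by
      rw [two_mul]; nth_rewrite 1 [← h]; exact neg_add_cancel _)).resolve_left h2)
  -- when `z = -1` a plane is fixed only by rotating
  have hfix : z = -1 → ∀ i (c : F), f (S.a i) = c • S.a (S.perm i) → f (S.b i) = c • S.b (S.perm i) →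
      S.perm i ≠ i := by
    rintro rfl i c ha hb he
    rw [he] at ha hb
    have h := iso_toLin' x (S.a i) (S.b i)
    rw [← hf, ha, hb, map_smul, map_smul, LinearMap.smul_apply, smul_eq_mul, smul_eq_mul, ← mul_assoc] at h
    have h4 : c * c = 1 := (mul_eq_right₀ (S.pair i)).1 h
    have h5 : (c * c) • S.a i = (-1 : F) • S.a i := by rw [mul_smul, ← ha, ← map_smul, ← ha, hff]
    have h6 : S.a i ≠ 0 := fun e => S.pair i (by simp [e])
    have h7 := smul_left_injective F h6 h5
    rw [h4] at h7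
    exact h2 (by rw [← one_add_one_eq_two]; nth_rewrite 1 [h7]; ring)
  let u : Fin d → (Fin d ⊕ Fin d → F) := fun i => if z = 1 ∨ i ≤ S.perm i then S.a i else S.b i
  let w : Fin d → (Fin d ⊕ Fin d → F) := fun i => if z = 1 ∨ i ≤ S.perm i then S.b i else S.a i
  have horth : ∀ i j, sympBilin d F (u i) (u j) = 0 ∧ sympBilin d F (w i) (w j) = 0 := by
    intro i j
    by_cases hij : i = j
    · subst hij; exact ⟨hA _, hA _⟩
    · obtain ⟨e1, e2, e3, e4⟩ := S.orth i j hij
      simp only [u, w]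
      split_ifs <;> exact ⟨by assumption, by assumption⟩
  have hTI : ∀ g : Fin d → (Fin d ⊕ Fin d → F), (∀ i j, sympBilin d F (g i) (g j) = 0) →
      ∀ a ∈ Submodule.span F (Set.range g), ∀ b ∈ Submodule.span F (Set.range g),
        Cfsg.sympForm d F a b = 0 := by
    intro g hg a ha b hb
    have h1 : ∀ i, sympBilin d F (g i) b = 0 := fun i =>
      (Submodule.span_le (p := LinearMap.ker (sympBilin d F (g i)))).2
        (by rintro _ ⟨j, rfl⟩; exact hg i j) hb
    exact (Submodule.span_le (p := LinearMap.ker ((sympBilin d F).flip b))).2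
      (by rintro _ ⟨i, rfl⟩; exact h1 i) ha
  have hU := hTI u fun i j => (horth i j).1
  have hW := hTI w fun i j => (horth i j).2
  have hmap : ∀ g h : Fin d → (Fin d ⊕ Fin d → F),
      (∀ i, f (g i) ∈ Submodule.span F (Set.range h)) → (∀ i, f (h i) ∈ Submodule.span F (Set.range g)) →
      (Submodule.span F (Set.range g)).map f = Submodule.span F (Set.range h) := by
    intro g h h1 h2
    have e1 : (Submodule.span F (Set.range g)).map f ≤ Submodule.span F (Set.range h) :=
      Submodule.map_le_iff_le_comap.2 (Submodule.span_le.2 (by rintro _ ⟨i, rfl⟩; exact h1 i))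
    have e2 : (Submodule.span F (Set.range h)).map f ≤ Submodule.span F (Set.range g) :=
      Submodule.map_le_iff_le_comap.2 (Submodule.span_le.2 (by rintro _ ⟨i, rfl⟩; exact h2 i))
    refine Submodule.eq_of_le_of_finrank_le e1 ?_
    rw [← (Submodule.equivMapOfInjective f hinj (Submodule.span F (Set.range g))).finrank_eq,
      (Submodule.equivMapOfInjective f hinj (Submodule.span F (Set.range h))).finrank_eq]
    exact Submodule.finrank_mono e2
  have hcompl : IsCompl (Submodule.span F (Set.range u)) (Submodule.span F (Set.range w)) := by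
    have htop : ∀ v, v ∈ Submodule.span F (Set.range u) ⊔ Submodule.span F (Set.range w) := fun v => by
      rw [← Submodule.span_union]
      refine Submodule.span_le.2 ?_ (S.span (Submodule.mem_top (x := v)))
      rintro _ (⟨i, rfl⟩ | ⟨i, rfl⟩) <;> by_cases hi : z = 1 ∨ i ≤ S.perm i
      · exact Submodule.subset_span (Or.inl ⟨i, if_pos hi⟩)
      · exact Submodule.subset_span (Or.inr ⟨i, if_neg hi⟩)
      · exact Submodule.subset_span (Or.inr ⟨i, if_pos hi⟩)
      · exact Submodule.subset_span (Or.inl ⟨i, if_neg hi⟩)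
    refine ⟨Submodule.disjoint_def.2 fun a ha hb => ndOn_top a trivial fun v _ => ?_,
      codisjoint_iff.2 (Submodule.eq_top_iff'.2 htop)⟩
    obtain ⟨v₁, hv₁, v₂, hv₂, rfl⟩ := Submodule.mem_sup.1 (htop v)
    rw [map_add, sympBilin_apply, sympBilin_apply, hU a ha v₁ hv₁, hW a hb v₂ hv₂, add_zero]
  refine ⟨_, _, hcompl, hU, hW, ?_⟩
  rcases mul_self_eq_one_iff.1 hzz with hz1 | hz1
  · left
    have hu : u = S.a := funext fun i => if_pos (Or.inl hz1)
    have hw : w = S.b := funext fun i => if_pos (Or.inl hz1)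
    rw [hu, hw]
    have key : ∀ i, f (S.a i) ∈ Submodule.span F (Set.range S.a) ∧
        f (S.b i) ∈ Submodule.span F (Set.range S.b) := by
      intro i
      rcases S.kind i with ⟨c, ha, hb⟩ | ⟨-, hr⟩
      · rw [ha, hb]
        exact ⟨Submodule.smul_mem _ _ (Submodule.subset_span ⟨_, rfl⟩),
          Submodule.smul_mem _ _ (Submodule.subset_span ⟨_, rfl⟩)⟩
      · exact absurd hr (hrot hz1 i)
    exact ⟨hmap _ _ (fun i => (key i).1) (fun i => (key i).1),
      hmap _ _ (fun i => (key i).2) (fun i => (key i).2)⟩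
  · right
    have hne : z ≠ 1 := fun h => h2 (by
      rw [← one_add_one_eq_two]; nth_rewrite 1 [← h]; rw [hz1]; ring)
    have key : ∀ i, f (u i) ∈ Submodule.span F (Set.range w) ∧ f (w i) ∈ Submodule.span F (Set.range u) := by
      intro i
      rcases S.kind i with ⟨c, ha, hb⟩ | ⟨he, ha, hb⟩
      · have hp := hfix hz1 i c ha hb
        by_cases hi : i ≤ S.perm i
        · have hj : ¬ S.perm i ≤ i := fun h => hp (le_antisymm h hi)
          have e1 : u i = S.a i := if_pos (Or.inr hi)
          have e2 : w i = S.b i := if_pos (Or.inr hi)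
          have e3 : u (S.perm i) = S.b (S.perm i) := if_neg (by rw [S.invol]; exact not_or.2 ⟨hne, hj⟩)
          have e4 : w (S.perm i) = S.a (S.perm i) := if_neg (by rw [S.invol]; exact not_or.2 ⟨hne, hj⟩)
          rw [e1, e2, ha, hb, ← e3, ← e4]
          exact ⟨Submodule.smul_mem _ _ (Submodule.subset_span ⟨_, rfl⟩),
            Submodule.smul_mem _ _ (Submodule.subset_span ⟨_, rfl⟩)⟩
        · have hj : S.perm i ≤ i := (not_le.1 hi).le
          have e1 : u i = S.b i := if_neg (not_or.2 ⟨hne, hi⟩)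
          have e2 : w i = S.a i := if_neg (not_or.2 ⟨hne, hi⟩)
          have e3 : u (S.perm i) = S.a (S.perm i) := if_pos (by rw [S.invol]; exact Or.inr hj)
          have e4 : w (S.perm i) = S.b (S.perm i) := if_pos (by rw [S.invol]; exact Or.inr hj)
          rw [e1, e2, ha, hb, ← e3, ← e4]
          exact ⟨Submodule.smul_mem _ _ (Submodule.subset_span ⟨_, rfl⟩),
            Submodule.smul_mem _ _ (Submodule.subset_span ⟨_, rfl⟩)⟩
      · have e1 : u i = S.a i := if_pos (Or.inr he.ge)
        have e2 : w i = S.b i := if_pos (Or.inr he.ge)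
        rw [e1, e2, ha, hb, ← e1, ← e2]
        exact ⟨Submodule.subset_span ⟨_, rfl⟩,
          Submodule.smul_mem _ _ (Submodule.subset_span ⟨_, rfl⟩)⟩
    exact ⟨hmap _ _ (fun i => (key i).1) (fun i => (key i).2),
      hmap _ _ (fun i => (key i).2) (fun i => (key i).1)⟩

end Cfsg.Agent.S5962
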