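import Cfsg.Statements.S5963
import Cfsg.Agent.Lib.PrimeOrderSp.LagrangianPairs

set_option autoImplicit false
open scoped MatrixGroups
open Cfsg

namespace Cfsg.Agent.S5963

/-- Derangements of odd prime order of PSp_n(q), q odd, on pairs of complementary totally isotropic subspaces. Here `T = PSp_n(q)`, `n = 2d ≥ 4`, `q` odd, realised through the symplectic matrices over the field `F` with `q` elements; Ω is the set of unordered pairs `{U, W}` of complementary totally isotropic `d`-spaces (`F^n = U ⊕ W`), whose stabilizers are the subgroups of type GL_d(q).2 (maximal except in some small cases; maximality is not assumed); an element of `T` of prime order `r` (a symplectic matrix `x` with `x^r` scalar, `x` not scalar) fixes such a pair when it fixes or interchanges `U` and `W`. For every odd prime `r ≠ p` dividing the number of such pairs, some element of `T` of order `r` fixes no such pair (the action is never `r`-elusive for odd `r ≠ p`). -/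
theorem result {F : Type*} [Field F] [Fintype F] {p : ℕ} [Fact p.Prime] [CharP F p] {q : ℕ} (hq : Fintype.card F = q)
    (d : ℕ) (hd : 2 ≤ d) (hT : (d, q) ≠ (2, 2)) (hodd : Odd q)
    (r : ℕ) [Fact r.Prime] (hr2 : r ≠ 2) (hrp : r ≠ p) (hΩ : r ∣ Nat.card {P : Submodule F (Fin d ⊕ Fin d → F) × Submodule F (Fin d ⊕ Fin d → F) // IsCompl P.1 P.2 ∧ (∀ u ∈ P.1, ∀ v ∈ P.1, Cfsg.sympForm d F u v = 0) ∧ (∀ u ∈ P.2, ∀ v ∈ P.2, Cfsg.sympForm d F u v = 0)} / 2) :
    ∃ x : ↥(Matrix.symplecticGroup (Fin d) F),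
      (∃ z : F, ((x ^ r : ↥(Matrix.symplecticGroup (Fin d) F)) : Matrix (Fin d ⊕ Fin d) (Fin d ⊕ Fin d) F) = z • (1 : Matrix (Fin d ⊕ Fin d) (Fin d ⊕ Fin d) F)) ∧
      (∀ z : F, (x : Matrix (Fin d ⊕ Fin d) (Fin d ⊕ Fin d) F) ≠ z • (1 : Matrix (Fin d ⊕ Fin d) (Fin d ⊕ Fin d) F)) ∧
      ¬ (∃ U W : Submodule F (Fin d ⊕ Fin d → F), IsCompl U W ∧ (∀ u ∈ U, ∀ v ∈ U, Cfsg.sympForm d F u v = 0) ∧ (∀ u ∈ W, ∀ v ∈ W, Cfsg.sympForm d F u v = 0) ∧
        ((U.map (Matrix.toLin' (x : Matrix (Fin d ⊕ Fin d) (Fin d ⊕ Fin d) F)) = U ∧ W.map (Matrix.toLin' (x : Matrix (Fin d ⊕ Fin d) (Fin d ⊕ Fin d) F)) = W) ∨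
         (U.map (Matrix.toLin' (x : Matrix (Fin d ⊕ Fin d) (Fin d ⊕ Fin d) F)) = W ∧ W.map (Matrix.toLin' (x : Matrix (Fin d ⊕ Fin d) (Fin d ⊕ Fin d) F)) = U))) := by
  open CfsgLib.PrimeOrderSp CfsgLib.Geometry in
  have hrprime : r.Prime := Fact.out
  have hr : (r : F) ≠ 0 := cast_ne_zero_of_prime_ne hrprime hrp
  subst hq
  obtain ⟨a, ha⟩ := card_lagPair_dvd (F := F) (d := d)
  have hpairs : r ∣ Nat.card (LagPair F d) := by
    have h2 : 2 ∣ Nat.card (LagPair F d) := by
      haveI : Finite (Submodule F (Fin d ⊕ Fin d → F)) := Finite.of_injective _ SetLike.coe_injective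
      classical
      haveI : Fintype (LagPair F d) := Fintype.ofFinite _
      rw [Nat.card_eq_fintype_card, ← CharP.cast_eq_zero_iff (ZMod 2) 2]
      let sw : LagPair F d → LagPair F d := fun P => ⟨(P.1.2, P.1.1), P.2.1.symm, P.2.2.2, P.2.2.1⟩
      have h0 : ∑ _P : LagPair F d, (1 : ZMod 2) = 0 := by
        refine Finset.sum_involution (fun P _ => sw P) (fun _ _ => by decide) (fun P _ _ e => ?_)
          (fun _ _ => Finset.mem_univ _) (fun P _ => Subtype.ext rfl)
        have e' : P.1.2 = P.1.1 := congrArg (fun Q => Q.1.1) e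
        have h1 := P.2.1
        rw [e'] at h1
        have hbot : P.1.1 = ⊥ := disjoint_self.1 h1.disjoint
        have := (finrank_lag P).1
        rw [hbot, finrank_bot] at this
        omega
      simpa using h0
    exact hΩ.trans (Nat.div_dvd_of_dvd h2)
  have h1 : r ∣ Fintype.card F ^ a * ∏ i ∈ Finset.range d, (Fintype.card F ^ (i + 1) + 1) :=
    hpairs.trans ha
  have hnq : ¬ r ∣ Fintype.card F ^ a := fun h => by
    obtain ⟨n, hn, hq⟩ := FiniteField.card F p
    rw [hq] at h
    exact hrp ((Nat.prime_dvd_prime_iff_eq hrprime hn).1 (hrprime.dvd_of_dvd_pow (hrprime.dvd_of_dvd_pow h)))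
  obtain ⟨j, hj, hjd⟩ := hrprime.prime.exists_mem_finset_dvd ((hrprime.dvd_mul.1 h1).resolve_left hnq)
  rw [Finset.mem_range] at hj
  set i := orderOf ((Fintype.card F : ℕ) : ZMod r) with hi
  have hi0 : 0 < i := orderOf_card_pos hr
  have hneg : ((Fintype.card F : ℕ) : ZMod r) ^ (j + 1) = -1 := by
    rw [← ZMod.natCast_eq_zero_iff, Nat.cast_add, Nat.cast_pow, Nat.cast_one] at hjd
    exact eq_neg_of_add_eq_zero_left hjd
  haveI : Fact (2 < r) := ⟨lt_of_le_of_ne hrprime.two_le (Ne.symm hr2)⟩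
  have hdvd : i ∣ 2 * (j + 1) := by
    rw [hi, orderOf_dvd_iff_pow_eq_one, mul_comm, pow_mul, hneg, neg_one_sq]
  have hev : Even i := by
    by_contra hodd
    have h2 : i ∣ j + 1 := (Nat.Coprime.dvd_of_dvd_mul_left
      (Nat.coprime_two_right.2 (Nat.not_even_iff_odd.1 hodd))) hdvd
    rw [hi, orderOf_dvd_iff_pow_eq_one, hneg] at h2
    exact ZMod.neg_one_ne_one h2
  have hile : i ≤ 2 * (j + 1) := Nat.le_of_dvd (by omega) hdvd
  obtain ⟨i₀, hi₀⟩ := id hev
  have ht : 1 ≤ (r - 1) / i := by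
    classical
    have h2 := CfsgLib.KnownB.PrimeOrder.card_factors (F := F) (r := r) hr
    rw [← hi] at h2
    rw [← h2, Nat.mul_div_cancel _ hi0]
    rcases Nat.eq_zero_or_pos (CfsgLib.KnownB.PrimeOrder.factors F r).card with h0 | h0
    · rw [h0, zero_mul] at h2; have := hrprime.two_le; omega
    · exact h0
  obtain ⟨x, hx, hfix, hbound⟩ := exists_sp_type (d := d) (e := d - i₀) (N := 1) (u := 1) hr hr2
    (hi ▸ hev) one_pos ht le_rfl (by rw [← hi]; omega)
  set f : Module.End F (Fin d ⊕ Fin d → F) :=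
    Matrix.toLin' (x : Matrix (Fin d ⊕ Fin d) (Fin d ⊕ Fin d) F) with hf
  have hfr : f ^ r = 1 := by
    rw [hf, ← pow_apply_toLin', ← SubmonoidClass.coe_pow, hx, one_smul, Matrix.toLin'_one]
    rfl
  have hA := sympBilin_isAlt d F
  have hnd := fun u h => (sympBilin_nondegenerate d F).1 u h
  have hiso : ∀ u v, sympBilin d F (f u) (f v) = sympBilin d F u v := fun u v => (mem_sp_iff d F _).1 x.2 u v
  refine ⟨x, ⟨1, hx⟩, fun z hz => ?_, ?_⟩
  · -- not a scalar
    have hlin : ∀ v, f v = z • v := fun v => by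
      rw [hf, hz, Matrix.toLin'_apply, Matrix.smul_mulVec, Matrix.one_mulVec]
    have hpow : ∀ k : ℕ, ∀ v, (f ^ k) v = z ^ k • v := fun k => by
      induction k with
      | zero => simp
      | succ k ih => intro v; rw [pow_succ', Module.End.mul_apply, ih, hlin, smul_smul, pow_succ']
    let v₀ : Fin d ⊕ Fin d → F := Pi.single (Sum.inl ⟨0, by omega⟩) 1
    let v₁ : Fin d ⊕ Fin d → F := Pi.single (Sum.inr ⟨0, by omega⟩) 1
    have h01 : sympBilin d F v₀ v₁ ≠ 0 := by simp [v₀, v₁, sympForm_eq, Pi.single_apply]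
    have hz2 : z * z = 1 := by
      have e := hiso v₀ v₁
      rw [hlin, hlin, map_smul, map_smul, LinearMap.smul_apply, smul_eq_mul, smul_eq_mul, ← mul_assoc] at e
      exact (mul_eq_right₀ h01).1 e
    obtain ⟨k, hk⟩ := hrprime.odd_of_ne_two hr2
    have hzr : z = z ^ r := by rw [hk, pow_succ, pow_mul, pow_two, hz2, one_pow, one_mul]
    have htop : fixSp f = ⊤ := Submodule.eq_top_iff'.2 fun v => mem_fixSp.2 (by
      rw [hlin, hzr, ← hpow, hfr, Module.End.one_apply])
    rw [htop, finrank_top, finrank_std] at hfix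
    omega
  · rintro ⟨U, W, hc, hU, hW, hUW⟩
    have key : ∀ k : ℕ, U.map (f ^ k) = if Even k then U else W := by
      rcases hUW with ⟨h1, -⟩ | ⟨h1, h2⟩
      · exfalso
        have hinv : Inv f U := fun v hv => h1 ▸ Submodule.mem_map_of_mem hv
        obtain ⟨l, m, e1, e2, e3⟩ := ti_decomp hA hnd hiso hr hfr hinv hU
        have hb := hbound (U ⊓ movSp f) inf_le_right (hinv.inf inv_movSp) (TI.mono hU inf_le_left)
        rw [e3] at hb
        have hlag := (finrank_lag (⟨(U, W), hc, hU, hW⟩ : LagPair F d)).1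
        simp only at hlag
        omega
      · intro k
        induction k with
        | zero => simp [Module.End.one_eq_id]
        | succ k ih =>
          rw [pow_succ', Module.End.mul_eq_comp, Submodule.map_comp, ih]
          by_cases hk : Even k
          · rw [if_pos hk, if_neg (by simp [Nat.even_add_one, hk]), hf, h1]
          · rw [if_neg hk, if_pos (by simp [Nat.even_add_one, hk]), hf, h2]
    have e := key r
    rw [if_neg (Nat.not_even_iff_odd.2 (hrprime.odd_of_ne_two hr2)), hfr, Module.End.one_eq_id, Submodule.map_id] at e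
    subst e
    have hbot : U = ⊥ := disjoint_self.1 hc.disjoint
    have hU0 : Module.finrank F U = d := (finrank_lag (⟨(U, U), hc, hU, hW⟩ : LagPair F d)).1
    rw [hbot, finrank_bot] at hU0
    omega

end Cfsg.Agent.S5963
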