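import Cfsg.Statements.S5964
import Cfsg.Agent.Lib.ThreeTransp.InvolNormal
import Cfsg.Agent.Lib.Classical.Order

set_option autoImplicit false
open scoped MatrixGroups
open Cfsg

namespace Cfsg.Agent.S5964

/-- Involutions of PSL_n(q) and subfield subgroups. Here `T = PSL_n(F)` for a field `F` with `q = p^f` elements (`n ≥ 2`, `(n, q) ≠ (2, 2), (2, 3)`), `F₀` is the subfield with `q₀` elements where `q = q₀^k` for a prime `k`, and `H` is the subgroup of matrices of determinant 1 lying in the subfield group of `F₀` (invertible matrices over `F₀` times scalars) — a maximal subgroup of type GL_n(q₀) (the case `n = 2`, `q₀ = 2` is excluded); Ω is the set of `T`-conjugates of `H` (cosets of `H`), so an element of `T` of prime order `r` (a matrix `x` of determinant 1 with `x^r` scalar, `x` not scalar) fixes a point of Ω when some conjugate of `x` by a matrix of determinant 1 lies in `H`. Suppose the index of `H` is even. Then every involution of `T` is conjugate in `T` into `H` if and only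 if either `q` is even, or `k = 2` and `(n)_2 ≤ (q − 1)_2`. (For `q` odd and `k` odd the index of `H` is odd, so that case does not arise.) -/
theorem result {F : Type*} [Field F] [Fintype F] {p : ℕ} [Fact p.Prime] [CharP F p] {q : ℕ} (hq : Fintype.card F = q)
    (n : ℕ) (hn : 2 ≤ n) (hT : (n, q) ≠ (2, 2) ∧ (n, q) ≠ (2, 3))
    (F₀ : Subfield F) (k q₀ : ℕ) (hk : k.Prime) (hF₀ : Nat.card ↥F₀ = q₀) (hqk : q = q₀ ^ k) (hC5 : ¬ (n = 2 ∧ q₀ = 2)) (hΩ : 2 ∣ ((Cfsg.Geo.subfieldSubgroup F₀ 1).comap (Matrix.SpecialLinearGroup.toGL : Matrix.SpecialLinearGroup (Fin n) F →* GL (Fin n) F)).index) :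
    (∀ x : Matrix.SpecialLinearGroup (Fin n) F,
      (∃ z : F, ((x ^ 2 : Matrix.SpecialLinearGroup (Fin n) F) : Matrix (Fin n) (Fin n) F) = z • (1 : Matrix (Fin n) (Fin n) F)) →
      (∀ z : F, (x : Matrix (Fin n) (Fin n) F) ≠ z • (1 : Matrix (Fin n) (Fin n) F)) →
      ∃ P : Matrix.SpecialLinearGroup (Fin n) F, P⁻¹ * x * P ∈ ((Cfsg.Geo.subfieldSubgroup F₀ 1).comap (Matrix.SpecialLinearGroup.toGL : Matrix.SpecialLinearGroup (Fin n) F →* GL (Fin n) F))) ↔
    (Odd q → (k = 2 ∧ padicValNat 2 n ≤ padicValNat 2 (q - 1))) := by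
  open Matrix CfsgLib.ThreeTransp.InvolNormal in
  classical
  subst hq
  set q := Fintype.card F with hq
  set H := (Cfsg.Geo.subfieldSubgroup F₀ 1).comap
    (Matrix.SpecialLinearGroup.toGL : Matrix.SpecialLinearGroup (Fin n) F →* GL (Fin n) F) with hH
  have hmemH : ∀ (y : Matrix.SpecialLinearGroup (Fin n) F), y ∈ H ↔ ∃ (A : GL (Fin n) F₀) (c : Fˣ),
      (y : Matrix (Fin n) (Fin n) F) = (c : F) • (A : Matrix (Fin n) (Fin n) F₀).map F₀.subtype := by
    intro y
    haveI hnor : (Cfsg.Geo.scalars (Fin n) F).Normal := ⟨fun a ha g => by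
      obtain ⟨c, hc⟩ := (Cfsg.Geo.mem_scalars_iff a).1 ha
      refine (Cfsg.Geo.mem_scalars_iff _).2 ⟨c, ?_⟩
      rw [Units.val_mul, Units.val_mul, hc, mul_smul_comm, mul_one, smul_mul_assoc, Units.mul_inv]⟩
    rw [hH, Subgroup.mem_comap, Cfsg.Geo.subfieldSubgroup, Subgroup.mem_map]
    constructor
    · rintro ⟨g, hg, hgy⟩
      obtain ⟨a, ⟨A, rfl⟩, s, hs, rfl⟩ := Subgroup.mem_sup_of_normal_right.1 hg
      obtain ⟨c, hc⟩ := (Cfsg.Geo.mem_scalars_iff s).1 hs
      refine ⟨A, c, ?_⟩
      have h := congrArg (fun u : GL (Fin n) F => (u : Matrix (Fin n) (Fin n) F)) hgy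
      simp only [map_one, MulEquiv.coe_toMonoidHom, MulAut.one_apply, Units.val_mul, hc, mul_smul_comm, mul_one] at h
      exact h.symm
    · rintro ⟨A, c, h⟩
      let s : GL (Fin n) F := Units.map (Matrix.scalar (Fin n) : F →+* Matrix (Fin n) (Fin n) F).toMonoidHom c
      refine ⟨Matrix.GeneralLinearGroup.map (F₀.subtype : F₀ →+* F) A * s,
        Subgroup.mul_mem_sup ⟨A, rfl⟩ ⟨c, rfl⟩, Units.ext ?_⟩
      simp only [map_one, MulEquiv.coe_toMonoidHom, MulAut.one_apply, Units.val_mul]
      refine Eq.trans ?_ h.symm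
      ext i j
      simp [s, mul_diagonal, mul_comm]
  constructor
  · intro hall hodd
    have hq0odd : Odd q₀ := by
      rw [hqk] at hodd
      exact Odd.of_dvd_nat hodd (dvd_pow_self _ hk.ne_zero)
    have hk2 : k = 2 := by
      by_contra hne
      have hko : Odd k := hk.odd_of_ne_two hne
      have hfac : ∀ e : ℕ, ∃ R : ℕ, Odd R ∧ (q₀ ^ e) ^ k - 1 = R * (q₀ ^ e - 1) := by
        intro e
        refine ⟨∑ j ∈ Finset.range k, (q₀ ^ e) ^ j, ?_, ?_⟩
        · rw [← ZMod.natCast_eq_one_iff_odd, Nat.cast_sum]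
          simp [ZMod.natCast_eq_one_iff_odd.2 hq0odd, ZMod.natCast_eq_one_iff_odd.2 hko]
        · have h := geom_sum_mul_add (q₀ ^ e - 1) k
          rw [Nat.sub_add_cancel (Nat.one_le_pow _ _ hq0odd.pos)] at h
          omega
      have hcard : ∃ R : ℕ, Odd R ∧
          Nat.card (Matrix.SpecialLinearGroup (Fin n) F) = R * Nat.card (Matrix.SpecialLinearGroup (Fin n) F₀) := by
        choose R hRo hR using hfac
        refine ⟨(q₀ ^ (n * (n - 1) / 2)) ^ (k - 1) * ∏ i ∈ Finset.range (n - 1), R (i + 2), ?_, ?_⟩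
        · rw [← ZMod.natCast_eq_one_iff_odd, Nat.cast_mul, Nat.cast_prod]
          simp [ZMod.natCast_eq_one_iff_odd.2 hq0odd, fun i => ZMod.natCast_eq_one_iff_odd.2 (hRo i)]
        · rw [CfsgLib.Classical.card_SL_fin', CfsgLib.Classical.card_SL_fin', Nat.card_eq_fintype_card, ← hq, hF₀, hqk]
          have h1 : ∀ i, (q₀ ^ k) ^ (i + 2) - 1 = R (i + 2) * (q₀ ^ (i + 2) - 1) := fun i => by
            rw [← hR, ← pow_mul, ← pow_mul, mul_comm]
          simp only [h1, Finset.prod_mul_distrib]
          conv_lhs => rw [← pow_mul, mul_comm k, pow_mul, show k = k - 1 + 1 by have := hk.pos; omega, pow_succ]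
          ring
      obtain ⟨R, hRo, hR⟩ := hcard
      let φ := Matrix.SpecialLinearGroup.map (n := Fin n) (F₀.subtype : F₀ →+* F)
      have hle : φ.range ≤ H := by
        rintro _ ⟨A, rfl⟩
        exact (hmemH _).2 ⟨Matrix.SpecialLinearGroup.toGL A, 1, by rw [Units.val_one, one_smul]; rfl⟩
      have hinj : Function.Injective φ := fun A B h => by
        ext i j
        exact congrFun (congrFun (congrArg (fun M : Matrix.SpecialLinearGroup (Fin n) F => (M : Matrix (Fin n) (Fin n) F)) h) i) j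
      have h1 := Subgroup.card_mul_index φ.range
      rw [← Nat.card_congr (MonoidHom.ofInjective hinj).toEquiv, hR] at h1
      have h2 : φ.range.index = R := Nat.eq_of_mul_eq_mul_left Nat.card_pos (h1.trans (mul_comm _ _))
      have h3 := hΩ.trans ((Subgroup.index_dvd_of_le hle).trans h2.dvd)
      exact Nat.not_even_iff_odd.2 hRo (even_iff_two_dvd.2 h3)
    refine ⟨hk2, ?_⟩
    by_contra hlt
    push Not at hlt
    have hq1 : q - 1 ≠ 0 := by have := Fintype.one_lt_card (α := F); omega
    have h2n : 2 ∣ n := (dvd_pow_self 2 (by omega : padicValNat 2 n ≠ 0)).trans pow_padicValNat_dvd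
    obtain ⟨d, hd⟩ := h2n
    set a := padicValNat 2 (q - 1) with ha
    have had : 2 ^ a ∣ d := by
      have : 2 ^ (a + 1) ∣ 2 * d := hd ▸ (pow_dvd_pow 2 hlt).trans pow_padicValNat_dvd
      rw [pow_succ'] at this
      exact Nat.dvd_of_mul_dvd_mul_left two_pos this
    obtain ⟨g, hg⟩ := IsCyclic.exists_ofOrder_eq_natCard (α := Fˣ)
    rw [Nat.card_eq_fintype_card, Fintype.card_units] at hg
    set m := (q - 1) / 2 ^ a with hm
    have hmm : 2 ^ a * m = q - 1 := Nat.mul_div_cancel' pow_padicValNat_dvd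
    have hmo : Odd m := by
      rw [← Nat.not_even_iff_odd, even_iff_two_dvd]
      rintro ⟨l, hl⟩
      exact pow_succ_padicValNat_not_dvd (p := 2) hq1 ⟨l, by rw [← ha, pow_succ, mul_assoc, ← hl, hmm]⟩
    have hc2 : ringChar F ≠ 2 := fun h => by
      have := FiniteField.even_card_of_char_two h
      rw [← hq] at this
      exact (Nat.not_even_iff_odd.2 hodd) (Nat.even_iff.2 this)
    have hwd : ((g : F) ^ m) ^ d = 1 := by
      obtain ⟨l, hl⟩ := had
      rw [← pow_mul, hl, show m * (2 ^ a * l) = (2 ^ a * m) * l by ring, hmm, pow_mul,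
        FiniteField.pow_card_sub_one_eq_one _ g.ne_zero, one_pow]
    have hwns : ¬ IsSquare ((g : F) ^ m) := by
      rintro ⟨s, hs⟩
      have hs0 : s ≠ 0 := fun h => pow_ne_zero m g.ne_zero (by rw [hs, h, mul_zero])
      have h1 : g ^ (m * ((q - 1) / 2)) = 1 := Units.ext (by
        rw [Units.val_pow_eq_pow_val, pow_mul, hs, ← pow_two, ← pow_mul,
          Nat.two_mul_div_two_of_even (Nat.Odd.sub_odd hodd odd_one), FiniteField.pow_card_sub_one_eq_one s hs0,
          Units.val_one])
      have h2 := orderOf_dvd_of_pow_eq_one h1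
      rw [hg] at h2
      obtain ⟨l, hl⟩ := h2
      have he : 2 * ((q - 1) / 2) = q - 1 := Nat.two_mul_div_two_of_even (Nat.Odd.sub_odd hodd odd_one)
      rw [← hq] at hl
      have : m = 2 * l := by
        refine Nat.eq_of_mul_eq_mul_right (show 0 < (q - 1) / 2 by omega) ?_
        rw [hl]; conv_lhs => rw [← he]
        ring
      exact (Nat.not_even_iff_odd.2 hmo) ⟨l, by omega⟩
    have hsq : ∀ t : F, t ∈ F₀ → IsSquare t := by
      intro t ht
      by_cases h0 : t = 0
      · exact h0 ▸ IsSquare.zero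
      rw [FiniteField.isSquare_iff hc2 h0, ← hq]
      haveI : Fintype F₀ := Fintype.ofFinite _
      have h1 : t ^ (q₀ - 1) = 1 := by
        have := FiniteField.pow_card_sub_one_eq_one (⟨t, ht⟩ : F₀) (fun h => h0 (congrArg Subtype.val h))
        rw [← Nat.card_eq_fintype_card, hF₀] at this
        exact congrArg Subtype.val this
      have h2 : q / 2 = (q₀ - 1) * ((q₀ + 1) / 2) := by
        obtain ⟨l, hl⟩ := hq0odd
        rw [hqk, hk2, hl, show (2 * l + 1 + 1) / 2 = l + 1 by omega, show 2 * l + 1 - 1 = 2 * l by omega,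
          show (2 * l + 1) ^ 2 = 2 * (2 * l * (l + 1)) + 1 by ring]
        omega
      rw [h2, pow_mul, h1, one_pow]
    have hz : ¬ IsSquare (-((g : F) ^ m)) := fun h => hwns (by
      have := (hsq (-1) (neg_mem (one_mem _))).mul h
      rwa [neg_one_mul, neg_neg] at this)
    subst hd
    let e : Fin 2 × Fin d ≃ Fin (2 * d) := finProdFinEquiv
    let X : Matrix (Fin (2 * d)) (Fin (2 * d)) F :=
      reindex e e (blockDiagonal fun _ => !![0, -((g : F) ^ m); 1, 0])
    have hXdet : X.det = 1 := by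
      simp only [X, det_reindex_self, det_blockDiagonal, Finset.prod_const, Finset.card_univ, Fintype.card_fin,
        det_fin_two_of, zero_mul, mul_one, zero_sub, neg_neg, hwd]
    have hX2 : X * X = (-((g : F) ^ m)) • 1 := by
      rw [show X * X = reindex e e (blockDiagonal fun _ : Fin d => !![0, -((g : F) ^ m); 1, 0] * !![0, -((g : F) ^ m); 1, 0])
        from by simp only [X, reindex_apply, submatrix_mul_equiv, ← blockDiagonal_mul]]
      rw [show (fun _ : Fin d => !![0, -((g : F) ^ m); 1, 0] * !![0, -((g : F) ^ m); 1, 0]) = fun _ : Fin d => (-((g : F) ^ m)) • (1 : Matrix (Fin 2) (Fin 2) F) from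
        funext fun _ => by ext i j; fin_cases i <;> fin_cases j <;> simp [Matrix.mul_apply, Fin.sum_univ_two]]
      rw [show (fun _ : Fin d => (-((g : F) ^ m)) • (1 : Matrix (Fin 2) (Fin 2) F)) = (-((g : F) ^ m)) • (1 : Fin d → Matrix (Fin 2) (Fin 2) F) from rfl,
        blockDiagonal_smul, blockDiagonal_one, reindex_apply, submatrix_smul, Pi.smul_apply, Pi.smul_apply, submatrix_one_equiv]
    have hXns : ∀ z : F, X ≠ z • 1 := fun z h => by
      have := congrFun (congrFun h (e (1, ⟨0, by omega⟩))) (e (0, ⟨0, by omega⟩))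
      simp [X, blockDiagonal_apply, Matrix.one_apply] at this
    let X' : Matrix.SpecialLinearGroup (Fin (2 * d)) F := ⟨X, hXdet⟩
    obtain ⟨P, hP⟩ := hall X' ⟨_, by rw [Matrix.SpecialLinearGroup.coe_pow, pow_two]; exact hX2⟩ hXns
    obtain ⟨A, c, hAc⟩ := (hmemH _).1 hP
    have hy : ((P⁻¹ * X' * P : Matrix.SpecialLinearGroup (Fin (2 * d)) F) : Matrix (Fin (2 * d)) (Fin (2 * d)) F) *
        ((P⁻¹ * X' * P : Matrix.SpecialLinearGroup (Fin (2 * d)) F) : Matrix (Fin (2 * d)) (Fin (2 * d)) F) = (-((g : F) ^ m)) • 1 := by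
      rw [← Matrix.SpecialLinearGroup.coe_mul]
      rw [show ∀ u v : Matrix.SpecialLinearGroup (Fin (2 * d)) F, v⁻¹ * u * v * (v⁻¹ * u * v) = v⁻¹ * (u * u) * v from
        fun u v => by group]
      simp only [Matrix.SpecialLinearGroup.coe_mul]
      rw [show (X' : Matrix (Fin (2 * d)) (Fin (2 * d)) F) = X from rfl, hX2, mul_smul_comm, mul_one, smul_mul_assoc, ← Matrix.SpecialLinearGroup.coe_mul, inv_mul_cancel,
        Matrix.SpecialLinearGroup.coe_one]
    rw [hAc, smul_mul_smul_comm, ← Matrix.map_mul] at hy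
    let i₀ : Fin (2 * d) := ⟨0, by omega⟩
    have h00 := congrFun (congrFun hy i₀) i₀
    simp only [Matrix.smul_apply, Matrix.map_apply, Matrix.one_apply_eq, smul_eq_mul, mul_one] at h00
    exact hz (h00 ▸ ((IsSquare.mul_self (c : F)).mul (hsq _ (SetLike.coe_mem _))))
  · intro hcond x ⟨z, hz⟩ hns
    rw [Matrix.SpecialLinearGroup.coe_pow, pow_two] at hz
    set Φ := Matrix.toLin' (x : Matrix (Fin n) (Fin n) F) with hΦ
    have hff : ∀ v, Φ (Φ v) = z • v := by
      intro v
      rw [hΦ, ← Matrix.toLin'_mul_apply, hz, map_smul, Matrix.toLin'_one]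
      rfl
    have hzsq : IsSquare z := by
      by_contra hzns
      have hodd : Odd q := by
        rw [← Nat.not_even_iff_odd]
        intro h
        exact hzns (FiniteField.isSquare_of_char_two (FiniteField.even_card_iff_char_two.2 (Nat.even_iff.1 h)) z)
      obtain ⟨hk2, hle⟩ := hcond hodd
      have hc2 : ringChar F ≠ 2 := fun h => hzns (FiniteField.isSquare_of_char_two h z)
      have hz0 : z ≠ 0 := fun h => hzns (h ▸ IsSquare.zero)
      have hne : Even n := by
        -- the determinant of a root of a non-square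
        by_contra hno
        have hd := congrArg Matrix.det hz
        rw [Matrix.det_mul, x.2, one_mul, Matrix.det_smul, Matrix.det_one, mul_one, Fintype.card_fin] at hd
        obtain ⟨l, hl⟩ := Nat.not_even_iff_odd.1 hno
        rw [hl, pow_succ, mul_comm 2 l, pow_mul] at hd
        exact hzns ⟨(z ^ l)⁻¹, by
          have h0 := pow_ne_zero l hz0
          field_simp
          linear_combination -hd⟩
      obtain ⟨d, rfl⟩ := even_iff_two_dvd.1 hne
      obtain ⟨e, b, hb, hbz⟩ := exists_companion Φ hzns hff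
      let Q : Matrix (Fin (2 * d)) (Fin (2 * d)) F := Matrix.of fun i j => b j i
      have hQ : Q.det ≠ 0 := ((Matrix.isUnit_iff_isUnit_det Q).1 (Matrix.linearIndependent_cols_iff_isUnit.1 hb)).ne_zero
      have hXQ : (x : Matrix (Fin (2 * d)) (Fin (2 * d)) F) * Q = Q * reindex e e (blockDiagonal fun _ => !![0, z; 1, 0]) := by
        ext r s
        obtain ⟨⟨a, i⟩, rfl⟩ := e.surjective s
        rw [Matrix.mul_apply, Matrix.mul_apply, ← e.sum_comp]
        have h0 := congrFun (hbz i).1 r
        have h1 := congrFun (hbz i).2 r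
        rw [hΦ, Matrix.toLin'_apply] at h0 h1
        simp [Matrix.mulVec, dotProduct] at h0 h1
        simp only [reindex_apply, submatrix_apply, Equiv.symm_apply_apply, blockDiagonal_apply, Fintype.sum_prod_type,
          Fin.sum_univ_two, Finset.mul_sum, mul_ite, mul_zero, Finset.sum_ite_eq', Finset.mem_univ, if_true]
        fin_cases a <;> simp [Q, ← e.sum_comp, Fintype.sum_prod_type, Fin.sum_univ_two, mul_comm] at h0 h1 ⊢
        · exact h0
        · exact h1
      have hdet := congrArg Matrix.det hXQ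
      rw [Matrix.det_mul, Matrix.det_mul, x.2, one_mul, det_reindex_self, det_blockDiagonal] at hdet
      simp only [det_fin_two_of, zero_mul, mul_one, zero_sub, Finset.prod_const, Finset.card_univ, Fintype.card_fin] at hdet
      have hwd : (-z) ^ d = 1 := mul_left_cancel₀ hQ (by rw [mul_one]; exact hdet.symm)
      refine hzns ?_
      have hneg : IsSquare (-1 : F) := by
        rw [FiniteField.isSquare_neg_one_iff, ← hq, hqk, hk2]
        have hq0 : Odd q₀ := by rw [hqk] at hodd; exact Odd.of_dvd_nat hodd (dvd_pow_self _ hk.ne_zero)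
        obtain ⟨l, rfl⟩ := hq0
        have : (2 * l + 1) ^ 2 = 4 * (l * l + l) + 1 := by ring
        omega
      suffices h : IsSquare (-z) by simpa using hneg.mul h
      rw [FiniteField.isSquare_iff hc2 (neg_ne_zero.2 hz0)]
      have hq1 : q - 1 ≠ 0 := by have := Fintype.one_lt_card (α := F); omega
      have hdiv : Nat.gcd d (q - 1) ∣ q / 2 := by
        obtain ⟨l, hl⟩ := Nat.gcd_dvd_right d (q - 1)
        have hle' : Even l := by
          by_contra hlo
          have h1 : 2 ^ padicValNat 2 (q - 1) ∣ Nat.gcd d (q - 1) :=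
            (Nat.Coprime.dvd_of_dvd_mul_right ((Nat.coprime_two_left.2 (Nat.not_even_iff_odd.1 hlo)).pow_left _)
              (hl ▸ pow_padicValNat_dvd))
          have h2 : 2 ^ (padicValNat 2 (2 * d) + 1) ∣ 2 * d :=
            (pow_dvd_pow 2 (by omega : padicValNat 2 (2 * d) + 1 ≤ padicValNat 2 (q - 1) + 1)).trans
              (pow_succ' 2 _ ▸ Nat.mul_dvd_mul_left 2 (h1.trans (Nat.gcd_dvd_left _ _)))
          exact pow_succ_padicValNat_not_dvd (p := 2) (by omega) h2
        obtain ⟨j, rfl⟩ := hle'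
        refine ⟨j, ?_⟩
        rw [mul_add] at hl
        obtain ⟨u, hu⟩ := hodd
        omega
      have h1 : orderOf (-z) ∣ Nat.gcd d (q - 1) := Nat.dvd_gcd (orderOf_dvd_of_pow_eq_one hwd)
        (orderOf_dvd_of_pow_eq_one (FiniteField.pow_card_sub_one_eq_one _ (neg_ne_zero.2 hz0)))
      exact orderOf_dvd_iff_pow_eq_one.1 (h1.trans hdiv)
    obtain ⟨μ, rfl⟩ := hzsq
    have hμ : μ ≠ 0 := fun h => by
      have hd : ((x : Matrix (Fin n) (Fin n) F) * x).det = 1 := by rw [Matrix.det_mul, x.2, one_mul]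
      rw [hz, h, mul_zero, zero_smul, @Matrix.det_zero _ _ _ _ _ ⟨⟨0, by omega⟩⟩] at hd
      exact zero_ne_one hd
    obtain ⟨b, π, ε, hπ, hb, hbc, hε, hεπ, h2⟩ := exists_signed Φ hμ hff
    obtain ⟨P, hPd, hP⟩ := exists_conj_sl (by omega) (x : Matrix (Fin n) (Fin n) F) b hb π hπ ε hεπ h2 hbc
    have hmem : ∀ r s, monMat π ε r s ∈ F₀ := fun r s => by
      simp only [monMat, Matrix.of_apply]
      split_ifs
      · rcases hε s with h | h <;> rw [h]
        · exact one_mem _
        · exact neg_mem (one_mem _)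
      · exact zero_mem _
    let A₀ : Matrix (Fin n) (Fin n) F₀ := Matrix.of fun r s => ⟨monMat π ε r s, hmem r s⟩
    have hA₀ : A₀.map F₀.subtype = monMat π ε := rfl
    let P' : Matrix.SpecialLinearGroup (Fin n) F := ⟨P, hPd⟩
    have hy : ((P'⁻¹ * x * P' : Matrix.SpecialLinearGroup (Fin n) F) : Matrix (Fin n) (Fin n) F) = μ • monMat π ε := by
      rw [mul_assoc, Matrix.SpecialLinearGroup.coe_mul, Matrix.SpecialLinearGroup.coe_mul]
      show _ * ((x : Matrix (Fin n) (Fin n) F) * P) = _
      rw [hP, ← mul_assoc]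
      show ((P'⁻¹ : Matrix.SpecialLinearGroup (Fin n) F) : Matrix (Fin n) (Fin n) F) * (P' : Matrix (Fin n) (Fin n) F) * _ = _
      rw [← Matrix.SpecialLinearGroup.coe_mul, inv_mul_cancel, Matrix.SpecialLinearGroup.coe_one, one_mul]
    have hAd : A₀.det ≠ 0 := fun h => by
      have h1 := (P'⁻¹ * x * P').2
      rw [hy, Matrix.det_smul, ← hA₀] at h1
      rw [show (A₀.map F₀.subtype).det = F₀.subtype A₀.det from (RingHom.map_det F₀.subtype A₀).symm, h] at h1
      simp at h1
    exact ⟨P', (hmemH _).2 ⟨Matrix.GeneralLinearGroup.mkOfDetNeZero A₀ hAd, Units.mk0 μ hμ, hy⟩⟩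


end Cfsg.Agent.S5964
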