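import Cfsg.Statements.S5965
import Cfsg.Agent.Lib.ThreeTransp.Rational

set_option autoImplicit false
set_option maxHeartbeats 2000000
open scoped MatrixGroups
open Cfsg

namespace Cfsg.Agent.S5965

private theorem sym_three : ∀ c0 c1 : Fin 4, (c0 : ℕ) + c1 ≤ 3 →
    ((c1 : ℕ) + 2 * (3 - c0 - c1)) % 3 = 0 →
    ∃ b : Fin 3, ∀ a : Fin 3, ![(c0 : ℕ), c1, 3 - c0 - c1] (b + b - a) = ![(c0 : ℕ), c1, 3 - c0 - c1] a := by
  decide +kernel

private theorem sym_five : ∀ c0 c1 c2 c3 : Fin 6, (c0 : ℕ) + c1 + c2 + c3 ≤ 5 →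
    ((c1 : ℕ) + 2 * c2 + 3 * c3 + 4 * (5 - c0 - c1 - c2 - c3)) % 5 = 0 →
    ∃ b : Fin 5, ∀ a : Fin 5, ![(c0 : ℕ), c1, c2, c3, 5 - c0 - c1 - c2 - c3] (b + b - a) =
      ![(c0 : ℕ), c1, c2, c3, 5 - c0 - c1 - c2 - c3] a := by
  decide +kernel

/-- A multiset of size `n` in `ZMod n` of sum zero is symmetric, for `n = 3, 5`. -/
private theorem exists_sym {n : ℕ} [NeZero n] (hn : n = 3 ∨ n = 5) (c : ZMod n → ℕ) (hc : ∑ a, c a = n)
    (hs : ∑ a, (c a : ZMod n) * a = 0) : ∃ b : ZMod n, ∀ a, c (b + b - a) = c a := by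
  rcases hn with rfl | rfl
  · have h1 : c 0 + c 1 + c 2 = 3 := (Fin.sum_univ_three (c : Fin 3 → ℕ)).symm.trans hc
    have h2 : (c 0 : ZMod 3) * 0 + (c 1 : ZMod 3) * 1 + (c 2 : ZMod 3) * 2 = 0 :=
      (Fin.sum_univ_three ((fun a => (c a : ZMod 3) * a) : ZMod 3 → ZMod 3)).symm.trans hs
    have h3 : ((c 1 + 2 * c 2 : ℕ) : ZMod 3) = 0 := by
      rw [← h2]; push_cast; ring
    rw [ZMod.natCast_eq_zero_iff] at h3
    obtain ⟨b, hb⟩ := sym_three ⟨c 0, by omega⟩ ⟨c 1, by omega⟩ (show c 0 + c 1 ≤ 3 by omega)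
      (show (c 1 + 2 * (3 - c 0 - c 1)) % 3 = 0 by rw [show 3 - c 0 - c 1 = c 2 by omega]; omega)
    have hv : ∀ a : Fin 3, ![c 0, c 1, 3 - c 0 - c 1] a = c a := fun a =>
      match a with
      | 0 => rfl
      | 1 => rfl
      | 2 => show 3 - c 0 - c 1 = c 2 by omega
    exact ⟨b, fun a => (hv _).symm.trans ((hb a).trans (hv a))⟩
  · have h1 : c 0 + c 1 + c 2 + c 3 + c 4 = 5 := (Fin.sum_univ_five (c : Fin 5 → ℕ)).symm.trans hc
    have h2 : (c 0 : ZMod 5) * 0 + (c 1 : ZMod 5) * 1 + (c 2 : ZMod 5) * 2 + (c 3 : ZMod 5) * 3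
        + (c 4 : ZMod 5) * 4 = 0 :=
      (Fin.sum_univ_five ((fun a => (c a : ZMod 5) * a) : ZMod 5 → ZMod 5)).symm.trans hs
    have h3 : ((c 1 + 2 * c 2 + 3 * c 3 + 4 * c 4 : ℕ) : ZMod 5) = 0 := by
      rw [← h2]; push_cast; ring
    rw [ZMod.natCast_eq_zero_iff] at h3
    obtain ⟨b, hb⟩ := sym_five ⟨c 0, by omega⟩ ⟨c 1, by omega⟩ ⟨c 2, by omega⟩ ⟨c 3, by omega⟩
      (show c 0 + c 1 + c 2 + c 3 ≤ 5 by omega)
      (show (c 1 + 2 * c 2 + 3 * c 3 + 4 * (5 - c 0 - c 1 - c 2 - c 3)) % 5 = 0 by
        rw [show 5 - c 0 - c 1 - c 2 - c 3 = c 4 by omega]; omega)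
    have hv : ∀ a : Fin 5, ![c 0, c 1, c 2, c 3, 5 - c 0 - c 1 - c 2 - c 3] a = c a := fun a =>
      match a with
      | 0 => rfl
      | 1 => rfl
      | 2 => rfl
      | 3 => rfl
      | 4 => show 5 - c 0 - c 1 - c 2 - c 3 = c 4 by omega
    exact ⟨b, fun a => (hv _).symm.trans ((hb a).trans (hv a))⟩

/-- Elements of odd prime order r ≠ p of PSL_n(q) and subfield subgroups. Here `T = PSL_n(F)` for a field `F` with `q = p^f` elements (`n ≥ 2`, `(n, q) ≠ (2, 2), (2, 3)`), `F₀` is the subfield with `q₀` elements where `q = q₀^k` for a prime `k`, and `H` is the subgroup of matrices of determinant 1 lying in the subfield group of `F₀` (invertible matrices over `F₀` times scalars) — a maximal subgroup of type GL_n(q₀) (the case `n = 2`, `q₀ = 2` is excluded); Ω is the set of `T`-conjugates of `H` (cosets of `H`), so an element of `T` of prime order `r` (a matrix `x` of determinant 1 with `x^r` scalar, `x` not scalar) fixes a point of Ω when some conjugate of `x` by a matrix of determinant 1 lies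 in `H`. Let `r ≠ p` be an odd prime dividing the index of `H`, with `(n, r) ≠ (6, 3)` and, when `r = k` divides `q₀ − 1`, with `(n)_r ≤ (q − 1)_r`. Then every element of `T` of order `r` is conjugate in `T` into `H` if and only if `r = k`, or `k = 2`, `r = n ∈ {3, 5}` and `(q₀ + 1)_r = r`. The two excluded cases, `(n, r) = (6, 3)` and `r = k ∣ q₀ − 1` with `(n)_r > (q − 1)_r`, are ones where this criterion can fail, so they are left out. -/
theorem result {F : Type*} [Field F] [Fintype F] {p : ℕ} [Fact p.Prime] [CharP F p] {q : ℕ} (hq : Fintype.card F = q)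
    (n : ℕ) (hn : 2 ≤ n) (hT : (n, q) ≠ (2, 2) ∧ (n, q) ≠ (2, 3))
    (F₀ : Subfield F) (k q₀ : ℕ) (hk : k.Prime) (hF₀ : Nat.card ↥F₀ = q₀) (hqk : q = q₀ ^ k) (hC5 : ¬ (n = 2 ∧ q₀ = 2)) (r : ℕ) [Fact r.Prime] (hr2 : r ≠ 2) (hrp : r ≠ p) (hgap : ¬ (n = 6 ∧ r = 3)) (hgapk : r = k → r ∣ q₀ - 1 → padicValNat r n ≤ padicValNat r (q - 1)) (hΩ : r ∣ ((Cfsg.Geo.subfieldSubgroup F₀ 1).comap (Matrix.SpecialLinearGroup.toGL : Matrix.SpecialLinearGroup (Fin n) F →* GL (Fin n) F)).index) :
    (∀ x : Matrix.SpecialLinearGroup (Fin n) F,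
      (∃ z : F, ((x ^ r : Matrix.SpecialLinearGroup (Fin n) F) : Matrix (Fin n) (Fin n) F) = z • (1 : Matrix (Fin n) (Fin n) F)) →
      (∀ z : F, (x : Matrix (Fin n) (Fin n) F) ≠ z • (1 : Matrix (Fin n) (Fin n) F)) →
      ∃ P : Matrix.SpecialLinearGroup (Fin n) F, P⁻¹ * x * P ∈ ((Cfsg.Geo.subfieldSubgroup F₀ 1).comap (Matrix.SpecialLinearGroup.toGL : Matrix.SpecialLinearGroup (Fin n) F →* GL (Fin n) F))) ↔
    (r = k ∨ (k = 2 ∧ r = n ∧ (n = 3 ∨ n = 5) ∧ padicValNat r (q₀ + 1) = 1)) := by
  open Module Polynomial CfsgLib.PrimeOrderSp CfsgLib.ThreeTransp.PrimeInv CfsgLib.ThreeTransp.Rational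
    CfsgLib.KnownB.PrimeOrder in
  classical
  subst hq
  set q := Fintype.card F with hq
  have hrprime : r.Prime := Fact.out
  haveI := Fintype.ofFinite F₀
  haveI : CharP F₀ p := RingHom.charP F₀.subtype F₀.subtype.injective p
  haveI : Nonempty (Fin n) := ⟨⟨0, by omega⟩⟩
  have hq₀ : Fintype.card F₀ = q₀ := by rw [← Nat.card_eq_fintype_card, hF₀]
  have hr : (r : F) ≠ 0 := cast_ne_zero_of_prime_ne hrprime hrp
  have hr₀ : (r : F₀) ≠ 0 := cast_ne_zero_of_prime_ne hrprime hrp
  have hq₀2 : 2 ≤ q₀ := hq₀ ▸ Fintype.one_lt_card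
  have hqpos : 0 < q := Fintype.card_pos
  have hqz : ((q : ℕ) : ZMod r) = (q₀ : ZMod r) ^ k := by rw [hqk, Nat.cast_pow]
  set i := orderOf ((q : ℕ) : ZMod r) with hi
  set i₀ := orderOf ((q₀ : ℕ) : ZMod r) with hi₀
  have hi0 : 0 < i := orderOf_card_pos hr
  have hrq₀ : ∀ a, ¬ r ∣ q₀ ^ a := fun a h => by
    obtain ⟨e, he, hc⟩ := FiniteField.card F₀ p
    rw [hq₀] at hc
    rw [hc, ← pow_mul] at h
    exact hrp ((Nat.prime_dvd_prime_iff_eq hrprime he).1 (hrprime.dvd_of_dvd_pow h))
  have hz0 : ∀ (x : Matrix.SpecialLinearGroup (Fin n) F) (z : F),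
      (x : Matrix (Fin n) (Fin n) F) ^ r = z • 1 → z ^ n = 1 := fun x z h => by
    have := congrArg Matrix.det h
    rw [Matrix.det_pow, x.2, one_pow, Matrix.det_smul, Matrix.det_one, mul_one, Fintype.card_fin] at this
    exact this.symm
  -- the factors of a matrix of exponent `r`
  have hfac : ∀ {M : Matrix (Fin n) (Fin n) F}, M ^ r = 1 → ∀ Q ∈ UniqueFactorizationMonoid.normalizedFactors M.charpoly,
      Irreducible Q ∧ Q.Monic ∧ Q ∣ X ^ r - 1 := fun {M} hM Q hQ => by
    have hQi := UniqueFactorizationMonoid.irreducible_of_normalized_factor Q hQ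
    have h1 : Q ∣ minpoly F (Matrix.toLin' M) := CfsgLib.KnownB.Semisimple.dvd_minpoly_of_dvd_charpoly _ hQi
      (by rw [Matrix.charpoly_toLin']; exact UniqueFactorizationMonoid.dvd_of_mem_normalizedFactors hQ)
    refine ⟨hQi, monic_of_mem_nf hQ, h1.trans (minpoly.dvd F _ ?_)⟩
    rw [show Matrix.toLin' M = Matrix.toLinAlgEquiv' M from rfl, aeval_algHom_apply, map_sub, map_pow, aeval_X, map_one,
      hM, sub_self, map_zero]
  constructor
  · intro hall
    by_contra hcrit
    rw [not_or] at hcrit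
    obtain ⟨hrk, hexc⟩ := hcrit
    have hdiv := index_dvd F₀ hΩ
    rw [CfsgLib.Classical.card_SL_fin', CfsgLib.Classical.card_SL_fin', Nat.card_eq_fintype_card,
      Nat.card_eq_fintype_card, hq₀, ← hq] at hdiv
    have hki : k ∣ i₀ := by
      by_contra hki
      have hii : i = i₀ := by
        rw [hi, hqz]
        exact Nat.Coprime.orderOf_pow ((hk.coprime_iff_not_dvd.2 hki).symm)
      have hM : ∀ j : ℕ, ∃ M, (q₀ ^ k) ^ (j + 2) - 1 = (q₀ ^ (j + 2) - 1) * M ∧ ¬ r ∣ M := fun j =>
        card_pow_sub_one (r := r) hk hrk (by omega) (fun h => by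
          rw [← hqk, dvd_pow_sub_one_iff (by omega), ← hi, hii] at h
          rwa [dvd_pow_sub_one_iff (by omega)]) (by omega)
      choose M hM hMr using hM
      rw [hqk, Finset.prod_congr rfl (fun j _ => hM j), Finset.prod_mul_distrib] at hdiv
      have hpos : 0 < ∏ j ∈ Finset.range (n - 1), (q₀ ^ (j + 2) - 1) := Finset.prod_pos fun j _ => by
        have : 1 < q₀ ^ (j + 2) := Nat.one_lt_pow (by omega) (by omega)
        omega
      have h := (dvd_mul_left r _).trans ((Nat.mul_dvd_mul_iff_right hpos).1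
        (show q₀ ^ (n * (n - 1) / 2) * r * ∏ j ∈ Finset.range (n - 1), (q₀ ^ (j + 2) - 1) ∣
            (q₀ ^ k) ^ (n * (n - 1) / 2) * (∏ j ∈ Finset.range (n - 1), M j) *
              ∏ j ∈ Finset.range (n - 1), (q₀ ^ (j + 2) - 1) by convert hdiv using 1 <;> ring))
      rcases hrprime.dvd_mul.1 h with h1 | h1
      · rw [← pow_mul] at h1; exact hrq₀ _ h1
      · obtain ⟨j, -, hj⟩ := (hrprime.prime.dvd_finsetProd_iff _).1 h1
        exact hMr j hj
    have hik : i * k = i₀ := by
      rw [hi, hqz, orderOf_pow_of_dvd hk.ne_zero hki, Nat.div_mul_cancel hki]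
    have hnd₀ : ¬ r ∣ Fintype.card F₀ - 1 := fun h => by
      have h1 := orderOf_eq_one_iff_dvd.2 h
      rw [hq₀, ← hi₀, ← hik] at h1
      exact hk.ne_one (Nat.eq_one_of_mul_eq_one_left h1)
    rcases Nat.lt_or_ge i 2 with hi1 | hi2
    swap
    · -- no fixed space of the right dimension
      have hin : i ≤ n := by
        rcases hrprime.dvd_mul.1 ((dvd_mul_right r _).trans hdiv) with h1 | h1
        · rw [hqk, ← pow_mul] at h1; exact absurd h1 (hrq₀ _)
        · obtain ⟨j, hj, hjd⟩ := (hrprime.prime.dvd_finsetProd_iff _).1 h1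
          rw [dvd_pow_sub_one_iff (by omega), ← hi] at hjd
          have := Nat.le_of_dvd (by omega) hjd
          rw [Finset.mem_range] at hj
          omega
      obtain ⟨x, hx, hns, hxr, hfix⟩ := exists_fix_dim (n := n) (r := r) (e := n - i) (N := 1) hr hi2
        (show n - i + 1 * i = n by omega) (by omega)
      rw [Matrix.SpecialLinearGroup.coe_pow] at hx
      obtain ⟨P, hP⟩ := hall x ⟨1, by rw [Matrix.SpecialLinearGroup.coe_pow]; exact hx⟩ hns
      obtain ⟨A, c, hAc⟩ := (mem_iff F₀ _).1 hP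
      let φ : Matrix (Fin n) (Fin n) F₀ →+* Matrix (Fin n) (Fin n) F := F₀.subtype.mapMatrix
      have hPx : (x : Matrix (Fin n) (Fin n) F) * (P : Matrix (Fin n) (Fin n) F) =
          (P : Matrix (Fin n) (Fin n) F) * ((c : F) • φ A) := by
        rw [show (c : F) • φ A = ((P⁻¹ * x * P : Matrix.SpecialLinearGroup (Fin n) F) : Matrix (Fin n) (Fin n) F) from hAc.symm,
          ← Matrix.SpecialLinearGroup.coe_mul, ← Matrix.SpecialLinearGroup.coe_mul, mul_assoc P⁻¹, mul_inv_cancel_left]
      have hy : (c : F) • φ A = ((P⁻¹ * x * P : Matrix.SpecialLinearGroup (Fin n) F) : Matrix (Fin n) (Fin n) F) := hAc.symm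
      have hyr : ((c : F) • φ A) ^ r = 1 := by
        have hx1 : x ^ r = 1 := Subtype.ext (by
          rw [Matrix.SpecialLinearGroup.coe_pow, hx, one_smul, Matrix.SpecialLinearGroup.coe_one])
        have h := conj_pow (i := r) (a := P⁻¹) (b := x)
        rw [inv_inv, hx1, mul_one, inv_mul_cancel] at h
        rw [hy, ← Matrix.SpecialLinearGroup.coe_pow, h, Matrix.SpecialLinearGroup.coe_one]
      rw [_root_.smul_pow, ← map_pow] at hyr
      set a := ((A : Matrix (Fin n) (Fin n) F₀) ^ r) (⟨0, by omega⟩ : Fin n) (⟨0, by omega⟩ : Fin n)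
      have h00 : (c : F) ^ r * (a : F) = 1 := by
        have h := congrFun (congrFun hyr (⟨0, by omega⟩ : Fin n)) (⟨0, by omega⟩ : Fin n)
        rw [Matrix.smul_apply, Matrix.one_apply_eq, smul_eq_mul] at h
        exact h
      obtain ⟨b, hb⟩ := exists_root hnd₀ a
      have hbF : (b : F) ^ r = (a : F) := by rw [← hb]; rfl
      have hcb : (c : F) * (b : F) = 1 :=
        eq_one_of_pow_eq_one (not_dvd_of_two_le hi2) (by rw [mul_pow, hbF, h00])
      have hb0 : b ≠ 0 := fun h => by rw [h, ZeroMemClass.coe_zero, mul_zero] at hcb; exact zero_ne_one hcb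
      set A' := b⁻¹ • (A : Matrix (Fin n) (Fin n) F₀) with hA'
      have hA'F : φ A' = (c : F) • φ A := by
        ext u v
        show ((b⁻¹ * (A : Matrix (Fin n) (Fin n) F₀) u v : F₀) : F) = (c : F) * ((A : Matrix (Fin n) (Fin n) F₀) u v : F)
        push_cast
        rw [eq_inv_of_mul_eq_one_left hcb]
      have hφi : Function.Injective φ := Matrix.map_injective F₀.subtype.injective
      have hA'r : A' ^ r = 1 := hφi <| by
        rw [map_pow, hA'F, _root_.smul_pow, ← map_pow, hyr, map_one]
      have hfr : Matrix.toLin' A' ^ r = 1 := by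
        rw [← Matrix.toLin'_pow, hA'r, Matrix.toLin'_one]; rfl
      obtain ⟨N, hN, hsum⟩ := finrank_mov hr₀ hfr
      rw [hq₀, ← hi₀] at hN hsum
      rw [Module.finrank_fin_fun] at hsum
      obtain ⟨N', hN', hsum'⟩ := finrank_mov hr hxr
      rw [← hq, ← hi] at hN' hsum'
      rw [Module.finrank_fin_fun, hfix] at hsum'
      have hrank : finrank F (movSp (Matrix.toLin' (x : Matrix (Fin n) (Fin n) F))) =
          finrank F₀ (movSp (Matrix.toLin' A')) := by
        have e1 : ∀ {K : Type _} [Field K] (M : Matrix (Fin n) (Fin n) K),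
            finrank K (movSp (Matrix.toLin' M)) = (M - 1).rank := fun {K} _ M => by
          rw [movSp, show (1 : Module.End K (Fin n → K)) = Matrix.toLin' 1 from Matrix.toLin'_one.symm, ← map_sub,
            Matrix.toLin'_apply']
          rfl
        rw [e1, e1, ← rank_map' F₀.subtype (A' - 1)]
        have h1 : (A' - 1).map F₀.subtype = φ A' - 1 := by
          show φ (A' - 1) = _
          rw [map_sub, map_one]
        have hd : IsUnit (P : Matrix (Fin n) (Fin n) F).det := by rw [P.2]; exact isUnit_one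
        have e2 : ((x : Matrix (Fin n) (Fin n) F) - 1) * (P : Matrix (Fin n) (Fin n) F) =
            (P : Matrix (Fin n) (Fin n) F) * ((c : F) • φ A - 1) := by
          rw [sub_mul, mul_sub, one_mul, mul_one, hPx]
        rw [h1, hA'F]
        exact ((Matrix.rank_mul_eq_left_of_isUnit_det _ _ hd).symm.trans (congrArg Matrix.rank e2)).trans
          (Matrix.rank_mul_eq_right_of_isUnit_det _ _ hd)
      rw [hN', hN] at hrank
      have h1 : 1 * i = N * (i * k) := by rw [hik]; omega
      rw [one_mul, mul_left_comm] at h1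
      have := Nat.eq_of_mul_eq_mul_left hi0 ((mul_one i).trans h1)
      exact hk.ne_one (Nat.eq_one_of_mul_eq_one_left this.symm)
    -- `q ≡ 1 (mod r)`
    have hi1' : i = 1 := by omega
    have hi₀k : i₀ = k := by rw [← hik, hi1', one_mul]
    have hrq : r ∣ q - 1 := orderOf_eq_one_iff_dvd.1 hi1'
    obtain ⟨ζu, hζu⟩ := exists_prime_orderOf_dvd_card r (G := Fˣ) (by rw [Fintype.card_units]; exact hrq)
    set ζ : F := (ζu : F) with hζ
    have hζord : orderOf ζ = r := by rw [hζ, orderOf_units, hζu]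
    have hζr : ζ ^ r = 1 := by rw [← hζord, pow_orderOf_eq_one]
    have hζpow : ∀ a : ℕ, ζ ^ a = 1 → r ∣ a := fun a h => hζord ▸ orderOf_dvd_of_pow_eq_one h
    have hζ0 : ζ ≠ 0 := ζu.ne_zero
    have hζ1 : ζ ≠ 1 := fun h => by
      have := hζpow 1 (by rw [pow_one, h]); rw [Nat.dvd_one] at this; exact hrprime.ne_one this
    have hk_of : ∀ u : F, u ^ r = 1 → u ≠ 1 → ∀ j, u ^ q₀ ^ j = u → k ∣ j := fun u hu hu1 j hj => by
      have hord : orderOf u = r := orderOf_eq_prime hu hu1
      have hu0 : u ≠ 0 := fun h => by rw [h, zero_pow hrprime.ne_zero] at hu; exact zero_ne_one hu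
      rw [← hi₀k, hi₀]
      refine (dvd_pow_sub_one_iff (by omega)).1 (hord ▸ orderOf_dvd_of_pow_eq_one (mul_left_cancel₀ hu0 ?_))
      rw [← pow_succ', Nat.sub_add_cancel (Nat.one_le_pow _ _ (by omega)), hj, mul_one]
    have hfix_eq : ∀ u : F, u ^ r = 1 → u ^ q₀ = u → u = 1 := fun u hu hu' => by
      by_contra hne
      exact hk.ne_one (Nat.dvd_one.1 (hk_of u hu hne 1 (by rw [pow_one]; exact hu')))
    -- the eigenvalue multisets
    have use' : ∀ (M : Multiset F) (z : F), M.card = n → M.prod = 1 → (∀ a ∈ M, a ^ r = z) →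
        (∃ a ∈ M, ∃ b ∈ M, a ≠ b) →
        ∃ μ : F, μ ≠ 0 ∧ ∀ a ∈ M, ∃ b ∈ M, (μ * a) ^ q₀ = μ * b ∧ M.count b = M.count a := by
      intro M z hcard hprod hall' hne
      let e : Fin n ≃ Fin M.toList.length := finCongr (by rw [Multiset.length_toList, hcard])
      let d : Fin n → F := fun j => M.toList.get (e j)
      have hd : Multiset.map d (Finset.univ : Finset (Fin n)).val = M := by
        have h1 : (Finset.univ : Finset (Fin n)).val.map e = (Finset.univ : Finset (Fin M.toList.length)).val := by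
          exact congrArg Finset.val (Finset.map_univ_equiv e)
        rw [show d = M.toList.get ∘ e from rfl, ← Multiset.map_map, h1, Fin.univ_val_map]
        exact (congrArg _ (List.ofFn_get _)).trans (Multiset.coe_toList M)
      have hdet : (Matrix.diagonal d).det = 1 := by
        rw [Matrix.det_diagonal]
        show (Multiset.map d (Finset.univ : Finset (Fin n)).val).prod = 1
        rw [hd, hprod]
      have hdr : Matrix.diagonal d ^ r = z • (1 : Matrix (Fin n) (Fin n) F) := by
        rw [Matrix.diagonal_pow, Matrix.smul_one_eq_diagonal]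
        congr 1
        funext j
        exact hall' _ (Multiset.mem_toList.1 (List.get_mem _ _))
      obtain ⟨a, ha, b, hb, hab⟩ := hne
      obtain ⟨P, hP⟩ := hall ⟨Matrix.diagonal d, hdet⟩ ⟨z, hdr⟩ (fun t ht => by
        have ht' : Matrix.diagonal d = t • (1 : Matrix (Fin n) (Fin n) F) := ht
        rw [Matrix.smul_one_eq_diagonal] at ht'
        have hdt := Matrix.diagonal_injective ht'
        rw [← hd, Multiset.mem_map] at ha hb
        obtain ⟨u, -, rfl⟩ := ha
        obtain ⟨v, -, rfl⟩ := hb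
        rw [hdt] at hab
        exact hab rfl)
      obtain ⟨A, c, hAc⟩ := (mem_iff F₀ _).1 hP
      refine ⟨(c : F)⁻¹, inv_ne_zero c.ne_zero, ?_⟩
      have hchar : ((A : Matrix (Fin n) (Fin n) F₀).map F₀.subtype).charpoly =
          (Matrix.diagonal fun j => (c : F)⁻¹ * d j).charpoly := by
        let Pu : GL (Fin n) F := Matrix.SpecialLinearGroup.toGL P⁻¹
        rw [← Matrix.charpoly_units_conj Pu (Matrix.diagonal fun j => (c : F)⁻¹ * d j),
          show (Matrix.diagonal fun j => (c : F)⁻¹ * d j) = (c : F)⁻¹ • Matrix.diagonal d by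
            rw [← Matrix.diagonal_smul]; rfl]
        congr 1
        have h1 : (Pu : Matrix (Fin n) (Fin n) F) = ((P⁻¹ : Matrix.SpecialLinearGroup (Fin n) F) : Matrix (Fin n) (Fin n) F) := rfl
        have h2 : ((Pu⁻¹ : GL (Fin n) F) : Matrix (Fin n) (Fin n) F) = (P : Matrix (Fin n) (Fin n) F) := by
          rw [show Pu⁻¹ = Matrix.SpecialLinearGroup.toGL P by simp [Pu]]
          rfl
        have key : (Pu : Matrix (Fin n) (Fin n) F) * Matrix.diagonal d * ((Pu⁻¹ : GL (Fin n) F) : Matrix (Fin n) (Fin n) F) =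
            (c : F) • (A : Matrix (Fin n) (Fin n) F₀).map F₀.subtype := by
          rw [h1, h2]
          exact hAc
        rw [← Matrix.coe_units_inv, mul_smul_comm, smul_mul_assoc, key, smul_smul, inv_mul_cancel₀ c.ne_zero, one_smul]
      rw [Matrix.charpoly_diagonal, Matrix.charpoly_map] at hchar
      have hstab := stable_of_map F₀ (p := p) (M := M.map fun a => (c : F)⁻¹ * a)
        (g₀ := (A : Matrix (Fin n) (Fin n) F₀).charpoly) (by
          rw [hchar, ← hd, Multiset.map_map, Multiset.map_map]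
          rfl)
      rw [hF₀, Multiset.map_map] at hstab
      intro a ha
      have hmem : ((c : F)⁻¹ * a) ^ q₀ ∈ M.map fun a => (c : F)⁻¹ * a := by
        rw [← hstab]
        exact Multiset.mem_map.2 ⟨a, ha, rfl⟩
      obtain ⟨b, hb, hbe⟩ := Multiset.mem_map.1 hmem
      refine ⟨b, hb, hbe.symm, ?_⟩
      have hinj : Function.Injective fun a : F => (c : F)⁻¹ * a := mul_right_injective₀ (inv_ne_zero c.ne_zero)
      have hinj' : Function.Injective fun a : F => ((c : F)⁻¹ * a) ^ q₀ := by
        intro u v huv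
        obtain ⟨e, -, he⟩ := FiniteField.card F₀ p
        rw [hq₀] at he
        refine hinj ((iterateFrobenius F p e).injective ?_)
        simp only [iterateFrobenius_def, ← he]
        exact huv
      have h1 := Multiset.count_map_eq_count' _ M hinj' a
      have h2 := Multiset.count_map_eq_count' _ M hinj b
      have h3 : (M.map fun a => ((c : F)⁻¹ * a) ^ q₀).count (((c : F)⁻¹ * a) ^ q₀) =
          (M.map fun a => (c : F)⁻¹ * a).count ((c : F)⁻¹ * b) := by
        rw [hbe]
        exact congrArg (Multiset.count _) hstab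
      rw [h1, h2] at h3
      exact h3.symm
    -- consequences
    have hfixed : ∀ {M : Multiset F} {μ : F}, (∀ a ∈ M, ∃ b ∈ M, (μ * a) ^ q₀ = μ * b ∧ M.count b = M.count a) →
        ∀ a ∈ M, (∀ b ∈ M, M.count b = M.count a → b = a) → (μ * a) ^ q₀ = μ * a := fun {M μ} hM a ha huniq => by
      obtain ⟨b, hb, he, hc⟩ := hM a ha
      rw [he, huniq b hb hc]
    have hratio : ∀ {μ a b a' b' : F}, μ ≠ 0 → (μ * a) ^ q₀ = μ * a' → (μ * b) ^ q₀ = μ * b' →
        (a / b) ^ q₀ = a' / b' := fun {μ a b a' b'} hμ h1 h2 => by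
      rw [← mul_div_mul_left a b hμ, div_pow, h1, h2, mul_div_mul_left _ _ hμ]
    have htwo : ∀ {μ a b z : F}, μ ≠ 0 → z ≠ 0 → a ^ r = z → b ^ r = z → (μ * a) ^ q₀ = μ * a →
        (μ * b) ^ q₀ = μ * b → a = b := fun {μ a b z} hμ hz ha hb h1 h2 => by
      have hb0 : b ≠ 0 := fun h => hz (by rw [← hb, h, zero_pow hrprime.ne_zero])
      exact (div_eq_one_iff_eq hb0).1 (hfix_eq _ (by rw [div_pow, ha, hb, div_self hz]) (hratio hμ h1 h2))
    set ξ : F := ζ⁻¹ with hξ
    have hξr : ξ ^ r = 1 := by rw [hξ, inv_pow, hζr, inv_one]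
    have hζξ : ζ * ξ = 1 := mul_inv_cancel₀ hζ0
    have hζne : ζ ≠ ξ := fun h => by
      have h' := hζpow 2 (by rw [pow_two]; nth_rewrite 2 [h]; exact hζξ)
      exact hr2 ((Nat.prime_dvd_prime_iff_eq hrprime Nat.prime_two).1 h')
    have hξ1 : ξ ≠ 1 := fun h => hζ1 (by rw [← mul_one ζ, ← h, hζξ, h])
    by_cases hk2 : k = 2
    swap
    · -- `q₀` has order at least three
      have hsq : ∀ u : F, u ^ r = 1 → u ≠ 1 → ¬ u ^ q₀ ^ 2 = u := fun u hu hu1 h =>
        hk2 ((Nat.prime_dvd_prime_iff_eq hk Nat.prime_two).1 (hk_of u hu hu1 2 h))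
      have hsq' : ζ ^ q₀ = ζ ∨ ζ ^ q₀ = ξ → False := fun h => by
        refine hsq ζ hζr hζ1 ?_
        rw [pow_two q₀, pow_mul]
        rcases h with h | h
        · rw [h, h]
        · rw [h, hξ, inv_pow, h, hξ, inv_inv]
      have hinjq : ∀ u : F, u ^ r = 1 → u ^ q₀ = 1 → u = 1 := fun u hu hu' => by
        by_contra hne
        exact hrq₀ 1 (by rw [pow_one]; exact orderOf_eq_prime hu hne ▸ orderOf_dvd_of_pow_eq_one hu')
      have hr5' : 5 ≤ r := by
        have h2 := hrprime.two_le
        have h3 : r ≠ 3 := fun h => by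
          subst h
          have h4 : i₀ ∣ 3 - 1 := ZMod.orderOf_dvd_card_sub_one fun h0 => hrq₀ 1 (by
            rw [pow_one]; exact (ZMod.natCast_eq_zero_iff _ 3).1 h0)
          rw [hi₀k] at h4
          exact hk2 ((Nat.prime_dvd_prime_iff_eq hk Nat.prime_two).1 h4)
        have h4 : r ≠ 4 := fun h => absurd (h ▸ hrprime) (by norm_num)
        omega
      have hh : ∀ m, 1 ≤ m → m ≤ 4 → ζ ^ m ≠ 1 := fun m h1 h2 h => by
        have := Nat.le_of_dvd (by omega) (hζpow m h)
        omega
      obtain hn2 | hn3 | hn4 : n = 2 ∨ n = 3 ∨ 4 ≤ n := by omega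
      · obtain ⟨μ, hμ, hM⟩ := use' {ζ, ξ} 1 (by simp [hn2]) (by simp [hζξ]) (by simp [hζr, hξr])
          ⟨ζ, by simp, ξ, by simp, hζne⟩
        obtain ⟨a, ha, hea, -⟩ := hM ζ (by simp)
        obtain ⟨b, hb, heb, -⟩ := hM ξ (by simp)
        simp only [Multiset.insert_eq_cons, Multiset.mem_cons, Multiset.mem_singleton] at ha hb
        have hR := hratio hμ hea heb
        have hu1 : ζ / ξ ≠ 1 := fun h => hζne ((div_eq_one_iff_eq (inv_ne_zero hζ0)).1 h)
        have hur : (ζ / ξ) ^ r = 1 := by rw [div_pow, hζr, hξr, div_one]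
        rcases ha with rfl | rfl <;> rcases hb with rfl | rfl
        · rw [div_self hζ0] at hR; exact hu1 (hinjq _ hur hR)
        · exact hsq _ hur hu1 (by rw [pow_two q₀, pow_mul, hR, hR])
        · exact hsq _ hur hu1 (by rw [pow_two q₀, pow_mul, hR, ← inv_div ζ ξ, inv_pow, hR, inv_div])
        · rw [div_self (inv_ne_zero hζ0 : ξ ≠ 0)] at hR; exact hu1 (hinjq _ hur hR)
      · obtain ⟨μ, hμ, hM⟩ := use' {1, ζ, ξ} 1 (by simp [hn3]) (by simp [hζξ]) (by simp [hζr, hξr])
          ⟨ζ, by simp, ξ, by simp, hζne⟩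
        obtain ⟨a, ha, hea, -⟩ := hM 1 (by simp)
        obtain ⟨b, hb, heb, -⟩ := hM ζ (by simp)
        obtain ⟨c, hc, hec, -⟩ := hM ξ (by simp)
        simp only [Multiset.insert_eq_cons, Multiset.mem_cons, Multiset.mem_singleton] at ha hb hc
        have h1 := hratio hμ heb hea
        have h2 := hratio hμ hec hea
        rw [div_one] at h1 h2
        have h12 : b / a * (c / a) = 1 := by rw [← h1, ← h2, ← mul_pow, hζξ, one_pow]
        have hu1 : ζ ^ q₀ ≠ 1 := fun h => hζ1 (hinjq _ hζr h)
        have hξ0 : ξ ≠ 0 := inv_ne_zero hζ0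
        have hh' : ∀ m, 1 ≤ m → m ≤ 4 → ξ ^ m ≠ 1 := fun m h1 h2 h => hh m h1 h2 (by
          rwa [hξ, inv_pow, inv_eq_one] at h)
        rcases ha with rfl | rfl | rfl
        · rw [div_one] at h1
          rcases hb with rfl | rfl | rfl
          · exact hu1 h1
          · exact hsq' (.inl h1)
          · exact hsq' (.inr h1)
        · rcases hb with rfl | rfl | rfl
          · rw [one_div] at h1; exact hsq' (.inr h1)
          · rw [div_self hζ0] at h1; exact hu1 h1
          · rw [div_mul_div_comm, div_eq_one_iff_eq (mul_ne_zero hζ0 hζ0), ← pow_two] at h12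
            have hc3 : c = ζ ^ 3 := by rw [pow_succ', ← h12, ← mul_assoc, hζξ, one_mul]
            rcases hc with rfl | rfl | rfl
            · exact hh 3 (by omega) (by omega) hc3.symm
            · exact hh 2 (by omega) (by omega) (mul_left_cancel₀ hζ0 (by rw [← pow_succ', ← hc3, mul_one]))
            · exact hh 4 (by omega) (by omega) (by rw [pow_succ', ← hc3, hζξ])
        · rcases hb with rfl | rfl | rfl
          · rw [one_div, hξ, inv_inv] at h1; exact hsq' (.inl h1)
          · rw [div_mul_div_comm, div_eq_one_iff_eq (mul_ne_zero hξ0 hξ0), ← pow_two] at h12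
            have hc3 : c = ξ ^ 3 := by rw [pow_succ', ← h12, ← mul_assoc, mul_comm ξ ζ, hζξ, one_mul]
            rcases hc with rfl | rfl | rfl
            · exact hh' 3 (by omega) (by omega) hc3.symm
            · exact hh' 4 (by omega) (by omega) (by rw [pow_succ', ← hc3, mul_comm, hζξ])
            · exact hh' 2 (by omega) (by omega) (mul_left_cancel₀ hξ0 (by rw [← pow_succ', ← hc3, mul_one]))
          · rw [div_self hξ0] at h1; exact hu1 h1
      · obtain ⟨μ, hμ, hM⟩ := use' (Multiset.replicate (n - 2) 1 + {ζ, ξ}) 1 (by simp; omega) (by simp [hζξ])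
          (by
            intro a ha
            simp only [Multiset.mem_add, Multiset.mem_replicate, Multiset.insert_eq_cons, Multiset.mem_cons,
              Multiset.mem_singleton] at ha
            rcases ha with ⟨-, rfl⟩ | rfl | rfl <;> simp [hζr, hξr])
          ⟨ζ, by simp, ξ, by simp, hζne⟩
        have hc1 : (Multiset.replicate (n - 2) 1 + {ζ, ξ}).count (1 : F) = n - 2 := by
          simp [Multiset.count_replicate, hζ1, hξ1, hζ1.symm, hξ1.symm]
        have hcζ : (Multiset.replicate (n - 2) 1 + {ζ, ξ}).count ζ = 1 := by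
          simp [Multiset.count_replicate, hζ1, hξ1, hζ1.symm, hξ1.symm, hζne, hζne.symm]
        have hcξ : (Multiset.replicate (n - 2) 1 + {ζ, ξ}).count ξ = 1 := by
          simp [Multiset.count_replicate, hζ1, hξ1, hζ1.symm, hξ1.symm, hζne, hζne.symm]
        have h1 := hfixed hM 1 (Multiset.mem_add.2 (.inl (Multiset.mem_replicate.2 ⟨by omega, rfl⟩))) (fun b hb hcb => by
          simp only [Multiset.mem_add, Multiset.mem_replicate, Multiset.insert_eq_cons, Multiset.mem_cons,
            Multiset.mem_singleton] at hb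
          rcases hb with ⟨-, rfl⟩ | rfl | rfl
          · rfl
          · omega
          · omega)
        obtain ⟨b, hb, heb, hcb⟩ := hM ζ (by simp)
        simp only [Multiset.mem_add, Multiset.mem_replicate, Multiset.insert_eq_cons, Multiset.mem_cons,
          Multiset.mem_singleton] at hb
        have h2 := hratio hμ heb h1
        rw [div_one, div_one] at h2
        rcases hb with ⟨-, rfl⟩ | rfl | rfl
        · omega
        · exact hsq' (Or.inl h2)
        · exact hsq' (Or.inr h2)
    subst hk2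
    have hq₀r : r ∣ q₀ + 1 := by
      have h1 : ((q₀ : ℕ) : ZMod r) * (q₀ : ℕ) = 1 := by
        have := pow_orderOf_eq_one ((q₀ : ℕ) : ZMod r)
        rwa [← hi₀, hi₀k, pow_two] at this
      rcases mul_self_eq_one_iff.1 h1 with h2 | h2
      · rw [← orderOf_eq_one_iff, ← hi₀, hi₀k] at h2; omega
      · rw [← ZMod.natCast_eq_zero_iff, Nat.cast_add, h2, Nat.cast_one, neg_add_cancel]
    have hneg : ∀ u : F, u ^ r = 1 → u ^ q₀ = u⁻¹ := fun u hu => by
      obtain ⟨l, hl⟩ := hq₀r
      exact eq_inv_of_mul_eq_one_left (by rw [← pow_succ, hl, pow_mul, hu, one_pow])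
    have hn3 : 3 ≤ n := by
      by_contra hn3
      obtain rfl : n = 2 := by omega
      simp only [Nat.reduceSub, Finset.prod_range_one, show 2 * 1 / 2 = 1 from rfl, pow_one, zero_add] at hdiv
      rw [show q ^ 2 - 1 = (q₀ ^ 2 - 1) * (q₀ ^ 2 + 1) by
        rw [hqk, mul_comm, ← Nat.sq_sub_sq, one_pow], hqk, pow_two q₀, mul_assoc q₀ q₀] at hdiv
      have hpos : 0 < q₀ * q₀ - 1 := by have : 4 ≤ q₀ * q₀ := Nat.mul_le_mul hq₀2 hq₀2; omega
      have h : r ∣ q₀ * (q₀ * q₀ + 1) := by
        refine (Nat.mul_dvd_mul_iff_right (show 0 < q₀ * (q₀ * q₀ - 1) by positivity)).1 ?_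
        convert hdiv using 1 <;> ring
      rcases hrprime.dvd_mul.1 h with h1 | h1
      · exact hrq₀ 1 (by rwa [pow_one])
      · rw [hqk, pow_two] at hrq
        have h2 := Nat.dvd_sub h1 hrq
        rw [show q₀ * q₀ + 1 - (q₀ * q₀ - 1) = 2 by omega] at h2
        exact hr2 ((Nat.prime_dvd_prime_iff_eq hrprime Nat.prime_two).1 h2)
    by_cases hnr : r = n ∧ (n = 3 ∨ n = 5)
    · -- the scalar can be absorbed
      obtain ⟨rfl, hn35⟩ := hnr
      have he : 2 ≤ padicValNat r (q - 1) := by
        have hne : padicValNat r (q₀ + 1) ≠ 1 := fun h => hexc ⟨rfl, rfl, hn35, h⟩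
        have h1 : 1 ≤ padicValNat r (q₀ + 1) := one_le_padicValNat_of_dvd (by omega) hq₀r
        have h2 : q - 1 = (q₀ + 1) * (q₀ - 1) := by rw [hqk, ← Nat.sq_sub_sq, one_pow]
        rw [h2, padicValNat.mul (by omega) (by omega)]
        omega
      obtain ⟨w, hw⟩ : ∃ w : F, w ^ r = (ξ ^ (r / 2 + r % 2 - 1) : F) := by
        by_contra hno
        push Not at hno
        have := padic_le_of_pow hno (k := r) (by rw [← pow_mul, mul_comm, pow_mul, hξr, one_pow]) hrprime.ne_zero
        rw [padicValNat.self hrprime.one_lt, ← hq] at this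
        omega
      set s := r / 2 + r % 2 - 1 with hs
      have hs' : 1 ≤ s ∧ s ≠ r - s ∧ s < r := by rcases hn35 with rfl | rfl <;> decide
      have hw0 : w ≠ 0 := fun h => by
        rw [h, zero_pow hrprime.ne_zero] at hw
        exact pow_ne_zero _ (inv_ne_zero hζ0) hw.symm
      have hne : w ≠ w * ζ := fun h => hζ1 (mul_left_cancel₀ hw0 (by rw [mul_one]; exact h.symm))
      obtain ⟨μ, hμ, hM⟩ := use' (Multiset.replicate (r - s) w + Multiset.replicate s (w * ζ)) (w ^ r)
        (by simp; omega)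
        (by
          rw [Multiset.prod_add, Multiset.prod_replicate, Multiset.prod_replicate, mul_pow, ← mul_assoc, ← pow_add,
            Nat.sub_add_cancel hs'.2.2.le, hw, ← mul_pow, mul_comm, hζξ, one_pow])
        (by
          intro a ha
          simp only [Multiset.mem_add, Multiset.mem_replicate, Multiset.insert_eq_cons, Multiset.mem_cons, Multiset.mem_singleton] at ha
          rcases ha with ⟨-, rfl⟩ | ⟨-, rfl⟩
          · rfl
          · rw [mul_pow, hζr, mul_one])
        ⟨w, by simp [Multiset.mem_replicate]; omega, w * ζ, by simp [Multiset.mem_replicate]; omega, hne⟩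
      have hu : ∀ a ∈ Multiset.replicate (r - s) w + Multiset.replicate s (w * ζ), (μ * a) ^ q₀ = μ * a := fun a ha =>
        hfixed hM a ha fun b hb hcb => by
          simp only [Multiset.mem_add, Multiset.mem_replicate, Multiset.insert_eq_cons, Multiset.mem_cons, Multiset.mem_singleton] at ha hb
          rcases ha with ⟨-, rfl⟩ | ⟨-, rfl⟩ <;> rcases hb with ⟨-, rfl⟩ | ⟨-, rfl⟩ <;>
            simp [Multiset.count_replicate, hne, hne.symm] at hcb ⊢ <;> omega
      exact hne (htwo hμ (pow_ne_zero r hw0) rfl (by rw [mul_pow, hζr, mul_one])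
        (hu w (by simp [Multiset.mem_replicate]; omega)) (hu (w * ζ) (by simp [Multiset.mem_replicate]; omega)))
    by_cases hr3 : r = 3
    · subst hr3
      obtain ⟨μ, hμ, hM⟩ := use' (Multiset.replicate (n - 3) 1 + Multiset.replicate 3 ζ) 1
        (by simp; omega) (by rw [Multiset.prod_add, Multiset.prod_replicate, Multiset.prod_replicate, one_pow, one_mul, hζr]) (by
          intro a ha
          simp only [Multiset.mem_add, Multiset.mem_replicate, Multiset.insert_eq_cons, Multiset.mem_cons, Multiset.mem_singleton] at ha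
          rcases ha with ⟨-, rfl⟩ | ⟨-, rfl⟩ <;> simp [hζr])
        ⟨1, by simp [Multiset.mem_replicate]; omega, ζ, by simp [Multiset.mem_replicate], hζ1.symm⟩
      have hu : ∀ a ∈ Multiset.replicate (n - 3) 1 + Multiset.replicate 3 ζ, (μ * a) ^ q₀ = μ * a := fun a ha =>
        hfixed hM a ha fun b hb hcb => by
          simp only [Multiset.mem_add, Multiset.mem_replicate, Multiset.insert_eq_cons, Multiset.mem_cons, Multiset.mem_singleton] at ha hb
          rcases ha with ⟨-, rfl⟩ | ⟨-, rfl⟩ <;> rcases hb with ⟨-, rfl⟩ | ⟨-, rfl⟩ <;>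
            simp [Multiset.count_replicate, hζ1, hζ1.symm] at hcb ⊢ <;> omega
      exact hζ1.symm (htwo hμ one_ne_zero (one_pow 3) hζr (hu 1 (by simp [Multiset.mem_replicate]; omega))
        (hu ζ (by simp [Multiset.mem_replicate])))
    have hr5 : 5 ≤ r := by
      have h4 : r ≠ 4 := fun h => absurd (h ▸ hrprime) (by norm_num)
      have := hrprime.two_le
      omega
    set η : F := ξ ^ 2 with hη
    have hηr : η ^ r = 1 := by rw [hη, ← pow_mul, mul_comm, pow_mul, hξr, one_pow]
    have hζη : ζ ^ 2 * η = 1 := by rw [hη, ← mul_pow, hζξ, one_pow]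
    have hη1 : η ≠ 1 := fun h => by
      have e := hζη
      rw [h, mul_one] at e
      have := Nat.le_of_dvd (by norm_num) (hζpow 2 e); omega
    have hηζ : ζ ≠ η := fun h => by
      have e := hζη
      rw [← h, ← pow_succ] at e
      have := Nat.le_of_dvd (by norm_num) (hζpow 3 e); omega
    have hζη' : ζ * (ζ * η) = 1 := by rw [← mul_assoc, ← pow_two, hζη]
    obtain hn' | hn' | hn' | hn' : n = 3 ∨ n = 4 ∨ n = 5 ∨ 6 ≤ n := by omega
    · obtain ⟨μ, hμ, hM⟩ := use' (Multiset.replicate 2 ζ + {η}) 1 (by simp [hn']) (by simp [hζη'])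
        (by intro a ha; simp only [Multiset.mem_add, Multiset.mem_replicate, Multiset.insert_eq_cons, Multiset.mem_cons, Multiset.mem_singleton] at ha; rcases ha with ⟨-, rfl⟩ | rfl <;> simp [hζr, hηr])
        ⟨ζ, by simp [Multiset.mem_replicate], η, by simp, hηζ⟩
      have hu : ∀ a ∈ Multiset.replicate 2 ζ + {η}, (μ * a) ^ q₀ = μ * a := fun a ha => hfixed hM a ha fun b hb hcb => by
        simp only [Multiset.mem_add, Multiset.mem_replicate, Multiset.insert_eq_cons, Multiset.mem_cons, Multiset.mem_singleton] at ha hb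
        rcases ha with ⟨-, rfl⟩ | rfl <;> rcases hb with ⟨-, rfl⟩ | rfl <;>
          simp [Multiset.count_replicate, hηζ, hηζ.symm] at hcb ⊢
      exact hηζ (htwo hμ one_ne_zero hζr hηr (hu ζ (by simp [Multiset.mem_replicate])) (hu η (by simp)))
    · obtain ⟨μ, hμ, hM⟩ := use' (Multiset.replicate 2 ζ + {1, η}) 1 (by simp [hn']) (by simp [hζη'])
        (by intro a ha; simp only [Multiset.mem_add, Multiset.mem_replicate, Multiset.insert_eq_cons, Multiset.mem_cons, Multiset.mem_singleton] at ha; rcases ha with ⟨-, rfl⟩ | rfl | rfl <;> simp [hζr, hηr])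
        ⟨ζ, by simp [Multiset.mem_replicate], η, by simp, hηζ⟩
      have hz' : (μ * ζ) ^ q₀ = μ * ζ := hfixed hM ζ (by simp [Multiset.mem_replicate]) fun b hb hcb => by
        simp only [Multiset.mem_add, Multiset.mem_replicate, Multiset.insert_eq_cons, Multiset.mem_cons, Multiset.mem_singleton] at hb
        rcases hb with ⟨-, rfl⟩ | rfl | rfl <;>
          simp [Multiset.count_replicate, hζ1, hζ1.symm, hηζ, hηζ.symm, hη1, hη1.symm] at hcb ⊢
      obtain ⟨b, hb, heb, hcb⟩ := hM 1 (by simp)
      simp only [Multiset.mem_add, Multiset.mem_replicate, Multiset.insert_eq_cons, Multiset.mem_cons, Multiset.mem_singleton] at hb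
      rcases hb with ⟨-, rfl⟩ | rfl | rfl
      · simp [Multiset.count_replicate, hζ1, hζ1.symm, hηζ, hηζ.symm, hη1, hη1.symm] at hcb
      · exact hζ1.symm (htwo hμ one_ne_zero (one_pow r) hζr heb hz')
      · have h := hratio hμ hz' heb
        rw [div_one, hneg ζ hζr, eq_div_iff (fun h => hη1 (by rw [h, zero_pow hrprime.ne_zero] at hηr; exact absurd hηr zero_ne_one))] at h
        have h4 : ζ ^ 4 = 1 := by
          calc ζ ^ 4 = ζ ^ 3 * ζ := pow_succ _ _
            _ = ζ ^ 3 * (ζ⁻¹ * η) := by rw [h]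
            _ = ζ ^ 2 * η := by field_simp
            _ = 1 := hζη
        have := hζpow 4 h4
        have := Nat.le_of_dvd (by norm_num) this
        omega
    · obtain ⟨μ, hμ, hM⟩ := use' (Multiset.replicate 2 1 + Multiset.replicate 2 ζ + {η}) 1 (by simp [hn'])
        (by simp [hζη'])
        (by intro a ha; simp only [Multiset.mem_add, Multiset.mem_replicate, Multiset.insert_eq_cons, Multiset.mem_cons, Multiset.mem_singleton] at ha; rcases ha with (⟨-, rfl⟩ | ⟨-, rfl⟩) | rfl <;> simp [hζr, hηr])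
        ⟨ζ, by simp [Multiset.mem_replicate], η, by simp, hηζ⟩
      have he' : (μ * η) ^ q₀ = μ * η := hfixed hM η (by simp) fun b hb hcb => by
        simp only [Multiset.mem_add, Multiset.mem_replicate, Multiset.insert_eq_cons, Multiset.mem_cons, Multiset.mem_singleton] at hb
        rcases hb with (⟨-, rfl⟩ | ⟨-, rfl⟩) | rfl <;>
          simp [Multiset.count_replicate, hζ1, hζ1.symm, hηζ, hηζ.symm, hη1, hη1.symm] at hcb ⊢
      obtain ⟨b, hb, heb, hcb⟩ := hM 1 (by simp [Multiset.mem_replicate])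
      simp only [Multiset.mem_add, Multiset.mem_replicate, Multiset.insert_eq_cons, Multiset.mem_cons, Multiset.mem_singleton] at hb
      rcases hb with (⟨-, rfl⟩ | ⟨-, rfl⟩) | rfl
      · exact hη1.symm (htwo hμ one_ne_zero (one_pow r) hηr heb he')
      · have h := hratio hμ heb he'
        have e1 : (1 : F) / η = ζ ^ 2 := by
          rw [one_div]; exact (eq_inv_of_mul_eq_one_left hζη).symm
        have e2 : ζ / η = ζ ^ 3 := by rw [div_eq_mul_one_div, e1]; ring
        rw [e1, e2, hneg _ (by rw [← pow_mul, mul_comm, pow_mul, hζr, one_pow])] at h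
        have h5 : ζ ^ 5 = 1 := by
          rw [show (5 : ℕ) = 2 + 3 from rfl, pow_add, ← h, mul_inv_cancel₀ (pow_ne_zero _ hζ0)]
        have := Nat.le_of_dvd (by norm_num) (hζpow 5 h5)
        exact hnr ⟨by omega, Or.inr hn'⟩
      · simp [Multiset.count_replicate, hζ1, hζ1.symm, hηζ, hηζ.symm, hη1, hη1.symm] at hcb
    · obtain ⟨μ, hμ, hM⟩ := use' (Multiset.replicate (n - 3) 1 + Multiset.replicate 2 ζ + {η}) 1 (by simp; omega)
        (by simp [hζη'])
        (by intro a ha; simp only [Multiset.mem_add, Multiset.mem_replicate, Multiset.insert_eq_cons, Multiset.mem_cons, Multiset.mem_singleton] at ha; rcases ha with (⟨-, rfl⟩ | ⟨-, rfl⟩) | rfl <;> simp [hζr, hηr])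
        ⟨ζ, by simp [Multiset.mem_replicate], η, by simp, hηζ⟩
      have hu : ∀ a ∈ Multiset.replicate (n - 3) 1 + Multiset.replicate 2 ζ + {η}, a ≠ 1 → (μ * a) ^ q₀ = μ * a :=
        fun a ha hne => hfixed hM a ha fun b hb hcb => by
        simp only [Multiset.mem_add, Multiset.mem_replicate, Multiset.insert_eq_cons, Multiset.mem_cons, Multiset.mem_singleton] at ha hb
        rcases ha with (⟨-, rfl⟩ | ⟨-, rfl⟩) | rfl <;> rcases hb with (⟨-, rfl⟩ | ⟨-, rfl⟩) | rfl <;>
          simp [Multiset.count_replicate, hζ1, hζ1.symm, hηζ, hηζ.symm, hη1, hη1.symm] at hcb hne ⊢ <;> omega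
      exact hηζ (htwo hμ one_ne_zero hζr hηr (hu ζ (by simp [Multiset.mem_replicate]) hζ1) (hu η (by simp) hη1))
  · intro hcrit x ⟨z, hz⟩ hns
    rw [Matrix.SpecialLinearGroup.coe_pow] at hz
    have hzn := hz0 x z hz
    rcases hcrit with rfl | ⟨rfl, rfl, hn35, hv⟩
    · have hqq : ((q : ℕ) : ZMod r) = (q₀ : ZMod r) := by rw [hqz, ZMod.pow_card]
      have hii : i = i₀ := by rw [hi, hi₀, hqq]
      by_cases hpow : ∃ c, c ^ r = z
      · obtain ⟨c, rfl⟩ := hpow
        have hc : c ≠ 0 := fun h => by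
          rw [h, zero_pow hrprime.ne_zero, zero_pow (by omega)] at hzn
          exact zero_ne_one hzn
        refine exists_conj_mem F₀ (p := p) (by omega) x hr hz (inv_ne_zero hc) ?_
        have hM : (c⁻¹ • (x : Matrix (Fin n) (Fin n) F)) ^ r = 1 := by
          rw [_root_.smul_pow, hz, smul_smul, inv_pow, inv_mul_cancel₀ (pow_ne_zero _ hc), one_smul]
        rw [← monic_prod_normalizedFactors (Matrix.charpoly_monic (c⁻¹ • (x : Matrix (Fin n) (Fin n) F)))]
        refine multiset_prod_mem _ fun Q hQ => ?_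
        obtain ⟨hQi, hQm, hQd⟩ := hfac hM Q hQ
        by_cases hQ1 : Q = X - 1
        · exact ⟨X - 1, by simp [hQ1]⟩
        have hmap : (X ^ r - 1 : F[X]) = (X ^ r - 1 : F₀[X]).map F₀.subtype := by simp
        rw [hmap, ← monic_prod_normalizedFactors
          (show (X ^ r - 1 : F₀[X]).Monic by simpa using monic_X_pow_sub_C (1 : F₀) hrprime.ne_zero),
          Polynomial.map_multiset_prod] at hQd
        obtain ⟨Q₀, hQ₀, hd⟩ := hQi.prime.exists_mem_multiset_map_dvd hQd
        have hQ₀i := UniqueFactorizationMonoid.irreducible_of_normalized_factor Q₀ hQ₀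
        have hQ₀m := monic_of_mem_nf hQ₀
        have hQ₀d := UniqueFactorizationMonoid.dvd_of_mem_normalizedFactors hQ₀
        have hQ₀1 : Q₀ ≠ X - 1 := fun h => by
          rw [h, Polynomial.map_sub, Polynomial.map_X, Polynomial.map_one] at hd
          refine hQ1 (eq_of_monic_of_associated hQm (monic_X_sub_C (1 : F) |> fun h => by simpa using h) ?_)
          exact hQi.associated_of_dvd (by simpa using irreducible_X_sub_C (1 : F)) hd
        have hdeg : (Q₀.map F₀.subtype).natDegree ≤ Q.natDegree := by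
          rw [natDegree_map, natDegree_eq_orderOf hr₀ hQ₀i hQ₀m hQ₀d hQ₀1, natDegree_eq_orderOf hr hQi hQm
            (by rw [hmap]; exact hd.trans (Polynomial.map_dvd _ hQ₀d)) hQ1, hq₀, ← hq, ← hi₀, ← hi, hii]
        exact ⟨Q₀, eq_of_monic_of_dvd_of_natDegree_le hQm (hQ₀m.map _) hd hdeg⟩
      · exfalso
        push Not at hpow
        have hrq : r ∣ q - 1 := by
          by_contra hnd
          obtain ⟨c, hc⟩ := exists_root hnd z
          exact hpow c hc
        have hrq₀ : r ∣ q₀ - 1 := by
          have h1 := orderOf_eq_one_iff_dvd.2 hrq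
          rw [← hq, ← hi, hii, hi₀, ← hq₀] at h1
          exact hq₀ ▸ orderOf_eq_one_iff_dvd.1 h1
        have hv := hgapk rfl hrq₀
        obtain ⟨-, -, t, hnt, hdet⟩ := killed_of_root hr hz hpow
        rw [x.2, ((hrprime.odd_of_ne_two hr2).add_one).neg_one_pow, one_mul] at hdet
        have ht0 : t ≠ 0 := by rintro rfl; simp at hnt; omega
        have := padic_le_of_pow hpow hdet.symm ht0
        rw [← hq] at this
        rw [hnt, padicValNat.mul hrprime.ne_zero ht0, padicValNat.self hrprime.one_lt] at hv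
        omega
    · have hq₀r : r ∣ q₀ + 1 := dvd_of_one_le_padicValNat (by rw [hv])
      have hq1 : q - 1 = (q₀ + 1) * (q₀ - 1) := by rw [hqk, ← Nat.sq_sub_sq, one_pow]
      have hrq : r ∣ q - 1 := hq1 ▸ hq₀r.mul_right _
      have hrq₀' : ¬ r ∣ q₀ - 1 := fun h => by
        have h2 := Nat.dvd_sub hq₀r h
        rw [show q₀ + 1 - (q₀ - 1) = 2 by omega] at h2
        exact hr2 ((Nat.prime_dvd_prime_iff_eq hrprime Nat.prime_two).1 h2)
      have hi1 : i = 1 := orderOf_eq_one_iff_dvd.2 hrq
      have hzr : z = 1 := by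
        by_cases hpow : ∃ c, c ^ r = z
        · obtain ⟨c, rfl⟩ := hpow
          have hc : c ≠ 0 := fun h => by
            rw [h, zero_pow hrprime.ne_zero, zero_pow hrprime.ne_zero] at hzn
            exact zero_ne_one hzn
          have h1 : c ^ Nat.gcd (r * r) (q - 1) = 1 :=
            pow_gcd_eq_one.2 ⟨by rw [pow_mul]; exact hzn, FiniteField.pow_card_sub_one_eq_one c hc⟩
          have h2 : Nat.gcd (r * r) (q - 1) ∣ r := by
            rw [← pow_two]
            obtain ⟨j, hj, hj'⟩ := (Nat.dvd_prime_pow hrprime).1 (Nat.gcd_dvd_left (r ^ 2) (q - 1))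
            rw [hj']
            by_contra hnot
            have hj2 : j = 2 := by
              by_contra hne
              exact hnot (by rcases (show j = 0 ∨ j = 1 by omega) with rfl | rfl <;> simp)
            subst hj2
            have h3 : r ^ 2 ∣ (q₀ + 1) * (q₀ - 1) := hq1 ▸ hj' ▸ Nat.gcd_dvd_right (r ^ 2) (q - 1)
            have h4 := (Nat.Coprime.pow_left 2 (hrprime.coprime_iff_not_dvd.2 hrq₀')).dvd_of_dvd_mul_right h3
            have h5 := (padicValNat_dvd_iff_le (show q₀ + 1 ≠ 0 by omega)).1 h4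
            omega
          obtain ⟨l, hl⟩ := h2
          rw [hl, pow_mul, h1, one_pow]
        · push Not at hpow
          obtain ⟨-, -, t, hnt, hdet⟩ := killed_of_root hr hz hpow
          rw [x.2, ((hrprime.odd_of_ne_two hr2).add_one).neg_one_pow, one_mul] at hdet
          have : t = 1 := by
            have := Nat.eq_of_mul_eq_mul_left hrprime.pos ((mul_one r).trans hnt)
            omega
          rw [this, pow_one] at hdet
          exact absurd ((one_pow r).trans hdet) (hpow 1)
      subst hzr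
      rw [one_smul] at hz
      obtain ⟨ζu, hζu⟩ := exists_prime_orderOf_dvd_card r (G := Fˣ) (by rw [Fintype.card_units]; exact hrq)
      set ζ : F := (ζu : F) with hζ
      have hζord : orderOf ζ = r := by rw [hζ, orderOf_units, hζu]
      have hprim : IsPrimitiveRoot ζ r := hζord ▸ IsPrimitiveRoot.orderOf ζ
      haveI : NeZero r := ⟨hrprime.ne_zero⟩
      let Z : ZMod r → F := fun a => ζ ^ a.val
      have hZadd : ∀ a b, Z a * Z b = Z (a + b) := fun a b => by
        simp only [Z, ← pow_add, ZMod.val_add]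
        exact pow_eq_pow_mod _ hprim.pow_eq_one
      have hZinj : Function.Injective Z := fun a b h =>
        ZMod.val_injective r (hprim.pow_inj (ZMod.val_lt a) (ZMod.val_lt b) h)
      have hZnat : ∀ (m : ℕ) a, Z a ^ m = Z (m * a) := by
        intro m a
        induction m with
        | zero => simp [Z]
        | succ m ih => rw [pow_succ, ih, hZadd, Nat.cast_succ, add_mul, one_mul]
      set S := UniqueFactorizationMonoid.normalizedFactors (x : Matrix (Fin r) (Fin r) F).charpoly with hS
      have hlin : ∀ Q ∈ S, ∃ a : ZMod r, Q = X - C (Z a) := fun Q hQ => by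
        obtain ⟨hQi, hQm, hQd⟩ := hfac hz Q hQ
        by_cases hQ1 : Q = X - 1
        · exact ⟨0, by simp [hQ1, Z]⟩
        · have hdeg := natDegree_eq_orderOf hr hQi hQm hQd hQ1
          rw [← hq, ← hi, hi1] at hdeg
          obtain ⟨ω, hω⟩ : ∃ ω, Q = X - C ω := ⟨-Q.coeff 0, by
            rw [map_neg, sub_neg_eq_add]; exact hQm.eq_X_add_C hdeg⟩
          have hroot : ω ^ r = 1 := by
            rw [hω, dvd_iff_isRoot] at hQd
            simpa [sub_eq_zero] using hQd
          obtain ⟨a, ha, hae⟩ := hprim.eq_pow_of_pow_eq_one hroot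
          exact ⟨(a : ZMod r), by rw [hω, ← hae]; simp [Z, ZMod.val_natCast, Nat.mod_eq_of_lt ha]⟩
      choose! g hg using hlin
      let cnt : ZMod r → ℕ := fun a => (S.map g).count a
      have hSg : S = (S.map g).map fun a => (X - C (Z a) : F[X]) := by
        rw [Multiset.map_map]
        conv_lhs => rw [← Multiset.map_id S]
        exact Multiset.map_congr rfl fun Q hQ => hg Q hQ
      have hchar : (x : Matrix (Fin r) (Fin r) F).charpoly = ((S.map g).map fun a => (X - C (Z a) : F[X])).prod := by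
        rw [← hSg]; exact (monic_prod_normalizedFactors (Matrix.charpoly_monic _)).symm
      have hcardS : Multiset.card (S.map g) = r := by
        have := congrArg natDegree hchar
        rw [Matrix.charpoly_natDegree_eq_dim, Fintype.card_fin,
          show (fun a => (X - C (Z a) : F[X])) = (fun u => (X - C u : F[X])) ∘ Z from rfl, ← Multiset.map_map,
          natDegree_multiset_prod_X_sub_C_eq_card, Multiset.card_map] at this
        exact this.symm
      have hsum : ∑ a, cnt a = r := (Multiset.sum_count_eq_card fun a _ => Finset.mem_univ a).trans hcardS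
      have hdetS : (((S.map g).map Z)).prod = 1 := by
        have h := x.2
        rw [Matrix.det_eq_sign_charpoly_coeff, hchar, coeff_zero_eq_eval_zero, eval_multiset_prod, Multiset.map_map,
          Fintype.card_fin] at h
        rw [show (Polynomial.eval 0 ∘ fun a : ZMod r => X - C (Z a)) = Neg.neg ∘ Z from funext fun a => by simp,
          ← Multiset.map_map, Multiset.prod_map_neg, Multiset.card_map, hcardS, ← mul_assoc, ← mul_pow] at h
        simpa using h
      have hsum0 : (S.map g).sum = 0 := by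
        have hprod : ∀ R : Multiset (ZMod r), (R.map Z).prod = Z R.sum := fun R => by
          induction R using Multiset.induction_on with
          | empty => simp [Z]
          | cons a R ih => rw [Multiset.map_cons, Multiset.prod_cons, Multiset.sum_cons, ih, hZadd]
        rw [hprod] at hdetS
        exact hZinj (hdetS.trans (by simp [Z]))
      have hs : ∑ a, (cnt a : ZMod r) * a = 0 := by
        rw [← hsum0, Finset.sum_multiset_count]
        refine (Finset.sum_subset (s₁ := (S.map g).toFinset) (Finset.subset_univ _) fun a _ ha => ?_).symm.trans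
          (Finset.sum_congr rfl fun a _ => ?_)
        · rw [Multiset.mem_toFinset] at ha
          simp [cnt, Multiset.count_eq_zero_of_notMem ha]
        · simp [cnt, nsmul_eq_mul]
      obtain ⟨b, hb⟩ := exists_sym hn35 cnt hsum hs
      refine exists_conj_mem F₀ (p := p) hrprime.pos x (z := 1) hr (by rw [one_smul]; exact hz) (μ := Z (-b))
        (pow_ne_zero _ ζu.ne_zero) ?_
      -- diagonalise
      let R := (S.map g).toList
      let e : Fin r ≃ Fin R.length := finCongr (by rw [Multiset.length_toList, hcardS])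
      let d : Fin r → F := fun j => Z (R.get (e j))
      have hd : ∀ {β : Type _} (φ : ZMod r → β),
          Multiset.map (fun j => φ (R.get (e j))) (Finset.univ : Finset (Fin r)).val = (S.map g).map φ := fun {β} φ => by
        have h1 : (Finset.univ : Finset (Fin r)).val.map e = (Finset.univ : Finset (Fin R.length)).val := by
          exact congrArg Finset.val (Finset.map_univ_equiv e)
        rw [show (fun j => φ (R.get (e j))) = (φ ∘ R.get) ∘ e from rfl, ← Multiset.map_map, h1, ← Multiset.map_map,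
          Fin.univ_val_map]
        exact congrArg _ ((congrArg _ (List.ofFn_get _)).trans (Multiset.coe_toList _))
      let xG : GL (Fin r) F := Matrix.SpecialLinearGroup.toGL x
      have hdd : (Matrix.diagonal d).det ≠ 0 := by
        rw [Matrix.det_diagonal]
        exact Finset.prod_ne_zero_iff.2 fun j _ => pow_ne_zero _ ζu.ne_zero
      let D : GL (Fin r) F := Matrix.GeneralLinearGroup.mkOfDetNeZero _ hdd
      have hDr : Matrix.toLin' (D : Matrix (Fin r) (Fin r) F) ^ r = 1 := by
        rw [← Matrix.toLin'_pow, show (D : Matrix (Fin r) (Fin r) F) = Matrix.diagonal d from rfl, Matrix.diagonal_pow,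
          show d ^ r = fun _ => 1 from funext fun j => by
            simp only [Pi.pow_apply, d, Z, ← pow_mul]
            rw [mul_comm, pow_mul, hprim.pow_eq_one, one_pow],
          Matrix.diagonal_one, Matrix.toLin'_one]
        rfl
      have hxr : Matrix.toLin' (xG : Matrix (Fin r) (Fin r) F) ^ r = 1 := by
        rw [← Matrix.toLin'_pow, show (xG : Matrix (Fin r) (Fin r) F) = x from rfl, hz, Matrix.toLin'_one]; rfl
      obtain ⟨c, hc⟩ := isConj_iff.1 (CfsgLib.KnownB.Semisimple.isConj_of_charpoly (A := xG) (B := D)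
        (isSemisimple_of_pow hr hxr) (isSemisimple_of_pow hr hDr) (by
          show (x : Matrix (Fin r) (Fin r) F).charpoly = (Matrix.diagonal d).charpoly
          rw [hchar, Matrix.charpoly_diagonal, ← hd fun a => (X - C (Z a) : F[X])]
          rfl))
      rw [← Matrix.charpoly_units_conj c]
      have hcx : (c : Matrix (Fin r) (Fin r) F) * (Z (-b) • (x : Matrix (Fin r) (Fin r) F)) *
          ((c⁻¹ : GL (Fin r) F) : Matrix (Fin r) (Fin r) F) = Matrix.diagonal fun j => Z (R.get (e j) - b) := by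
        rw [mul_smul_comm, smul_mul_assoc, show (x : Matrix (Fin r) (Fin r) F) = (xG : Matrix (Fin r) (Fin r) F) from rfl,
          ← Units.val_mul, ← Units.val_mul, hc, show (D : Matrix (Fin r) (Fin r) F) = Matrix.diagonal d from rfl,
          ← Matrix.diagonal_smul]
        congr 1
        funext j
        simp only [Pi.smul_apply, smul_eq_mul, d, hZadd]
        rw [add_comm, ← sub_eq_add_neg]
      rw [← Matrix.coe_units_inv, hcx, Matrix.charpoly_diagonal]
      have hlift := exists_lift_of_stable F₀ (p := p) (M := (S.map g).map fun a => Z (a - b)) (by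
        rw [hF₀, Multiset.map_map]
        have hq₀z : ((q₀ : ℕ) : ZMod r) = -1 := by
          have := (ZMod.natCast_eq_zero_iff _ r).2 hq₀r
          rw [Nat.cast_add, Nat.cast_one] at this
          exact eq_neg_of_add_eq_zero_left this
        have h1 : ((fun a => a ^ q₀) ∘ fun a => Z (a - b)) = (fun a => Z (a - b)) ∘ (fun a => b + b - a) :=
          funext fun a => by
            simp only [Function.comp, hZnat, hq₀z]
            congr 1
            ring
        rw [h1, ← Multiset.map_map]
        congr 1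
        ext a
        have hinvol : Function.Injective fun a : ZMod r => b + b - a := sub_right_injective
        have h2 := Multiset.count_map_eq_count' _ (S.map g) hinvol (b + b - a)
        rw [sub_sub_cancel] at h2
        rw [h2]
        exact hb a)
      rw [← hd fun a => Z (a - b), Multiset.map_map] at hlift
      exact hlift

end Cfsg.Agent.S5965
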