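import Cfsg.Statements.S5966
import Cfsg.Agent.Lib.KnownB.Jordan

set_option autoImplicit false
set_option maxHeartbeats 1600000
open scoped MatrixGroups
open Cfsg

namespace Cfsg.Agent.S5966

/-- Elements of order 3 of PSL_n(q) in characteristic 3 and subfield subgroups. Here `T = PSL_n(F)` for a field `F` with `q` elements, `q` a power of 3 (`n ≥ 2`, `(n, q) ≠ (2, 2), (2, 3)`), `F₀` is the subfield with `q₀` elements where `q = q₀^k` for a prime `k`, and `H` is the subgroup of matrices of determinant 1 lying in the subfield group of `F₀` (invertible matrices over `F₀` times scalars) — a maximal subgroup of type GL_n(q₀) (the case `n = 2`, `q₀ = 2` is excluded); Ω is the set of `T`-conjugates of `H` (cosets of `H`), so an element of `T` of prime order `r` (a matrix `x` of determinant 1 with `x^r` scalar, `x` not scalar) fixes a point of Ω when some conjugate of `x` by a matrix of determinant 1 lies in `H`. Suppose 3 divides the index of `H`. Then every element of `T` of order 3 is conjugate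 in `T` into `H` if and only if `n` is odd, or `n` is even and `k > 2`. -/
theorem result {F : Type*} [Field F] [Fintype F] [CharP F 3] {q : ℕ} (hq : Fintype.card F = q)
    (n : ℕ) (hn : 2 ≤ n) (hT : (n, q) ≠ (2, 3))
    (F₀ : Subfield F) (k q₀ : ℕ) (hk : k.Prime) (hF₀ : Nat.card ↥F₀ = q₀) (hqk : q = q₀ ^ k) (hC5 : ¬ (n = 2 ∧ q₀ = 2)) (hΩ : 3 ∣ ((Cfsg.Geo.subfieldSubgroup F₀ 1).comap (Matrix.SpecialLinearGroup.toGL : Matrix.SpecialLinearGroup (Fin n) F →* GL (Fin n) F)).index) :
    (∀ x : Matrix.SpecialLinearGroup (Fin n) F,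
      (∃ z : F, ((x ^ 3 : Matrix.SpecialLinearGroup (Fin n) F) : Matrix (Fin n) (Fin n) F) = z • (1 : Matrix (Fin n) (Fin n) F)) →
      (∀ z : F, (x : Matrix (Fin n) (Fin n) F) ≠ z • (1 : Matrix (Fin n) (Fin n) F)) →
      ∃ P : Matrix.SpecialLinearGroup (Fin n) F, P⁻¹ * x * P ∈ ((Cfsg.Geo.subfieldSubgroup F₀ 1).comap (Matrix.SpecialLinearGroup.toGL : Matrix.SpecialLinearGroup (Fin n) F →* GL (Fin n) F))) ↔
    (Odd n ∨ (Even n ∧ 2 < k)) := by
  open Matrix CfsgLib.KnownB.Jordan in
  classical
  subst hq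
  set q := Fintype.card F with hq
  haveI : Fact (Nat.Prime 3) := ⟨Nat.prime_three⟩
  set H := (Cfsg.Geo.subfieldSubgroup F₀ 1).comap
    (Matrix.SpecialLinearGroup.toGL : Matrix.SpecialLinearGroup (Fin n) F →* GL (Fin n) F) with hH
  have hmemH : ∀ (y : Matrix.SpecialLinearGroup (Fin n) F), y ∈ H ↔ ∃ (A : GL (Fin n) F₀) (c : Fˣ),
      (y : Matrix (Fin n) (Fin n) F) = (c : F) • (A : Matrix (Fin n) (Fin n) F₀).map F₀.subtype := by
    intro y
    haveI hnor : (Cfsg.Geo.scalars (Fin n) F).Normal := ⟨fun a ha g => by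
      obtain ⟨c, hc⟩ := (Cfsg.Geo.mem_scalars_iff a).1 ha
      refine (Cfsg.Geo.mem_scalars_iff _).2 ⟨c, ?_⟩
      rw [Units.val_mul, Units.val_mul, hc, mul_smul_comm, mul_one, smul_mul_assoc, Units.mul_inv]⟩
    rw [hH, Subgroup.mem_comap, Cfsg.Geo.subfieldSubgroup, Subgroup.mem_map]
    constructor
    · rintro ⟨g, hg, hgy⟩
      obtain ⟨a, ⟨A, rfl⟩, s, hs, rfl⟩ := Subgroup.mem_sup_of_normal_right.1 hg
      obtain ⟨c, hc⟩ := (Cfsg.Geo.mem_scalars_iff s).1 hs
      refine ⟨A, c, ?_⟩
      have h := congrArg (fun u : GL (Fin n) F => (u : Matrix (Fin n) (Fin n) F)) hgy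
      simp only [map_one, MulEquiv.coe_toMonoidHom, MulAut.one_apply, Units.val_mul, hc, mul_smul_comm, mul_one] at h
      exact h.symm
    · rintro ⟨A, c, h⟩
      let s : GL (Fin n) F := Units.map (Matrix.scalar (Fin n) : F →+* Matrix (Fin n) (Fin n) F).toMonoidHom c
      refine ⟨Matrix.GeneralLinearGroup.map (F₀.subtype : F₀ →+* F) A * s,
        Subgroup.mul_mem_sup ⟨A, rfl⟩ ⟨c, rfl⟩, Units.ext ?_⟩
      simp only [map_one, MulEquiv.coe_toMonoidHom, MulAut.one_apply, Units.val_mul]
      refine Eq.trans ?_ h.symm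
      ext i j
      simp [s, mul_diagonal, mul_comm]
  obtain ⟨f, hfp, hf⟩ := FiniteField.card F 3
  have h2 : (2 : F) ≠ 0 := fun h => by
    have := (CharP.cast_eq_zero_iff F 3 2).1 (by exact_mod_cast h)
    omega
  have hc2 : ringChar F ≠ 2 := by rw [ringChar.eq F 3]; norm_num
  have hqodd : Odd q := by rw [hq, hf]; exact Odd.pow (by decide)
  have hq0odd : Odd q₀ := by
    rw [hqk] at hqodd
    exact Odd.of_dvd_nat hqodd (dvd_pow_self _ hk.ne_zero)
  haveI : Finite F₀ := inferInstance
  letI := Fintype.ofFinite F₀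
  have hq0 : Fintype.card F₀ = q₀ := by rw [← Nat.card_eq_fintype_card, hF₀]
  -- cubes: every element has exactly one cube root
  have hcube : ∀ a : F, ∃ c : F, c ^ 3 = a := fun a => by
    obtain ⟨c, hc⟩ := (PerfectRing.bijective_frobenius (R := F) (p := 3)).2 a
    exact ⟨c, hc⟩
  have hroot1 : ∀ c : F, c ^ 3 = 1 → c = 1 := fun c h => by
    have h0 : (c - 1) ^ 3 = 0 := by rw [sub_pow_char (R := F) (p := 3), h, one_pow, sub_self]
    exact sub_eq_zero.1 (eq_zero_of_pow_eq_zero h0)
  constructor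
  · intro hall
    by_contra hcon
    push Not at hcon
    have hne : Even n := Nat.not_odd_iff_even.1 hcon.1
    have hk2 : k = 2 := le_antisymm (hcon.2 hne) hk.two_le
    obtain ⟨d, rfl⟩ := even_iff_two_dvd.1 hne
    have hsq : ∀ t : F, t ∈ F₀ → IsSquare t := by
      intro t ht
      by_cases h0 : t = 0
      · exact h0 ▸ IsSquare.zero
      rw [FiniteField.isSquare_iff hc2 h0, ← hq]
      have h1 : t ^ (q₀ - 1) = 1 := by
        have := FiniteField.pow_card_sub_one_eq_one (⟨t, ht⟩ : F₀) (fun h => h0 (congrArg Subtype.val h))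
        rw [hq0] at this
        exact congrArg Subtype.val this
      have h2 : q / 2 = (q₀ - 1) * ((q₀ + 1) / 2) := by
        obtain ⟨l, hl⟩ := hq0odd
        rw [hqk, hk2, hl, show (2 * l + 1 + 1) / 2 = l + 1 by omega, show 2 * l + 1 - 1 = 2 * l by omega,
          show (2 * l + 1) ^ 2 = 2 * (2 * l * (l + 1)) + 1 by ring]
        omega
      rw [h2, pow_mul, h1, one_pow]
    obtain ⟨ν, hν⟩ := FiniteField.exists_nonsquare hc2
    have hν0 : ν ≠ 0 := fun h => hν (h ▸ IsSquare.zero)
    let σ : Fin d ⊕ Fin d ≃ Fin (2 * d) := finSumFinEquiv.trans (finCongr (two_mul d).symm)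
    let i₀ : Fin (2 * d) := σ (Sum.inl ⟨0, by omega⟩)
    let J : Matrix (Fin (2 * d)) (Fin (2 * d)) F := reindex σ σ (fromBlocks 1 0 1 1)
    let w : Fin (2 * d) → F := fun i => if i = i₀ then ν else 1
    have hw : ∀ i, w i ≠ 0 := fun i => by simp only [w]; split_ifs <;> simp [hν0]
    let W : GL (Fin (2 * d)) F := Matrix.GeneralLinearGroup.mkOfDetNeZero (diagonal w) (by
      rw [det_diagonal]; exact Finset.prod_ne_zero_iff.2 fun i _ => hw i)
    have hWd : (W : Matrix (Fin (2 * d)) (Fin (2 * d)) F).det = ν := by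
      show (diagonal w).det = ν
      rw [det_diagonal]
      simp [w]
    let X : Matrix (Fin (2 * d)) (Fin (2 * d)) F := (W : Matrix (Fin (2 * d)) (Fin (2 * d)) F) * J * ((W⁻¹ : GL (Fin (2 * d)) F) : Matrix (Fin (2 * d)) (Fin (2 * d)) F)
    have hXd : X.det = 1 := by
      have hJd : J.det = 1 := by simp [J, det_fromBlocks_zero₁₂]
      simp only [X, det_mul, hJd, mul_one]
      rw [← det_mul, Units.mul_inv, det_one]
    have hJ3 : J ^ 3 = 1 := by
      have h3 : (3 : F) = 0 := by exact_mod_cast CharP.cast_eq_zero F 3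
      have h : (fromBlocks 1 0 1 1 : Matrix (Fin d ⊕ Fin d) (Fin d ⊕ Fin d) F) ^ 3 = 1 := by
        rw [pow_succ, pow_two, fromBlocks_multiply, fromBlocks_multiply, ← fromBlocks_one]
        congr 1 <;> simp
        rw [show (1 : Matrix (Fin d) (Fin d) F) + 1 + 1 = (3 : F) • 1 by module, h3, zero_smul]
      show (reindexAlgEquiv F F σ (fromBlocks 1 0 1 1)) ^ 3 = 1
      rw [← map_pow, h, map_one]
    have hX3 : X ^ 3 = 1 := by
      simp only [X, pow_succ, pow_zero, one_mul, mul_assoc, Units.inv_mul_cancel_left]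
      rw [show J * (J * (J * ((W⁻¹ : GL (Fin (2 * d)) F) : Matrix (Fin (2 * d)) (Fin (2 * d)) F))) = J ^ 3 * ((W⁻¹ : GL (Fin (2 * d)) F) : Matrix (Fin (2 * d)) (Fin (2 * d)) F) by simp only [pow_succ, pow_zero, one_mul, mul_assoc],
        hJ3, one_mul, Units.mul_inv]
    let X' : Matrix.SpecialLinearGroup (Fin (2 * d)) F := ⟨X, hXd⟩
    obtain ⟨P, hP⟩ := hall X' ⟨1, by rw [Matrix.SpecialLinearGroup.coe_pow, one_smul]; exact hX3⟩ (fun z h => by
      have h' : X = z • (1 : Matrix (Fin (2 * d)) (Fin (2 * d)) F) := h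
      have hJ : J = z • 1 := by
        calc J = ((W⁻¹ : GL (Fin (2 * d)) F) : Matrix (Fin (2 * d)) (Fin (2 * d)) F) * X * (W : Matrix (Fin (2 * d)) (Fin (2 * d)) F) := by
              simp only [X, mul_assoc, Units.inv_mul, mul_one, Units.inv_mul_cancel_left]
          _ = z • 1 := by rw [h', mul_smul_comm, mul_one, smul_mul_assoc, Units.inv_mul]
      have := congrFun (congrFun hJ (σ (Sum.inr ⟨0, by omega⟩))) (σ (Sum.inl ⟨0, by omega⟩))
      simp [J, Matrix.one_apply] at this)
    obtain ⟨A, c, hAc⟩ := (hmemH _).1 hP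
    set Pm := (P : Matrix (Fin (2 * d)) (Fin (2 * d)) F) with hPm
    set Pi' := ((P⁻¹ : Matrix.SpecialLinearGroup (Fin (2 * d)) F) : Matrix (Fin (2 * d)) (Fin (2 * d)) F) with hPi
    have hPP' : Pm * Pi' = 1 := by
      rw [hPm, hPi, ← Matrix.SpecialLinearGroup.coe_mul, mul_inv_cancel, Matrix.SpecialLinearGroup.coe_one]
    have hy : ((P⁻¹ * X' * P : Matrix.SpecialLinearGroup (Fin (2 * d)) F) : Matrix (Fin (2 * d)) (Fin (2 * d)) F) = Pi' * X * Pm := by
      simp only [Matrix.SpecialLinearGroup.coe_mul]; rfl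
    rw [hy] at hAc
    let φ : Matrix (Fin (2 * d)) (Fin (2 * d)) F₀ →+* Matrix (Fin (2 * d)) (Fin (2 * d)) F := F₀.subtype.mapMatrix
    have hφi : Function.Injective φ := fun a b h => by
      ext i j; exact congrFun (congrFun h i) j
    set Y := Pi' * X * Pm with hY
    have hY3 : Y ^ 3 = 1 := by
      simp only [hY, pow_succ, pow_zero, one_mul, mul_assoc]
      rw [← mul_assoc Pm Pi', hPP', one_mul, ← mul_assoc Pm Pi', hPP', one_mul]
      rw [show X * (X * (X * Pm)) = X ^ 3 * Pm by simp only [pow_succ, pow_zero, one_mul, mul_assoc], hX3, one_mul,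
        mul_eq_one_comm.1 hPP']
    -- the scalar lies in the subfield
    have hcF : (c : F) ∈ F₀ := by
      have h := hY3
      rw [hAc, smul_pow] at h
      have hA3 : (φ (A : Matrix (Fin (2 * d)) (Fin (2 * d)) F₀)) ^ 3 = φ ((A : Matrix (Fin (2 * d)) (Fin (2 * d)) F₀) ^ 3) := (map_pow φ _ 3).symm
      rw [show ((A : Matrix (Fin (2 * d)) (Fin (2 * d)) F₀).map F₀.subtype) = φ A from rfl, hA3] at h
      let a := ((A : Matrix (Fin (2 * d)) (Fin (2 * d)) F₀) ^ 3) i₀ i₀
      have h00 : (c : F) ^ 3 * (a : F) = 1 := by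
        have := congrFun (congrFun h i₀) i₀
        simpa [φ] using this
      have ha0 : (a : F) ≠ 0 := fun e => by rw [e, mul_zero] at h00; exact zero_ne_one h00
      obtain ⟨c₀, hc₀⟩ := (PerfectRing.bijective_frobenius (R := F₀) (p := 3)).2 a⁻¹
      have hc₀' : (c₀ : F) ^ 3 = ((a : F))⁻¹ := by
        simpa using congrArg Subtype.val hc₀
      have hu : ((c : F) / (c₀ : F)) ^ 3 = 1 := by
        rw [div_pow, hc₀', div_inv_eq_mul, h00]
      have hc00 : (c₀ : F) ≠ 0 := fun e => by rw [e, div_zero, zero_pow (by norm_num)] at hu; exact zero_ne_one hu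
      have h1 := (div_eq_one_iff_eq hc00).1 (hroot1 _ hu)
      rw [h1]
      exact c₀.2
    let Y₀ : Matrix (Fin (2 * d)) (Fin (2 * d)) F₀ := (⟨(c : F), hcF⟩ : F₀) • (A : Matrix (Fin (2 * d)) (Fin (2 * d)) F₀)
    have hY₀ : φ Y₀ = Y := by
      rw [hAc]; ext i j; rfl
    let M₀ := Y₀ - 1
    let S : Matrix (Fin (2 * d)) (Fin (2 * d)) F := reindex σ σ (fromBlocks 0 0 1 0)
    have hS : S = J - 1 := by
      ext i j
      obtain ⟨i | i, rfl⟩ := σ.surjective i <;> obtain ⟨j | j, rfl⟩ := σ.surjective j <;> simp [S, J, Matrix.one_apply]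
    set T := ((W⁻¹ : GL (Fin (2 * d)) F) : Matrix (Fin (2 * d)) (Fin (2 * d)) F) * Pm with hT
    set Ti := Pi' * (W : Matrix (Fin (2 * d)) (Fin (2 * d)) F) with hTi
    have hTT : T * Ti = 1 := by
      rw [hT, hTi, mul_assoc, ← mul_assoc Pm, hPP', one_mul, Units.inv_mul]
    have hM : φ M₀ = Ti * S * T := by
      have h1 : Ti * T = 1 := mul_eq_one_comm.1 hTT
      rw [map_sub, map_one, hY₀, hS, mul_sub, sub_mul, mul_one, h1, hY]
      simp only [X, hT, hTi, mul_assoc]
    clear_value T Ti
    have hTm : T * φ M₀ = S * T := by rw [hM, ← mul_assoc, ← mul_assoc, hTT, one_mul]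
    have hSS : S * S = 0 := by
      simp only [S, reindex_apply, submatrix_mul_equiv, fromBlocks_multiply]
      simp
    -- a chain basis over the subfield
    have hM2 : M₀ * M₀ = 0 := hφi (by
      rw [map_mul, map_zero, hM, show Ti * S * T * (Ti * S * T) = Ti * (S * (T * Ti) * S) * T by simp only [mul_assoc],
        hTT, mul_one, hSS, mul_zero, zero_mul])
    obtain ⟨t, dd, b, hdd, hb⟩ := exists_chains (Matrix.toLin' M₀) ⟨2, by rw [pow_two, Module.End.mul_eq_comp, ← Matrix.toLin'_mul, hM2, map_zero]⟩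
    have hker : ∀ v : Fin (2 * d) → F₀, M₀ *ᵥ v = 0 → ∃ u : Fin (2 * d) → F, φ M₀ *ᵥ u = fun i => (v i : F) := by
      intro v hv
      let v' : Fin (2 * d) → F := fun i => (v i : F)
      have hv' : S *ᵥ (T *ᵥ v') = 0 := by
        rw [mulVec_mulVec, ← hTm, ← mulVec_mulVec]
        have : φ M₀ *ᵥ v' = fun i => ((M₀ *ᵥ v) i : F) := by
          funext i; simp [φ, v', Matrix.mulVec, dotProduct]
        rw [this, hv]
        have h0 : (fun i => (((0 : Fin (2 * d) → F₀) i : F₀) : F)) = 0 := by funext i; simp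
        rw [h0, mulVec_zero]
      set g := (T *ᵥ v') ∘ σ with hg
      have hg0 : ∀ j, g (Sum.inl j) = 0 := fun j => by
        have := congrFun hv' (σ (Sum.inr j))
        simp only [S, reindex_apply, submatrix_mulVec_equiv] at this
        simpa [fromBlocks_mulVec, hg, Function.comp_def] using this
      refine ⟨Ti *ᵥ (Sum.elim (fun j => g (Sum.inr j)) 0 ∘ σ.symm), ?_⟩
      have hSu : S *ᵥ (Sum.elim (fun j => g (Sum.inr j)) 0 ∘ σ.symm) = T *ᵥ v' := by
        funext i
        obtain ⟨i | i, rfl⟩ := σ.surjective i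
        · have := hg0 i
          simp [S, reindex_apply, submatrix_mulVec_equiv, fromBlocks_mulVec, hg, Function.comp_def] at this ⊢
          exact this.symm
        · simp [S, reindex_apply, submatrix_mulVec_equiv, fromBlocks_mulVec, hg, Function.comp_def]
      rw [mulVec_mulVec, hM, mul_assoc (Ti * S), hTT, mul_one, ← mulVec_mulVec, hSu, mulVec_mulVec,
        mul_eq_one_comm.1 hTT, one_mulVec]
    have hdd2 : ∀ j, dd j = 2 := by
      intro j
      have h1 := hdd j
      rcases Nat.lt_or_ge (dd j) 3 with h | h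
      · by_contra hne
        have hd1 : dd j = 1 := by omega
        let xj : (k : Fin t) × Fin (dd k) := ⟨j, ⟨0, by omega⟩⟩
        have hz : M₀ *ᵥ b xj = 0 := by
          have := hb xj
          rwa [dif_neg (by simp [xj, hd1]), Matrix.toLin'_apply] at this
        obtain ⟨u, hu⟩ := hker _ hz
        -- coordinates with respect to the extended basis
        let Q₀ : Matrix (Fin (2 * d)) ((k : Fin t) × Fin (dd k)) F₀ := Matrix.of fun i z => b z i
        let L₀ : Matrix ((k : Fin t) × Fin (dd k)) (Fin (2 * d)) F₀ := Matrix.of fun z i => b.repr (Pi.single i 1) z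
        have hL : L₀ * Q₀ = 1 := by
          refine Matrix.ext fun z z' => ?_
          have h := congrArg (fun v => b.repr v z) (pi_eq_sum_univ' (b z'))
          simp only [map_sum, map_smul, Finsupp.finsetSum_apply, Finsupp.smul_apply, smul_eq_mul, Module.Basis.repr_self] at h
          rw [Matrix.mul_apply, Matrix.one_apply]
          rw [Finsupp.single_apply] at h
          simp only [Q₀, L₀, Matrix.of_apply]
          rw [show (if z = z' then (1 : F₀) else 0) = if z' = z then 1 else 0 by simp [eq_comm], h]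
          exact Finset.sum_congr rfl fun i _ => mul_comm _ _
        have hrow : ∀ i, (L₀ * M₀) xj i = 0 := fun i => by
          have hh : (L₀ * M₀) xj i = b.repr (M₀ *ᵥ Pi.single i 1) xj := by
            rw [pi_eq_sum_univ' (M₀ *ᵥ Pi.single i 1), map_sum]
            simp only [map_smul, Finsupp.finsetSum_apply, Finsupp.smul_apply, smul_eq_mul, Matrix.mul_apply, L₀, Matrix.of_apply,
              mulVec_single_one, Matrix.col_apply]
            exact Finset.sum_congr rfl fun i _ => mul_comm _ _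
          rw [hh, ← b.sum_repr (Pi.single i 1)]
          rw [mulVec_sum, map_sum, Finsupp.finsetSum_apply]
          refine Finset.sum_eq_zero fun z _ => ?_
          rw [mulVec_smul, map_smul, Finsupp.smul_apply, ← Matrix.toLin'_apply, hb z]
          split_ifs with h'
          · rw [Module.Basis.repr_self, Finsupp.single_apply, if_neg, smul_zero]
            intro e
            have e1 := congrArg (fun w : (k : Fin t) × Fin (dd k) => (w.2 : ℕ)) e
            simp [xj] at e1
          · simp
        have h0 : ((L₀.map F₀.subtype) *ᵥ (φ M₀ *ᵥ u)) xj = 0 := by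
          rw [mulVec_mulVec, show L₀.map F₀.subtype * φ M₀ = (L₀ * M₀).map F₀.subtype from (Matrix.map_mul).symm]
          simp [Matrix.mulVec, dotProduct, hrow]
        rw [hu] at h0
        have h1 : ((L₀.map F₀.subtype) *ᵥ fun i => (b xj i : F)) xj = ((L₀ * Q₀) xj xj : F₀) := by
          simp [Matrix.mulVec, dotProduct, Matrix.mul_apply, Q₀]
        rw [h1, hL, Matrix.one_apply_eq] at h0
        exact one_ne_zero (α := F) (by simpa using h0)
      · exfalso
        have hb0 := hb ⟨j, ⟨0, by omega⟩⟩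
        have hb1 := hb ⟨j, ⟨1, by omega⟩⟩
        rw [dif_pos (show 0 + 1 < dd j by omega), Matrix.toLin'_apply] at hb0
        rw [dif_pos (show 1 + 1 < dd j by omega), Matrix.toLin'_apply] at hb1
        have hb1' : M₀ *ᵥ (M₀ *ᵥ b ⟨j, ⟨0, by omega⟩⟩) = b ⟨j, ⟨1 + 1, by omega⟩⟩ := by rw [hb0]; exact hb1
        rw [mulVec_mulVec, hM2, zero_mulVec] at hb1'
        exact b.ne_zero _ hb1'.symm
    have ht : t = d := by
      have := Module.finrank_eq_card_basis b
      rw [Module.finrank_fin_fun, Fintype.card_sigma] at this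
      simp [hdd2] at this
      omega
    subst ht
    let R₀ : Matrix (Fin (2 * t)) (Fin (2 * t)) F₀ := Matrix.of fun i z =>
      Sum.elim (fun j => b ⟨j, ⟨0, by rw [hdd2]; omega⟩⟩) (fun j => b ⟨j, ⟨1, by rw [hdd2]; omega⟩⟩) (σ.symm z) i
    have hR₀ : R₀.det ≠ 0 := by
      refine ((Matrix.isUnit_iff_isUnit_det R₀).1 (Matrix.linearIndependent_cols_iff_isUnit.1 ?_)).ne_zero
      let g : Fin (2 * t) → (k : Fin t) × Fin (dd k) := fun z =>
        Sum.elim (fun j => ⟨j, ⟨0, by rw [hdd2]; omega⟩⟩) (fun j => ⟨j, ⟨1, by rw [hdd2]; omega⟩⟩) (σ.symm z)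
      have hg : Function.Injective g := by
        intro a a' h
        apply σ.symm.injective
        simp only [g] at h
        generalize σ.symm a = u at h ⊢
        generalize σ.symm a' = u' at h ⊢
        rcases u with x | x <;> rcases u' with y | y <;>
          first
          | exact congrArg Sum.inl (congrArg Sigma.fst h)
          | exact congrArg Sum.inr (congrArg Sigma.fst h)
          | exact absurd (congrArg (fun w : (k : Fin t) × Fin (dd k) => (w.2 : ℕ)) h) (by simp)
      have hcol : R₀.col = b ∘ g := by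
        funext z i
        simp only [R₀, Matrix.col_apply, Matrix.of_apply, Function.comp_apply, g]
        rcases σ.symm z with x | x <;> rfl
      rw [hcol]
      exact b.linearIndependent.comp g hg
    let S₀ : Matrix (Fin (2 * t)) (Fin (2 * t)) F₀ := reindex σ σ (fromBlocks 0 0 1 0)
    have hMR : M₀ * R₀ = R₀ * S₀ := by
      refine Matrix.ext fun i z => ?_
      obtain ⟨z, rfl⟩ := σ.surjective z
      show (M₀ *ᵥ fun i => R₀ i (σ z)) i = _
      rw [Matrix.mul_apply, ← σ.sum_comp]
      rcases z with j | j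
      · have h := congrFun (hb ⟨j, ⟨0, by rw [hdd2]; omega⟩⟩) i
        rw [dif_pos (show 0 + 1 < dd j by rw [hdd2]; omega), Matrix.toLin'_apply] at h
        simp only [R₀, Matrix.of_apply, Equiv.symm_apply_apply, Sum.elim_inl]
        rw [h]
        simp [S₀, Fintype.sum_sum_type, Matrix.one_apply]
      · have h := congrFun (hb ⟨j, ⟨1, by rw [hdd2]; omega⟩⟩) i
        rw [dif_neg (show ¬ (1 + 1 < dd j) by rw [hdd2]; omega), Matrix.toLin'_apply] at h
        simp only [R₀, Matrix.of_apply, Equiv.symm_apply_apply, Sum.elim_inr]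
        rw [h]
        simp [S₀, Fintype.sum_sum_type]
    have hS₀ : φ S₀ = S := by
      ext i j
      obtain ⟨i | i, rfl⟩ := σ.surjective i <;> obtain ⟨j | j, rfl⟩ := σ.surjective j <;> simp [φ, S, S₀, Matrix.one_apply, apply_ite]
    set G := T * φ R₀ with hG
    have hGS : S * G = G * S := by
      rw [hG, ← mul_assoc, ← hTm, mul_assoc, ← map_mul, hMR, map_mul, hS₀, mul_assoc]
    let G' := reindex σ.symm σ.symm G
    have hG' : fromBlocks 0 0 1 0 * G' = G' * fromBlocks 0 0 1 0 := by
      have h := congrArg (reindex σ.symm σ.symm) hGS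
      simpa [S, G', reindex_apply, submatrix_submatrix, ← submatrix_mul_equiv _ _ _ σ] using h
    rw [← fromBlocks_toBlocks G', fromBlocks_multiply, fromBlocks_multiply, fromBlocks_inj] at hG'
    obtain ⟨h11, h12, h21, h22⟩ := hG'
    simp at h11 h12 h21 h22
    have hGd : G.det = G'.toBlocks₁₁.det * G'.toBlocks₁₁.det := by
      have h12' : G'.toBlocks₁₂ = 0 := by first | exact h11.symm | exact h11 | exact h22 | exact h22.symm
      have h22' : G'.toBlocks₂₂ = G'.toBlocks₁₁ := by first | exact h21 | exact h21.symm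
      calc G.det = G'.det := (det_reindex_self σ.symm G).symm
        _ = (fromBlocks G'.toBlocks₁₁ G'.toBlocks₁₂ G'.toBlocks₂₁ G'.toBlocks₂₂).det := by rw [fromBlocks_toBlocks]
        _ = _ := by rw [h12', det_fromBlocks_zero₁₂, h22']
    have hdet : G.det = ν⁻¹ * (R₀.det : F) := by
      rw [hG, hT, det_mul, det_mul, show Pm.det = 1 from P.2, mul_one]
      congr 1
      · rw [Matrix.coe_units_inv, det_nonsing_inv, hWd, Ring.inverse_eq_inv']
      · exact (RingHom.map_det F₀.subtype R₀).symm
    have hR0sq := hsq _ R₀.det.2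
    have hne0 : (R₀.det : F) ≠ 0 := fun h => hR₀ (Subtype.ext (by simpa using h))
    have : IsSquare ν⁻¹ := by
      obtain ⟨s, hs⟩ := hR0sq
      refine ⟨G'.toBlocks₁₁.det / s, ?_⟩
      rw [div_mul_div_comm, ← hGd, hdet, ← hs, mul_div_cancel_right₀ _ hne0]
    exact hν (by simpa using this.inv)
  · intro hcond x ⟨z, hz⟩ hns
    rw [Matrix.SpecialLinearGroup.coe_pow] at hz
    obtain ⟨μ, rfl⟩ := hcube z
    have hμ : μ ≠ 0 := by
      intro h
      have hd : ((x : Matrix (Fin n) (Fin n) F) ^ 3).det = 1 := by rw [det_pow, x.2, one_pow]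
      rw [hz, h, zero_pow (by norm_num), zero_smul, @Matrix.det_zero _ _ _ _ _ ⟨⟨0, by omega⟩⟩] at hd
      exact zero_ne_one hd
    set N := μ⁻¹ • (x : Matrix (Fin n) (Fin n) F) - 1 with hN
    haveI : Nonempty (Fin n) := ⟨⟨0, by omega⟩⟩
    have hN3 : N ^ 3 = 0 := by
      rw [hN, sub_pow_char_of_commute 3 (Commute.one_right _), smul_pow, hz, smul_smul, one_pow, inv_pow,
        inv_mul_cancel₀ (pow_ne_zero 3 hμ), one_smul, sub_self]
    obtain ⟨t, dd, b, hdd, hb⟩ := exists_chains (Matrix.toLin' N) ⟨3, by rw [← Matrix.toLin'_pow, hN3, map_zero]⟩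
    have hdd3 : ∀ j, dd j ≤ 3 := by
      intro j
      by_contra h
      push Not at h
      have h0 := hb ⟨j, ⟨0, by omega⟩⟩
      have h1 := hb ⟨j, ⟨1, by omega⟩⟩
      have h2 := hb ⟨j, ⟨2, by omega⟩⟩
      rw [dif_pos (show 0 + 1 < dd j by omega), Matrix.toLin'_apply] at h0
      rw [dif_pos (show 1 + 1 < dd j by omega), Matrix.toLin'_apply] at h1
      rw [dif_pos (show 2 + 1 < dd j by omega), Matrix.toLin'_apply] at h2
      have h12 : N *ᵥ (N *ᵥ (N *ᵥ b ⟨j, ⟨0, by omega⟩⟩)) = b ⟨j, ⟨2 + 1, by omega⟩⟩ := by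
        rw [h0]
        refine (congrArg (N *ᵥ ·) h1).trans ?_
        exact h2
      rw [mulVec_mulVec, mulVec_mulVec, ← pow_two, ← pow_succ, hN3, zero_mulVec] at h12
      exact b.ne_zero _ h12.symm
    have hcardn : Fintype.card ((k : Fin t) × Fin (dd k)) = n := by
      rw [← Module.finrank_eq_card_basis b, Module.finrank_fin_fun]
    let e := Fintype.equivFinOfCardEq hcardn
    let S₀ : Matrix (Fin n) (Fin n) F₀ := Matrix.of fun r s =>
      if h : ((e.symm s).2 : ℕ) + 1 < dd (e.symm s).1 then (if r = e ⟨(e.symm s).1, ⟨_, h⟩⟩ then 1 else 0) else 0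
    let φ : Matrix (Fin n) (Fin n) F₀ →+* Matrix (Fin n) (Fin n) F := F₀.subtype.mapMatrix
    let Q : Matrix (Fin n) (Fin n) F := Matrix.of fun i j => b (e.symm j) i
    have hQu : IsUnit Q := Matrix.linearIndependent_cols_iff_isUnit.1 (b.linearIndependent.comp _ e.symm.injective)
    have hQ : Q.det ≠ 0 := ((Matrix.isUnit_iff_isUnit_det Q).1 hQu).ne_zero
    have hNQ : N * Q = Q * φ S₀ := by
      ext i s
      have h := congrFun (hb (e.symm s)) i
      rw [Matrix.toLin'_apply] at h
      show (N *ᵥ b (e.symm s)) i = _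
      rw [h, Matrix.mul_apply]
      split_ifs with h'
      · simp [φ, S₀, Q, h', apply_ite]
      · simp [φ, S₀, Q, h']
    have hxQ : (x : Matrix (Fin n) (Fin n) F) * Q = Q * (μ • φ (1 + S₀)) := by
      have hx : (x : Matrix (Fin n) (Fin n) F) = μ • (1 + N) := by
        rw [hN, add_sub_cancel, smul_smul, mul_inv_cancel₀ hμ, one_smul]
      rw [hx, smul_mul_assoc, add_mul, one_mul, hNQ, map_add, map_one, mul_smul_comm, mul_add, mul_one]
    obtain ⟨κ, a, ha, hκ⟩ : ∃ (κ : Fin t → F) (a : F₀), a ≠ 0 ∧ (∏ j, κ j ^ dd j) * (a : F) = Q.det⁻¹ := by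
      by_cases hodd : ∃ j, dd j = 1 ∨ dd j = 3
      · obtain ⟨j, hj⟩ := hodd
        obtain ⟨s, hs⟩ : ∃ s : F, s ^ dd j = Q.det⁻¹ := by
          rcases hj with h | h <;> rw [h]
          · exact ⟨_, pow_one _⟩
          · exact hcube _
        refine ⟨fun i => if i = j then s else 1, 1, one_ne_zero, ?_⟩
        simp only [ite_pow, one_pow, Finset.prod_ite_eq', Finset.mem_univ, if_true]
        simpa using hs
      · push Not at hodd
        have hall2 : ∀ j, dd j = 2 := fun j => by
          have := hdd j; have := hdd3 j; have := hodd j; omega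
        have hne : Even n := ⟨t, by rw [← hcardn, Fintype.card_sigma]; simp [hall2]; ring⟩
        have hk2 : 2 < k := by
          rcases hcond with h | h
          · exact absurd hne (Nat.not_even_iff_odd.2 h)
          · exact h.2
        have ht0 : 0 < t := by
          by_contra h
          have : t = 0 := by omega
          subst this
          rw [Fintype.card_sigma] at hcardn
          simp at hcardn
          omega
        have hpick : ∀ s : F, ∃ κ : Fin t → F, ∏ j, κ j ^ dd j = s ^ 2 := fun s =>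
          ⟨fun i => if i = ⟨0, ht0⟩ then s else 1, by simp [ite_pow, hall2]⟩
        by_cases hsq : IsSquare Q.det⁻¹
        · obtain ⟨s, hs⟩ := hsq
          obtain ⟨κ, hκ⟩ := hpick s
          exact ⟨κ, 1, one_ne_zero, by rw [hκ, hs]; simp [pow_two]⟩
        · have hc20 : ringChar F₀ ≠ 2 := by
            haveI : CharP F₀ 3 := charP_of_injective_ringHom (R := F₀) (A := F₀) (RingHom.id F₀).injective 3
            rw [ringChar.eq F₀ 3]; norm_num
          obtain ⟨a, ha⟩ := FiniteField.exists_nonsquare hc20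
          have ha0 : a ≠ 0 := fun h => ha (h ▸ IsSquare.zero)
          have haF : ¬ IsSquare (a : F) := by
            rw [FiniteField.isSquare_iff hc2 (fun h => ha0 (Subtype.ext (by simpa using h))), ← hq]
            have h1 : a ^ (q₀ / 2) = -1 := by
              have := (FiniteField.pow_dichotomy hc20 ha0).resolve_left fun h => ha ((FiniteField.isSquare_iff hc20 ha0).2 h)
              rwa [hq0] at this
            have h2' : q / 2 = q₀ / 2 * ∑ j ∈ Finset.range k, q₀ ^ j := by
              have h := geom_sum_mul_add (q₀ - 1) k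
              rw [Nat.sub_add_cancel (show 1 ≤ q₀ from hq0odd.pos)] at h
              obtain ⟨l, hl⟩ := hq0odd
              rw [hqk, ← h, show q₀ - 1 = l * 2 by omega, show q₀ / 2 = l by omega, ← mul_assoc]
              rw [mul_comm l]
              omega
            have hko : Odd (∑ j ∈ Finset.range k, q₀ ^ j) := by
              rw [← ZMod.natCast_eq_one_iff_odd, Nat.cast_sum]
              simp [ZMod.natCast_eq_one_iff_odd.2 hq0odd, ZMod.natCast_eq_one_iff_odd.2 (hk.odd_of_ne_two (by omega))]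
            rw [h2', pow_mul, ← SubmonoidClass.coe_pow, h1]
            intro h
            rw [show ((-1 : F₀) : F) = -1 by simp, hko.neg_one_pow] at h
            exact h2 (by linear_combination -h)
          obtain ⟨s, hs⟩ : IsSquare (Q.det⁻¹ / (a : F)) := by
            have ha' : (a : F) ≠ 0 := fun h => ha0 (Subtype.ext (by simpa using h))
            rw [FiniteField.isSquare_iff hc2 (div_ne_zero (inv_ne_zero hQ) ha'), div_pow]
            have h1 := (FiniteField.pow_dichotomy hc2 (inv_ne_zero hQ)).resolve_left fun h => hsq ((FiniteField.isSquare_iff hc2 (inv_ne_zero hQ)).2 h)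
            have h3 := (FiniteField.pow_dichotomy hc2 ha').resolve_left fun h => haF ((FiniteField.isSquare_iff hc2 ha').2 h)
            rw [h1, h3, div_self (by simp)]
          obtain ⟨κ, hκ⟩ := hpick s
          refine ⟨κ, a, ha0, ?_⟩
          rw [hκ, pow_two, ← hs, div_mul_cancel₀]
          exact fun h => ha0 (Subtype.ext (by simpa using h))
    let K : Matrix (Fin n) (Fin n) F := diagonal fun i => κ (e.symm i).1
    let i₀ : Fin n := ⟨0, by omega⟩
    let A : GL (Fin n) F₀ := Matrix.GeneralLinearGroup.mkOfDetNeZero (diagonal fun i => if i = i₀ then a else 1) (by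
      rw [det_diagonal]; simp [ha])
    have hKS : K * φ (1 + S₀) = φ (1 + S₀) * K := by
      rw [map_add, map_one, mul_add, add_mul, one_mul, mul_one]
      congr 1
      ext r s
      simp only [K, diagonal_mul, mul_diagonal]
      by_cases h : φ S₀ r s = 0
      · simp [h]
      · have hr : (e.symm r).1 = (e.symm s).1 := by
          by_contra hne
          apply h
          simp only [φ, RingHom.mapMatrix_apply, Matrix.map_apply, S₀, Matrix.of_apply]
          split_ifs with h1 h2
          · exact absurd (by rw [h2]; simp) hne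
          · simp
          · simp
        rw [hr, mul_comm]
    have hKd : K.det = ∏ j, κ j ^ dd j := by
      rw [det_diagonal, ← e.prod_comp]
      simp [Fintype.prod_sigma]
    let P : Matrix (Fin n) (Fin n) F := Q * K * φ (A : Matrix (Fin n) (Fin n) F₀)
    have hPd : P.det = 1 := by
      simp only [P, det_mul, hKd]
      rw [show (φ (A : Matrix (Fin n) (Fin n) F₀)).det = (a : F) from ?_, mul_assoc, hκ, mul_inv_cancel₀ hQ]
      rw [show (φ (A : Matrix (Fin n) (Fin n) F₀)).det = F₀.subtype (A : Matrix (Fin n) (Fin n) F₀).det from (RingHom.map_det F₀.subtype _).symm]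
      show ((diagonal fun i => if i = i₀ then a else 1).det : F₀).1 = _
      rw [det_diagonal]; simp
    have hxP : (x : Matrix (Fin n) (Fin n) F) * P = P * (μ • φ ((((A⁻¹ : GL (Fin n) F₀) : Matrix (Fin n) (Fin n) F₀)) * (1 + S₀) * (A : Matrix (Fin n) (Fin n) F₀))) := by
      simp only [P]
      rw [← mul_assoc, ← mul_assoc, hxQ, mul_assoc Q, smul_mul_assoc, ← hKS, map_mul, map_mul]
      simp only [mul_smul_comm, smul_mul_assoc, mul_assoc]
      have hAA : φ (A : Matrix (Fin n) (Fin n) F₀) * φ ((A⁻¹ : GL (Fin n) F₀) : Matrix (Fin n) (Fin n) F₀) = 1 := by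
        rw [← map_mul φ, Units.mul_inv, map_one]
      rw [← mul_assoc (φ (A : Matrix (Fin n) (Fin n) F₀)), hAA, one_mul]
    let P' : Matrix.SpecialLinearGroup (Fin n) F := ⟨P, hPd⟩
    have hy : ((P'⁻¹ * x * P' : Matrix.SpecialLinearGroup (Fin n) F) : Matrix (Fin n) (Fin n) F) =
        μ • φ ((((A⁻¹ : GL (Fin n) F₀) : Matrix (Fin n) (Fin n) F₀)) * (1 + S₀) * (A : Matrix (Fin n) (Fin n) F₀)) := by
      rw [mul_assoc, Matrix.SpecialLinearGroup.coe_mul, Matrix.SpecialLinearGroup.coe_mul]
      show _ * ((x : Matrix (Fin n) (Fin n) F) * P) = _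
      rw [hxP, ← mul_assoc]
      show ((P'⁻¹ : Matrix.SpecialLinearGroup (Fin n) F) : Matrix (Fin n) (Fin n) F) * (P' : Matrix (Fin n) (Fin n) F) * _ = _
      rw [← Matrix.SpecialLinearGroup.coe_mul, inv_mul_cancel, Matrix.SpecialLinearGroup.coe_one, one_mul]
    set Z := (((A⁻¹ : GL (Fin n) F₀) : Matrix (Fin n) (Fin n) F₀)) * (1 + S₀) * (A : Matrix (Fin n) (Fin n) F₀)
    have hZd : Z.det ≠ 0 := fun h => by
      have h1 := (P'⁻¹ * x * P').2
      rw [hy, det_smul, show (φ Z).det = F₀.subtype Z.det from (RingHom.map_det F₀.subtype Z).symm, h] at h1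
      simp at h1
    exact ⟨P', (hmemH _).2 ⟨Matrix.GeneralLinearGroup.mkOfDetNeZero Z hZd, Units.mk0 μ hμ, hy⟩⟩


end Cfsg.Agent.S5966
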