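import Cfsg.Statements.S5967
import Cfsg.Agent.Lib.ThreeTransp.InvolSympl

set_option autoImplicit false
open scoped MatrixGroups
open Cfsg

namespace Cfsg.Agent.S5967

/-- Involutions of PSL_n(q) and the symplectic-type subgroups. Here `T = PSL_n(F)` for a field `F` with `q` elements, `n ≥ 4` even, `f` is a nondegenerate alternating form on `F^n`, and `H` is the subgroup of matrices of determinant 1 preserving `f` up to a scalar — a maximal subgroup of type Sp_n(q); Ω is the set of `T`-conjugates of `H` (cosets of `H`), so an element of `T` of prime order `r` (a matrix `x` of determinant 1 with `x^r` scalar, `x` not scalar) fixes a point of Ω when some conjugate of `x` by a matrix of determinant 1 preserves `f` up to a scalar. Suppose the index of `H` is even. Then every involution of `T` is conjugate in `T` into `H` if and only if `(q − 1)_2 ≤ (n)_2`. -/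
theorem result {F : Type*} [Field F] [Fintype F] {p : ℕ} [Fact p.Prime] [CharP F p] {q : ℕ} (hq : Fintype.card F = q)
    (n : ℕ) (hn : 4 ≤ n) (he : Even n) (f : (Fin n → F) → (Fin n → F) → F) (hf : Cfsg.Geo.IsSymplecticForm f)
    (hΩ : 2 ∣ ((Cfsg.Geo.similarityGroup f).comap (Matrix.SpecialLinearGroup.toGL : Matrix.SpecialLinearGroup (Fin n) F →* GL (Fin n) F)).index) :
    (∀ x : Matrix.SpecialLinearGroup (Fin n) F,
      (∃ z : F, ((x ^ 2 : Matrix.SpecialLinearGroup (Fin n) F) : Matrix (Fin n) (Fin n) F) = z • (1 : Matrix (Fin n) (Fin n) F)) →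
      (∀ z : F, (x : Matrix (Fin n) (Fin n) F) ≠ z • (1 : Matrix (Fin n) (Fin n) F)) →
      ∃ P : Matrix.SpecialLinearGroup (Fin n) F, P⁻¹ * x * P ∈ ((Cfsg.Geo.similarityGroup f).comap (Matrix.SpecialLinearGroup.toGL : Matrix.SpecialLinearGroup (Fin n) F →* GL (Fin n) F))) ↔
    padicValNat 2 (q - 1) ≤ padicValNat 2 n := by
  open Matrix CfsgLib.ThreeTransp.InvolDecomp CfsgLib.ThreeTransp.InvolSympl in
  classical
  subst hq
  have hq1 : Fintype.card F - 1 ≠ 0 := by have := Fintype.one_lt_card (α := F); omega
  constructor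
  · intro H
    by_contra hlt
    push Not at hlt
    set v := padicValNat 2 n with hv
    obtain ⟨g, hg⟩ := IsCyclic.exists_ofOrder_eq_natCard (α := Fˣ)
    rw [Nat.card_eq_fintype_card, Fintype.card_units] at hg
    have hdiv : 2 ^ (v + 1) ∣ Fintype.card F - 1 := dvd_trans (pow_dvd_pow 2 hlt) pow_padicValNat_dvd
    obtain ⟨μ, hμ⟩ : ∃ μ : Fˣ, orderOf μ = 2 ^ (v + 1) :=
      ⟨g ^ ((Fintype.card F - 1) / 2 ^ (v + 1)), by
        rw [orderOf_pow_of_dvd (Nat.div_ne_zero_iff_of_dvd hdiv |>.2 ⟨hq1, by positivity⟩)
          (hg.symm ▸ Nat.div_dvd_of_dvd hdiv), hg, Nat.div_div_self hdiv hq1]⟩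
    have h2 : (2 : F) ≠ 0 := by
      intro h
      have hc : ringChar F = 2 := CharP.ringChar_of_prime_eq_zero Nat.prime_two (by exact_mod_cast h)
      have := FiniteField.even_card_of_char_two hc
      have : 2 ∣ Fintype.card F - 1 := (dvd_pow_self 2 (Nat.succ_ne_zero v)).trans hdiv
      have := Fintype.one_lt_card (α := F)
      omega
    have hμn : ((μ : F)) ^ n = -1 := by
      obtain ⟨m, hm⟩ := pow_padicValNat_dvd (p := 2) (n := n)
      rw [← hv] at hm
      have hmo : Odd m := by
        rw [← Nat.not_even_iff_odd, even_iff_two_dvd]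
        rintro ⟨k, rfl⟩
        exact pow_succ_padicValNat_not_dvd (p := 2) (n := n) (by omega) ⟨k, by rw [← hv, hm, pow_succ, mul_assoc]⟩
      have hsq : ((μ : F) ^ 2 ^ v) * ((μ : F) ^ 2 ^ v) = 1 := by
        rw [← pow_add, ← two_mul, ← pow_succ', ← hμ, ← Units.val_pow_eq_pow_val, pow_orderOf_eq_one, Units.val_one]
      have hne : (μ : F) ^ 2 ^ v ≠ 1 := fun h => by
        have := Nat.le_of_dvd (by positivity) (orderOf_dvd_of_pow_eq_one (Units.ext (by simpa using h) : μ ^ 2 ^ v = 1))
        rw [hμ, pow_succ] at this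
        have : 0 < 2 ^ v := by positivity
        omega
      rw [hm, pow_mul, (mul_self_eq_one_iff.1 hsq).resolve_left hne, hmo.neg_one_pow]
    let i₀ : Fin n := ⟨0, by omega⟩
    let dg : Fin n → F := fun i => if i = i₀ then -(μ : F) else μ
    let x : Matrix.SpecialLinearGroup (Fin n) F := ⟨diagonal dg, by
      rw [det_diagonal, show dg = fun i => (if i = i₀ then (-1 : F) else 1) * μ by
        funext i; by_cases h : i = i₀ <;> simp [dg, h]]
      rw [Finset.prod_mul_distrib, Finset.prod_ite_eq', Finset.prod_const, Finset.card_univ, Fintype.card_fin, hμn]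
      simp⟩
    obtain ⟨P, hP⟩ := H x ⟨(μ : F) ^ 2, by
      rw [Matrix.SpecialLinearGroup.coe_pow, diagonal_pow, ← diagonal_one, ← diagonal_smul]
      congr 1
      funext i
      by_cases h : i = i₀ <;> simp [dg, h]⟩ (fun z h => by
      have h0 := congrFun (congrFun h i₀) i₀
      have h1 := congrFun (congrFun h ⟨1, by omega⟩) ⟨1, by omega⟩
      simp [x, dg, i₀, Fin.ext_iff] at h0 h1
      exact h2 ((mul_eq_zero.1 (show (2 : F) * μ = 0 by linear_combination h1 - h0)).resolve_right μ.ne_zero))
    obtain ⟨cU, hc⟩ := hP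
    let w : Fin n → (Fin n → F) := fun j => ((P⁻¹ : Matrix.SpecialLinearGroup (Fin n) F) : Matrix (Fin n) (Fin n) F) *ᵥ Pi.single j 1
    have hyw : ∀ j, ((P⁻¹ * x * P : Matrix.SpecialLinearGroup (Fin n) F) : Matrix (Fin n) (Fin n) F) *ᵥ w j = dg j • w j := fun j => by
      have hx : (x : Matrix (Fin n) (Fin n) F) *ᵥ Pi.single j 1 = dg j • Pi.single j 1 := by
        funext i
        rcases eq_or_ne i j with rfl | h <;> simp [x, mulVec_diagonal, *]
      simp only [w, mulVec_mulVec, ← Matrix.SpecialLinearGroup.coe_mul]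
      rw [mul_assoc _ P, mul_inv_cancel, mul_one, Matrix.SpecialLinearGroup.coe_mul, ← mulVec_mulVec, hx, mulVec_smul]
    have hform : ∀ j k, dg j * dg k * f (w j) (w k) = (cU : F) * f (w j) (w k) := fun j k => by
      have := hc (w j) (w k)
      change f (((P⁻¹ * x * P : Matrix.SpecialLinearGroup (Fin n) F) : Matrix (Fin n) (Fin n) F) *ᵥ w j)
        (((P⁻¹ * x * P : Matrix.SpecialLinearGroup (Fin n) F) : Matrix (Fin n) (Fin n) F) *ᵥ w k) = _ at this
      rw [hyw, hyw, hf.bilinear.smul_left, hf.bilinear.smul_right, ← mul_assoc] at this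
      exact this
    let B : LinearMap.BilinForm F (Fin n → F) := LinearMap.mk₂ F f hf.bilinear.add_left hf.bilinear.smul_left
      hf.bilinear.add_right hf.bilinear.smul_right
    have hspan : ∀ u, (∀ k, f u (w k) = 0) → u = 0 := fun u h => by
      by_contra hu
      obtain ⟨v, hv⟩ := (hf.nondegenerate u hu).2
      apply hv
      have hv' : v = ((P⁻¹ : Matrix.SpecialLinearGroup (Fin n) F) : Matrix (Fin n) (Fin n) F) *ᵥ
          ((P : Matrix (Fin n) (Fin n) F) *ᵥ v) := by
        rw [mulVec_mulVec, ← Matrix.SpecialLinearGroup.coe_mul, inv_mul_cancel, Matrix.SpecialLinearGroup.coe_one, one_mulVec]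
      rw [hv', pi_eq_sum_univ' ((P : Matrix (Fin n) (Fin n) F) *ᵥ v), mulVec_sum]
      show B u _ = 0
      rw [map_sum]
      exact Finset.sum_eq_zero fun k _ => by rw [mulVec_smul, map_smul]; show _ • f u (w k) = 0; rw [h k, smul_zero]
    have hw0 : ∀ j, w j ≠ 0 := fun j h => by
      have := congrArg (fun u => (P : Matrix (Fin n) (Fin n) F) *ᵥ u) h
      simp only [w, mulVec_mulVec, ← Matrix.SpecialLinearGroup.coe_mul, mul_inv_cancel, Matrix.SpecialLinearGroup.coe_one,
        one_mulVec, mulVec_zero] at this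
      simpa using congrFun this j
    obtain ⟨j₁, hj₁, hne⟩ : ∃ j, j ≠ i₀ ∧ f (w i₀) (w j) ≠ 0 := by
      by_contra h
      push Not at h
      refine hw0 i₀ (hspan _ fun k => ?_)
      by_cases hk : k = i₀
      · rw [hk]; exact hf.alternating _
      · exact h k hk
    have hcU : (cU : F) = -((μ : F) * μ) := by
      have := mul_right_cancel₀ hne (hform i₀ j₁)
      simp [dg, hj₁] at this
      linear_combination -this
    have horth : ∀ j k, j ≠ i₀ → k ≠ i₀ → f (w j) (w k) = 0 := fun j k hj hk => by
      have := hform j k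
      simp [dg, hj, hk, hcU] at this
      exact (mul_eq_zero.1 (show ((μ : F) * μ * 2) * f (w j) (w k) = 0 by linear_combination this)).resolve_left
        (mul_ne_zero (mul_ne_zero μ.ne_zero μ.ne_zero) h2)
    obtain ⟨j₂, hj₂, hj₂'⟩ : ∃ j : Fin n, j ≠ i₀ ∧ j ≠ j₁ := by
      by_cases h : j₁ = ⟨1, by omega⟩
      · exact ⟨⟨2, by omega⟩, by simp [i₀], by simp [h]⟩
      · exact ⟨⟨1, by omega⟩, by simp [i₀], Ne.symm h⟩
    have hu : f (w i₀) (w j₂) • w j₁ - f (w i₀) (w j₁) • w j₂ = 0 := hspan _ fun k => by
      show B (f (w i₀) (w j₂) • w j₁ - f (w i₀) (w j₁) • w j₂) (w k) = 0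
      rw [map_sub, map_smul, map_smul, LinearMap.sub_apply, LinearMap.smul_apply, LinearMap.smul_apply]
      show f (w i₀) (w j₂) • f (w j₁) (w k) - f (w i₀) (w j₁) • f (w j₂) (w k) = 0
      by_cases hk : k = i₀
      · rw [hk, hf.skew (w j₁) (w i₀), hf.skew (w j₂) (w i₀)]
        simp only [smul_eq_mul]; ring
      · simp [horth _ _ hj₁ hk, horth _ _ hj₂ hk]
    have := congrArg (fun u => (P : Matrix (Fin n) (Fin n) F) *ᵥ u) hu
    simp only [w, mulVec_sub, mulVec_smul, mulVec_mulVec, ← Matrix.SpecialLinearGroup.coe_mul, mul_inv_cancel,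
      Matrix.SpecialLinearGroup.coe_one, one_mulVec, mulVec_zero] at this
    have := congrFun this j₂
    simp only [Pi.sub_apply, Pi.smul_apply, Pi.single_eq_of_ne hj₂', Pi.single_eq_same, smul_eq_mul, mul_zero,
      mul_one, zero_sub, neg_eq_zero, Pi.zero_apply] at this
    exact hne this
  · intro hle x ⟨z, hz⟩ hns
    rw [Matrix.SpecialLinearGroup.coe_pow, pow_two] at hz
    obtain ⟨d, rfl⟩ := even_iff_two_dvd.1 he
    have hz0 : z ≠ 0 := by
      intro h
      have hd : ((x : Matrix (Fin (2 * d)) (Fin (2 * d)) F) * x).det = 1 := by rw [Matrix.det_mul, x.2, one_mul]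
      rw [hz, h, zero_smul, @Matrix.det_zero _ _ _ _ _ ⟨⟨0, by omega⟩⟩] at hd
      exact zero_ne_one hd
    set Φ := Matrix.toLin' (x : Matrix (Fin (2 * d)) (Fin (2 * d)) F) with hΦ
    have hff : ∀ v, Φ (Φ v) = z • v := by
      intro v
      rw [hΦ, ← Matrix.toLin'_mul_apply, hz, map_smul, Matrix.toLin'_one]
      rfl
    -- a basis in which the operator is monomial, with the fixed points in pairs
    suffices key : ∃ (b : Fin (2 * d) → Fin (2 * d) → F) (π : Fin (2 * d) → Fin (2 * d)) (c : Fin (2 * d) → F),
        Function.Involutive π ∧ LinearIndependent F b ∧ (∀ i, Φ (b i) = c i • b (π i)) ∧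
        (∀ a : F, Even (Finset.univ.filter fun i => π i = i ∧ c i = a).card) ∧
        ((2 : F) = 0 ∨ (∀ i, π i = i) ∨ ∀ i, π i ≠ i) by
      obtain ⟨b, π, c, hπ, hb, hbc, hev, hkind⟩ := key
      have hcz : ∀ i, c i * c (π i) = z := fun i => by
        have h := hff (b i)
        rw [hbc i, map_smul, hbc, hπ i, smul_smul] at h
        exact smul_left_injective F (hb.ne_zero i) h
      let Qm : Matrix (Fin (2 * d)) (Fin (2 * d)) F := Matrix.of fun i j => b j i
      have hQu : IsUnit Qm := Matrix.linearIndependent_cols_iff_isUnit.1 hb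
      obtain ⟨τ, hτ⟩ := exists_pairs π hπ c Finset.univ (fun _ _ => Finset.mem_univ _) hev
      have hτ' := fun i => (hτ i (Finset.mem_univ i)).2
      obtain ⟨e, he'⟩ := exists_equiv_two τ (fun i => (hτ' i).1) (fun i => (hτ' i).2.1) (d := d) (by simp)
      let M : Fin d → Matrix (Fin 2) (Fin 2) F := fun i => if π (e (0, i)) = e (0, i) then c (e (0, i)) • (1 : Matrix (Fin 2) (Fin 2) F)
        else !![0, c (e (1, i)); c (e (0, i)), 0]
      let lam : F := if ∀ i, π i = i then z else -z
      have hM : ∀ i, (M i).det = lam := fun i => by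
        by_cases h : π (e (0, i)) = e (0, i)
        · have h1 : c (e (0, i)) ^ 2 = z := by
            have := hcz (e (0, i)); rw [h] at this; rw [pow_two, this]
          have h2 : lam = z := by
            simp only [lam]
            split_ifs with hall
            · rfl
            · rcases hkind with h2 | h2 | h2
              · linear_combination -z * h2
              · exact absurd h2 hall
              · exact absurd h (h2 _)
          simp [M, h, Matrix.det_smul, h1, h2]
        · have h1 : e (1, i) = π (e (0, i)) := (he' i).trans ((hτ' _).2.2.1 h)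
          have h2 : lam = -z := if_neg fun hall => h (hall _)
          simp [M, h, Matrix.det_fin_two, h1, h2, mul_comm, hcz]
      have hM2 : ∀ i, (M i).trace = 0 ∨ ∃ a : F, M i = a • (1 : Matrix (Fin 2) (Fin 2) F) := fun i => by
        by_cases h : π (e (0, i)) = e (0, i)
        · exact Or.inr ⟨c (e (0, i)), by simp [M, h]⟩
        · exact Or.inl (by simp [M, h, Matrix.trace_fin_two])
      have hlam : lam ≠ 0 := by simp only [lam]; split_ifs <;> simp [hz0]
      have hcol : ∀ j k, Matrix.reindex e e (blockDiagonal M) k j = if k = π j then c j else 0 := by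
        intro j k
        obtain ⟨⟨a, i⟩, rfl⟩ := e.surjective j
        obtain ⟨⟨a', i'⟩, rfl⟩ := e.surjective k
        have h1 := he' i
        obtain ⟨-, -, hsw, hfx⟩ := hτ' (e (0, i))
        have hπe : π (e (a, i)) = e (if π (e (0, i)) = e (0, i) then (a, i) else (Equiv.swap 0 1 a, i)) := by
          by_cases h : π (e (0, i)) = e (0, i)
          · rw [if_pos h]
            fin_cases a
            · exact h
            · exact h1 ▸ (hfx h).1
          · rw [if_neg h]
            have h2 : e (1, i) = π (e (0, i)) := h1.trans (hsw h)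
            fin_cases a
            · simpa using h2.symm
            · simpa using (by rw [h2, hπ] : π (e (1, i)) = e (0, i))
        simp only [hπe, EmbeddingLike.apply_eq_iff_eq]
        simp only [reindex_apply, submatrix_apply, Equiv.symm_apply_apply, blockDiagonal_apply]
        by_cases hi : i' = i
        · subst hi
          by_cases h : π (e (0, i')) = e (0, i')
          · have h2 : c (e (1, i')) = c (e (0, i')) := h1 ▸ (hfx h).2
            fin_cases a <;> fin_cases a' <;> simp [M, h, h2]
          · fin_cases a <;> fin_cases a' <;> simp [M, h]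
        · split_ifs <;> simp_all
      obtain ⟨P, hPd, hP⟩ := exists_conj (by omega) e f hf M hlam hM hM2 (x : Matrix (Fin (2 * d)) (Fin (2 * d)) F) hQu.unit (by
        show (x : Matrix (Fin (2 * d)) (Fin (2 * d)) F) * Qm = Qm * _
        ext r s
        have h := congrFun (hbc s) r
        rw [hΦ, Matrix.toLin'_apply, Pi.smul_apply, smul_eq_mul] at h
        rw [Matrix.mul_apply, Matrix.mul_apply]
        simp only [hcol, mul_ite, mul_zero, Finset.sum_ite_eq', Finset.mem_univ, if_true]
        simpa [Qm, Matrix.mulVec, dotProduct, mul_comm] using h)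
      let P' : Matrix.SpecialLinearGroup (Fin (2 * d)) F := ⟨P, hPd⟩
      refine ⟨P', Units.mk0 lam hlam, fun u v => ?_⟩
      have hinv : ((P'⁻¹ : Matrix.SpecialLinearGroup (Fin (2 * d)) F) : Matrix (Fin (2 * d)) (Fin (2 * d)) F) =
          ((P⁻¹ : GL (Fin (2 * d)) F) : Matrix (Fin (2 * d)) (Fin (2 * d)) F) := by
        rw [Matrix.coe_units_inv, Matrix.inv_def, hPd, Ring.inverse_one, one_smul, Matrix.SpecialLinearGroup.coe_inv]
      show f (((P'⁻¹ * x * P' : Matrix.SpecialLinearGroup (Fin (2 * d)) F) : Matrix (Fin (2 * d)) (Fin (2 * d)) F) *ᵥ u)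
        (((P'⁻¹ * x * P' : Matrix.SpecialLinearGroup (Fin (2 * d)) F) : Matrix (Fin (2 * d)) (Fin (2 * d)) F) *ᵥ v) = lam * f u v
      rw [Matrix.SpecialLinearGroup.coe_mul, Matrix.SpecialLinearGroup.coe_mul, hinv,
        ← mulVec_mulVec, ← mulVec_mulVec, ← mulVec_mulVec, ← mulVec_mulVec]
      exact hP u v
    have heven2 : ∀ (π : Fin (2 * d) → Fin (2 * d)), Function.Involutive π →
        Even (Finset.univ.filter fun i => π i = i).card := fun π hπ => by
      have h0 : ((Finset.univ.filter fun i => ¬ π i = i).card : ZMod 2) = 0 := by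
        rw [Finset.cast_card]
        refine Finset.sum_involution (fun i _ => π i) (fun _ _ => by decide) (fun i hi _ => ?_) (fun i hi => ?_) (fun i _ => hπ i)
        · simpa using hi
        · simpa [hπ i, eq_comm] using hi
      have h1 := Finset.card_filter_add_card_filter_not (s := Finset.univ) (p := fun i => π i = i)
      rw [Finset.card_univ, Fintype.card_fin] at h1
      rw [ZMod.natCast_eq_zero_iff_even] at h0
      obtain ⟨k, hk⟩ := h0
      exact ⟨d - k, by omega⟩
    by_cases h : IsSquare z ∧ (2 : F) ≠ 0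
    · obtain ⟨⟨μ, rfl⟩, h2⟩ := h
      have hμ : μ ≠ 0 := fun h => hz0 (by rw [h, mul_zero])
      let Kp := LinearMap.ker (Φ - μ • LinearMap.id)
      let Km := LinearMap.ker (Φ + μ • LinearMap.id)
      have mKp : ∀ v, v ∈ Kp ↔ Φ v = μ • v := fun v => by simp [Kp, sub_eq_zero]
      have mKm : ∀ v, v ∈ Km ↔ Φ v = -μ • v := fun v => by simp [Km, add_eq_zero_iff_eq_neg]
      have hcompl : IsCompl Kp Km := by
        constructor
        · rw [Submodule.disjoint_def]
          intro v hv hv'
          rw [mKp] at hv; rw [mKm, hv, neg_smul, eq_neg_iff_add_eq_zero, ← two_smul F, smul_smul] at hv'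
          exact (smul_eq_zero.1 hv').resolve_left (mul_ne_zero h2 hμ)
        · rw [codisjoint_iff, eq_top_iff]
          intro v _
          have hh : (2 * μ)⁻¹ * μ + (2 * μ)⁻¹ * μ = 1 := by field_simp; ring
          refine Submodule.mem_sup.2 ⟨(2 * μ)⁻¹ • (μ • v + Φ v), ?_, (2 * μ)⁻¹ • (μ • v - Φ v), ?_, ?_⟩
          · rw [mKp, map_smul, map_add, map_smul, hff]; module
          · rw [mKm, map_smul, map_sub, map_smul, hff]; module
          · calc _ = ((2 * μ)⁻¹ * μ + (2 * μ)⁻¹ * μ) • v := by module
              _ = v := by rw [hh, one_smul]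
      let Bp := Module.finBasis F Kp
      let Bm := Module.finBasis F Km
      let BB := (Bp.prod Bm).map (Submodule.prodEquivOfIsCompl Kp Km hcompl)
      have hsum : Module.finrank F Kp + Module.finrank F Km = 2 * d := by
        rw [Submodule.finrank_add_eq_of_isCompl hcompl, Module.finrank_fin_fun]
      let ee : Fin (2 * d) ≃ Fin (Module.finrank F Kp) ⊕ Fin (Module.finrank F Km) :=
        (finCongr hsum.symm).trans finSumFinEquiv.symm
      let b : Fin (2 * d) → Fin (2 * d) → F := fun i => BB (ee i)
      let c : Fin (2 * d) → F := fun i => Sum.elim (fun _ => μ) (fun _ => -μ) (ee i)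
      have hbc : ∀ i, Φ (b i) = c i • b i := fun i => by
        simp only [b, c]
        rcases ee i with j | j
        · simpa [BB, Module.Basis.prod_apply] using (mKp _).1 (Bp j).2
        · simpa [BB, Module.Basis.prod_apply] using (mKm _).1 (Bm j).2
      have hb : LinearIndependent F b := BB.linearIndependent.comp ee ee.injective
      have hdet : ∏ i, c i = 1 := by
        have := LinearMap.det_toMatrix (BB.reindex ee.symm) Φ
        rw [show LinearMap.toMatrix (BB.reindex ee.symm) (BB.reindex ee.symm) Φ = diagonal c from ?_,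
          det_diagonal, hΦ, LinearMap.det_toLin', x.2] at this
        · exact this
        · ext i j
          rw [LinearMap.toMatrix_apply, Module.Basis.reindex_apply, Equiv.symm_symm,
            show Φ (BB (ee j)) = c j • BB (ee j) from hbc j, map_smul, Finsupp.smul_apply,
            show BB (ee j) = (BB.reindex ee.symm) j by simp, Module.Basis.repr_self]
          rcases eq_or_ne i j with rfl | h <;> simp [*]
      have hprod : ∏ i, c i = μ ^ (2 * d) * (-1) ^ (Module.finrank F Km) := by
        rw [← ee.symm.prod_comp, Fintype.prod_sum_type]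
        simp [c, neg_pow μ]
        rw [show μ ^ (2 * d) = μ ^ Module.finrank F Kp * μ ^ Module.finrank F Km by rw [← pow_add, hsum]]; ring
      have hμn : μ ^ (2 * d) ≠ -1 := by
        intro h
        set k := (Fintype.card F - 1) / 2 ^ padicValNat 2 (Fintype.card F - 1) with hk
        have hkm : 2 ^ padicValNat 2 (Fintype.card F - 1) * k = Fintype.card F - 1 := Nat.mul_div_cancel' pow_padicValNat_dvd
        have hko : Odd k := by
          rw [← Nat.not_even_iff_odd, even_iff_two_dvd]
          rintro ⟨l, hl⟩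
          exact pow_succ_padicValNat_not_dvd (p := 2) hq1 ⟨l, by rw [pow_succ, mul_assoc, ← hl, hkm]⟩
        obtain ⟨l, hl⟩ := (pow_dvd_pow 2 hle).trans (pow_padicValNat_dvd (p := 2) (n := 2 * d))
        have h1 : μ ^ (2 * d * k) = -1 := by rw [pow_mul, h, hko.neg_one_pow]
        rw [show 2 * d * k = (Fintype.card F - 1) * l by rw [hl, mul_right_comm, hkm], pow_mul,
          FiniteField.pow_card_sub_one_eq_one μ hμ, one_pow] at h1
        exact h2 (by linear_combination h1)
      have hkm : Even (Module.finrank F Km) := by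
        rw [hdet] at hprod
        rcases Nat.even_or_odd (Module.finrank F Km) with h | h
        · exact h
        · rw [h.neg_one_pow] at hprod
          exact absurd (by linear_combination hprod) hμn
      refine ⟨b, id, c, fun _ => rfl, hb, hbc, fun a => ?_, Or.inr (Or.inl fun _ => rfl)⟩
      rw [show (Finset.univ.filter fun i => id i = i ∧ c i = a).card =
          Fintype.card {s : Fin (Module.finrank F Kp) ⊕ Fin (Module.finrank F Km) // Sum.elim (fun _ => μ) (fun _ => -μ) s = a} from ?_]
      · rw [Fintype.card_congr (Equiv.subtypeSum), Fintype.card_sum]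
        rw [← Nat.card_eq_fintype_card, ← Nat.card_eq_fintype_card]
        simp only [Sum.elim_inl, Sum.elim_inr]
        have hkp : Even (Module.finrank F Kp) := by
          obtain ⟨k, hk⟩ := hkm; exact ⟨d - k, by omega⟩
        refine Even.add ?_ ?_
        · by_cases h1 : μ = a
          · rw [Nat.card_congr (Equiv.subtypeUnivEquiv fun _ => h1), Nat.card_fin]; exact hkp
          · simp [h1]
        · by_cases h1 : -μ = a
          · rw [Nat.card_congr (Equiv.subtypeUnivEquiv fun _ => h1), Nat.card_fin]; exact hkm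
          · simp [h1]
      · rw [← Fintype.card_subtype]
        exact Fintype.card_congr (ee.subtypeEquiv fun i => by simp [c])
    · obtain ⟨b, π, c, hπ, hb, -, hbc⟩ := exists_monomial Φ z hz0 hff (2 * d) ⊤ (fun _ _ => Submodule.mem_top)
        (by rw [finrank_top, Module.finrank_fin_fun])
      have hsq : ∀ i, π i = i → c i * c i = z := fun i hi => by
        have h := hff (b i)
        rw [(hbc i).2, map_smul, hi, (hbc i).2, hi, smul_smul] at h
        exact smul_left_injective F (hb.ne_zero i) h
      by_cases h2 : (2 : F) = 0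
      · refine ⟨b, π, c, hπ, hb, fun i => (hbc i).2, fun a => ?_, Or.inl h2⟩
        by_cases ha : ∃ i, π i = i ∧ c i = a
        · obtain ⟨j, hj, rfl⟩ := ha
          have huniq : ∀ i, π i = i → c i = c j := fun i hi => by
            have h1 : (c i - c j) * (c i + c j) = 0 := by linear_combination hsq i hi - hsq j hj
            rcases mul_eq_zero.1 h1 with h | h
            · exact sub_eq_zero.1 h
            · linear_combination h - c j * h2
          convert heven2 π hπ using 2
          exact Finset.filter_congr fun i _ => ⟨fun h => h.1, fun h => ⟨h, huniq i h⟩⟩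
        · push Not at ha
          rw [Finset.filter_eq_empty_iff.2 fun i _ hi => ha i hi.1 hi.2]
          simp
      · have hnf : ∀ i, π i ≠ i := fun i hi => h ⟨⟨c i, (hsq i hi).symm⟩, h2⟩
        refine ⟨b, π, c, hπ, hb, fun i => (hbc i).2, fun a => ?_, Or.inr (Or.inr hnf)⟩
        rw [Finset.filter_eq_empty_iff.2 fun i _ hi => hnf i hi.1]
        simp


end Cfsg.Agent.S5967
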