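import Cfsg.Statements.S5968
import Cfsg.Agent.Lib.ThreeTransp.AltDerange
import Cfsg.Agent.Lib.KnownB.RestrictScalars
import Cfsg.Agent.Lib.Classical.SympOrder
import Cfsg.Agent.Lib.Classical.Order

set_option autoImplicit false
open scoped MatrixGroups
open Cfsg

namespace Cfsg.Agent.S5968

/-- Derangements of odd prime order of PSL_n(q) on the cosets of a symplectic-type subgroup. Here `T = PSL_n(F)` for a field `F` with `q` elements, `n ≥ 4` even, `f` is a nondegenerate alternating form on `F^n`, and `H` is the subgroup of matrices of determinant 1 preserving `f` up to a scalar — a maximal subgroup of type Sp_n(q); Ω is the set of `T`-conjugates of `H` (cosets of `H`), so an element of `T` of prime order `r` (a matrix `x` of determinant 1 with `x^r` scalar, `x` not scalar) fixes a point of Ω when some conjugate of `x` by a matrix of determinant 1 preserves `f` up to a scalar. For every odd prime `r` dividing the index of `H`, with `(n, r) ≠ (6, 3)`, there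 is an element of `T` of order `r` with no conjugate in `H`. (For `n = 6`, `r = 3` this can fail: when `(q − 1)_3 = 3` every element of order 3 is conjugate into `H`.) -/
theorem result {F : Type*} [Field F] [Fintype F] {p : ℕ} [Fact p.Prime] [CharP F p] {q : ℕ} (hq : Fintype.card F = q)
    (n : ℕ) (hn : 4 ≤ n) (he : Even n) (f : (Fin n → F) → (Fin n → F) → F) (hf : Cfsg.Geo.IsSymplecticForm f)
    (r : ℕ) [Fact r.Prime] (hr2 : r ≠ 2) (hgap : ¬ (n = 6 ∧ r = 3)) (hΩ : r ∣ ((Cfsg.Geo.similarityGroup f).comap (Matrix.SpecialLinearGroup.toGL : Matrix.SpecialLinearGroup (Fin n) F →* GL (Fin n) F)).index) :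
    ∃ x : Matrix.SpecialLinearGroup (Fin n) F,
      (∃ z : F, ((x ^ r : Matrix.SpecialLinearGroup (Fin n) F) : Matrix (Fin n) (Fin n) F) = z • (1 : Matrix (Fin n) (Fin n) F)) ∧
      (∀ z : F, (x : Matrix (Fin n) (Fin n) F) ≠ z • (1 : Matrix (Fin n) (Fin n) F)) ∧
      ∀ P : Matrix.SpecialLinearGroup (Fin n) F, P⁻¹ * x * P ∉ ((Cfsg.Geo.similarityGroup f).comap (Matrix.SpecialLinearGroup.toGL : Matrix.SpecialLinearGroup (Fin n) F →* GL (Fin n) F)) := by
  open Matrix CfsgLib.ThreeTransp.AltDerange in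
  classical
  subst hq
  set q := Fintype.card F with hq
  have hrp : r.Prime := Fact.out
  have hr3 : 3 ≤ r := by have := hrp.two_le; omega
  obtain ⟨d, rfl⟩ := even_iff_two_dvd.1 he
  -- it suffices to find an element which is a similarity of no alternating form
  suffices key : ∃ X : Matrix (Fin (2 * d)) (Fin (2 * d)) F, X.det = 1 ∧ X ^ r = 1 ∧ (∀ z : F, X ≠ z • 1) ∧ NoAlt X by
    obtain ⟨X, hXd, hXr, hXs, hX⟩ := key
    let X' : Matrix.SpecialLinearGroup (Fin (2 * d)) F := ⟨X, hXd⟩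
    refine ⟨X', ⟨1, by rw [Matrix.SpecialLinearGroup.coe_pow, one_smul]; exact hXr⟩, hXs, fun P hP => ?_⟩
    obtain ⟨c, hc⟩ := hP
    let Pi' := ((P⁻¹ : Matrix.SpecialLinearGroup (Fin (2 * d)) F) : Matrix (Fin (2 * d)) (Fin (2 * d)) F)
    let Pm := (P : Matrix (Fin (2 * d)) (Fin (2 * d)) F)
    have hPP' : Pm * Pi' = 1 := by
      simp only [Pi', Pm]
      rw [← Matrix.SpecialLinearGroup.coe_mul, mul_inv_cancel, Matrix.SpecialLinearGroup.coe_one]
    let B : LinearMap.BilinForm F (Fin (2 * d) → F) := LinearMap.mk₂ F (fun u v => f (Pi' *ᵥ u) (Pi' *ᵥ v))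
      (fun a b v => by simp [Matrix.mulVec_add, hf.bilinear.add_left])
      (fun a u v => by simp [Matrix.mulVec_smul, hf.bilinear.smul_left])
      (fun u a b => by simp [Matrix.mulVec_add, hf.bilinear.add_right])
      (fun a u v => by simp [Matrix.mulVec_smul, hf.bilinear.smul_right])
    refine hX B (fun u => hf.alternating _) (fun u h => ?_) (c : F) fun u v => ?_
    · by_contra hu
      have hu' : Pi' *ᵥ u ≠ 0 := fun h0 => hu (by
        rw [← one_mulVec u, ← hPP', ← mulVec_mulVec, h0, mulVec_zero])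
      obtain ⟨v, hv⟩ := (hf.nondegenerate _ hu').2
      refine hv ?_
      have h' := h (Pm *ᵥ v)
      have hv' : Pi' *ᵥ (Pm *ᵥ v) = v := by
        rw [mulVec_mulVec, show Pi' * Pm = 1 from mul_eq_one_comm.1 hPP', one_mulVec]
      simpa [B, hv'] using h'
    · have h := hc (Pi' *ᵥ u) (Pi' *ᵥ v)
      have hy : ∀ w, ((Matrix.SpecialLinearGroup.toGL (P⁻¹ * X' * P) : GL (Fin (2 * d)) F) : Matrix (Fin (2 * d)) (Fin (2 * d)) F) *ᵥ (Pi' *ᵥ w) = Pi' *ᵥ (X *ᵥ w) := fun w => by
        show (Pi' * X * Pm) *ᵥ _ = _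
        rw [mulVec_mulVec, mulVec_mulVec, mul_assoc (Pi' * X), hPP', mul_one]
      rw [hy, hy] at h
      exact h
  -- the characteristic
  by_cases hpr : r = p
  · subst hpr
    exact unipotent hn hr3
  have hrF : (r : F) ≠ 0 := fun h => hpr ((Nat.prime_dvd_prime_iff_eq Fact.out hrp).1 ((CharP.cast_eq_zero_iff F p r).1 h)).symm
  -- the index
  let B₂ : LinearMap.BilinForm F (Fin (2 * d) → F) := LinearMap.mk₂ F f hf.bilinear.add_left hf.bilinear.smul_left
    hf.bilinear.add_right hf.bilinear.smul_right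
  obtain ⟨E, hE⟩ := CfsgLib.KnownB.RestrictScalars.alt_coords B₂ (fun u => hf.alternating u) (fun u h => by
    by_contra hu
    obtain ⟨v, hv⟩ := (hf.nondegenerate u hu).2
    exact hv (h v)) (m := d) (by rw [Module.finrank_fin_fun])
  let ψm : Matrix.symplecticGroup (Fin d) F →* Matrix (Fin (2 * d)) (Fin (2 * d)) F :=
    { toFun := fun A => LinearMap.toMatrix' (E.toLinearMap ∘ₗ Matrix.toLin' (A : Matrix (Fin d ⊕ Fin d) (Fin d ⊕ Fin d) F) ∘ₗ E.symm.toLinearMap)
      map_one' := by simp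
      map_mul' := fun A B => by
        rw [← LinearMap.toMatrix'_mul]
        congr 1
        refine LinearMap.ext fun v => ?_
        simp [Matrix.toLin'_mul] }
  let ψ := ψm.toHomUnits
  have hψv : ∀ A v, (ψ A : Matrix (Fin (2 * d)) (Fin (2 * d)) F) *ᵥ v = E ((A : Matrix (Fin d ⊕ Fin d) (Fin d ⊕ Fin d) F) *ᵥ E.symm v) :=
    fun A v => LinearMap.toMatrix'_mulVec _ _
  have hψd : ∀ A, (ψ A : Matrix (Fin (2 * d)) (Fin (2 * d)) F).det = (A : Matrix (Fin d ⊕ Fin d) (Fin d ⊕ Fin d) F).det := fun A => by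
    show (LinearMap.toMatrix' _).det = _
    rw [LinearMap.det_toMatrix', LinearMap.det_conj, LinearMap.det_toLin']
  let δ := (Matrix.GeneralLinearGroup.det : GL (Fin (2 * d)) F →* Fˣ).comp ψ
  have hsq : ∀ u ∈ δ.range, u ^ 2 = 1 := by
    rintro _ ⟨A, rfl⟩
    refine Units.ext ?_
    have h := congrArg Matrix.det (SymplecticGroup.mem_iff.1 A.2)
    rw [Matrix.det_mul, Matrix.det_mul, Matrix.det_transpose] at h
    have hJ : (Matrix.J (Fin d) F).det ≠ 0 := (Matrix.isUnit_det_J (Fin d) F).ne_zero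
    show ((ψ A : Matrix (Fin (2 * d)) (Fin (2 * d)) F).det) ^ 2 = 1
    rw [hψd]
    exact mul_right_cancel₀ hJ (by linear_combination h)
  have hrange : Nat.card δ.range ∣ 2 := by
    rw [← IsCyclic.exponent_eq_card]
    exact Monoid.exponent_dvd_of_forall_pow_eq_one fun u => Subtype.ext (hsq u u.2)
  set H := (Cfsg.Geo.similarityGroup f).comap
    (Matrix.SpecialLinearGroup.toGL : Matrix.SpecialLinearGroup (Fin (2 * d)) F →* GL (Fin (2 * d)) F) with hH
  have hdet1 : ∀ A : δ.ker, (ψ A : Matrix (Fin (2 * d)) (Fin (2 * d)) F).det = 1 := fun A => congrArg Units.val A.2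
  let φ : δ.ker →* H :=
    { toFun := fun A => ⟨⟨(ψ A : Matrix (Fin (2 * d)) (Fin (2 * d)) F), hdet1 A⟩, by
        refine ⟨1, fun u v => ?_⟩
        show f ((ψ A : Matrix (Fin (2 * d)) (Fin (2 * d)) F) *ᵥ u) ((ψ A : Matrix (Fin (2 * d)) (Fin (2 * d)) F) *ᵥ v) = _
        rw [hψv, hψv, Units.val_one, one_mul]
        show B₂ _ _ = B₂ u v
        rw [hE]
        conv_rhs => rw [← E.apply_symm_apply u, ← E.apply_symm_apply v, hE]
        exact (CfsgLib.Geometry.mem_sp_iff d F _).1 A.1.2 _ _⟩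
      map_one' := Subtype.ext (Subtype.ext (by simp))
      map_mul' := fun A B => Subtype.ext (Subtype.ext (by show ((ψ (A.1 * B.1) : GL (Fin (2 * d)) F) : Matrix (Fin (2 * d)) (Fin (2 * d)) F) = (ψ A.1 : Matrix (Fin (2 * d)) (Fin (2 * d)) F) * ψ B.1; rw [map_mul, Units.val_mul])) }
  have hφ : Function.Injective φ := fun A B h => by
    have h1 : (ψ A : Matrix (Fin (2 * d)) (Fin (2 * d)) F) = ψ B := congrArg (fun X : H => ((X : Matrix.SpecialLinearGroup (Fin (2 * d)) F) : Matrix (Fin (2 * d)) (Fin (2 * d)) F)) h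
    refine Subtype.ext (Subtype.ext ?_)
    refine Matrix.toLin'.injective (LinearMap.ext fun v => E.injective ?_)
    have := congrArg (fun M => M *ᵥ E v) h1
    simpa [hψv] using this
  have hdiv : H.index * Nat.card (Matrix.symplecticGroup (Fin d) F) ∣ 2 * Nat.card (Matrix.SpecialLinearGroup (Fin (2 * d)) F) := by
    rw [← Subgroup.card_mul_index δ.ker, Subgroup.index_ker, ← Subgroup.index_mul_card H, mul_comm 2 (H.index * _), mul_assoc H.index]
    exact mul_dvd_mul_left _ (mul_dvd_mul (Subgroup.card_dvd_of_injective φ hφ) hrange)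
  -- the two orders
  have hsplit : ∀ j : ℕ, ∏ i ∈ Finset.range (2 * j + 1), (q ^ (i + 2) - 1) =
      (∏ i ∈ Finset.range (j + 1), (q ^ (2 * (i + 1)) - 1)) * ∏ i ∈ Finset.range j, (q ^ (2 * i + 3) - 1) := by
    intro j
    induction j with
    | zero => simp
    | succ j ih =>
      rw [show 2 * (j + 1) + 1 = 2 * j + 1 + 1 + 1 by ring, Finset.prod_range_succ, Finset.prod_range_succ, ih,
        Finset.prod_range_succ (fun i => q ^ (2 * (i + 1)) - 1) (j + 1),
        Finset.prod_range_succ (fun i => q ^ (2 * i + 3) - 1) j]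
      ring_nf
  obtain ⟨d, rfl⟩ : ∃ d', d = d' + 1 := ⟨d - 1, by omega⟩
  rw [CfsgLib.Classical.card_symplecticGroup, CfsgLib.Classical.card_SL_fin', Nat.card_eq_fintype_card, ← hq,
    Fintype.card_fin, show 2 * (d + 1) - 1 = 2 * d + 1 by omega, hsplit] at hdiv
  have hq2 : 2 ≤ q := Fintype.one_lt_card
  set S := ∏ i ∈ Finset.range (d + 1), (q ^ (2 * (i + 1)) - 1) with hS
  have hS0 : 0 < S := Finset.prod_pos fun i _ => by
    have : 2 ≤ q ^ (2 * (i + 1)) := le_trans hq2 (Nat.le_self_pow (by omega) q)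
    omega
  have hdiv' : H.index ∣ 2 * q ^ (2 * (d + 1) * (2 * d + 1) / 2) * ∏ i ∈ Finset.range d, (q ^ (2 * i + 3) - 1) :=
    Nat.dvd_of_mul_dvd_mul_right hS0 ((mul_dvd_mul_left H.index (dvd_mul_left S _)).trans (hdiv.trans (dvd_of_eq (by ring))))
  have hrdiv := hΩ.trans hdiv'
  have hq0 : ¬ r ∣ q := fun h => by
    obtain ⟨k, hk, hk'⟩ := FiniteField.card F p
    rw [hq, hk'] at h
    exact hpr ((Nat.prime_dvd_prime_iff_eq hrp hk).1 (hrp.dvd_of_dvd_pow h))
  have hr2' : ¬ r ∣ 2 * q ^ (2 * (d + 1) * (2 * d + 1) / 2) := fun h => by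
    rcases hrp.dvd_mul.1 h with h | h
    · exact hr2 ((Nat.prime_dvd_prime_iff_eq hrp Nat.prime_two).1 h)
    · exact hq0 (hrp.dvd_of_dvd_pow h)
  obtain ⟨j, hj, hjd⟩ := hrp.prime.exists_mem_finset_dvd ((hrp.dvd_mul.1 hrdiv).resolve_left hr2')
  rw [Finset.mem_range] at hj
  set e := orderOf ((q : ℕ) : ZMod r) with he'
  have hedvd : e ∣ 2 * j + 3 := by
    rw [← ZMod.natCast_eq_zero_iff, Nat.cast_sub (Nat.one_le_pow _ _ (by omega)), Nat.cast_pow, Nat.cast_one,
      sub_eq_zero] at hjd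
    exact orderOf_dvd_of_pow_eq_one hjd
  have heo : Odd e := Odd.of_dvd_nat ⟨j + 1, by ring⟩ hedvd
  by_cases he1 : e = 1
  · have hone : r ∣ Nat.card Fˣ := by
      rw [he', orderOf_eq_one_iff] at he1
      rw [Nat.card_eq_fintype_card, Fintype.card_units, ← hq, ← ZMod.natCast_eq_zero_iff,
        Nat.cast_sub (by omega), he1, Nat.cast_one, sub_self]
    obtain ⟨g, hg⟩ := exists_prime_orderOf_dvd_card' r hone
    exact diagonal_case hn hrp hr2 hgap (ζ := (g : F)) (by rw [orderOf_units, hg])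
  · exact odd_order_case hrF he'.symm he1 heo (by have := Nat.le_of_dvd (by omega) hedvd; omega)


end Cfsg.Agent.S5968
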