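import Cfsg.Statements.S5969
import Cfsg.Agent.Lib.ThreeTransp.InvolBlocks

set_option autoImplicit false
set_option maxHeartbeats 800000
open scoped MatrixGroups
open Cfsg

namespace Cfsg.Agent.S5969

/-- Involutions of PSL_n(q) and extension-field subgroups of degree 2. Here `T = PSL_n(F)` for a field `F` with `q = p^f` elements (`n ≥ 2`, `(n, q) ≠ (2, 2), (2, 3)`), `k` is a prime dividing `n`, `K` is a subalgebra of the `n × n` matrices that is a field of degree `k` over `F` (an extension-field structure F_{q^k} on `F^n`), and `H` is the subgroup of matrices of determinant 1 normalizing `K` — a subgroup of type GL_{n/k}(q^k) (maximal except in some small cases; maximality is not assumed); Ω is the set of cosets of `H` in `T`, so an element of `T` of prime order `r` (a matrix `x` of determinant 1 with `x^r` scalar, `x` not scalar) fixes a point of Ω when some conjugate of `x` by a matrix of determinant 1 normalizes `K`. Take `k = 2` and suppose the index of `H` is even. Then every involution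 of `T` is conjugate in `T` into `H` if and only if `n = 2`, or `q` is odd and `(q − 1)_2 ≤ (n)_2`. -/
theorem result {F : Type*} [Field F] [Fintype F] {p : ℕ} [Fact p.Prime] [CharP F p] {q : ℕ} (hq : Fintype.card F = q)
    (n : ℕ) (hn : 2 ≤ n) (hT : (n, q) ≠ (2, 2) ∧ (n, q) ≠ (2, 3))
    (k : ℕ) (hk : k.Prime) (hkn : k ∣ n) (K : Subalgebra F (Matrix (Fin n) (Fin n) F)) (hK : Cfsg.Geo.IsFieldSubalgebra k K) (hk2 : k = 2) (hΩ : 2 ∣ ((Cfsg.Geo.subalgebraNormalizer K).comap (Matrix.SpecialLinearGroup.toGL : Matrix.SpecialLinearGroup (Fin n) F →* GL (Fin n) F)).index) :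
    (∀ x : Matrix.SpecialLinearGroup (Fin n) F,
      (∃ z : F, ((x ^ 2 : Matrix.SpecialLinearGroup (Fin n) F) : Matrix (Fin n) (Fin n) F) = z • (1 : Matrix (Fin n) (Fin n) F)) →
      (∀ z : F, (x : Matrix (Fin n) (Fin n) F) ≠ z • (1 : Matrix (Fin n) (Fin n) F)) →
      ∃ P : Matrix.SpecialLinearGroup (Fin n) F, P⁻¹ * x * P ∈ ((Cfsg.Geo.subalgebraNormalizer K).comap (Matrix.SpecialLinearGroup.toGL : Matrix.SpecialLinearGroup (Fin n) F →* GL (Fin n) F))) ↔
    (n = 2 ∨ (Odd q ∧ padicValNat 2 (q - 1) ≤ padicValNat 2 n)) := by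
  open Matrix CfsgLib.ThreeTransp.InvolNormal CfsgLib.ThreeTransp.InvolBlocks CfsgLib.ThreeTransp.InvolSympl in
  classical
  subst hk2
  subst hq
  obtain ⟨d, rfl⟩ := hkn
  set q := Fintype.card F with hq
  have hd : 0 < d := by omega
  obtain ⟨κ, hκK, hrep, heig, t, u, hκ2⟩ := exists_gen (by omega) hK
  have hq1 : q - 1 ≠ 0 := by have := Fintype.one_lt_card (α := F); omega
  -- passing from a conjugation equation to the statement
  have fin : ∀ (x : Matrix.SpecialLinearGroup (Fin (2 * d)) F) (y : Matrix (Fin (2 * d)) (Fin (2 * d)) F) (z : F)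
      (P : Matrix (Fin (2 * d)) (Fin (2 * d)) F), P.det = 1 →
      (x : Matrix (Fin (2 * d)) (Fin (2 * d)) F) * P = P * y → y * y = z • 1 →
      (∃ κ' ∈ K, y * κ = κ' * y) →
      ∃ P : Matrix.SpecialLinearGroup (Fin (2 * d)) F, P⁻¹ * x * P ∈ ((Cfsg.Geo.subalgebraNormalizer K).comap
        (Matrix.SpecialLinearGroup.toGL : Matrix.SpecialLinearGroup (Fin (2 * d)) F →* GL (Fin (2 * d)) F)) := by
    intro x y z P hP hxP hy ⟨κ', hκ', hyκ⟩
    let P' : Matrix.SpecialLinearGroup (Fin (2 * d)) F := ⟨P, hP⟩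
    have hcoe : ((P'⁻¹ * x * P' : Matrix.SpecialLinearGroup (Fin (2 * d)) F) : Matrix (Fin (2 * d)) (Fin (2 * d)) F) = y := by
      rw [mul_assoc, Matrix.SpecialLinearGroup.coe_mul, Matrix.SpecialLinearGroup.coe_mul]
      show _ * ((x : Matrix (Fin (2 * d)) (Fin (2 * d)) F) * P) = _
      rw [hxP, ← mul_assoc]
      show ((P'⁻¹ : Matrix.SpecialLinearGroup (Fin (2 * d)) F) : Matrix (Fin (2 * d)) (Fin (2 * d)) F) * (P' : Matrix (Fin (2 * d)) (Fin (2 * d)) F) * y = y
      rw [← Matrix.SpecialLinearGroup.coe_mul, inv_mul_cancel, Matrix.SpecialLinearGroup.coe_one, one_mul]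
    refine ⟨P', ?_⟩
    rw [Subgroup.mem_comap]
    set g : GL (Fin (2 * d)) F := Matrix.SpecialLinearGroup.toGL (P'⁻¹ * x * P') with hg
    have hgy : (g : Matrix (Fin (2 * d)) (Fin (2 * d)) F) = y := hcoe
    refine mem_normalizer hrep g (z := z) (by rw [hgy, hy]) ?_
    rw [hgy, hyκ, ← hgy, mul_assoc, Units.mul_inv, mul_one]
    exact hκ'
  -- the sign of a power
  have hsign : ∀ μ : F, μ ≠ 0 → ringChar F ≠ 2 → padicValNat 2 (q - 1) ≤ padicValNat 2 (2 * d) → μ ^ (2 * d) ≠ -1 := by
    intro μ hμ hc2 hle h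
    set m := (q - 1) / 2 ^ padicValNat 2 (q - 1) with hm
    have hmm : 2 ^ padicValNat 2 (q - 1) * m = q - 1 := Nat.mul_div_cancel' pow_padicValNat_dvd
    have hmo : Odd m := by
      rw [← Nat.not_even_iff_odd, even_iff_two_dvd]
      rintro ⟨l, hl⟩
      exact pow_succ_padicValNat_not_dvd (p := 2) hq1 ⟨l, by rw [pow_succ, mul_assoc, ← hl, hmm]⟩
    obtain ⟨l, hl⟩ := (pow_dvd_pow 2 hle).trans (pow_padicValNat_dvd (p := 2) (n := 2 * d))
    have h1 : μ ^ (2 * d * m) = -1 := by rw [pow_mul, h, hmo.neg_one_pow]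
    rw [show 2 * d * m = (q - 1) * l by rw [hl, mul_right_comm, hmm], pow_mul,
      FiniteField.pow_card_sub_one_eq_one μ hμ, one_pow] at h1
    exact (Ring.neg_one_ne_one_of_char_ne_two hc2) h1.symm
  constructor
  · intro hall
    by_contra hcon
    push Not at hcon
    obtain ⟨hn2, hlt⟩ := hcon
    let i₀ : Fin (2 * d) := ⟨0, by omega⟩
    let i₁ : Fin (2 * d) := ⟨1, by omega⟩
    -- a scalar times an element with a one dimensional commutator space
    obtain ⟨X, μ, c, j₀, hμ, hc, hXdet, hXX, hX⟩ : ∃ (X : Matrix (Fin (2 * d)) (Fin (2 * d)) F) (μ c : F) (j₀ : Fin (2 * d)),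
        μ ≠ 0 ∧ c ≠ 0 ∧ X.det = 1 ∧ X * X = (μ * μ) • 1 ∧ X = μ • (1 + Matrix.single i₀ j₀ c) := by
      by_cases hodd : Odd q
      · have hc2 : ringChar F ≠ 2 := fun h => by
          have := FiniteField.even_card_of_char_two h
          exact (Nat.not_even_iff_odd.2 hodd) (Nat.even_iff.2 this)
        have hlt' := hlt hodd
        set v := padicValNat 2 (2 * d) with hv
        obtain ⟨g, hg⟩ := IsCyclic.exists_ofOrder_eq_natCard (α := Fˣ)
        rw [Nat.card_eq_fintype_card, Fintype.card_units] at hg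
        have hdiv : 2 ^ (v + 1) ∣ q - 1 := dvd_trans (pow_dvd_pow 2 hlt') pow_padicValNat_dvd
        obtain ⟨μ, hμ⟩ : ∃ μ : Fˣ, orderOf μ = 2 ^ (v + 1) :=
          ⟨g ^ ((q - 1) / 2 ^ (v + 1)), by
            rw [orderOf_pow_of_dvd (Nat.div_ne_zero_iff_of_dvd hdiv |>.2 ⟨hq1, by positivity⟩)
              (hg.symm ▸ Nat.div_dvd_of_dvd hdiv), hg, Nat.div_div_self hdiv hq1]⟩
        have hμn : ((μ : F)) ^ (2 * d) = -1 := by
          obtain ⟨m, hm⟩ := pow_padicValNat_dvd (p := 2) (n := 2 * d)
          rw [← hv] at hm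
          have hmo : Odd m := by
            rw [← Nat.not_even_iff_odd, even_iff_two_dvd]
            rintro ⟨l, rfl⟩
            exact pow_succ_padicValNat_not_dvd (p := 2) (n := 2 * d) (by omega) ⟨l, by rw [← hv, hm, pow_succ, mul_assoc]⟩
          have hsq : ((μ : F) ^ 2 ^ v) * ((μ : F) ^ 2 ^ v) = 1 := by
            rw [← pow_add, ← two_mul, ← pow_succ', ← hμ, ← Units.val_pow_eq_pow_val, pow_orderOf_eq_one, Units.val_one]
          have hne : (μ : F) ^ 2 ^ v ≠ 1 := fun h => by
            have := Nat.le_of_dvd (by positivity) (orderOf_dvd_of_pow_eq_one (Units.ext (by simpa using h) : μ ^ 2 ^ v = 1))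
            rw [hμ, pow_succ] at this
            have : 0 < 2 ^ v := by positivity
            omega
          rw [hm, pow_mul, (mul_self_eq_one_iff.1 hsq).resolve_left hne, hmo.neg_one_pow]
        have heq : (μ : F) • (1 + Matrix.single i₀ i₀ (-2 : F)) = diagonal fun i => (if i = i₀ then (-1 : F) else 1) * μ := by
          ext i j
          by_cases hij : i = j
          · subst hij
            by_cases h : i = i₀
            · subst h; simp; ring
            · simp [h, Ne.symm h]
          · simp [hij, Matrix.single_apply]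
            intro h1 h2; exact absurd (h1.symm.trans h2) hij
        refine ⟨_, μ, -2, i₀, μ.ne_zero, neg_ne_zero.2 (Ring.two_ne_zero hc2), ?_, ?_, rfl⟩
        · rw [heq, det_diagonal, Finset.prod_mul_distrib, Finset.prod_ite_eq', Finset.prod_const, Finset.card_univ,
            Fintype.card_fin, hμn]
          simp
        · rw [heq, diagonal_mul_diagonal, ← diagonal_one, ← diagonal_smul]
          congr 1
          funext i
          by_cases h : i = i₀ <;> simp [h]
      · have hc2 : ringChar F = 2 := FiniteField.even_card_iff_char_two.2 (Nat.even_iff.1 (Nat.not_odd_iff_even.1 hodd))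
        have h2 : (2 : F) = 0 := by
          haveI := ringChar.of_eq hc2
          exact CharP.cast_eq_zero F 2
        have hi : i₀ ≠ i₁ := by simp [i₀, i₁, Fin.ext_iff]
        refine ⟨_, 1, 1, i₁, one_ne_zero, one_ne_zero, ?_, ?_, rfl⟩
        · rw [one_smul]
          exact Matrix.det_transvection_of_ne i₀ i₁ hi 1
        · rw [one_smul, mul_one, one_smul, add_mul, mul_add, mul_add, one_mul, mul_one,
            Matrix.single_mul_single_of_ne _ _ _ _ (Ne.symm hi), add_zero, add_assoc, one_mul,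
            ← two_smul F (Matrix.single i₀ i₁ (1 : F)), h2, zero_smul, add_zero]
    let X' : Matrix.SpecialLinearGroup (Fin (2 * d)) F := ⟨X, hXdet⟩
    obtain ⟨P, hP⟩ := hall X' ⟨μ * μ, by rw [Matrix.SpecialLinearGroup.coe_pow, pow_two]; exact hXX⟩ (fun z h => by
      have h' : X = z • (1 : Matrix (Fin (2 * d)) (Fin (2 * d)) F) := h
      have h00 := congrFun (congrFun h' i₀) i₀
      have h11 := congrFun (congrFun h' i₁) i₁
      have h0j := congrFun (congrFun h' i₀) j₀
      have hi : i₁ ≠ i₀ := by simp [i₀, i₁, Fin.ext_iff]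
      rw [hX] at h00 h11 h0j
      by_cases hj : j₀ = i₀
      · subst hj
        simp [Matrix.single_apply, hi, Ne.symm hi] at h00 h11
        exact mul_ne_zero hμ hc (by linear_combination h00 - h11)
      · simp [Matrix.single_apply, Ne.symm hj] at h0j
        exact h0j.elim hμ hc)
    rw [Subgroup.mem_comap] at hP
    set y := ((P⁻¹ * X' * P : Matrix.SpecialLinearGroup (Fin (2 * d)) F) : Matrix (Fin (2 * d)) (Fin (2 * d)) F) with hy
    set g : GL (Fin (2 * d)) F := Matrix.SpecialLinearGroup.toGL (P⁻¹ * X' * P) with hg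
    set κ' := (g : Matrix (Fin (2 * d)) (Fin (2 * d)) F) * κ * ((g⁻¹ : GL (Fin (2 * d)) F) : Matrix (Fin (2 * d)) (Fin (2 * d)) F) with hκ'
    have hκ'K : κ' ∈ K := (hP κ).1 hκK
    have hgy : (g : Matrix (Fin (2 * d)) (Fin (2 * d)) F) = y := rfl
    have hyκ : κ' * y = y * κ := by rw [hκ', ← hgy, mul_assoc _ _ (g : Matrix (Fin (2 * d)) (Fin (2 * d)) F), Units.inv_mul, mul_one]
    let Pi' := ((P⁻¹ : Matrix.SpecialLinearGroup (Fin (2 * d)) F) : Matrix (Fin (2 * d)) (Fin (2 * d)) F)
    let Pm := (P : Matrix (Fin (2 * d)) (Fin (2 * d)) F)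
    have hPP : Pi' * Pm = 1 := by
      simp only [Pi', Pm]
      rw [← Matrix.SpecialLinearGroup.coe_mul, inv_mul_cancel, Matrix.SpecialLinearGroup.coe_one]
    have hPP' : Pm * Pi' = 1 := by
      simp only [Pi', Pm]
      rw [← Matrix.SpecialLinearGroup.coe_mul, mul_inv_cancel, Matrix.SpecialLinearGroup.coe_one]
    let w : Fin (2 * d) → F := Pi' *ᵥ Pi.single i₀ 1
    let φ : (Fin (2 * d) → F) → F := fun v => c * (Pm *ᵥ v) j₀
    have hyv : ∀ v, y *ᵥ v = μ • (v + φ v • w) := fun v => by
      have h : y = Pi' * X * Pm := by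
        simp only [hy, Matrix.SpecialLinearGroup.coe_mul]; rfl
      rw [h, hX, mul_smul_comm, smul_mul_assoc, smul_mulVec, mul_add, mul_one, add_mul, hPP, add_mulVec, one_mulVec,
        ← mulVec_mulVec, ← mulVec_mulVec]
      congr 2
      rw [← mulVec_smul]
      congr 1
      funext i
      rw [Matrix.mulVec, dotProduct, Finset.sum_eq_single j₀]
      · by_cases hi : i = i₀
        · subst hi; simp [φ, Matrix.single_apply]
        · simp [φ, Matrix.single_apply, hi, Ne.symm hi]
      · intro b _ hb; simp [Matrix.single_apply, Ne.symm hb]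
      · simp
    have hkey : ∀ v, (κ' - κ) *ᵥ v = φ (κ *ᵥ v) • w - φ v • (κ' *ᵥ w) := fun v => by
      have h := congrArg (fun M => M *ᵥ v) hyκ
      simp only [← mulVec_mulVec, hyv, mulVec_smul, mulVec_add] at h
      have h' := smul_right_injective (Fin (2 * d) → F) hμ h
      rw [sub_mulVec]
      linear_combination (norm := module) h'
    by_cases heq : κ' = κ
    · have hw0 : w ≠ 0 := fun h => by
        have := congrArg (fun v => Pm *ᵥ v) h
        simp only [w, mulVec_mulVec, hPP', one_mulVec, mulVec_zero] at this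
        simpa using congrFun this i₀
      have hφ : φ (Pi' *ᵥ Pi.single j₀ 1) = c := by simp only [φ, mulVec_mulVec, hPP', one_mulVec, Pi.single_eq_same, mul_one]
      have h := hkey (Pi' *ᵥ Pi.single j₀ 1)
      rw [heq, sub_self, zero_mulVec, hφ] at h
      refine hw0 (heig (φ (κ *ᵥ (Pi' *ᵥ Pi.single j₀ 1)) / c) w ?_)
      rw [div_eq_inv_mul, ← smul_smul, sub_eq_zero.1 h.symm, smul_smul, inv_mul_cancel₀ hc, one_smul]
    · obtain ⟨b, -, hb⟩ := hK.inv _ (sub_mem hκ'K hκK) (sub_ne_zero.2 heq)
      have htop : (⊤ : Submodule F (Fin (2 * d) → F)) ≤ Submodule.span F (Set.range ![w, κ' *ᵥ w]) := fun v _ => by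
        have h : (κ' - κ) *ᵥ (b *ᵥ v) = v := by rw [mulVec_mulVec, hb, one_mulVec]
        rw [← h, hkey]
        exact sub_mem (Submodule.smul_mem _ _ (Submodule.subset_span ⟨0, rfl⟩))
          (Submodule.smul_mem _ _ (Submodule.subset_span ⟨1, rfl⟩))
      have := (Submodule.finrank_mono htop).trans (finrank_range_le_card ![w, κ' *ᵥ w])
      rw [finrank_top, Module.finrank_fin_fun, Fintype.card_fin] at this
      omega
  · intro hcond x ⟨z, hz⟩ hns
    rw [Matrix.SpecialLinearGroup.coe_pow, pow_two] at hz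
    have hz0 : z ≠ 0 := by
      intro h
      have hd : ((x : Matrix (Fin (2 * d)) (Fin (2 * d)) F) * x).det = 1 := by rw [Matrix.det_mul, x.2, one_mul]
      rw [hz, h, zero_smul, @Matrix.det_zero _ _ _ _ _ ⟨⟨0, by omega⟩⟩] at hd
      exact zero_ne_one hd
    have hff : ∀ (A : Matrix (Fin (2 * d)) (Fin (2 * d)) F) (s : F), A * A = s • 1 →
        ∀ v, Matrix.toLin' A (Matrix.toLin' A v) = s • v := fun A s h v => by
      rw [← Matrix.toLin'_mul_apply, h, map_smul, Matrix.toLin'_one]
      rfl
    let e₀ : Fin 2 × Fin d ≃ Fin (2 * d) := finProdFinEquiv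
    have hcomp : ∀ (A : Matrix (Fin (2 * d)) (Fin (2 * d)) F) (s : F) (e : Fin 2 × Fin d ≃ Fin (2 * d)), A * A = s • 1 → ¬ IsSquare s →
        ∃ Q : Matrix (Fin (2 * d)) (Fin (2 * d)) F, Q.det ≠ 0 ∧
          A * Q = Q * reindex e e (blockDiagonal fun _ => !![0, s; 1, 0]) := by
      intro A s e hA hs
      obtain ⟨eA, b, hb, hbA⟩ := exists_companion (Matrix.toLin' A) hs (hff A s hA)
      refine ⟨colMat e (b ∘ eA), colMat_unit e (hb.comp eA eA.injective), mul_colMat e A _ _ fun a i => ?_⟩
      rw [← Matrix.toLin'_apply]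
      fin_cases a
      · simpa using (hbA i).1
      · simpa using (hbA i).2
    have hoddc : ringChar F ≠ 2 → ∃ κ₀ ∈ K, ∃ s : F, ¬ IsSquare s ∧ κ₀ * κ₀ = s • (1 : Matrix (Fin (2 * d)) (Fin (2 * d)) F) ∧
        κ = κ₀ + (t / 2) • (1 : Matrix (Fin (2 * d)) (Fin (2 * d)) F) := by
      intro hc2
      have h2 : (2 : F) ≠ 0 := Ring.two_ne_zero hc2
      refine ⟨κ - (t / 2) • 1, sub_mem hκK (K.smul_mem (one_mem K) _), u + t / 2 * (t / 2), ?_, ?_, by abel⟩
      · rintro ⟨s, hs⟩
        let v : Fin (2 * d) → F := Pi.single ⟨0, by omega⟩ 1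
        have hv : v ≠ 0 := by simp [v]
        by_cases hw : κ *ᵥ v = (t / 2 - s) • v
        · exact hv (heig _ _ hw)
        · refine sub_ne_zero.2 hw (heig (t / 2 + s) _ ?_)
          rw [mulVec_sub, mulVec_smul, mulVec_mulVec, hκ2, add_mulVec, smul_mulVec, smul_mulVec, one_mulVec]
          match_scalars
          · field_simp; ring
          · linear_combination hs
      · rw [sub_mul, mul_sub, mul_sub, hκ2, smul_mul_assoc, one_mul, mul_smul_comm, mul_one, mul_smul_comm, mul_one]
        match_scalars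
        · field_simp; ring
        · ring
    by_cases hzs : IsSquare z
    swap
    · -- the element itself spans a quadratic field
      have hc2 : ringChar F ≠ 2 := fun h => hzs (FiniteField.isSquare_of_char_two h z)
      obtain ⟨κ₀, hκ₀, s, hs, hκ₀2, hκeq⟩ := hoddc hc2
      have hs0 : s ≠ 0 := fun h => hs (h ▸ IsSquare.zero)
      obtain ⟨r, hr⟩ : IsSquare (z / s) := by
        rw [FiniteField.isSquare_iff hc2 (div_ne_zero hz0 hs0), div_pow]
        have h1 := (FiniteField.pow_dichotomy hc2 hz0).resolve_left fun h => hzs ((FiniteField.isSquare_iff hc2 hz0).2 h)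
        have h2 := (FiniteField.pow_dichotomy hc2 hs0).resolve_left fun h => hs ((FiniteField.isSquare_iff hc2 hs0).2 h)
        rw [h1, h2, div_self (by simp)]
      have hy2 : (r • κ₀) * (r • κ₀) = z • (1 : Matrix (Fin (2 * d)) (Fin (2 * d)) F) := by
        rw [smul_mul_smul_comm, hκ₀2, smul_smul, ← hr, div_mul_cancel₀ _ hs0]
      obtain ⟨Qx, hQx, hx⟩ := hcomp _ z e₀ hz hzs
      obtain ⟨Qy, hQy, hy⟩ := hcomp _ z e₀ hy2 hzs
      obtain ⟨P, hPd, hP⟩ := exists_conj hd e₀ _ (Or.inl ⟨by simp [Matrix.trace_fin_two], by simp [Matrix.det_fin_two, hz0]⟩)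
        _ _ Qx Qy hQx hQy hx hy
      exact fin x _ z P hPd hP hy2 ⟨κ, hκK, hK.comm _ (K.smul_mem hκ₀ r) _ hκK⟩
    obtain ⟨μ, rfl⟩ := hzs
    have hμ : μ ≠ 0 := fun h => hz0 (by rw [h, mul_zero])
    by_cases hn2 : 2 * d = 2
    · obtain rfl : d = 1 := by omega
      have hcyc : ∀ A : Matrix (Fin (2 * 1)) (Fin (2 * 1)) F, A * A = (μ * μ) • 1 → (∀ c : F, A ≠ c • 1) →
          ∃ Q : Matrix (Fin (2 * 1)) (Fin (2 * 1)) F, Q.det ≠ 0 ∧
            A * Q = Q * reindex e₀ e₀ (blockDiagonal fun _ => !![0, μ * μ; 1, 0]) := by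
        intro A hA hAs
        obtain ⟨v, hv0, hv⟩ : ∃ v : Fin (2 * 1) → F, v ≠ 0 ∧ ∀ c : F, A *ᵥ v ≠ c • v := by
          by_contra h
          push Not at h
          obtain ⟨c₀, h0⟩ := h (Pi.single 0 1) (by simp)
          obtain ⟨c₁, h1⟩ := h (Pi.single 1 1) (by simp)
          obtain ⟨c₂, h2⟩ := h (Pi.single 0 1 + Pi.single 1 1) (fun h => by simpa using congrFun h 0)
          rw [mulVec_add, h0, h1] at h2
          have a0 : c₀ = c₂ := by simpa using congrFun h2 0
          have a1 : c₁ = c₂ := by simpa using congrFun h2 1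
          refine hAs c₀ ?_
          ext i j
          fin_cases j
          · have := congrFun h0 i; fin_cases i <;> simpa [Matrix.one_apply] using this
          · have := congrFun h1 i; fin_cases i <;> simpa [Matrix.one_apply, a0, ← a1] using this
        let bb : Fin 2 × Fin 1 → Fin (2 * 1) → F := fun p => ![v, A *ᵥ v] p.1
        have hli : LinearIndependent F bb :=
          ((LinearIndependent.pair_iff' hv0).2 fun a ha => hv a ha.symm).comp _ (fun p q h => Prod.ext h (Subsingleton.elim _ _))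
        refine ⟨colMat e₀ bb, colMat_unit e₀ hli, mul_colMat e₀ A _ _ fun a i => ?_⟩
        fin_cases a
        · simp [bb]
        · show A *ᵥ (A *ᵥ v) = _
          rw [mulVec_mulVec, hA, smul_mulVec, one_mulVec]
          simp [bb]
      let v₀ : Fin (2 * 1) → F := Pi.single 0 1
      have hv0 : v₀ ≠ 0 := by simp [v₀]
      let bk : Fin 2 × Fin 1 → Fin (2 * 1) → F := fun p => ![v₀, κ *ᵥ v₀] p.1
      have hlk : LinearIndependent F bk :=
        ((LinearIndependent.pair_iff' hv0).2 fun a ha => hv0 (heig a v₀ ha.symm)).comp _ (fun p q h => Prod.ext h (Subsingleton.elim _ _))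
      let R := colMat e₀ bk
      have hR : IsUnit R.det := isUnit_iff_ne_zero.2 (colMat_unit e₀ hlk)
      let C := reindex e₀ e₀ (blockDiagonal fun _ : Fin 1 => !![0, u; 1, t])
      let S := reindex e₀ e₀ (blockDiagonal fun _ : Fin 1 => !![(1 : F), t; 0, -1])
      have hκR : κ * R = R * C := mul_colMat e₀ κ bk _ fun a i => by
        fin_cases a
        · simp [bk]
        · show κ *ᵥ (κ *ᵥ v₀) = _
          rw [mulVec_mulVec, hκ2, add_mulVec, smul_mulVec, smul_mulVec, one_mulVec]
          simp [bk, add_comm]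
      have hSC : S * C = (t • 1 - C) * S := by
        rw [show t • (1 : Matrix (Fin (2 * 1)) (Fin (2 * 1)) F) - C =
            reindex e₀ e₀ (blockDiagonal fun _ : Fin 1 => !![t, -u; -1, 0]) from ?_]
        · simp only [S, C, reindex_apply, submatrix_mul_equiv, ← blockDiagonal_mul]
          congr 2
          funext i
          ext a b; fin_cases a <;> fin_cases b <;> simp [Matrix.mul_apply, Fin.sum_univ_two] <;> ring
        · ext i j
          obtain ⟨⟨a, i⟩, rfl⟩ := e₀.surjective i
          obtain ⟨⟨b, j⟩, rfl⟩ := e₀.surjective j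
          fin_cases a <;> fin_cases b <;> simp [C, blockDiagonal_apply, Matrix.one_apply, Subsingleton.elim i j]
      have hS2 : S * S = 1 := by
        simp only [S, reindex_apply, submatrix_mul_equiv, ← blockDiagonal_mul]
        rw [show (fun _ : Fin 1 => !![(1 : F), t; 0, -1] * !![(1 : F), t; 0, -1]) = 1 from
          funext fun _ => by ext a b; fin_cases a <;> fin_cases b <;> simp [Matrix.mul_apply, Fin.sum_univ_two]]
        rw [blockDiagonal_one, submatrix_one_equiv]
      have hy2 : (μ • (R * S * R⁻¹)) * (μ • (R * S * R⁻¹)) = (μ * μ) • 1 := by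
        rw [smul_mul_smul_comm]
        simp only [Matrix.mul_assoc, nonsing_inv_mul_cancel_left _ _ hR]
        rw [← Matrix.mul_assoc S, hS2, Matrix.one_mul, mul_nonsing_inv _ hR]
      have hκ' : κ = R * C * R⁻¹ := by rw [← hκR, Matrix.mul_assoc, mul_nonsing_inv _ hR, Matrix.mul_one]
      have hyκ : (μ • (R * S * R⁻¹)) * κ = (t • 1 - κ) * (μ • (R * S * R⁻¹)) := by
        rw [mul_smul_comm, smul_mul_assoc]
        congr 1
        calc R * S * R⁻¹ * κ = R * (S * C) * R⁻¹ := by
              rw [hκ']; simp only [mul_assoc, nonsing_inv_mul_cancel_left _ _ hR]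
          _ = R * ((t • 1 - C) * S) * R⁻¹ := by rw [hSC]
          _ = (t • 1 - κ) * (R * S * R⁻¹) := by
              simp only [hκ', sub_mul, mul_sub, smul_mul_assoc, mul_smul_comm, one_mul, mul_assoc,
                nonsing_inv_mul_cancel_left _ _ hR]
      have hyns : ∀ c : F, μ • (R * S * R⁻¹) ≠ c • 1 := fun c h => by
        have hS : S = (μ⁻¹ * c) • 1 := by
          have h' := congrArg (fun M => R⁻¹ * M * R) h
          simp only [mul_smul_comm, smul_mul_assoc, mul_one, nonsing_inv_mul _ hR] at h'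
          rw [← Matrix.mul_assoc, ← Matrix.mul_assoc, nonsing_inv_mul _ hR, Matrix.one_mul, Matrix.mul_assoc, nonsing_inv_mul _ hR, Matrix.mul_one] at h'
          rw [← smul_smul, ← h', smul_smul, inv_mul_cancel₀ hμ, one_smul]
        have h00 := congrFun (congrFun hS (e₀ (0, 0))) (e₀ (0, 0))
        have h11 := congrFun (congrFun hS (e₀ (1, 0))) (e₀ (1, 0))
        have h01 := congrFun (congrFun hS (e₀ (0, 0))) (e₀ (1, 0))
        simp [S, blockDiagonal_apply, Matrix.one_apply] at h00 h11 h01
        have h2 : (2 : F) = 0 := by linear_combination h00 - h11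
        have hc : ringChar F = 2 := CharP.ringChar_of_prime_eq_zero Nat.prime_two (by exact_mod_cast h2)
        obtain ⟨r, hr⟩ := FiniteField.isSquare_of_char_two (F := F) hc u
        by_cases hw : κ *ᵥ v₀ = r • v₀
        · exact hv0 (heig _ _ hw)
        · refine sub_ne_zero.2 hw (heig r _ ?_)
          rw [mulVec_sub, mulVec_smul, mulVec_mulVec, hκ2, h01, zero_smul, zero_add, smul_mulVec, one_mulVec]
          match_scalars
          · linear_combination hr + r * r * h2
          · linear_combination -r * h2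
      obtain ⟨Qx, hQx, hx⟩ := hcyc _ hz hns
      obtain ⟨Qy, hQy, hy⟩ := hcyc _ hy2 hyns
      obtain ⟨P, hPd, hP⟩ := exists_conj hd e₀ _ (Or.inl ⟨by simp [Matrix.trace_fin_two], by simp [Matrix.det_fin_two, hμ]⟩)
        _ _ Qx Qy hQx hQy hx hy
      exact fin x _ _ P hPd hP hy2 ⟨_, sub_mem (K.smul_mem (one_mem K) t) hκK, hyκ⟩
    obtain ⟨hodd, hle⟩ := hcond.resolve_left hn2
    have hc2 : ringChar F ≠ 2 := fun h => by
      have := FiniteField.even_card_of_char_two h
      exact (Nat.not_even_iff_odd.2 hodd) (Nat.even_iff.2 this)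
    obtain ⟨κ₀, hκ₀, s, hs, hκ₀2, hκeq⟩ := hoddc hc2
    obtain ⟨b, π, ε, hπ, hb, hbc, hε, hεπ, h2⟩ := exists_signed (Matrix.toLin' (x : Matrix (Fin (2 * d)) (Fin (2 * d)) F)) hμ (hff _ _ hz)
    have hid : ∀ i, π i = i := h2.resolve_left (Ring.two_ne_zero hc2)
    have hbc' : ∀ i, Matrix.toLin' (x : Matrix (Fin (2 * d)) (Fin (2 * d)) F) (b i) = (μ * ε i) • b i := fun i => by
      simpa [hid i] using hbc i
    let B := basisOfLinearIndependentOfCardEqFinrank' b hb (by simp)
    have hdet : ∏ i, μ * ε i = 1 := by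
      have h := LinearMap.det_toMatrix B (Matrix.toLin' (x : Matrix (Fin (2 * d)) (Fin (2 * d)) F))
      rw [show LinearMap.toMatrix B B (Matrix.toLin' (x : Matrix (Fin (2 * d)) (Fin (2 * d)) F)) = diagonal fun i => μ * ε i from ?_,
        det_diagonal, LinearMap.det_toLin', x.2] at h
      · exact h
      · ext i j
        have hB : B j = b j := by simp [B]
        rw [LinearMap.toMatrix_apply, hB, hbc', ← hB, map_smul, B.repr_self]
        rcases eq_or_ne i j with rfl | h <;> simp [*]
    have hone : (1 : F) ≠ -1 := fun h => Ring.neg_one_ne_one_of_char_ne_two hc2 h.symm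
    have hneg : Even (Finset.univ.filter fun i => ε i = -1).card := by
      by_contra hno
      have hp : ∏ i, ε i = -1 := by
        rw [← Finset.prod_filter_mul_prod_filter_not Finset.univ (fun i => ε i = -1),
          Finset.prod_congr rfl (fun i hi => (Finset.mem_filter.1 hi).2), Finset.prod_const,
          (Nat.not_even_iff_odd.1 hno).neg_one_pow,
          Finset.prod_eq_one (fun i hi => (hε i).resolve_right (Finset.mem_filter.1 hi).2), mul_one]
      rw [Finset.prod_mul_distrib, hp, Finset.prod_const, Finset.card_univ, Fintype.card_fin] at hdet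
      exact hsign μ hμ hc2 hle (by linear_combination -hdet)
    have hev : ∀ a : F, Even (Finset.univ.filter fun i => id i = i ∧ ε i = a).card := fun a => by
      simp only [id_eq, true_and]
      by_cases ha : a = -1
      · exact ha ▸ hneg
      by_cases ha' : a = 1
      · subst ha'
        have h := Finset.card_filter_add_card_filter_not (s := Finset.univ) (p := fun i => ε i = -1)
        rw [Finset.card_univ, Fintype.card_fin] at h
        obtain ⟨l, hl⟩ := hneg
        refine ⟨d - l, ?_⟩
        rw [show (Finset.univ.filter fun i => ε i = 1) = Finset.univ.filter fun i => ¬ ε i = -1 from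
          Finset.filter_congr fun i _ => ⟨fun h h' => hone (h.symm.trans h'), fun h => (hε i).resolve_right h⟩]
        omega
      · rw [Finset.filter_eq_empty_iff.2 fun i _ h => ?_]
        · simp
        · rcases hε i with h' | h'
          · exact ha' (h.symm.trans h')
          · exact ha (h.symm.trans h')
    obtain ⟨τ, hτ⟩ := exists_pairs id (fun _ => rfl) ε Finset.univ (fun _ _ => Finset.mem_univ _) hev
    have hτ' := fun i => (hτ i (Finset.mem_univ i)).2
    obtain ⟨e, he'⟩ := exists_equiv_two τ (fun i => (hτ' i).1) (fun i => (hτ' i).2.1) (d := d) (by simp)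
    let M : Fin d → Matrix (Fin 2) (Fin 2) F := fun i => (μ * ε (e (0, i))) • 1
    have hεe : ∀ i, ε (e (1, i)) = ε (e (0, i)) := fun i => he' i ▸ ((hτ' _).2.2.2 rfl).2
    let Qx := colMat e (b ∘ e)
    have hx : (x : Matrix (Fin (2 * d)) (Fin (2 * d)) F) * Qx = Qx * reindex e e (blockDiagonal M) :=
      mul_colMat e _ _ M fun a i => by
        rw [← Matrix.toLin'_apply, Function.comp_apply, hbc']
        fin_cases a <;> simp [M, hεe]
    obtain ⟨R, hR, hκR⟩ := hcomp κ₀ s e hκ₀2 hs
    have hRu : IsUnit R.det := isUnit_iff_ne_zero.2 hR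
    let D := reindex e e (blockDiagonal M)
    let C := reindex e e (blockDiagonal fun _ : Fin d => !![0, s; 1, 0])
    have hDC : D * C = C * D := by
      simp only [D, C, reindex_apply, submatrix_mul_equiv, ← blockDiagonal_mul]
      congr 2
      funext i
      simp [M]
    have hy : R * D * R⁻¹ * R = R * D := by rw [mul_assoc, nonsing_inv_mul _ hRu, mul_one]
    have hy2 : (R * D * R⁻¹) * (R * D * R⁻¹) = (μ * μ) • 1 := by
      have hD : D * D = (μ * μ) • 1 := by
        simp only [D, reindex_apply, submatrix_mul_equiv, ← blockDiagonal_mul]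
        rw [show (fun i => M i * M i) = (μ * μ) • (1 : Fin d → Matrix (Fin 2) (Fin 2) F) from funext fun i => by
          simp only [M, Pi.smul_apply, Pi.one_apply, smul_mul_smul_comm, one_mul]
          rcases hε (e (0, i)) with h | h <;> rw [h] <;> simp]
        rw [blockDiagonal_smul, blockDiagonal_one, submatrix_smul, Pi.smul_apply, Pi.smul_apply, submatrix_one_equiv]
      simp only [mul_assoc, nonsing_inv_mul_cancel_left _ _ hRu]
      rw [← mul_assoc D, hD, smul_mul_assoc, one_mul, mul_smul_comm, mul_nonsing_inv _ hRu]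
    obtain ⟨P, hPd, hP⟩ := exists_conj hd e M (Or.inr ⟨_, rfl⟩) _ (R * D * R⁻¹) Qx R
      (colMat_unit e (hb.comp e e.injective)) hR hx hy
    refine fin x _ _ P hPd hP hy2 ⟨κ, hκK, ?_⟩
    have hκ₀' : κ₀ = R * C * R⁻¹ := by rw [← hκR, mul_assoc, mul_nonsing_inv _ hRu, mul_one]
    have hc : R * D * R⁻¹ * κ₀ = κ₀ * (R * D * R⁻¹) := by
      rw [hκ₀']
      simp only [mul_assoc, nonsing_inv_mul_cancel_left _ _ hRu]
      rw [← mul_assoc D, hDC, mul_assoc]
    rw [hκeq, mul_add, add_mul, hc, mul_smul_comm, mul_one, smul_mul_assoc, one_mul]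


end Cfsg.Agent.S5969
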