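import Cfsg.Statements.S5970
import Cfsg.Agent.Lib.ThreeTransp.PrimeInv
import Cfsg.Agent.Lib.ThreeTransp.DecPerm

set_option autoImplicit false
set_option maxHeartbeats 1000000
open scoped MatrixGroups
open Cfsg

namespace Cfsg.Agent.S5970

/-- Elements of order `n` of PSL_n(q), `n` prime, and the normalizer of a Singer cycle. Here `T = PSL_n(F)` for a field `F` with `q = p^f` elements (`n ≥ 2`, `(n, q) ≠ (2, 2), (2, 3)`), `k` is a prime dividing `n`, `K` is a subalgebra of the `n × n` matrices that is a field of degree `k` over `F` (an extension-field structure F_{q^k} on `F^n`), and `H` is the subgroup of matrices of determinant 1 normalizing `K` — a subgroup of type GL_{n/k}(q^k) (maximal except in some small cases; maximality is not assumed); Ω is the set of cosets of `H` in `T`, so an element of `T` of prime order `r` (a matrix `x` of determinant 1 with `x^r` scalar, `x` not scalar) fixes a point of Ω when some conjugate of `x` by a matrix of determinant 1 normalizes `K`. Take `k = n > 3` prime with `n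 ≠ p` (so `H` is the normalizer of a Singer cycle), and suppose `n` divides the index of `H`. Then every element of `T` of order `n` is conjugate in `T` into `H` if and only if the multiplicative order of `q` modulo `n` is `n − 1`. -/
theorem result {F : Type*} [Field F] [Fintype F] {p : ℕ} [Fact p.Prime] [CharP F p] {q : ℕ} (hq : Fintype.card F = q)
    (n : ℕ) (hn : 2 ≤ n) (hT : (n, q) ≠ (2, 2) ∧ (n, q) ≠ (2, 3))
    (k : ℕ) (hk : k.Prime) (hkn : k ∣ n) (K : Subalgebra F (Matrix (Fin n) (Fin n) F)) (hK : Cfsg.Geo.IsFieldSubalgebra k K) (hkn' : k = n) (hn3 : 3 < n) (hnp : n ≠ p) (hΩ : n ∣ ((Cfsg.Geo.subalgebraNormalizer K).comap (Matrix.SpecialLinearGroup.toGL : Matrix.SpecialLinearGroup (Fin n) F →* GL (Fin n) F)).index) :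
    (∀ x : Matrix.SpecialLinearGroup (Fin n) F,
      (∃ z : F, ((x ^ n : Matrix.SpecialLinearGroup (Fin n) F) : Matrix (Fin n) (Fin n) F) = z • (1 : Matrix (Fin n) (Fin n) F)) →
      (∀ z : F, (x : Matrix (Fin n) (Fin n) F) ≠ z • (1 : Matrix (Fin n) (Fin n) F)) →
      ∃ P : Matrix.SpecialLinearGroup (Fin n) F, P⁻¹ * x * P ∈ ((Cfsg.Geo.subalgebraNormalizer K).comap (Matrix.SpecialLinearGroup.toGL : Matrix.SpecialLinearGroup (Fin n) F →* GL (Fin n) F))) ↔
    orderOf (q : ZMod n) = n - 1 := by
  open Module CfsgLib.PrimeOrderSp CfsgLib.ThreeTransp.PrimeInv CfsgLib.ThreeTransp.DecPerm in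
  classical
  subst hq
  subst hkn'
  rename' k => n
  haveI : Fact n.Prime := ⟨hk⟩
  haveI : NeZero n := ⟨hk.ne_zero⟩
  set q := Fintype.card F with hq
  have hr : (n : F) ≠ 0 := cast_ne_zero_of_prime_ne hk hnp
  obtain ⟨f, hfp, hf⟩ := FiniteField.card F p
  set c := orderOf ((q : ℕ) : ZMod n) with hc
  have hc0 : 0 < c := orderOf_card_pos hr
  have hqn : ((q : ℕ) : ZMod n) ≠ 0 := fun h => by
    rw [ZMod.natCast_eq_zero_iff, hq, hf] at h
    exact hnp ((Nat.prime_dvd_prime_iff_eq hk hfp).1 (hk.dvd_of_dvd_pow h))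
  have hcd : c ∣ n - 1 := orderOf_dvd_of_pow_eq_one (ZMod.pow_card_sub_one_eq_one hqn)
  have hfield : IsField K :=
    ⟨⟨0, 1, fun h => zero_ne_one (α := Matrix (Fin n) (Fin n) F) (congrArg Subtype.val h)⟩,
      fun a b => Subtype.ext (hK.comm _ a.2 _ b.2), fun {a} ha => by
      obtain ⟨b, hb, hab⟩ := hK.inv _ a.2 fun h => ha (Subtype.ext h)
      exact ⟨⟨b, hb⟩, Subtype.ext hab⟩⟩
  letI := hfield.toField
  haveI : Finite K := Finite.of_injective (fun k : K => (k : Matrix (Fin n) (Fin n) F)) Subtype.val_injective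
  letI := Fintype.ofFinite K
  have hcK : Fintype.card K = q ^ n := by
    rw [Module.card_eq_pow_finrank (K := F) (V := K), hK.finrank_eq]
  -- `F^n` is a line over `K`
  have hreg : ∀ u : Fin n → F, u ≠ 0 → ∃ E : K ≃ₗ[F] (Fin n → F), ∀ k : K, E k = (k : Matrix (Fin n) (Fin n) F).mulVec u := by
    intro u hu
    let ev : K →ₗ[F] (Fin n → F) :=
      { toFun := fun k => (k : Matrix (Fin n) (Fin n) F).mulVec u
        map_add' := fun a b => by simp [Matrix.add_mulVec]
        map_smul' := fun c a => by simp [Matrix.smul_mulVec] }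
    have hev : Function.Injective ev := by
      rw [← LinearMap.ker_eq_bot, LinearMap.ker_eq_bot']
      intro k hk'
      by_contra hne
      obtain ⟨b, hb, hkb⟩ := hK.inv _ k.2 fun h => hne (Subtype.ext h)
      refine hu ?_
      calc u = ((b : Matrix (Fin n) (Fin n) F) * (k : Matrix (Fin n) (Fin n) F)).mulVec u := by
            rw [hK.comm _ hb _ k.2, hkb, Matrix.one_mulVec]
        _ = 0 := by rw [← Matrix.mulVec_mulVec]; exact (congrArg (b.mulVec ·) hk').trans (Matrix.mulVec_zero _)
    exact ⟨LinearEquiv.ofBijective ev ⟨hev,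
      (LinearMap.injective_iff_surjective_of_finrank_eq_finrank (by rw [Module.finrank_fin_fun]; exact hK.finrank_eq)).1 hev⟩,
      fun k => rfl⟩
  have hscal : ∀ a : K, a ^ q = a → ∃ t : F, algebraMap F K t = a := by
    intro a ha
    by_contra hno
    push Not at hno
    let P : Polynomial K := Polynomial.X ^ q - Polynomial.X
    have hP0 : P ≠ 0 := FiniteField.X_pow_card_sub_X_ne_zero K Fintype.one_lt_card
    let S : Finset K := insert a (Finset.univ.image (algebraMap F K))
    have hScard : S.card = q + 1 := by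
      rw [Finset.card_insert_of_notMem (by simpa using hno), Finset.card_image_of_injective _ (algebraMap F K).injective,
        Finset.card_univ]
    have hroot : S.val ⊆ P.roots := fun s hs => by
      rw [Polynomial.mem_roots hP0]
      rcases Finset.mem_insert.1 hs with rfl | hs
      · simp [P, ha]
      · obtain ⟨t, -, rfl⟩ := Finset.mem_image.1 hs
        simp [P, ← map_pow, hq, FiniteField.pow_card]
    have := Polynomial.card_le_degree_of_subset_roots hroot
    rw [hScard, FiniteField.X_pow_card_sub_X_natDegree_eq K Fintype.one_lt_card] at this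
    omega
  -- elements of order `n` of the normalizer have small fixed space
  have hNfix : ∀ y : GL (Fin n) F, y ∈ Cfsg.Geo.subalgebraNormalizer K → y ^ n = 1 →
      (∀ t : F, (y : Matrix (Fin n) (Fin n) F) ≠ t • 1) →
      finrank F (fixSp (Matrix.toLin' (y : Matrix (Fin n) (Fin n) F))) ≤ 1 := by
    intro y hy hyn hyns
    let C : Subalgebra F K := (Subalgebra.centralizer F {(y : Matrix (Fin n) (Fin n) F)}).comap K.val
    have hC : ∀ k : K, k ∈ C ↔ (y : Matrix (Fin n) (Fin n) F) * k = k * y := fun k => by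
      simp [C, Subalgebra.mem_centralizer_iff]
    haveI : IsSimpleOrder (Subalgebra F K) := Subalgebra.isSimpleOrder_of_finrank_prime F K (by rw [hK.finrank_eq]; exact hk)
    have hCtop : C ≠ ⊤ := by
      intro htop
      have hcomm : ∀ k : K, (y : Matrix (Fin n) (Fin n) F) * k = k * y := fun k => (hC k).1 (htop ▸ Algebra.mem_top)
      haveI : Nonempty (Fin n) := ⟨0⟩
      let u : Fin n → F := Pi.single 0 1
      have hu : u ≠ 0 := by simp [u]
      obtain ⟨E, hE⟩ := hreg u hu
      obtain ⟨a, ha⟩ := E.surjective ((y : Matrix (Fin n) (Fin n) F).mulVec u)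
      rw [hE] at ha
      have hya : (y : Matrix (Fin n) (Fin n) F) = (a : Matrix (Fin n) (Fin n) F) := by
        refine Matrix.toLin'.injective (LinearMap.ext fun w => ?_)
        obtain ⟨l, rfl⟩ := E.surjective w
        rw [Matrix.toLin'_apply, Matrix.toLin'_apply, hE, Matrix.mulVec_mulVec, hcomm, ← Matrix.mulVec_mulVec, ← ha,
          Matrix.mulVec_mulVec, Matrix.mulVec_mulVec, hK.comm _ l.2 _ a.2]
      have han : a ^ n = 1 := Subtype.ext (by
        rw [SubmonoidClass.coe_pow, ← hya, ← Units.val_pow_eq_pow_val, hyn]; rfl)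
      have ha0 : a ≠ 0 := fun h => by rw [h, zero_pow hk.ne_zero] at han; exact zero_ne_one han
      have haq : a ^ q = a := by
        by_cases hnd : n ∣ q - 1
        · obtain ⟨l, hl⟩ := hnd
          rw [show q = n * l + 1 by have : 2 ≤ q := Fintype.one_lt_card; omega, pow_succ, pow_mul, han, one_pow, one_mul]
        · have hnd' : ¬ n ∣ q ^ n - 1 := fun h => by
            rw [dvd_pow_sub_one_iff Fintype.card_pos, ← hc] at h
            rcases (Nat.dvd_prime hk).1 h with h1 | h1
            · exact hnd (orderOf_eq_one_iff_dvd.1 h1)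
            · have := Nat.le_of_dvd (by omega) hcd
              omega
          have hg := pow_gcd_eq_one.2 ⟨han, hcK ▸ FiniteField.pow_card_sub_one_eq_one a ha0⟩
          rw [(hk.coprime_iff_not_dvd.2 hnd').gcd_eq_one, pow_one] at hg
          rw [hg, one_pow]
      obtain ⟨t, ht⟩ := hscal a haq
      refine hyns t ?_
      rw [hya, ← ht, ← Algebra.algebraMap_eq_smul_one]
      rfl
    have hCbot : C = ⊥ := (eq_bot_or_eq_top C).resolve_right hCtop
    by_contra hlt
    push Not at hlt
    obtain ⟨u, hu, hu0⟩ := Submodule.exists_mem_ne_zero_of_ne_bot (p := fixSp (Matrix.toLin' (y : Matrix (Fin n) (Fin n) F)))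
      (fun h => by rw [h, finrank_bot] at hlt; omega)
    have hyu : (y : Matrix (Fin n) (Fin n) F).mulVec u = u := mem_fixSp.1 hu
    obtain ⟨E, hE⟩ := hreg u hu0
    have hle : fixSp (Matrix.toLin' (y : Matrix (Fin n) (Fin n) F)) ≤ Submodule.span F {u} := by
      intro w hw
      obtain ⟨a, rfl⟩ := E.surjective w
      have hw' : (y : Matrix (Fin n) (Fin n) F).mulVec (E a) = E a := mem_fixSp.1 hw
      rw [hE] at hw'
      let a' : K := ⟨_, (hy a).1 a.2⟩
      have hya : (y : Matrix (Fin n) (Fin n) F) * a = (a' : Matrix (Fin n) (Fin n) F) * y := by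
        show _ = (y : Matrix (Fin n) (Fin n) F) * a * ((y⁻¹ : GL (Fin n) F) : Matrix (Fin n) (Fin n) F) * y
        rw [mul_assoc _ _ (y : Matrix (Fin n) (Fin n) F), Units.inv_mul, mul_one]
      have haa : a' = a := E.injective (by
        rw [hE, hE]
        conv_rhs => rw [← hw', Matrix.mulVec_mulVec, hya, ← Matrix.mulVec_mulVec, hyu])
      have haC : a ∈ C := (hC a).2 (by rw [hya, haa])
      rw [hCbot, Algebra.mem_bot] at haC
      obtain ⟨t, rfl⟩ := haC
      refine Submodule.mem_span_singleton.2 ⟨t, ?_⟩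
      rw [hE]
      show t • u = (algebraMap F (Matrix (Fin n) (Fin n) F) t).mulVec u
      rw [Algebra.algebraMap_eq_smul_one, Matrix.smul_mulVec, Matrix.one_mulVec]
    have h1 := Submodule.finrank_mono (R := F) hle
    rw [finrank_span_singleton hu0] at h1
    omega
  constructor
  · intro hall
    by_contra hcne
    obtain ⟨X, hXn, hXns, hXfix⟩ : ∃ X : Matrix.SpecialLinearGroup (Fin n) F,
        (X : Matrix (Fin n) (Fin n) F) ^ n = 1 ∧ (∀ t : F, (X : Matrix (Fin n) (Fin n) F) ≠ t • 1) ∧
        2 ≤ finrank F (fixSp (Matrix.toLin' (X : Matrix (Fin n) (Fin n) F))) := by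
      by_cases hc1 : c = 1
      · obtain ⟨ζ, hζn, hζ1⟩ : ∃ ζ : F, ζ ^ n = 1 ∧ ζ ≠ 1 := by
          obtain ⟨ζ, hζ⟩ := exists_prime_orderOf_dvd_card n (G := Fˣ)
            (by rw [Fintype.card_units]; exact orderOf_eq_one_iff_dvd.1 hc1)
          refine ⟨ζ, ?_, fun h => ?_⟩
          · rw [← Units.val_pow_eq_pow_val, ← hζ, pow_orderOf_eq_one, Units.val_one]
          · rw [Units.val_eq_one.1 h, orderOf_one] at hζ; omega
        have hζ0 : ζ ≠ 0 := fun h => by rw [h, zero_pow hk.ne_zero] at hζn; exact zero_ne_one hζn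
        let i₀ : Fin n := ⟨0, by omega⟩
        let i₁ : Fin n := ⟨1, by omega⟩
        let d : Fin n → F := fun i => (if i = i₀ then ζ else 1) * (if i = i₁ then ζ⁻¹ else 1)
        have hd : (Matrix.diagonal d).det = 1 := by
          rw [Matrix.det_diagonal]; simp only [d, Finset.prod_mul_distrib]; simp [mul_inv_cancel₀ hζ0]
        refine ⟨⟨Matrix.diagonal d, hd⟩, ?_, fun t h => ?_, ?_⟩
        · show Matrix.diagonal d ^ n = 1
          rw [Matrix.diagonal_pow, ← Matrix.diagonal_one]
          congr 1
          funext i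
          simp [d, mul_pow, ite_pow, hζn, inv_pow]
        · have h' : Matrix.diagonal d = t • (1 : Matrix (Fin n) (Fin n) F) := h
          have h0 := congrFun (congrFun h' i₀) i₀
          have h2 := congrFun (congrFun h' (⟨2, by omega⟩ : Fin n)) (⟨2, by omega⟩ : Fin n)
          simp [d, i₀, i₁] at h0 h2
          exact hζ1 (h0.trans h2.symm)
        · let g : Fin 2 → (Fin n → F) := fun j => Pi.single (⟨(j : ℕ) + 2, by omega⟩ : Fin n) 1
          have hg : LinearIndependent F g := by
            have := (Pi.basisFun F (Fin n)).linearIndependent.comp (fun j : Fin 2 => (⟨(j : ℕ) + 2, by omega⟩ : Fin n))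
              (fun a b h => Fin.ext (by simpa using h))
            convert this using 1
            funext j
            simp [g]
          have hsub : Submodule.span F (Set.range g) ≤ fixSp (Matrix.toLin' (Matrix.diagonal d)) := by
            rw [Submodule.span_le]
            rintro _ ⟨j, rfl⟩
            rw [SetLike.mem_coe, mem_fixSp, Matrix.toLin'_apply]
            funext l
            rw [Matrix.mulVec_diagonal]
            by_cases hl : l = (⟨(j : ℕ) + 2, by omega⟩ : Fin n)
            · subst hl; simp [d, i₀, i₁, g]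
            · simp [g, Pi.single_eq_of_ne hl]
          have h := Submodule.finrank_mono (R := F) hsub
          rw [finrank_span_eq_card hg, Fintype.card_fin] at h
          exact h
      · have hcle := Nat.le_of_dvd (by omega) hcd
        obtain ⟨X, hX, hns, -, hfix⟩ := exists_fix_dim (n := n) (r := n) (e := n - c) (N := 1) hr (show 2 ≤ c by omega)
          (show n - c + 1 * c = n by omega) (by omega)
        rw [Matrix.SpecialLinearGroup.coe_pow, one_smul] at hX
        exact ⟨X, hX, hns, by rw [hfix]; omega⟩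
    obtain ⟨P, hP⟩ := hall X ⟨1, by rw [Matrix.SpecialLinearGroup.coe_pow, one_smul]; exact hXn⟩ hXns
    rw [Subgroup.mem_comap] at hP
    set y := P⁻¹ * X * P with hy
    have hXy : X = P * y * P⁻¹ := by rw [hy]; group
    have hX1 : X ^ n = 1 := Subtype.ext (by rw [Matrix.SpecialLinearGroup.coe_pow, hXn, Matrix.SpecialLinearGroup.coe_one])
    have hy1 : y ^ n = 1 := by
      have h := conj_pow (i := n) (a := P⁻¹) (b := X)
      rw [inv_inv, ← hy, hX1, mul_one, inv_mul_cancel] at h
      exact h
    have hns' : ∀ t : F, (y : Matrix (Fin n) (Fin n) F) ≠ t • 1 := fun t h => hXns t (by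
      rw [hXy, Matrix.SpecialLinearGroup.coe_mul, Matrix.SpecialLinearGroup.coe_mul, h, mul_smul_comm, mul_one,
        smul_mul_assoc, ← Matrix.SpecialLinearGroup.coe_mul, mul_inv_cancel, Matrix.SpecialLinearGroup.coe_one])
    have h1 := hNfix (Matrix.SpecialLinearGroup.toGL y) hP (by rw [← map_pow, hy1, map_one]) hns'
    have hle : (fixSp (Matrix.toLin' (X : Matrix (Fin n) (Fin n) F))).map
        (Matrix.toLin' ((P⁻¹ : Matrix.SpecialLinearGroup (Fin n) F) : Matrix (Fin n) (Fin n) F)) ≤
        fixSp (Matrix.toLin' (y : Matrix (Fin n) (Fin n) F)) := by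
      rintro _ ⟨w, hw, rfl⟩
      have hw' : (X : Matrix (Fin n) (Fin n) F).mulVec w = w := mem_fixSp.1 hw
      rw [mem_fixSp, Matrix.toLin'_apply, Matrix.toLin'_apply, Matrix.mulVec_mulVec,
        ← Matrix.SpecialLinearGroup.coe_mul, show y * P⁻¹ = P⁻¹ * X by rw [hy]; group,
        Matrix.SpecialLinearGroup.coe_mul, ← Matrix.mulVec_mulVec, hw']
    have hinj : Function.Injective (Matrix.toLin' ((P⁻¹ : Matrix.SpecialLinearGroup (Fin n) F) : Matrix (Fin n) (Fin n) F)) :=
      fun u v huv => by
        have h := congrArg (Matrix.toLin' (P : Matrix (Fin n) (Fin n) F)) huv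
        rwa [← LinearMap.comp_apply, ← LinearMap.comp_apply, ← Matrix.toLin'_mul, ← Matrix.SpecialLinearGroup.coe_mul,
          mul_inv_cancel, Matrix.SpecialLinearGroup.coe_one, Matrix.toLin'_one] at h
    have h2 := Submodule.finrank_mono (R := F) hle
    rw [← (Submodule.equivMapOfInjective _ hinj _).finrank_eq] at h2
    have h3 : finrank F (fixSp (Matrix.toLin' (y : Matrix (Fin n) (Fin n) F))) ≤ 1 := h1
    omega
  · intro hcn x ⟨z, hz⟩ hns
    have hcn' : c = n - 1 := hcn
    rw [Matrix.SpecialLinearGroup.coe_pow] at hz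
    haveI : Nonempty (Fin n) := ⟨0⟩
    -- the Frobenius map
    let v : Fin n → F := Pi.single 0 1
    have hv : v ≠ 0 := by simp [v]
    obtain ⟨E, hE⟩ := hreg v hv
    let φ : K →ₗ[F] K :=
      { toFun := fun a => ⟨(a : Matrix (Fin n) (Fin n) F) ^ q, pow_mem a.2 q⟩
        map_add' := fun a b => Subtype.ext (by
          show ((a : Matrix (Fin n) (Fin n) F) + b) ^ q = (a : Matrix (Fin n) (Fin n) F) ^ q + (b : Matrix (Fin n) (Fin n) F) ^ q
          rw [hq, hf, add_pow_char_pow_of_commute p _
            (hK.comm _ a.2 _ b.2 : Commute (a : Matrix (Fin n) (Fin n) F) b)])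
        map_smul' := fun c a => Subtype.ext (by
          show (c • (a : Matrix (Fin n) (Fin n) F)) ^ q = c • (a : Matrix (Fin n) (Fin n) F) ^ q
          rw [_root_.smul_pow, FiniteField.pow_card]) }
    have hφ : ∀ (i : ℕ) (a : K), (φ ^ i) a = a ^ q ^ i := by
      intro i
      induction i with
      | zero => intro a; simp
      | succ i ih =>
        intro a
        rw [pow_succ', Module.End.mul_apply, ih, pow_succ, pow_mul]
        exact Subtype.ext (by simp [φ])
    set g₀ : Module.End F (Fin n → F) := E.toLinearMap ∘ₗ φ ∘ₗ E.symm.toLinearMap with hg₀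
    have hgE : ∀ (i : ℕ) (a : K), (g₀ ^ i) (E a) = E ((φ ^ i) a) := by
      intro i
      induction i with
      | zero => intro a; simp
      | succ i ih => intro a; rw [pow_succ', pow_succ', Module.End.mul_apply, Module.End.mul_apply, ih]; simp [hg₀]
    have hg₀n : g₀ ^ n = 1 := LinearMap.ext fun w => by
      obtain ⟨a, rfl⟩ := E.surjective w
      rw [hgE, hφ, ← hcK, FiniteField.pow_card, Module.End.one_apply]
    have hg₀ns : fixSp g₀ ≠ ⊤ := fun h => by
      have hall : ∀ a : K, a ^ q = a := fun a => by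
        have h1 : E a ∈ fixSp g₀ := h ▸ Submodule.mem_top
        rw [mem_fixSp] at h1
        have h2 := hgE 1 a
        rw [pow_one, h1, hφ, pow_one] at h2
        exact (E.injective h2).symm
      have h3 : Fintype.card K ≤ Fintype.card F :=
        Fintype.card_le_of_surjective (algebraMap F K) fun a => hscal a (hall a)
      rw [hcK, ← hq] at h3
      have : q ^ 1 < q ^ n := Nat.pow_lt_pow_right Fintype.one_lt_card (by omega)
      rw [pow_one] at this
      omega
    -- a normal basis
    have hbasis : ∀ g : Module.End F (Fin n → F), g ^ n = 1 → fixSp g ≠ ⊤ →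
        ∃ b : Module.Basis (Fin n) F (Fin n → F), ∀ i, g (b i) = b (i + 1) := by
      intro g hgn hgtop
      obtain ⟨N, hN, hsum⟩ := finrank_mov hr hgn
      rw [Module.finrank_fin_fun] at hsum
      rw [← hq, ← hc, hcn'] at hN hsum
      have hN0 : N ≠ 0 := fun h => by
        subst h
        refine hgtop (Submodule.eq_top_of_finrank_eq ?_)
        rw [Module.finrank_fin_fun]
        omega
      have hN1 : N = 1 := by
        by_contra h
        have : 2 * (n - 1) ≤ N * (n - 1) := Nat.mul_le_mul_right _ (by omega)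
        omega
      subst hN1
      have he : finrank F (fixSp g) = 1 := by omega
      obtain ⟨w, hw, hwspan⟩ := exists_gen (isSemisimple_of_pow hr hgn) (killed_movSp hr hgn) 1 (by
        rw [hN, ← hq, ← hc, hcn'])
      let ub := Module.finBasisOfFinrankEq F (fixSp g) he
      set u : Fin n → F := (ub 0 : Fin n → F) with hu
      have hgu : ∀ l : ℕ, (g ^ l) u = u := fun l => by
        induction l with
        | zero => rfl
        | succ l ih => rw [pow_succ', Module.End.mul_apply, ih, mem_fixSp.1 (ub 0).2]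
      let v' : Fin n → F := u + w 0
      let b : Fin n → (Fin n → F) := fun i => (g ^ (i : ℕ)) v'
      have hspan : ⊤ ≤ Submodule.span F (Set.range b) := by
        set S := Submodule.span F (Set.range b) with hS
        have hv' : ∀ j, (g ^ j) v' ∈ S := fun j => pow_mem_of_scalar (z := 1) (by rw [hgn, one_smul]) hk.pos
          (fun l hl => by rw [hS]; exact Submodule.subset_span ⟨⟨l, hl⟩, rfl⟩) j
        have huS : u ∈ S := by
          have h1 : ∑ l ∈ Finset.range n, (g ^ l) v' = (n : F) • u := by
            simp only [v', map_add, Finset.sum_add_distrib]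
            obtain ⟨y, hy⟩ := hw 0
            have h2 : ∑ l ∈ Finset.range n, (g ^ l) (w 0) = 0 := by
              rw [← hy, ← LinearMap.sum_apply, ← Module.End.mul_apply, geom_sum_mul, hgn, sub_self, LinearMap.zero_apply]
            rw [h2, add_zero, Finset.sum_congr rfl fun l _ => hgu l, Finset.sum_const, Finset.card_range,
              ← Nat.cast_smul_eq_nsmul F]
          have h2 : (n : F) • u ∈ S := h1 ▸ Submodule.sum_mem _ fun l _ => hv' l
          simpa [smul_smul, inv_mul_cancel₀ hr] using S.smul_mem (n : F)⁻¹ h2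
        have hfix : fixSp g ≤ S := by
          intro y hy
          have h1 : (⟨y, hy⟩ : fixSp g) ∈ Submodule.span F (Set.range ub) := ub.span_eq ▸ Submodule.mem_top
          have h2 : Submodule.span F (Set.range ub) ≤ S.comap (fixSp g).subtype :=
            Submodule.span_le.2 (by rintro _ ⟨i, rfl⟩; rw [Subsingleton.elim i 0]; exact huS)
          exact h2 h1
        have hmov : movSp g ≤ S := by
          refine hwspan.trans (Submodule.span_le.2 ?_)
          rintro _ ⟨⟨i, j⟩, rfl⟩
          rw [Subsingleton.elim i 0]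
          have h1 : (g ^ j) (w 0) = (g ^ j) v' - (g ^ j) u := by
            rw [← map_sub]; simp [v']
          show (g ^ j) (w 0) ∈ S
          rw [h1, hgu]
          exact sub_mem (hv' j) huS
        exact (isCompl_fix_mov hr hgn).sup_eq_top ▸ sup_le hfix hmov
      refine ⟨Module.Basis.mk (linearIndependent_of_top_le_span_of_card_eq_finrank hspan
        (by rw [Fintype.card_fin, Module.finrank_fin_fun])) hspan, fun i => ?_⟩
      rw [Module.Basis.mk_apply, Module.Basis.mk_apply]
      show g ((g ^ (i : ℕ)) v') = (g ^ ((i + 1 : Fin n) : ℕ)) v'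
      rw [← Module.End.mul_apply, ← pow_succ', pow_eq_pow_mod ((i : ℕ) + 1) hgn, Fin.val_add, Fin.val_one',
        Nat.add_mod_mod]
    have hnd : ¬ n ∣ q - 1 := not_dvd_of_two_le (F := F) (r := n) (show 2 ≤ c by omega)
    obtain ⟨c₀, hc₀⟩ := exists_root hnd z
    have hz0 : z ≠ 0 := fun h => by
      have := congrArg Matrix.det hz
      rw [Matrix.det_pow, x.2, one_pow, h, zero_smul, Matrix.det_zero] at this
      exact one_ne_zero this
    have hc00 : c₀ ≠ 0 := fun h => hz0 (by rw [← hc₀, h, zero_pow hk.ne_zero])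
    set x' : Matrix (Fin n) (Fin n) F := c₀⁻¹ • (x : Matrix (Fin n) (Fin n) F) with hx'
    have hx'n : x' ^ n = 1 := by
      rw [hx', _root_.smul_pow, hz, smul_smul, inv_pow, hc₀, inv_mul_cancel₀ hz0, one_smul]
    have hfn : Matrix.toLin' x' ^ n = 1 := by
      rw [← Matrix.toLin'_pow, hx'n, Matrix.toLin'_one]; rfl
    have hftop : fixSp (Matrix.toLin' x') ≠ ⊤ := fun h => by
      refine hns c₀ (Matrix.toLin'.injective (LinearMap.ext fun w => ?_))
      have h1 : Matrix.toLin' x' w = w := mem_fixSp.1 (h ▸ Submodule.mem_top)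
      rw [hx', map_smul, LinearMap.smul_apply, inv_smul_eq_iff₀ hc00] at h1
      rw [h1, map_smul, Matrix.toLin'_one]
      rfl
    obtain ⟨bx, hbx⟩ := hbasis _ hfn hftop
    obtain ⟨bg, hbg⟩ := hbasis _ hg₀n hg₀ns
    let Φ := bg.equiv bx (Equiv.refl _)
    have hΦ : ∀ w, Matrix.toLin' x' (Φ w) = Φ (g₀ w) := by
      intro w
      suffices h : (Matrix.toLin' x') ∘ₗ Φ.toLinearMap = Φ.toLinearMap ∘ₗ g₀ from LinearMap.congr_fun h w
      refine bg.ext fun i => ?_
      simp [Φ, hbx, hbg]
    set g : Matrix (Fin n) (Fin n) F := LinearMap.toMatrix' g₀ with hg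
    let Q : GL (Fin n) F := Units.mk (LinearMap.toMatrix' Φ.toLinearMap) (LinearMap.toMatrix' Φ.symm.toLinearMap)
      (by rw [← LinearMap.toMatrix'_comp, LinearEquiv.comp_coe, Φ.symm_trans_self]; simp)
      (by rw [← LinearMap.toMatrix'_comp, LinearEquiv.comp_coe, Φ.self_trans_symm]; simp)
    let A : GL (Fin n) F := Units.mk x' (x' ^ (n - 1)) (by rw [← pow_succ', Nat.sub_add_cancel hk.one_lt.le, hx'n])
      (by rw [← pow_succ, Nat.sub_add_cancel hk.one_lt.le, hx'n])
    have hAss : Module.End.IsSemisimple (Matrix.toLin' (A : Matrix (Fin n) (Fin n) F)) := isSemisimple_of_pow hr hfn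
    obtain ⟨C, hCA, hCdet⟩ := CfsgLib.KnownB.Semisimple.exists_det_commute hAss (Matrix.GeneralLinearGroup.det Q)⁻¹
    have hPd : ((C * Q : GL (Fin n) F) : Matrix (Fin n) (Fin n) F).det = 1 := by
      rw [Units.val_mul, Matrix.det_mul]
      have h1 : (C : Matrix (Fin n) (Fin n) F).det = (((Matrix.GeneralLinearGroup.det Q)⁻¹ : Fˣ) : F) := congrArg Units.val hCdet
      rw [h1]
      exact Units.inv_mul _
    let P : Matrix.SpecialLinearGroup (Fin n) F := ⟨_, hPd⟩
    have hxQ : x' * (Q : Matrix (Fin n) (Fin n) F) = (Q : Matrix (Fin n) (Fin n) F) * g :=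
      Matrix.toLin'.injective (LinearMap.ext fun w => by
        rw [Matrix.toLin'_mul, Matrix.toLin'_mul, LinearMap.comp_apply, LinearMap.comp_apply, hg]
        simp only [Q, Matrix.toLin'_toMatrix']
        exact hΦ w)
    have hxP : (x : Matrix (Fin n) (Fin n) F) * (P : Matrix (Fin n) (Fin n) F) =
        (P : Matrix (Fin n) (Fin n) F) * (c₀ • g) := by
      have hx : (x : Matrix (Fin n) (Fin n) F) = c₀ • x' := by rw [hx', smul_smul, mul_inv_cancel₀ hc00, one_smul]
      show (x : Matrix (Fin n) (Fin n) F) * ((C : Matrix (Fin n) (Fin n) F) * Q) = (C : Matrix (Fin n) (Fin n) F) * Q * (c₀ • g)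
      have hCA' : (C : Matrix (Fin n) (Fin n) F) * x' = x' * (C : Matrix (Fin n) (Fin n) F) := congrArg Units.val hCA
      rw [hx, smul_mul_assoc, mul_smul_comm, ← mul_assoc, ← hCA', mul_assoc, hxQ, mul_assoc]
    set y := P⁻¹ * x * P with hy
    have hyg : (y : Matrix (Fin n) (Fin n) F) = c₀ • g := by
      rw [hy, mul_assoc, Matrix.SpecialLinearGroup.coe_mul, Matrix.SpecialLinearGroup.coe_mul, hxP, ← mul_assoc,
        ← Matrix.SpecialLinearGroup.coe_mul, inv_mul_cancel, Matrix.SpecialLinearGroup.coe_one, one_mul]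
    refine ⟨P, ?_⟩
    rw [Subgroup.mem_comap]
    set G : GL (Fin n) F := Matrix.SpecialLinearGroup.toGL y with hG
    have hGg : (G : Matrix (Fin n) (Fin n) F) = c₀ • g := hyg
    have hfwd : ∀ a : K, (G : Matrix (Fin n) (Fin n) F) * a * ((G⁻¹ : GL (Fin n) F) : Matrix (Fin n) (Fin n) F) ∈ K := by
      intro a
      have hga : g * (a : Matrix (Fin n) (Fin n) F) = ((φ a : K) : Matrix (Fin n) (Fin n) F) * g := by
        refine Matrix.toLin'.injective (LinearMap.ext fun w => ?_)
        obtain ⟨l, rfl⟩ := E.surjective w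
        rw [Matrix.toLin'_mul, Matrix.toLin'_mul, LinearMap.comp_apply, LinearMap.comp_apply, hg, Matrix.toLin'_toMatrix']
        have h1 : Matrix.toLin' (a : Matrix (Fin n) (Fin n) F) (E l) = E (a * l) := by
          rw [Matrix.toLin'_apply, hE, hE, Matrix.mulVec_mulVec]; rfl
        have h2 := hgE 1 (a * l)
        have h3 := hgE 1 l
        rw [pow_one, hφ, pow_one] at h2 h3
        rw [h1, h2, h3, mul_pow, hE, Matrix.toLin'_apply, hE, Matrix.mulVec_mulVec]
        rfl
      rw [hGg, smul_mul_assoc, hga, ← mul_smul_comm, ← hGg, mul_assoc, Units.mul_inv, mul_one]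
      exact (φ a).2
    intro a
    refine ⟨fun h => hfwd ⟨a, h⟩, fun h => ?_⟩
    let Ψ : K → K := fun a => ⟨_, hfwd a⟩
    have hΨ : Function.Injective Ψ := fun a b hab => by
      have h1 := congrArg (fun M : Matrix (Fin n) (Fin n) F =>
        ((G⁻¹ : GL (Fin n) F) : Matrix (Fin n) (Fin n) F) * M * (G : Matrix (Fin n) (Fin n) F)) (congrArg Subtype.val hab)
      simp only [Ψ, ← mul_assoc, Units.inv_mul, one_mul] at h1
      simp only [mul_assoc, Units.inv_mul, mul_one] at h1
      exact Subtype.ext h1
    obtain ⟨b, hb⟩ := Finite.injective_iff_surjective.1 hΨ ⟨_, h⟩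
    have h1 := congrArg (fun M : Matrix (Fin n) (Fin n) F =>
      ((G⁻¹ : GL (Fin n) F) : Matrix (Fin n) (Fin n) F) * M * (G : Matrix (Fin n) (Fin n) F)) (congrArg Subtype.val hb)
    simp only [Ψ, ← mul_assoc, Units.inv_mul, one_mul] at h1
    simp only [mul_assoc, Units.inv_mul, mul_one] at h1
    exact h1 ▸ b.2

end Cfsg.Agent.S5970
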