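import Cfsg.Statements.S5971
import Cfsg.Agent.Lib.ThreeTransp.CubicCyclic
import Cfsg.Agent.Lib.Classical.Order

set_option autoImplicit false
set_option maxHeartbeats 800000
open scoped MatrixGroups
open Cfsg

namespace Cfsg.Agent.S5971

/-- Elements of order 3 of PSL_3(q) and the normalizer of a Singer cycle. Here `T = PSL_n(F)` for a field `F` with `q = p^f` elements (`n ≥ 2`, `(n, q) ≠ (2, 2), (2, 3)`), `k` is a prime dividing `n`, `K` is a subalgebra of the `n × n` matrices that is a field of degree `k` over `F` (an extension-field structure F_{q^k} on `F^n`), and `H` is the subgroup of matrices of determinant 1 normalizing `K` — a subgroup of type GL_{n/k}(q^k) (maximal except in some small cases; maximality is not assumed); Ω is the set of cosets of `H` in `T`, so an element of `T` of prime order `r` (a matrix `x` of determinant 1 with `x^r` scalar, `x` not scalar) fixes a point of Ω when some conjugate of `x` by a matrix of determinant 1 normalizes `K`. Take `n = k = 3` and suppose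 3 divides the index of `H`. Then every element of `T` of order 3 is conjugate in `T` into `H` if and only if `q ≡ 4, 7` or `8 (mod 9)`. -/
theorem result {F : Type*} [Field F] [Fintype F] {p : ℕ} [Fact p.Prime] [CharP F p] {q : ℕ} (hq : Fintype.card F = q)
    (n : ℕ) (hn : n = 3) (k : ℕ) (hk : k.Prime) (hkn : k ∣ n) (K : Subalgebra F (Matrix (Fin n) (Fin n) F)) (hK : Cfsg.Geo.IsFieldSubalgebra k K) (hk3 : k = 3) (hΩ : 3 ∣ ((Cfsg.Geo.subalgebraNormalizer K).comap (Matrix.SpecialLinearGroup.toGL : Matrix.SpecialLinearGroup (Fin n) F →* GL (Fin n) F)).index) :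
    (∀ x : Matrix.SpecialLinearGroup (Fin n) F,
      (∃ z : F, ((x ^ 3 : Matrix.SpecialLinearGroup (Fin n) F) : Matrix (Fin n) (Fin n) F) = z • (1 : Matrix (Fin n) (Fin n) F)) →
      (∀ z : F, (x : Matrix (Fin n) (Fin n) F) ≠ z • (1 : Matrix (Fin n) (Fin n) F)) →
      ∃ P : Matrix.SpecialLinearGroup (Fin n) F, P⁻¹ * x * P ∈ ((Cfsg.Geo.subalgebraNormalizer K).comap (Matrix.SpecialLinearGroup.toGL : Matrix.SpecialLinearGroup (Fin n) F →* GL (Fin n) F))) ↔
    (q % 9 = 4 ∨ q % 9 = 7 ∨ q % 9 = 8) := by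
  open Matrix CfsgLib.ThreeTransp.CubicCyclic in
  classical
  subst hn
  subst hk3
  subst hq
  set q := Fintype.card F with hq
  obtain ⟨f, hfp, hf⟩ := FiniteField.card F p
  have hq2 : 2 ≤ q := Fintype.one_lt_card
  have hp3 : q % 3 = 0 → (3 : F) = 0 := fun h => by
    have h1 : p = 3 := ((Nat.prime_dvd_prime_iff_eq Nat.prime_three Fact.out).1
      (Nat.prime_three.dvd_of_dvd_pow (n := (f : ℕ)) (by rw [← hf, ← hq]; exact Nat.dvd_of_mod_eq_zero h))).symm
    subst h1
    exact_mod_cast CharP.cast_eq_zero F 3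
  have h3 : q % 3 ≠ 0 → (3 : F) ≠ 0 := fun h h0 => h (by
    have h1 : p = 3 := (Nat.prime_dvd_prime_iff_eq Fact.out Nat.prime_three).1
      ((CharP.cast_eq_zero_iff F p 3).1 (by exact_mod_cast h0))
    rw [hq, hf, h1]
    exact Nat.mod_eq_zero_of_dvd (dvd_pow_self 3 (PNat.ne_zero f)) |> fun h => h)
  set H := (Cfsg.Geo.subalgebraNormalizer K).comap
    (Matrix.SpecialLinearGroup.toGL : Matrix.SpecialLinearGroup (Fin 3) F →* GL (Fin 3) F) with hH
  obtain ⟨g, hg3, hgreg, hgK⟩ := exists_frob (p := p) hK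
  have hmemH : ∀ y : Matrix.SpecialLinearGroup (Fin 3) F, (y : Matrix (Fin 3) (Fin 3) F) = g → y ∈ H := fun y hy => by
    rw [hH, Subgroup.mem_comap]
    set G : GL (Fin 3) F := Matrix.SpecialLinearGroup.toGL y with hG
    have hGg : (G : Matrix (Fin 3) (Fin 3) F) = g := hy
    have hinv : ((G⁻¹ : GL (Fin 3) F) : Matrix (Fin 3) (Fin 3) F) = g * g :=
      Units.inv_eq_of_mul_eq_one_right (by rw [hGg, hg3])
    have hfwd : ∀ k ∈ K, g * k * (g * g) ∈ K := fun k hk => by
      obtain ⟨k', hk', he⟩ := hgK k hk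
      rw [he, mul_assoc, hg3, mul_one]
      exact hk'
    intro k
    rw [hGg, hinv]
    refine ⟨hfwd k, fun h => ?_⟩
    have h' := hfwd _ (hfwd _ h)
    have hggg : g * g * g = 1 := by rw [mul_assoc, hg3]
    have : g * (g * (g * k * (g * g)) * (g * g)) * (g * g) = k := by
      calc _ = (g * g * g) * k * ((g * g * g) * (g * g * g)) := by simp only [mul_assoc]
        _ = k := by rw [hggg, one_mul, one_mul, mul_one]
    rwa [this] at h'
  constructor
  · intro hall
    by_contra hcon
    push Not at hcon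
    obtain ⟨κ, hκK, hκ⟩ : ∃ κ ∈ K, ∀ a : F, κ ≠ a • (1 : Matrix (Fin 3) (Fin 3) F) := by
      by_contra h
      push Not at h
      have hle : Subalgebra.toSubmodule K ≤ Submodule.span F {(1 : Matrix (Fin 3) (Fin 3) F)} := fun k hk => by
        obtain ⟨a, rfl⟩ := h k hk
        exact Submodule.smul_mem _ _ (Submodule.mem_span_singleton_self _)
      have := (Submodule.finrank_mono hle).trans ((finrank_span_le_card _).trans (by simp : _ ≤ 1))
      have h2 : Module.finrank F (Subalgebra.toSubmodule K) = 3 := hK.finrank_eq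
      omega
    by_cases hidx : q % 9 = 2 ∨ q % 9 = 5
    · have h30 : (3 : F) ≠ 0 := h3 (by omega)
      obtain ⟨Q, -, -, hdet⟩ := exists_regular_basis h30 hg3 hgreg
      let y : Matrix.SpecialLinearGroup (Fin 3) F := ⟨g, hdet⟩
      have hy3 : y ^ 3 = 1 := Subtype.ext (by
        rw [Matrix.SpecialLinearGroup.coe_pow, pow_succ', pow_two]; exact hg3)
      have hy1 : y ≠ 1 := fun h => by
        have h' : g = 1 := congrArg (fun z : Matrix.SpecialLinearGroup (Fin 3) F => (z : Matrix (Fin 3) (Fin 3) F)) h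
        refine hgreg 1 (Pi.single 0 1) (Pi.single 1 1) (by rw [h', one_mulVec, one_smul]) (by rw [h', one_mulVec, one_smul]) ?_
        refine (LinearIndependent.pair_iff' (by simp)).2 fun a ha => ?_
        simpa using congrFun ha 1
      have hord : orderOf (⟨y, hmemH y rfl⟩ : H) = 3 := by
        rw [← Subgroup.orderOf_coe]
        exact orderOf_eq_prime hy3 hy1
      have h9 : 3 * 3 ∣ Nat.card (Matrix.SpecialLinearGroup (Fin 3) F) := by
        rw [← Subgroup.index_mul_card H]
        have h3d := orderOf_dvd_natCard (⟨y, hmemH y rfl⟩ : H)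
        rw [hord] at h3d
        exact mul_dvd_mul hΩ h3d
      rw [CfsgLib.Classical.card_SL_fin', Nat.card_eq_fintype_card, ← hq] at h9
      simp only [show 3 - 1 = 2 from rfl, Finset.prod_range_succ, Finset.prod_range_zero, one_mul] at h9
      have hz : ((q ^ (3 * 2 / 2) * ((q ^ (0 + 2) - 1) * (q ^ (1 + 2) - 1)) : ℕ) : ZMod 9) = 0 :=
        (ZMod.natCast_eq_zero_iff _ 9).2 h9
      rw [Nat.cast_mul, Nat.cast_mul, Nat.cast_pow, Nat.cast_sub (Nat.one_le_pow _ _ (by omega)),
        Nat.cast_sub (Nat.one_le_pow _ _ (by omega)), Nat.cast_pow, Nat.cast_pow, Nat.cast_one,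
        ← ZMod.natCast_mod q 9] at hz
      rcases hidx with h | h <;> rw [h] at hz <;> revert hz <;> decide
    obtain ⟨X, μ, c, i₀, j₀, hμ, hc, hXdet, hX3, hX⟩ : ∃ (X : Matrix (Fin 3) (Fin 3) F) (μ c : F) (i₀ j₀ : Fin 3),
        μ ≠ 0 ∧ c ≠ 0 ∧ X.det = 1 ∧ (∃ z : F, X * (X * X) = z • 1) ∧ X = μ • (1 + Matrix.single i₀ j₀ c) := by
      by_cases h0 : q % 3 = 0
      · have h30 := hp3 h0
        refine ⟨_, 1, 1, 0, 1, one_ne_zero, one_ne_zero, ?_, ⟨1, ?_⟩, rfl⟩
        · rw [one_smul]; exact Matrix.det_transvection_of_ne 0 1 (by decide) 1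
        · rw [one_smul, one_smul]
          ext i j
          fin_cases i <;> fin_cases j <;> simp [Matrix.mul_apply, Fin.sum_univ_three, Matrix.one_apply, Matrix.single_apply]
          linear_combination h30
      · have h91 : q % 9 = 1 := by omega
        obtain ⟨g, hg⟩ := IsCyclic.exists_ofOrder_eq_natCard (α := Fˣ)
        rw [Nat.card_eq_fintype_card, Fintype.card_units, ← hq] at hg
        have hdiv : 9 ∣ q - 1 := by omega
        obtain ⟨ν, hν⟩ : ∃ ν : Fˣ, orderOf ν = 9 :=
          ⟨g ^ ((q - 1) / 9), by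
            rw [orderOf_pow_of_dvd (Nat.div_ne_zero_iff_of_dvd hdiv |>.2 ⟨by omega, by norm_num⟩)
              (hg.symm ▸ Nat.div_dvd_of_dvd hdiv), hg, Nat.div_div_self hdiv (by omega)]⟩
        have hν0 : (ν : F) ^ 3 ≠ 0 := pow_ne_zero 3 ν.ne_zero
        have hν3 : (ν : F) ^ 3 ≠ 1 := fun h => by
          have := Nat.le_of_dvd (by norm_num) (orderOf_dvd_of_pow_eq_one (Units.ext (by simpa using h) : ν ^ 3 = 1))
          omega
        have hν9 : (ν : F) ^ 9 = 1 := by
          rw [← Units.val_pow_eq_pow_val, ← hν, pow_orderOf_eq_one, Units.val_one]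
        refine ⟨_, ν, ((ν : F) ^ 3)⁻¹ - 1, 2, 2, ν.ne_zero, ?_, ?_, ⟨(ν : F) ^ 3, ?_⟩, rfl⟩
        · intro h
          exact hν3 (inv_eq_one.1 (sub_eq_zero.1 h))
        · simp [Matrix.det_fin_three, Matrix.single_apply]
          field_simp
          ring
        · ext i j
          fin_cases i <;> fin_cases j <;> simp [Matrix.mul_apply, Fin.sum_univ_three, Matrix.one_apply, Matrix.single_apply] <;>
            field_simp <;> first | exact hν9.symm | linear_combination -hν9 | linear_combination hν9 | ring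
    obtain ⟨z, hz⟩ := hX3
    let X' : Matrix.SpecialLinearGroup (Fin 3) F := ⟨X, hXdet⟩
    obtain ⟨P, hP⟩ := hall X' ⟨z, by rw [Matrix.SpecialLinearGroup.coe_pow, pow_succ', pow_two]; exact hz⟩ (fun w h => by
      have h' : X = w • (1 : Matrix (Fin 3) (Fin 3) F) := h
      rw [hX] at h'
      have hs : ∀ i, (μ * (1 + (if i₀ = i ∧ j₀ = i then c else 0))) = w := fun i => by
        simpa [Matrix.one_apply, Matrix.single_apply] using congrFun (congrFun h' i) i
      by_cases hij : i₀ = j₀
      · obtain ⟨i, hi⟩ : ∃ i, i ≠ i₀ := exists_ne _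
        have e1 := hs i₀; have e2 := hs i
        rw [if_pos ⟨rfl, hij.symm⟩] at e1
        rw [if_neg (fun h => hi h.1.symm)] at e2
        exact mul_ne_zero hμ hc (by linear_combination e1 - e2)
      · have := congrFun (congrFun h' i₀) j₀
        simp [Matrix.single_apply, hij] at this
        exact this.elim hμ hc)
    rw [hH, Subgroup.mem_comap] at hP
    set y := ((P⁻¹ * X' * P : Matrix.SpecialLinearGroup (Fin 3) F) : Matrix (Fin 3) (Fin 3) F) with hy
    set G : GL (Fin 3) F := Matrix.SpecialLinearGroup.toGL (P⁻¹ * X' * P) with hG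
    set κ' := (G : Matrix (Fin 3) (Fin 3) F) * κ * ((G⁻¹ : GL (Fin 3) F) : Matrix (Fin 3) (Fin 3) F) with hκ'
    have hκ'K : κ' ∈ K := (hP κ).1 hκK
    have hgy : (G : Matrix (Fin 3) (Fin 3) F) = y := rfl
    have hyκ : κ' * y = y * κ := by rw [hκ', ← hgy, mul_assoc _ _ (G : Matrix (Fin 3) (Fin 3) F), Units.inv_mul, mul_one]
    let Pi' := ((P⁻¹ : Matrix.SpecialLinearGroup (Fin 3) F) : Matrix (Fin 3) (Fin 3) F)
    let Pm := (P : Matrix (Fin 3) (Fin 3) F)
    have hPP : Pi' * Pm = 1 := by
      simp only [Pi', Pm]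
      rw [← Matrix.SpecialLinearGroup.coe_mul, inv_mul_cancel, Matrix.SpecialLinearGroup.coe_one]
    have hPP' : Pm * Pi' = 1 := by
      simp only [Pi', Pm]
      rw [← Matrix.SpecialLinearGroup.coe_mul, mul_inv_cancel, Matrix.SpecialLinearGroup.coe_one]
    let w : Fin 3 → F := Pi' *ᵥ Pi.single i₀ 1
    let φ : (Fin 3 → F) → F := fun v => c * (Pm *ᵥ v) j₀
    have hyv : ∀ v, y *ᵥ v = μ • (v + φ v • w) := fun v => by
      have h : y = Pi' * X * Pm := by
        simp only [hy, Matrix.SpecialLinearGroup.coe_mul]; rfl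
      rw [h, hX, mul_smul_comm, smul_mul_assoc, smul_mulVec, mul_add, mul_one, add_mul, hPP, add_mulVec, one_mulVec,
        ← mulVec_mulVec, ← mulVec_mulVec]
      congr 2
      rw [← mulVec_smul]
      congr 1
      funext i
      rw [Matrix.mulVec, dotProduct, Finset.sum_eq_single j₀]
      · by_cases hi : i = i₀
        · subst hi; simp [φ, Matrix.single_apply]
        · simp [φ, Matrix.single_apply, hi, Ne.symm hi]
      · intro b _ hb; simp [Matrix.single_apply, Ne.symm hb]
      · simp
    have hkey : ∀ v, (κ' - κ) *ᵥ v = φ (κ *ᵥ v) • w - φ v • (κ' *ᵥ w) := fun v => by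
      have h := congrArg (fun M => M *ᵥ v) hyκ
      simp only [← mulVec_mulVec, hyv, mulVec_smul, mulVec_add] at h
      have h' := smul_right_injective (Fin 3 → F) hμ h
      rw [sub_mulVec]
      linear_combination (norm := module) h'
    by_cases heq : κ' = κ
    · have hw0 : w ≠ 0 := fun h => by
        have := congrArg (fun v => Pm *ᵥ v) h
        simp only [w, mulVec_mulVec, hPP', one_mulVec, mulVec_zero] at this
        simpa using congrFun this i₀
      have hφ : φ (Pi' *ᵥ Pi.single j₀ 1) = c := by simp only [φ, mulVec_mulVec, hPP', one_mulVec, Pi.single_eq_same, mul_one]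
      have h := hkey (Pi' *ᵥ Pi.single j₀ 1)
      rw [heq, sub_self, zero_mulVec, hφ] at h
      set s := φ (κ *ᵥ (Pi' *ᵥ Pi.single j₀ 1)) / c with hs
      have hu : κ *ᵥ w = s • w := by
        rw [hs, div_eq_inv_mul, ← smul_smul, sub_eq_zero.1 h.symm, smul_smul, inv_mul_cancel₀ hc, one_smul]
      obtain ⟨b, hb, hkb⟩ := hK.inv _ (sub_mem hκK (K.smul_mem (one_mem K) s)) (sub_ne_zero.2 (hκ s))
      refine hw0 ?_
      calc w = (b * (κ - s • 1)) *ᵥ w := by
            rw [hK.comm _ hb _ (sub_mem hκK (K.smul_mem (one_mem K) s)), hkb, one_mulVec]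
        _ = 0 := by rw [← mulVec_mulVec, sub_mulVec, hu, smul_mulVec, one_mulVec, sub_self, mulVec_zero]
    · obtain ⟨b, -, hb⟩ := hK.inv _ (sub_mem hκ'K hκK) (sub_ne_zero.2 heq)
      have htop : (⊤ : Submodule F (Fin 3 → F)) ≤ Submodule.span F (Set.range ![w, κ' *ᵥ w]) := fun v _ => by
        have h : (κ' - κ) *ᵥ (b *ᵥ v) = v := by rw [mulVec_mulVec, hb, one_mulVec]
        rw [← h, hkey]
        exact sub_mem (Submodule.smul_mem _ _ (Submodule.subset_span ⟨0, rfl⟩))
          (Submodule.smul_mem _ _ (Submodule.subset_span ⟨1, rfl⟩))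
      have := (Submodule.finrank_mono htop).trans (finrank_range_le_card ![w, κ' *ᵥ w])
      rw [finrank_top, Module.finrank_fin_fun, Fintype.card_fin] at this
      omega
  · intro hcond x ⟨z, hz⟩ hns
    have h30 : (3 : F) ≠ 0 := h3 (by omega)
    rw [Matrix.SpecialLinearGroup.coe_pow, pow_succ', pow_two] at hz
    set Y := (x : Matrix (Fin 3) (Fin 3) F) with hY
    have hxd : Y.det = 1 := x.2
    have hz3 : z ^ 3 = 1 := by
      have h := congrArg Matrix.det hz
      rw [det_mul, det_mul, hxd, det_smul, det_one, Fintype.card_fin] at h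
      simpa using h.symm
    obtain ⟨μ, hμ⟩ : ∃ μ : F, μ ^ 3 = z := by
      by_contra h
      push Not at h
      have h1 := det_of_noncube hz h
      rw [hxd] at h1
      exact h 1 (by rw [one_pow]; exact h1)
    have hz1 : z = 1 := by
      have h9 : μ ^ 9 = 1 := by rw [show 9 = 3 * 3 from rfl, pow_mul, hμ, hz3]
      have hμ0 : μ ≠ 0 := fun h => by rw [h, zero_pow (by norm_num)] at h9; exact zero_ne_one h9
      have h1 := orderOf_dvd_of_pow_eq_one h9
      have h2 := orderOf_dvd_of_pow_eq_one (FiniteField.pow_card_sub_one_eq_one μ hμ0)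
      rw [← hq] at h2
      have h39 : ¬ 9 ∣ q - 1 := by omega
      obtain ⟨i, hi, hi'⟩ := (Nat.dvd_prime_pow Nat.prime_three (m := 2)).1 (by simpa using h1)
      interval_cases i
      · rw [← hμ, show μ = 1 from orderOf_eq_one_iff.1 (by simpa using hi'), one_pow]
      · rw [← hμ, ← show orderOf μ = 3 by simpa using hi', pow_orderOf_eq_one]
      · exact absurd (hi' ▸ h2) (by simpa using h39)
    rw [hz1, one_smul] at hz
    -- repeated eigenvalues would make the element scalar
    have hreg : ∀ (c : F) (u v : Fin 3 → F), Y *ᵥ u = c • u → Y *ᵥ v = c • v → ¬ LinearIndependent F ![u, v] := by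
      intro c u v hu hv hli
      obtain ⟨w, hw⟩ : ∃ w, w ∉ Submodule.span F (Set.range ![u, v]) := by
        by_contra h
        push Not at h
        have h' : Submodule.span F (Set.range ![u, v]) = ⊤ := eq_top_iff.2 fun w _ => h w
        have h2 := finrank_span_eq_card hli
        rw [h', finrank_top, Module.finrank_fin_fun, Fintype.card_fin] at h2
        omega
      have hli3 : LinearIndependent F ![w, u, v] := linearIndependent_finCons.2 ⟨hli, hw⟩
      let Q : Matrix (Fin 3) (Fin 3) F := Matrix.of fun i j => ![w, u, v] j i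
      have hQu : IsUnit Q := Matrix.linearIndependent_cols_iff_isUnit.1 hli3
      have hQ : IsUnit Q.det := (Matrix.isUnit_iff_isUnit_det Q).1 hQu
      let B := basisOfLinearIndependentOfCardEqFinrank hli3 (by simp)
      have hB : ⇑B = ![w, u, v] := coe_basisOfLinearIndependentOfCardEqFinrank hli3 _
      obtain ⟨co, hco⟩ := (Submodule.mem_span_range_iff_exists_fun F).1 (show Y *ᵥ w ∈ Submodule.span F (Set.range ![w, u, v]) by
        rw [← hB, B.span_eq]; trivial)
      let T : Matrix (Fin 3) (Fin 3) F := !![co 0, 0, 0; co 1, c, 0; co 2, 0, c]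
      have hYQ : Y * Q = Q * T := by
        ext i j
        show (Y *ᵥ ![w, u, v] j) i = _
        rw [Matrix.mul_apply, Fin.sum_univ_three]
        fin_cases j <;> simp only [Matrix.cons_val_zero, Matrix.cons_val_one, Matrix.cons_val_two, Matrix.head_cons,
          Matrix.tail_cons, Fin.mk_zero, Fin.mk_one, Fin.reduceFinMk, ← hco, hu, hv]
        all_goals simp [Q, T, Fin.sum_univ_three, mul_comm]
      have hT : T = Q⁻¹ * Y * Q := by rw [mul_assoc, hYQ, ← mul_assoc, nonsing_inv_mul _ hQ, one_mul]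
      have hT3 : T * (T * T) = 1 := by
        rw [hT]
        simp only [mul_assoc, mul_nonsing_inv_cancel_left _ _ hQ]
        rw [show Y * (Y * (Y * Q)) = Y * (Y * Y) * Q by simp only [mul_assoc], hz, one_mul, nonsing_inv_mul _ hQ]
      have hdT : T.det = 1 := by
        rw [hT, det_mul, det_mul, hxd, mul_one, ← det_mul, nonsing_inv_mul _ hQ, det_one]
      have e00 := congrFun (congrFun hT3 0) 0
      have e11 := congrFun (congrFun hT3 1) 1
      have e10 := congrFun (congrFun hT3 1) 0
      have e20 := congrFun (congrFun hT3 2) 0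
      simp [T, Matrix.mul_apply, Fin.sum_univ_three] at e00 e11 e10 e20
      simp [T, Matrix.det_fin_three] at hdT
      have hd : co 0 = c := by linear_combination c * hdT - co 0 * e11
      rw [hd] at e10 e20
      have hc2 : (3 : F) * (c * c) ≠ 0 := mul_ne_zero h30 fun h => by
        rw [h, mul_zero] at e11; exact zero_ne_one e11
      have h1 : co 1 = 0 := (mul_eq_zero.1 (show (3 : F) * (c * c) * co 1 = 0 by linear_combination e10)).resolve_left hc2
      have h2 : co 2 = 0 := (mul_eq_zero.1 (show (3 : F) * (c * c) * co 2 = 0 by linear_combination e20)).resolve_left hc2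
      refine hns c ?_
      have hTc : T = c • 1 := by
        ext i j; fin_cases i <;> fin_cases j <;> simp [T, hd, h1, h2, Matrix.one_apply]
      calc Y = Y * Q * Q⁻¹ := by rw [mul_assoc, mul_nonsing_inv _ hQ, mul_one]
        _ = c • 1 := by rw [hYQ, hTc, mul_smul_comm, mul_one, smul_mul_assoc, mul_nonsing_inv _ hQ]
    obtain ⟨Qx, hQx, hx, -⟩ := exists_regular_basis h30 hz hreg
    obtain ⟨Qy, hQy, hyQ, -⟩ := exists_regular_basis h30 hg3 hgreg
    obtain ⟨P, hPd, hP⟩ := exists_conj h30 (μ := (1 : F)) hQx hQy (by rw [one_smul]; exact hx) (by rw [one_smul]; exact hyQ)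
    let P' : Matrix.SpecialLinearGroup (Fin 3) F := ⟨P, hPd⟩
    refine ⟨P', hmemH _ ?_⟩
    rw [mul_assoc, Matrix.SpecialLinearGroup.coe_mul, Matrix.SpecialLinearGroup.coe_mul]
    show _ * (Y * P) = g
    rw [hP, ← mul_assoc]
    show ((P'⁻¹ : Matrix.SpecialLinearGroup (Fin 3) F) : Matrix (Fin 3) (Fin 3) F) * (P' : Matrix (Fin 3) (Fin 3) F) * g = g
    rw [← Matrix.SpecialLinearGroup.coe_mul, inv_mul_cancel, Matrix.SpecialLinearGroup.coe_one, one_mul]


end Cfsg.Agent.S5971
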