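import Cfsg.Statements.S5972
import Cfsg.Agent.Lib.OrthPrime.InvolTS
import Cfsg.Agent.Lib.OrthPrime.TSApp
-- import your own Cfsg.Agent.* helpers here

set_option autoImplicit false
open scoped MatrixGroups
open Cfsg

namespace Cfsg.Agent.S5972

open CfsgLib.OrthPrime in
theorem arith {d m i r N : ℕ} (hmd : m ≤ d) (hi : 1 ≤ i) (him : i ≤ m) (ht : 1 ≤ (r - 1) / i)
    (hk : 2 * (m % i) < (2 * d + 1) % (if Even i then i else 2 * i))
    (h : Odd i ∨ (r - 1) / i + 2 * (m / i) ≤ (2 * d + 1) / i)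
    (hN : N * (unit i * i) < 2 * d + 1) :
    ∃ a b, m = a + b * i ∧ b ≤ tsMax r i N ∧ 2 * a < 2 * d + 1 - N * (unit i * i) := by
  have hml := Nat.div_add_mod m i
  rw [mul_comm] at hml
  set m' := m / i
  set l := m % i
  set t := (r - 1) / i
  by_cases hev : Even i
  · rw [if_pos hev] at hk
    have hM := Nat.div_add_mod (2 * d + 1) i
    rw [mul_comm] at hM
    have hk' := Nat.mod_lt (2 * d + 1) (show i > 0 by omega)
    set M := (2 * d + 1) / i
    set k := (2 * d + 1) % i
    replace h := h.resolve_left (Nat.not_odd_iff_even.2 hev)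
    rw [unit, if_pos hev, one_mul] at hN ⊢
    rw [tsMax, if_pos hev]
    have hNM : N ≤ M := by
      by_contra hc
      have : (M + 1) * i ≤ N * i := Nat.mul_le_mul_right i (by omega)
      rw [Nat.add_mul, one_mul] at this
      omega
    have hMN : N * i ≤ M * i := Nat.mul_le_mul_right i hNM
    by_cases hJ : m' ≤ (N - t + 1) / 2
    · exact ⟨l, m', by omega, hJ, by omega⟩
    · set J := (N - t + 1) / 2 with hJdef
      have h1 : J * i ≤ m' * i := Nat.mul_le_mul_right i (by omega)
      have h2 : (N + 2 * m') * i ≤ (M + 2 * J) * i := Nat.mul_le_mul_right i (by omega)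
      rw [Nat.add_mul, Nat.add_mul, mul_assoc, mul_assoc] at h2
      exact ⟨m - J * i, J, by omega, le_rfl, by omega⟩
  · rw [if_neg hev] at hk
    have hM := Nat.div_add_mod (2 * d + 1) (2 * i)
    rw [mul_comm] at hM
    have hk' := Nat.mod_lt (2 * d + 1) (show 2 * i > 0 by omega)
    set M := (2 * d + 1) / (2 * i)
    set k := (2 * d + 1) % (2 * i)
    rw [unit, if_neg hev] at hN ⊢
    rw [tsMax, if_neg hev]
    have hNM : N ≤ M := by
      by_contra hc
      have : (M + 1) * (2 * i) ≤ N * (2 * i) := Nat.mul_le_mul_right _ (by omega)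
      rw [Nat.add_mul, one_mul] at this
      omega
    have hMN : N * (2 * i) ≤ M * (2 * i) := Nat.mul_le_mul_right _ hNM
    have h2N : N * (2 * i) = 2 * (N * i) := by ring
    by_cases hJ : m' ≤ N
    · exact ⟨l, m', by omega, hJ, by omega⟩
    · have h1 : N * i ≤ m' * i := Nat.mul_le_mul_right i (by omega)
      exact ⟨m - N * i, N, by omega, le_rfl, by omega⟩

open CfsgLib.OrthPrime in
theorem arith' {d m i r : ℕ} {e : ℤ} (hmd : m ≤ d) (hi : 1 ≤ i) (him : i ≤ m) (ht : 1 ≤ (r - 1) / i)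
    (H : ∀ N, Valid (2 * d + 1) e i N → TSCond (2 * d + 1) e r i N m) :
    2 * (m % i) < (2 * d + 1) % (if Even i then i else 2 * i) ∧
      (Odd i ∨ (r - 1) / i + 2 * (m / i) ≤ (2 * d + 1) / i) := by
  have hml := Nat.div_add_mod m i
  rw [mul_comm] at hml
  set m' := m / i
  set l := m % i
  set t := (r - 1) / i
  have hlow : ∀ a b, m = a + b * i → b ≤ m' ∧ l ≤ a ∧ (b < m' → l + i ≤ a) := fun a b hab => by
    have hb : b ≤ m' := (Nat.le_div_iff_mul_le (by omega)).2 (by omega)
    have h1 : b * i ≤ m' * i := Nat.mul_le_mul_right i hb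
    refine ⟨hb, by omega, fun hlt => ?_⟩
    have h2 : (b + 1) * i ≤ m' * i := Nat.mul_le_mul_right i hlt
    rw [Nat.add_mul, one_mul] at h2
    omega
  by_cases hev : Even i
  · rw [if_pos hev]
    have hM := Nat.div_add_mod (2 * d + 1) i
    rw [mul_comm] at hM
    have hk' := Nat.mod_lt (2 * d + 1) (show i > 0 by omega)
    set M := (2 * d + 1) / i
    set k := (2 * d + 1) % i
    have hk1 : 1 ≤ k := by
      by_contra hc
      obtain ⟨j, hj⟩ := hev
      have : M * i = 2 * (M * j) := by rw [hj]; ring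
      omega
    have hM1 : 2 ≤ M := (Nat.le_div_iff_mul_le (by omega)).2 (by omega)
    have hv : ∀ N, 1 ≤ N → N ≤ M → TSCond (2 * d + 1) e r i N m := fun N h1 h2 => H N ⟨h1, Or.inl (by
      have : N * i ≤ M * i := Nat.mul_le_mul_right i h2
      rw [unit, if_pos hev, one_mul]
      omega)⟩
    obtain ⟨a, b, hab, hb, hac⟩ := hv M (by omega) le_rfl
    rw [tsMax, if_pos hev] at hb
    rw [unit, if_pos hev, one_mul] at hac
    replace hac : 2 * a < 2 * d + 1 - M * i := by
      rcases hac with h | ⟨h, -⟩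
      · exact h
      · obtain ⟨j, hj⟩ := hev
        have : M * i = 2 * (M * j) := by rw [hj]; ring
        omega
    obtain ⟨hb', hla, hlt⟩ := hlow a b hab
    refine ⟨by omega, Or.inr ?_⟩
    have hbm : b = m' := by
      by_contra hne
      have := hlt (by omega)
      omega
    have hm' : 1 ≤ m' := (Nat.le_div_iff_mul_le (by omega)).2 (by omega)
    subst hbm
    by_contra hc
    obtain ⟨a', b', hab', hb'', hac'⟩ := hv (M - 1) (by omega) (by omega)
    rw [tsMax, if_pos hev] at hb''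
    rw [unit, if_pos hev, one_mul] at hac'
    replace hac' : 2 * a' ≤ 2 * d + 1 - (M - 1) * i := hac'.elim le_of_lt fun h => h.1.le
    obtain ⟨-, -, hlt'⟩ := hlow a' b' hab'
    have hlt'' : b' < m / i := by omega
    have := hlt' hlt''
    have hMi : (M - 1) * i + i = M * i := by rw [← Nat.succ_mul, Nat.succ_eq_add_one, Nat.sub_add_cancel (by omega)]
    omega
  · rw [if_neg hev]
    refine ⟨?_, Or.inl (Nat.not_even_iff_odd.1 hev)⟩
    have hM := Nat.div_add_mod (2 * d + 1) (2 * i)
    rw [mul_comm] at hM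
    set M := (2 * d + 1) / (2 * i)
    set k := (2 * d + 1) % (2 * i)
    have hM1 : 1 ≤ M := (Nat.le_div_iff_mul_le (by omega)).2 (by omega)
    have h2M : M * (2 * i) = 2 * (M * i) := by ring
    have hk1 : 1 ≤ k := by omega
    obtain ⟨a, b, hab, -, hac⟩ := H M ⟨hM1, Or.inl (by rw [unit, if_neg hev]; omega)⟩
    rw [unit, if_neg hev] at hac
    replace hac : 2 * a ≤ 2 * d + 1 - M * (2 * i) := hac.elim le_of_lt fun h => h.1.le
    obtain ⟨-, hla, -⟩ := hlow a b hab
    omega

/-- Elements of prime order of Ω_n(q), n = 2d+1 ≥ 7, q odd, with no fixed totally singular `m`-space. Here `T = Ω_n(q)` is realised as the commutator subgroup of the isometry group of the quadratic form `x₀² + Σ xᵢyᵢ` over the field `F` with `q` elements (it has trivial centre, so its elements of prime order `r` are used directly); let `1 ≤ m ≤ d` and let `r` be a prime dividing the number of totally singular `m`-spaces. For `r ≠ p` let `i` be the multiplicative order of `q` modulo `r`, `c = i` for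 `i` even and `c = 2i` for `i` odd, and write `k = n mod c`, `ℓ = m mod i`, `n' = ⌊n/i⌋`, `m' = ⌊m/i⌋`, `t = (r−1)/i`. Then every element of `T` of order `r` fixes some totally singular `m`-space if and only if either (i) `r = 2` and (`m < (n−1)/2` or `q ≡ 1 (mod 4)`); or (ii) `r ≠ p` is odd, `i ≤ m`, `k > 2ℓ`, and (`i` is odd or `n' − 2m' ≥ t`). -/
theorem result {F : Type*} [Field F] [Fintype F] {p : ℕ} [Fact p.Prime] [CharP F p] {q : ℕ} (hq : Fintype.card F = q) (hqodd : Odd q)
    (d m : ℕ) (hd : 3 ≤ d) (hm : 1 ≤ m) (hmd : m ≤ d)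
    (r : ℕ) [Fact r.Prime]
    (hrΩ : r ∣ Nat.card {W : Submodule F (Unit ⊕ (Fin d ⊕ Fin d) → F) // Module.finrank F ↥W = m ∧ (∀ w ∈ W, Cfsg.quadFormOdd d F w = 0)})
    (i c : ℕ) (hi : i = orderOf (q : ZMod r)) (hc : c = if Even i then i else 2 * i) :
    (∀ x : GL (Unit ⊕ (Fin d ⊕ Fin d)) F, x ∈ Cfsg.Geo.omegaGL (Cfsg.quadFormOdd d F) → orderOf x = r →
      ∃ W : Submodule F (Unit ⊕ (Fin d ⊕ Fin d) → F), Module.finrank F ↥W = m ∧ (∀ w ∈ W, Cfsg.quadFormOdd d F w = 0) ∧
        W.map (Matrix.toLin' (x : Matrix (Unit ⊕ (Fin d ⊕ Fin d)) (Unit ⊕ (Fin d ⊕ Fin d)) F)) ≤ W) ↔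
    ((r = 2 ∧ (m < d ∨ q % 4 = 1)) ∨
     (r ≠ p ∧ 2 < r ∧ i ≤ m ∧ 2 * (m % i) < (2 * d + 1) % c ∧ (Odd i ∨ (r - 1) / i + 2 * (m / i) ≤ (2 * d + 1) / i))) := by
  open CfsgLib.OrthPrime CfsgLib.Geometry CfsgLib.PrimeOrderSp in
  classical
  subst hq
  have h2 : (2 : F) ≠ 0 := two_ne_zero_of_odd_card rfl hqodd
  rw [← coe_matQuad_odd] at hrΩ ⊢
  set Q := matQuad (oddMat d F)
  have hQ : (QuadraticMap.polarBilin Q).Nondegenerate := nondeg_odd h2 d
  have hn : Fintype.card (Unit ⊕ (Fin d ⊕ Fin d)) = 2 * d + 1 := by simp; omega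
  have hfr : Module.finrank F (Unit ⊕ (Fin d ⊕ Fin d) → F) = 2 * d + 1 := by
    rw [Module.finrank_fintype_fun_eq_card, hn]
  by_cases hrp : r = p
  · subst hrp
    exact absurd hrΩ (not_dvd_natCard_ts (p := r) hQ (by omega))
  have hr : (r : F) ≠ 0 := natCast_ne_zero_of_ne hrp
  by_cases hr2 : r = 2
  · subst hr2
    simp only [lt_irrefl, false_and, and_false, or_false, true_and]
    have hqmod := Nat.odd_iff.1 hqodd
    constructor
    · intro H
      by_contra hc
      push Not at hc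
      obtain ⟨hm1, hq4⟩ := hc
      obtain ⟨D, -, hD, hDd, hDs⟩ := exists_minus_plane (Q := Q) (D := ⊤) (nondeg_iff.1 fun u _ hu' =>
        hQ.1 u fun v => hu' v trivial) (by rw [finrank_top]; omega)
      obtain ⟨f, hf, hff, hmov⟩ := exists_neg_end hQ h2 hD
      obtain ⟨x, hx, hxf⟩ := (invol_mem_omega_iff hQ h2 hf hff).2 ⟨1, by rw [hmov, hDd], by
        rw [hmov, sgn_minus hDs, dSgn, if_neg (by simp [hq4])]⟩
      have hx2 : orderOf x = 2 := orderOf_eq_prime (Units.ext (Matrix.toLin'.injective (by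
        rw [toLin'_pow, hxf, hff, Units.val_one, Matrix.toLin'_one, Module.End.one_eq_id]))) fun h1 => by
        have : Module.finrank F (movSp f) = 0 := by
          rw [← hxf, h1, Units.val_one, Matrix.toLin'_one, ← Module.End.one_eq_id, movSp, sub_self,
            LinearMap.range_zero, finrank_bot]
        rw [hmov, hDd] at this
        omega
      obtain ⟨W, hW1, hW2, hW3⟩ := H x hx hx2
      rw [hxf, Submodule.map_le_iff_le_comap] at hW3
      obtain ⟨a, b, hab, ha, hb⟩ := invol_ts_bound hQ h2 hf hff hW2 fun v hv => hW3 hv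
      obtain ⟨-, -, hsum, -, -⟩ := invol_facts hQ h2 hf hff
      rw [hmov] at hb hsum
      rcases hb with hb | ⟨-, hb⟩
      · rcases ha with ha | ⟨ha, -⟩ <;> omega
      · exact hDs hb
    · intro hcond x hx hx2
      have hf := omega_preserves hx
      set f := Matrix.toLin' (x : Matrix (Unit ⊕ (Fin d ⊕ Fin d)) (Unit ⊕ (Fin d ⊕ Fin d)) F) with hfdef
      have hff : f ^ 2 = 1 := by
        rw [hfdef, ← toLin'_pow, ← hx2, pow_orderOf_eq_one, Units.val_one, Matrix.toLin'_one, Module.End.one_eq_id]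
      obtain ⟨k, hk, hs⟩ := (invol_mem_omega_iff hQ h2 hf hff).1 ⟨x, hx, rfl⟩
      obtain ⟨-, -, hsum, -, -⟩ := invol_facts hQ h2 hf hff
      obtain ⟨W, hW1, hW2, hW3⟩ := exists_invol_ts hQ h2 hf hff (a := min m (d - k)) (b := m - min m (d - k))
        (Or.inl (by omega)) (by
          rcases hcond with hlt | hq4
          · rcases Nat.eq_zero_or_pos k with hk0 | hk0
            · exact Or.inr ⟨by omega, by rw [Submodule.finrank_eq_zero.1 (show Module.finrank F (movSp f) = 0 by omega)]; exact plus_bot⟩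
            · exact Or.inl (by omega)
          · have hp : Plus Q (movSp f) := plus_iff_sgn.2 (by rw [hs, dSgn, if_pos (Or.inl hq4)])
            rcases Nat.lt_or_ge (2 * (m - min m (d - k))) (2 * k) with h | h
            · exact Or.inl (by omega)
            · exact Or.inr ⟨by omega, hp⟩)
      exact ⟨W, by omega, hW2, Submodule.map_le_iff_le_comap.2 fun v hv => hW3 v hv⟩
  have hi' : orderOf ((Fintype.card F : ℕ) : ZMod r) = i := hi.symm
  have hrodd := (Fact.out : r.Prime).odd_of_ne_two hr2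
  have hr3 : 2 < r := lt_of_le_of_ne (Fact.out : r.Prime).two_le (Ne.symm hr2)
  have hcrit := elusive_iff_order hQ (by omega) hrodd
    (fun W => Module.finrank F W = m ∧ ∀ w ∈ W, Q w = 0)
  simp only [and_assoc] at hcrit
  rw [hcrit]
  have hts := ts_elusive hQ hr hr2 hi' (m := m) (by omega) hrΩ
  simp only [and_assoc] at hts
  rw [hts, hfr]
  have hipos : 1 ≤ i := hi' ▸ orderOf_card_pos (F := F) hr
  have ht := div_order_pos hr hi'
  simp only [ne_eq, hrp, not_false_eq_true, hr3, true_and, hr2, false_and, false_or, ← hc]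
  constructor
  · rintro ⟨him, H⟩
    have h1 := arith' hmd hipos him ht H
    rw [← hc] at h1
    exact ⟨him, h1⟩
  · rintro ⟨him, hk, hh⟩
    refine ⟨him, fun N hN => ?_⟩
    have hlt : N * (unit i * i) < 2 * d + 1 := by
      rcases hN.2 with h | ⟨h, -⟩
      · exact h
      · obtain ⟨j, hj⟩ := (even_unit_mul i).mul_left N
        omega
    obtain ⟨a, b, h1, h2, h3⟩ := arith hmd hipos him ht (hc ▸ hk) hh hlt
    exact ⟨a, b, h1, h2, Or.inl h3⟩

end Cfsg.Agent.S5972
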