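import Cfsg.Statements.S5973
import Cfsg.Agent.Lib.OrthPrime.TSEven
import Cfsg.Agent.Lib.OrthPrime.TSApp
import Cfsg.Agent.Lib.OrthPrime.ArithTS
-- import your own Cfsg.Agent.* helpers here

set_option autoImplicit false
open scoped MatrixGroups
open Cfsg

namespace Cfsg.Agent.S5973

/-- Elements of prime order of PΩ⁺_n(q), n = 2d ≥ 8, with no fixed totally singular `m`-space, `m < n/2`. Here `T = PΩ⁺_n(q)` is realised through `Ω⁺_n(q)`, the commutator subgroup of the isometry group of the quadratic form `Σ xᵢyᵢ` over the field `F` with `q` elements; an element of `T` of prime order `r` is an element `x` of `Ω⁺_n(q)` with `x^r` scalar and `x` not scalar. Let `1 ≤ m < d` and let `r` be a prime dividing the number of totally singular `m`-spaces. For `r ≠ p` let `i` be the multiplicative order of `q` modulo `r`, `c = i` for `i` even and `c = 2i` for `i` odd, and write `k = n mod c`, `ℓ = m mod i`, `n' = ⌊n/i⌋`, `m' = ⌊m/i⌋`, `t = (r−1)/i`.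 Then every element of `T` of order `r` fixes some totally singular `m`-space if and only if one of: (i) `r = 2 ≠ p` and either `q ≡ 1 (mod 4)`, or `q ≡ 3 (mod 4)`, `m ≤ n/2 − 2` and (`m` even or `n ≡ 2 (mod 4)`); (ii) `r ≠ p` odd, `i` odd, `i ≤ m` and `k ≥ 2ℓ`; (iii) `r ≠ p` odd, `i` even, `i ≤ m`, `n' − 2m' ≥ t`, and one of: `i ≥ 2ℓ`, `k = 0`, `n/i` odd and `n' − 2m' > t`; or `k ≥ 2ℓ` and `n'` even; or `k > 2ℓ` and `n'` odd. -/
theorem result {F : Type*} [Field F] [Fintype F] {p : ℕ} [Fact p.Prime] [CharP F p] {q : ℕ} (hq : Fintype.card F = q)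
    (d m : ℕ) (hd : 4 ≤ d) (hm : 1 ≤ m) (hmd : m < d)
    (r : ℕ) [Fact r.Prime]
    (hrΩ : r ∣ Nat.card {W : Submodule F (Fin d ⊕ Fin d → F) // Module.finrank F ↥W = m ∧ (∀ w ∈ W, Cfsg.quadFormPlus d F w = 0)})
    (i c : ℕ) (hi : i = orderOf (q : ZMod r)) (hc : c = if Even i then i else 2 * i) :
    (∀ x : GL (Fin d ⊕ Fin d) F, x ∈ Cfsg.Geo.omegaGL (Cfsg.quadFormPlus d F) →
      (∃ z : F, ((x ^ r : GL (Fin d ⊕ Fin d) F) : Matrix (Fin d ⊕ Fin d) (Fin d ⊕ Fin d) F) = z • (1 : Matrix (Fin d ⊕ Fin d) (Fin d ⊕ Fin d) F)) →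
      (∀ z : F, (x : Matrix (Fin d ⊕ Fin d) (Fin d ⊕ Fin d) F) ≠ z • (1 : Matrix (Fin d ⊕ Fin d) (Fin d ⊕ Fin d) F)) →
      ∃ W : Submodule F (Fin d ⊕ Fin d → F), Module.finrank F ↥W = m ∧ (∀ w ∈ W, Cfsg.quadFormPlus d F w = 0) ∧
        W.map (Matrix.toLin' (x : Matrix (Fin d ⊕ Fin d) (Fin d ⊕ Fin d) F)) ≤ W) ↔
    ((r = 2 ∧ p ≠ 2 ∧ (q % 4 = 1 ∨ (q % 4 = 3 ∧ m + 2 ≤ d ∧ (Even m ∨ (2 * d) % 4 = 2)))) ∨
     (r ≠ p ∧ 2 < r ∧ Odd i ∧ i ≤ m ∧ 2 * (m % i) ≤ (2 * d) % c) ∨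
     (r ≠ p ∧ 2 < r ∧ Even i ∧ i ≤ m ∧ (r - 1) / i + 2 * (m / i) ≤ (2 * d) / i ∧
       ((2 * (m % i) ≤ i ∧ (2 * d) % c = 0 ∧ Odd ((2 * d) / i) ∧ (r - 1) / i + 2 * (m / i) < (2 * d) / i) ∨
        (2 * (m % i) ≤ (2 * d) % c ∧ Even ((2 * d) / i)) ∨
        (2 * (m % i) < (2 * d) % c ∧ Odd ((2 * d) / i))))) := by
  open CfsgLib.OrthPrime CfsgLib.Geometry CfsgLib.PrimeOrderSp in
  classical
  subst hq
  rw [← coe_matQuad_plus] at hrΩ ⊢
  set Q := matQuad (plusMat d F)
  have hQ : (QuadraticMap.polarBilin Q).Nondegenerate := nondegenerate_plus d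
  have hsg : sgn Q ⊤ = 1 := sgn_plusForm d
  have hn : Fintype.card (Fin d ⊕ Fin d) = 2 * d := by simp; omega
  have hfr : Module.finrank F ((Fin d ⊕ Fin d) → F) = 2 * d := by
    rw [Module.finrank_fintype_fun_eq_card, hn]
  by_cases hrp : r = p
  · subst hrp
    exact absurd hrΩ (not_dvd_natCard_ts (p := r) hQ (by omega))
  have hr : (r : F) ≠ 0 := natCast_ne_zero_of_ne hrp
  by_cases hr2 : r = 2
  · subst hr2
    have h2 : (2 : F) ≠ 0 := by exact_mod_cast hr
    have key := ts_two_even hQ h2 (m := m) hn hd (by omega)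
    simp only [and_assoc] at key ⊢
    rw [key, hsg]
    have hp2 : p ≠ 2 := Ne.symm hrp
    have hodd := odd_card_of_two_ne h2
    simp only [lt_irrefl, false_and, and_false, or_false, true_and, hp2, ne_eq, not_false_eq_true]
    rw [dSgn]
    constructor
    · rintro ⟨h1, h2'⟩
      by_cases h4 : Fintype.card F % 4 = 1
      · exact Or.inl h4
      have h1' : m + 2 ≤ d := (h1.resolve_left h4).resolve_left (by norm_num)
      refine Or.inr ⟨by omega, h1', ?_⟩
      rcases Nat.even_or_odd d with hde | hdo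
      · exact Or.inl ((h2' (by rw [if_pos (Or.inr hde)]) (Or.inl hde)).resolve_left h4)
      · exact Or.inr (by rw [Nat.odd_iff] at hdo; omega)
    · rintro (h4 | ⟨h4, hm2, hh⟩)
      · exact ⟨Or.inl h4, fun _ _ => Or.inl h4⟩
      refine ⟨Or.inr (Or.inr hm2), fun hs _ => Or.inr (hh.resolve_right fun hdo => ?_)⟩
      rw [if_neg (by rw [Nat.even_iff]; omega)] at hs
      norm_num at hs
  have hi' : orderOf ((Fintype.card F : ℕ) : ZMod r) = i := hi.symm
  have hrodd := (Fact.out : r.Prime).odd_of_ne_two hr2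
  have hr3 : 2 < r := lt_of_le_of_ne (Fact.out : r.Prime).two_le (Ne.symm hr2)
  have hcrit := elusive_iff_scalar hQ (by omega) hrodd
    (fun W => Module.finrank F W = m ∧ ∀ w ∈ W, Q w = 0)
  simp only [and_assoc] at hcrit ⊢
  rw [hcrit]
  have hts := ts_elusive hQ hr hr2 hi' (m := m) (by omega) hrΩ
  simp only [and_assoc] at hts
  rw [hts, hfr, hsg]
  have hipos : 0 < i := hi' ▸ orderOf_card_pos (F := F) hr
  have ht := div_order_pos hr hi'
  simp only [ne_eq, hrp, not_false_eq_true, hr3, true_and, hr2, false_and, false_or]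
  rcases Nat.even_or_odd i with hev | hodd
  · rw [if_pos hev] at hc
    subst hc
    simp only [hev, Nat.not_odd_iff_even.2 hev, false_and, false_or, true_and]
    refine and_congr_right fun him => ?_
    rw [ts_even_even (Or.inl rfl) (by omega) hev hipos him ht]
    simp only [one_mul, neg_one_pow_eq_one_iff_even (R := ℤ) (by norm_num), neg_one_pow_eq_neg_one_iff_odd (R := ℤ) (by norm_num)]
  · rw [if_neg (Nat.not_even_iff_odd.2 hodd)] at hc
    subst hc
    simp only [hodd, Nat.not_even_iff_odd.2 hodd, false_and, or_false, true_and]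
    refine and_congr_right fun him => ?_
    rw [ts_even_odd (Or.inl rfl) (by omega) hodd him]
    simp only [and_true, show (1 : ℤ) ≠ -1 by norm_num, and_false, or_false]
    omega

end Cfsg.Agent.S5973
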