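import Cfsg.Statements.S5974
import Cfsg.Agent.Lib.OrthPrime.NDPlus

set_option autoImplicit false
open scoped MatrixGroups
open Cfsg

namespace Cfsg.Agent.S5974

/-- Elements of prime order of PΩ⁺_n(q), n = 2d ≥ 8, with no fixed nondegenerate hyperbolic `m`-space. Here `T = PΩ⁺_n(q)` is realised through `Ω⁺_n(q)`, the commutator subgroup of the isometry group of `Q = Σ xᵢyᵢ` over the field `F` with `q` elements; an element of `T` of prime order `r` is an element `x` of `Ω⁺_n(q)` with `x^r` scalar and `x` not scalar. A hyperbolic `m`-space is a subspace `W` of even dimension `m` on which the polar form of `Q` is nondegenerate and which contains a totally singular subspace of dimension `m/2`. Let `m` be even with `2 ≤ m < n/2`, and let `r` be a prime dividing the number of hyperbolic `m`-spaces, with `r = 2` or `r ≠ p`. For `r ≠ p` let `i` be the multiplicative order of `q` modulo `r`, `c = i` for `i` even and `c = 2i` for `i` odd,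 and write `k = n mod c`, `ℓ' = m mod c`. Then every element of `T` of order `r` fixes some hyperbolic `m`-space if and only if one of: (i) `r = 2` and (`n ≡ 2 (mod 4)`, or `m ≡ 0 (mod 4)`, or `q ≡ 1 (mod 4)`); (ii) `r ≠ p` odd, `i` odd, `c ≤ m` and `k ≥ ℓ'`; (iii) `r ≠ p` odd, `i` even, and either `k = 0` and (`n/i` odd, or `ℓ' = 0` and `m/i` even), or `i ≤ m` and (`k > ℓ' > 0`, or `k = ℓ' > 0` and `(n + m − 2k)/i` even, or `k > ℓ' = 0` and `m/i` even). -/
theorem result {F : Type*} [Field F] [Fintype F] {p : ℕ} [Fact p.Prime] [CharP F p] {q : ℕ} (hq : Fintype.card F = q)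
    (d m : ℕ) (hd : 4 ≤ d) (hm : 2 ≤ m) (hme : Even m) (hmd : m < d)
    (r : ℕ) [Fact r.Prime] (hr : r = 2 ∨ r ≠ p)
    (hrΩ : r ∣ Nat.card {W : Submodule F (Fin d ⊕ Fin d → F) // (Module.finrank F ↥W = m ∧ (∀ u ∈ W, u ≠ 0 → ∃ v ∈ W, QuadraticMap.polar (Cfsg.quadFormPlus d F) u v ≠ 0) ∧
          ∃ U : Submodule F (Fin d ⊕ Fin d → F), U ≤ W ∧ 2 * Module.finrank F ↥U = m ∧ ∀ u ∈ U, Cfsg.quadFormPlus d F u = 0)})
    (i c : ℕ) (hi : i = orderOf (q : ZMod r)) (hc : c = if Even i then i else 2 * i) :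
    (∀ x : GL (Fin d ⊕ Fin d) F, x ∈ Cfsg.Geo.omegaGL (Cfsg.quadFormPlus d F) →
      (∃ z : F, ((x ^ r : GL (Fin d ⊕ Fin d) F) : Matrix (Fin d ⊕ Fin d) (Fin d ⊕ Fin d) F) = z • (1 : Matrix (Fin d ⊕ Fin d) (Fin d ⊕ Fin d) F)) →
      (∀ z : F, (x : Matrix (Fin d ⊕ Fin d) (Fin d ⊕ Fin d) F) ≠ z • (1 : Matrix (Fin d ⊕ Fin d) (Fin d ⊕ Fin d) F)) →
      ∃ W : Submodule F (Fin d ⊕ Fin d → F), (Module.finrank F ↥W = m ∧ (∀ u ∈ W, u ≠ 0 → ∃ v ∈ W, QuadraticMap.polar (Cfsg.quadFormPlus d F) u v ≠ 0) ∧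
          ∃ U : Submodule F (Fin d ⊕ Fin d → F), U ≤ W ∧ 2 * Module.finrank F ↥U = m ∧ ∀ u ∈ U, Cfsg.quadFormPlus d F u = 0) ∧
        W.map (Matrix.toLin' (x : Matrix (Fin d ⊕ Fin d) (Fin d ⊕ Fin d) F)) ≤ W) ↔
    ((r = 2 ∧ ((2 * d) % 4 = 2 ∨ m % 4 = 0 ∨ q % 4 = 1)) ∨
     (r ≠ p ∧ 2 < r ∧ Odd i ∧ c ≤ m ∧ m % c ≤ (2 * d) % c) ∨
     (r ≠ p ∧ 2 < r ∧ Even i ∧
       (((2 * d) % c = 0 ∧ (Odd ((2 * d) / i) ∨ (m % c = 0 ∧ Even (m / i)))) ∨
        (i ≤ m ∧ ((m % c < (2 * d) % c ∧ 0 < m % c) ∨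
                  ((2 * d) % c = m % c ∧ 0 < m % c ∧ Even ((2 * d + m - 2 * ((2 * d) % c)) / i)) ∨
                  (0 < (2 * d) % c ∧ m % c = 0 ∧ Even (m / i))))))) := by
  open CfsgLib.OrthPrime CfsgLib.Geometry CfsgLib.PrimeOrderSp in
  classical
  subst hq
  rw [← coe_matQuad_plus] at hrΩ ⊢
  set Q := matQuad (plusMat d F)
  have hQ : (QuadraticMap.polarBilin Q).Nondegenerate := nondegenerate_plus d
  have hsg : sgn Q ⊤ = 1 := sgn_plusForm d
  have hn : Fintype.card (Fin d ⊕ Fin d) = 2 * d := by simp; omega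
  have hfr : Module.finrank F ((Fin d ⊕ Fin d) → F) = 2 * d := by
    rw [Module.finrank_fintype_fun_eq_card, hn]
  have hconv : ∀ W : Submodule F (Fin d ⊕ Fin d → F), (Module.finrank F W = m ∧
      (∀ u ∈ W, u ≠ 0 → ∃ v ∈ W, QuadraticMap.polar Q u v ≠ 0) ∧
      ∃ U : Submodule F (Fin d ⊕ Fin d → F), U ≤ W ∧ 2 * Module.finrank F U = m ∧ ∀ u ∈ U, Q u = 0) ↔
      (Module.finrank F W = m ∧ W ⊓ polarPerp Q W = ⊥ ∧ sgn Q W = 1) := fun W => by
    refine and_congr_right fun hW => and_congr ?_ ?_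
    · rw [← nondegOn_iff]
      refine ⟨fun h w hw hw0 => ?_, fun h w hw hw0 => (h w hw hw0).2⟩
      obtain ⟨v, hv, hne⟩ := h w hw hw0
      exact ⟨⟨v, hv, by rwa [QuadraticMap.polar_comm]⟩, v, hv, hne⟩
    · rw [← plus_iff_sgn]
      exact ⟨fun ⟨U, h1, h2, h3⟩ => ⟨U, h1, h3, h2.trans hW.symm⟩,
        fun ⟨U, h1, h3, h2⟩ => ⟨U, h1, h2.trans hW, h3⟩⟩
  simp only [hconv] at hrΩ ⊢
  have hsS : (1 : ℤ) = 1 ∨ (1 : ℤ) = -1 := Or.inl rfl
  obtain ⟨W₀, hW₀n, hW₀d, hW₀s, horb⟩ := exists_class (Q := Q) hQ hsS hme (by omega) (by omega)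
  by_cases hrp : r = p
  · subst hrp
    obtain rfl : r = 2 := hr.resolve_right fun h => h rfl
    have hq4 : ¬ Fintype.card F % 4 = 1 := by
      have h2' : Fintype.card F % 2 = 0 := FiniteField.even_card_of_char_two (ringChar.eq F 2)
      omega
    simp only [true_and, ne_eq, not_true_eq_false, false_and, or_false, hq4]
    constructor
    · intro H
      by_contra hc'
      obtain ⟨f, hf, hff, hf1, hev, hno⟩ := exists_p_no_elliptic (p := 2) hQ (by omega) hfr hsg
      obtain ⟨W, ⟨hW1, hW2, -⟩, hWi⟩ := two_counter hQ (by omega) hf hff hf1 hev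
        (P := fun W => Module.finrank F W = m ∧ W ⊓ polarPerp Q W = ⊥ ∧ sgn Q W = 1) H
      have := (hno W hWi hW2 (hW1.symm ▸ hme)).2 (by rw [Nat.even_iff]; omega)
      omega
    · intro hcase x hx hz _
      obtain ⟨h, hh⟩ := id hme
      obtain ⟨W, ⟨h1, h2, h3⟩, hWi⟩ := two_fix_nd (s := 1) (h := h) hQ (by omega) hn (by omega) (by omega) hsS (fun k hk hkd hks => by
        obtain ⟨j, hj⟩ := hk
        rcases Nat.even_or_odd h with hhe | hho
        · obtain ⟨a, ha⟩ := hhe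
          exact ⟨min h k, h - min h k, by rw [Nat.even_iff]; omega, by omega, fun _ => rfl,
            by rw [hsg]; simp only [and_true]; omega, by omega⟩
        · rw [Nat.odd_iff] at hho
          exact ⟨min (h - 1) k, h - min (h - 1) k, by rw [Nat.even_iff]; omega, by omega, fun _ => rfl,
            by rw [hsg]; simp only [and_true]; omega, by omega⟩) x hx hz
      exact ⟨W, ⟨by omega, h2, h3⟩, hWi⟩
  have hr' : (r : F) ≠ 0 := natCast_ne_zero_of_ne hrp
  by_cases hr2 : r = 2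
  · subst hr2
    have h2 : (2 : F) ≠ 0 := by exact_mod_cast hr'
    have key := nd_two hQ h2 hn (by omega) hW₀n (by omega) _ horb
    simp only [and_assoc] at key ⊢
    rw [key, hsg]
    have hp2 : p ≠ 2 := Ne.symm hrp
    simp only [lt_irrefl, false_and, and_false, or_false, false_or, true_and, hp2, ne_eq, not_false_eq_true, hW₀d, hW₀s,
      hme]
    rw [dSgn, dSgn]
    have hq2 := odd_card_of_two_ne h2
    simp only [Nat.odd_iff, Nat.even_iff] at *
    split_ifs <;> norm_num <;> omega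
  have hi' : orderOf ((Fintype.card F : ℕ) : ZMod r) = i := hi.symm
  have hrodd := (Fact.out : r.Prime).odd_of_ne_two hr2
  have hr3 : 2 < r := lt_of_le_of_ne (Fact.out : r.Prime).two_le (Ne.symm hr2)
  have hcrit := elusive_iff_scalar hQ (by omega) hrodd
    (fun W => Module.finrank F W = m ∧ W ⊓ polarPerp Q W = ⊥ ∧ sgn Q W = 1)
  simp only [and_assoc] at hcrit ⊢
  rw [hcrit]
  obtain ⟨hA, hB⟩ := nd_elusive hQ hr' hr2 hi' hme (by omega) (by omega) hsS hrΩ
  rw [hfr, hsg] at hA hB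
  have hipos : 0 < i := hi' ▸ orderOf_card_pos (F := F) hr'
  refine (Iff.intro (fun H => hA H) (fun h => hB h.2)).trans ?_
  have hwlog : NDEvenCrit (2 * d) 1 i m 1 → unit i * i ≤ m := fun h => (hA (hB h)).1
  simp only [ne_eq, hrp, not_false_eq_true, hr3, true_and, hr2, false_and, false_or]
  refine (Iff.intro (fun h => h.2) fun h => ⟨hwlog h, h⟩).trans ?_
  unfold NDEvenCrit at hwlog ⊢
  rcases Nat.even_or_odd i with hev | hiodd
  · rw [if_pos hev] at hc
    subst c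
    simp only [unit_even hev, one_mul, mul_one, ne_comm (a := (1 : ℤ)), eq_comm (a := (1 : ℤ)), ne_eq, neg_one_pow_eq_one'] at hwlog ⊢
    simp only [hev, Nat.not_odd_iff_even.2 hev, false_and, false_or, true_and]
    have hdiv := fun h : m % i = (2 * d) % i => div_sum (n := 2 * d) (m := m) hipos h
    by_cases hlk : m % i = (2 * d) % i
    · have hdiv' := hdiv hlk
      simp only [Nat.odd_iff, Nat.even_iff] at *
      omega
    · simp only [Nat.odd_iff, Nat.even_iff] at *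
      omega
  · rw [if_neg (Nat.not_even_iff_odd.2 hiodd)] at hc
    subst c
    simp only [pow_unit_odd hiodd, ne_eq] at hwlog ⊢
    simp only [unit_odd hiodd] at hwlog ⊢
    simp only [hiodd, Nat.not_even_iff_odd.2 hiodd, false_and, or_false, true_and]
    norm_num at hwlog ⊢
    omega

end Cfsg.Agent.S5974
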