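import Cfsg.Statements.S5975
import Cfsg.Agent.Lib.PrimeOrderSp.SelfAdjTwo
import Cfsg.Agent.Lib.PrimeOrderSp.GUType

set_option autoImplicit false
open scoped MatrixGroups
open scoped Matrix
open Cfsg

namespace Cfsg.Agent.S5975

/-- Elements of prime order of PSp_n(q) and the field-extension subgroups of type Sp_{n/k}(q^k). Here `T = PSp_{2d}(F)` for a field `F` with `q` elements (`d ≥ 2`, `(d, q) ≠ (2, 2)`), realised through the matrices preserving the standard alternating form `f`; `k` is a prime and `K` is a subalgebra of the `2d × 2d` matrices that is a field of degree `k` over `F` whose elements are self-adjoint for `f` and satisfy `f(a v, v) = 0` (so `F^{2d}` becomes a vector space over `K ≅ F_{q^k}` on which `f` is the trace of a `K`-bilinear alternating form); `H` is the subgroup of `T` normalizing `K` — the symplectic maps that are `K`-linear or `K`-semilinear, a subgroup of type Sp_{2d/k}(q^k) (maximality is not assumed). Ω is the set of cosets of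 `H` in `T`, so an element of `T` of prime order `r` (`x ∈ T` with `x^r` scalar, `x` not scalar) fixes a point of Ω exactly when some `T`-conjugate of `x` normalizes `K`. Let `r` be a prime dividing the index of `H`. Then every element of `T` of order `r` fixes a point of Ω if and only if `r = 2`, `d = 2`, `k = 2` and `q` is odd. -/
theorem result {F : Type*} [Field F] [Fintype F] {p : ℕ} [Fact p.Prime] [CharP F p] {q : ℕ} (hq : Fintype.card F = q)
    (d : ℕ) (hd : 2 ≤ d) (hT : (d, q) ≠ (2, 2)) (k : ℕ) (hk : k.Prime)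
    (K : Subalgebra F (Matrix (Fin d ⊕ Fin d) (Fin d ⊕ Fin d) F)) (hK : Cfsg.Geo.IsFieldSubalgebra k K)
    (hKf : Cfsg.Geo.IsSelfAdjointFor (Cfsg.sympForm d F) K) (hKalt : ∀ a ∈ K, ∀ v : Fin d ⊕ Fin d → F, Cfsg.sympForm d F (a *ᵥ v) v = 0)
    (r : ℕ) [Fact r.Prime]
    (hΩ : r ∣ (Cfsg.Geo.subalgebraNormalizer K).relIndex (Cfsg.spGL d F)) :
    (∀ x ∈ Cfsg.spGL d F, (∃ z : F, ((x ^ r : GL (Fin d ⊕ Fin d) F) : Matrix (Fin d ⊕ Fin d) (Fin d ⊕ Fin d) F) = z • (1 : Matrix (Fin d ⊕ Fin d) (Fin d ⊕ Fin d) F)) →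
      (∀ z : F, (x : Matrix (Fin d ⊕ Fin d) (Fin d ⊕ Fin d) F) ≠ z • (1 : Matrix (Fin d ⊕ Fin d) (Fin d ⊕ Fin d) F)) →
      ∃ g ∈ Cfsg.spGL d F, g⁻¹ * x * g ∈ Cfsg.Geo.subalgebraNormalizer K) ↔
    (r = 2 ∧ d = 2 ∧ k = 2 ∧ Odd q) := by
  open CfsgLib.PrimeOrderSp CfsgLib.PrimeOrderSp.SelfAdj CfsgLib.Geometry in
  classical
  subst hq
  have hd0 : 0 < d := by omega
  have hrp : r.Prime := Fact.out
  have hk2 := hk.two_le
  have hstd : Module.finrank F (Fin d ⊕ Fin d → F) = 2 * d := by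
    rw [Module.finrank_fintype_fun_eq_card, Fintype.card_sum, Fintype.card_fin]; omega
  have hcast : r ≠ p → (r : F) ≠ 0 := fun h => cast_ne_zero_of_prime_ne hrp h
  constructor
  · intro H
    have hscal : ∀ x : ↥(Matrix.symplecticGroup (Fin d) F),
        ((x ^ r : ↥(Matrix.symplecticGroup (Fin d) F)) : Matrix (Fin d ⊕ Fin d) (Fin d ⊕ Fin d) F) =
          (1 : F) • (1 : Matrix (Fin d ⊕ Fin d) (Fin d ⊕ Fin d) F) →
        (Matrix.toLin' (x : Matrix (Fin d ⊕ Fin d) (Fin d ⊕ Fin d) F)) ^ r = 1 := by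
      intro x hx
      rw [← pow_apply_toLin', ← SubmonoidClass.coe_pow, hx, one_smul, Matrix.toLin'_one]
      rfl
    have hns : ∀ x : ↥(Matrix.symplecticGroup (Fin d) F),
        0 < Module.finrank F (fixSp (Matrix.toLin' (x : Matrix (Fin d ⊕ Fin d) (Fin d ⊕ Fin d) F))) →
        Module.finrank F (fixSp (Matrix.toLin' (x : Matrix (Fin d ⊕ Fin d) (Fin d ⊕ Fin d) F))) < 2 * d →
        ∀ c : F, (x : Matrix (Fin d ⊕ Fin d) (Fin d ⊕ Fin d) F) ≠
          c • (1 : Matrix (Fin d ⊕ Fin d) (Fin d ⊕ Fin d) F) := by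
      intro x h0 hlt c hc
      obtain ⟨v, hv, hv0⟩ := Submodule.exists_mem_ne_zero_of_ne_bot
        (fun e => by rw [e, finrank_bot] at h0; omega : fixSp (Matrix.toLin' (x : Matrix (Fin d ⊕ Fin d) (Fin d ⊕ Fin d) F)) ≠ ⊥)
      have hv' := mem_fixSp.1 hv
      rw [hc, map_smul, Matrix.toLin'_one, LinearMap.smul_apply, LinearMap.id_apply] at hv'
      have hc1 : c = 1 := smul_left_injective F hv0 (hv'.trans (one_smul F v).symm)
      have htop : fixSp (Matrix.toLin' (x : Matrix (Fin d ⊕ Fin d) (Fin d ⊕ Fin d) F)) = ⊤ :=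
        Submodule.eq_top_iff'.2 fun v => mem_fixSp.2 (by rw [hc, hc1, one_smul, Matrix.toLin'_one]; rfl)
      rw [htop, finrank_top, hstd] at hlt
      omega
    -- the dichotomy for elements of order `r`
    have key : ∀ x : ↥(Matrix.symplecticGroup (Fin d) F),
        ((x ^ r : ↥(Matrix.symplecticGroup (Fin d) F)) : Matrix (Fin d ⊕ Fin d) (Fin d ⊕ Fin d) F) =
          (1 : F) • (1 : Matrix (Fin d ⊕ Fin d) (Fin d ⊕ Fin d) F) →
        ∀ e : ℕ, Module.finrank F (fixSp (Matrix.toLin' (x : Matrix (Fin d ⊕ Fin d) (Fin d ⊕ Fin d) F))) = e →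
        0 < e → e < 2 * d →
        (k ∣ e ∧ (r ≠ p → 2 * k ∣ 2 * d - e)) ∨ (2 * e ≤ 2 * d ∧ r = k) := by
      intro x hx e he he0 hed
      obtain ⟨g, hg, hgN⟩ := H (spToGL F d x) (spToGL_mem x) ⟨1, by rw [← map_pow, spToGL_val]; exact hx⟩
        (by rw [spToGL_val]; exact hns x (by omega) (by omega))
      set y := g⁻¹ * spToGL F d x * g with hy
      have hyr : y ^ r = 1 := by
        have hx1 : spToGL F d x ^ r = 1 := Units.ext (by rw [← map_pow, spToGL_val, hx, one_smul]; rfl)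
        have h := conj_pow (a := g⁻¹) (b := spToGL F d x) (i := r)
        rw [inv_inv] at h
        rw [hy, h, hx1, mul_one, inv_mul_cancel]
      have hye : Module.finrank F (fixSp (Matrix.toLin' (y : Matrix (Fin d ⊕ Fin d) (Fin d ⊕ Fin d) F))) = e := by
        rw [hy, finrank_fixSp_conj, spToGL_val, he]
      by_cases hcomm : ∀ a ∈ K, (y : Matrix (Fin d ⊕ Fin d) (Fin d ⊕ Fin d) F) * a =
          a * (y : Matrix (Fin d ⊕ Fin d) (Fin d ⊕ Fin d) F)
      · refine Or.inl ⟨hye ▸ dvd_finrank_stable hK hd0 (kStable_fixSp hcomm), fun hne => ?_⟩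
        have hfr : (Matrix.toLin' (y : Matrix (Fin d ⊕ Fin d) (Fin d ⊕ Fin d) F)) ^ r = 1 := by
          rw [← pow_apply_toLin', ← Units.val_pow_eq_pow_val, hyr, Units.val_one, Matrix.toLin'_one]
          rfl
        have hyS : y ∈ Cfsg.spGL d F := mul_mem (mul_mem (inv_mem hg) (spToGL_mem x)) hg
        have h := two_mul_dvd_finrank hK hKf hKalt hd0 (kStable_movSp hcomm)
          (nondeg_movSp (hcast hne) hfr (sympHerm (F := F) (d := d)) (spGL_iso hyS))
        have hsum := Submodule.finrank_add_eq_of_isCompl (isCompl_fix_mov (hcast hne) hfr)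
        rw [hye, hstd] at hsum
        rwa [show 2 * d - e = Module.finrank F (movSp (Matrix.toLin'
          (y : Matrix (Fin d ⊕ Fin d) (Fin d ⊕ Fin d) F))) by omega]
      · push Not at hcomm
        obtain ⟨a, ha, hne⟩ := hcomm
        refine Or.inr ⟨hye ▸ fix_small hK hgN ha hne, ?_⟩
        by_contra hrk
        exact hne (commute_of_pow hK hd0 hk hgN hrp hrk (z := 1) (by rw [hyr, Units.val_one, one_smul]) a ha)
    -- `k` divides `d`
    obtain ⟨L, iL, fL, m, ψ, hL, hkm, hψ, hψc⟩ := exists_sp_hom hK hKf hKalt hd0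
    by_cases hrp' : r = p
    · exfalso
      subst hrp'
      set w : Fin d ⊕ Fin d → F := Pi.single (Sum.inl ⟨0, hd0⟩) 1 with hw
      have hw0 : w ≠ 0 := fun h => by simpa [w] using congrFun h (Sum.inl ⟨0, hd0⟩)
      let x : ↥(Matrix.symplecticGroup (Fin d) F) :=
        ⟨Cfsg.sympTransvection d w (1 : F), sympTransvection_mem d F w 1⟩
      have hpow : ∀ (k : ℕ) v, (Matrix.toLin' (x : Matrix (Fin d ⊕ Fin d) (Fin d ⊕ Fin d) F) ^ k) v =
          v + ((k : F) * Cfsg.sympForm d F v w) • w := fun k => by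
        induction k with
        | zero => simp
        | succ k ih =>
          intro v
          rw [pow_succ', Module.End.mul_apply, ih, Matrix.toLin'_apply, sympTransvection_mulVec,
            ← sympBilin_apply (u := v + _)]
          simp only [map_add, map_smul, LinearMap.add_apply, LinearMap.smul_apply, smul_eq_mul,
            sympBilin_isAlt d F w, mul_zero, add_zero, sympBilin_apply, Nat.cast_succ, add_mul, one_mul, add_smul,
            add_assoc]
      have hx : ((x ^ r : ↥(Matrix.symplecticGroup (Fin d) F)) : Matrix (Fin d ⊕ Fin d) (Fin d ⊕ Fin d) F) =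
          (1 : F) • (1 : Matrix (Fin d ⊕ Fin d) (Fin d ⊕ Fin d) F) := by
        rw [SubmonoidClass.coe_pow, one_smul]
        apply Matrix.toLin'.injective
        rw [pow_apply_toLin', Matrix.toLin'_one]
        refine LinearMap.ext fun v => ?_
        rw [hpow, CharP.cast_eq_zero, zero_mul, zero_smul, add_zero, LinearMap.id_apply]
      have hker : fixSp (Matrix.toLin' (x : Matrix (Fin d ⊕ Fin d) (Fin d ⊕ Fin d) F)) =
          LinearMap.ker ((sympBilin d F).flip w) := by
        ext v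
        have h := hpow 1 v
        rw [pow_one, Nat.cast_one, one_mul] at h
        rw [mem_fixSp, h, add_eq_left, smul_eq_zero, or_iff_left hw0, LinearMap.mem_ker]
        rfl
      have hne : (sympBilin d F).flip w ≠ 0 := fun h => hw0 ((sympBilin_nondegenerate d F).1 w fun v => by
        rw [← (LinearMap.IsAlt.neg (sympBilin_isAlt d F) v w), neg_eq_zero]
        exact LinearMap.congr_fun h v)
      have hdim : Module.finrank F (fixSp (Matrix.toLin' (x : Matrix (Fin d ⊕ Fin d) (Fin d ⊕ Fin d) F))) = 2 * d - 1 := by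
        have h := LinearMap.finrank_range_add_finrank_ker ((sympBilin d F).flip w)
        rw [LinearMap.range_eq_top.2 (LinearMap.surjective_of_ne_zero hne), finrank_top, Module.finrank_self, hstd,
          ← hker] at h
        omega
      rcases key x hx _ hdim (by omega) (by omega) with ⟨h1, -⟩ | ⟨h1, -⟩
      · have h2 : k ∣ 2 * d := dvd_mul_of_dvd_right ⟨m, hkm.symm⟩ 2
        have h3 := Nat.dvd_sub h2 h1
        rw [show 2 * d - (2 * d - 1) = 1 by omega] at h3
        have := Nat.le_of_dvd one_pos h3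
        omega
      · omega
    have hr : (r : F) ≠ 0 := hcast hrp'
    by_cases hr2 : r = 2
    · subst hr2
      have hq1 : orderOf ((Fintype.card F : ℕ) : ZMod 2) = 1 := by
        have h := orderOf_card_pos (F := F) (r := 2) hr
        have h0 : ((Fintype.card F : ℕ) : ZMod 2) ≠ 0 := fun e => by
          rw [e, orderOf_zero] at h; omega
        rw [orderOf_eq_one_iff]
        rw [← ZMod.natCast_mod] at h0 ⊢
        rcases Nat.mod_two_eq_zero_or_one (Fintype.card F) with e | e <;> rw [e] at h0 ⊢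
        · exact absurd Nat.cast_zero h0
        · exact Nat.cast_one
      obtain ⟨x, hx, hfix⟩ := exists_sp_fixed_dim (F := F) (d := d) (e := d - 1) (N := 1) hr (by rw [hq1]; omega)
      rcases key x hx _ hfix (by omega) (by omega) with ⟨-, h1⟩ | ⟨h1, h2⟩
      · have h2 := Nat.le_of_dvd (by omega) (h1 hrp')
        omega
      · refine ⟨rfl, by omega, h2.symm, ?_⟩
        obtain ⟨n, hpp, hq⟩ := FiniteField.card F p
        rw [hq]
        exact (hpp.odd_of_ne_two (Ne.symm hrp')).pow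
    -- odd `r ≠ p`
    exfalso
    set i := orderOf ((Fintype.card F : ℕ) : ZMod r) with hi
    have hi0 : 0 < i := orderOf_card_pos hr
    have hodd : Odd r := hrp.odd_of_ne_two hr2
    have hir : i ∣ r - 1 := ZMod.orderOf_dvd_card_sub_one fun e => by
      rw [hi, e, orderOf_zero] at hi0; omega
    obtain ⟨e₀, hie, he0r⟩ : ∃ e₀, (Odd i ∧ i = e₀ ∨ i = 2 * e₀) ∧ 2 * e₀ ≤ r - 1 := by
      have h1 := hrp.two_le
      rcases Nat.even_or_odd i with ⟨j, hj⟩ | hio
      · exact ⟨j, Or.inr (by omega), by have := Nat.le_of_dvd (by omega) hir; omega⟩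
      · refine ⟨i, Or.inl ⟨hio, rfl⟩, Nat.le_of_dvd (by omega) ?_⟩
        refine (Nat.Coprime.mul_dvd_of_dvd_of_dvd (Nat.coprime_two_left.2 hio) ?_ hir)
        exact even_iff_two_dvd.1 (Nat.Odd.sub_odd hodd odd_one)
    have hterm : ∀ j, r ∣ Fintype.card F ^ (2 * (j + 1)) - 1 → e₀ ∣ j + 1 := fun j h => by
      have h' : i ∣ 2 * (j + 1) := (dvd_pow_sub_one_iff Fintype.card_pos).1 h
      rcases hie with ⟨hio, rfl⟩ | h2
      · exact (Nat.coprime_two_right.2 hio).dvd_of_dvd_mul_left h'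
      · rw [h2] at h'
        exact (Nat.mul_dvd_mul_iff_left two_pos).1 h'
    have hN : ∀ c, ψ c ∈ Cfsg.Geo.subalgebraNormalizer K ⊓ Cfsg.spGL d F := fun c =>
      Subgroup.mem_inf.2 ⟨mem_normalizer_of_commute (hψc c).2, (hψc c).1⟩
    have hdvd := (mul_dvd_mul_right hΩ (Nat.card ↥(Matrix.symplecticGroup (Fin m) L))).trans
      (relIndex_mul_dvd ψ hψ hN)
    rw [card_spGL, CfsgLib.Classical.card_symplecticGroup, CfsgLib.Classical.card_symplecticGroup,
      Nat.card_eq_fintype_card, Nat.card_eq_fintype_card, Fintype.card_fin, Fintype.card_fin, hL,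
      ← Finset.prod_filter_mul_prod_filter_not (Finset.range d) (fun j => k ∣ j + 1)] at hdvd
    have hA : ∏ j ∈ (Finset.range d).filter (fun j => k ∣ j + 1), (Fintype.card F ^ (2 * (j + 1)) - 1) =
        ∏ l ∈ Finset.range m, ((Fintype.card F ^ k) ^ (2 * (l + 1)) - 1) := by
      symm
      refine Finset.prod_bij (fun l _ => k * (l + 1) - 1) (fun l hl => ?_) (fun a ha b hb h => ?_) (fun j hj => ?_)
        fun l hl => ?_
      · have h1 : k * (l + 1) ≤ d := hkm ▸ Nat.mul_le_mul_left k (Finset.mem_range.1 hl)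
        have h2 : 0 < k * (l + 1) := by positivity
        refine Finset.mem_filter.2 ⟨Finset.mem_range.2 (by omega), ?_⟩
        rw [Nat.sub_add_cancel h2]
        exact dvd_mul_right _ _
      · have ha : 0 < k * (a + 1) := by positivity
        have hb : 0 < k * (b + 1) := by positivity
        have h' : k * (a + 1) = k * (b + 1) := by omega
        have := Nat.eq_of_mul_eq_mul_left hk.pos h'
        omega
      · obtain ⟨h1, c, hc⟩ := Finset.mem_filter.1 hj
        rw [Finset.mem_range] at h1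
        have hc0 : 0 < c := by
          rcases Nat.eq_zero_or_pos c with rfl | h
          · omega
          · exact h
        refine ⟨c - 1, Finset.mem_range.2 ?_, by rw [Nat.sub_add_cancel hc0, ← hc]; omega⟩
        have : c ≤ m := Nat.le_of_mul_le_mul_left (by rw [hkm, ← hc]; omega) hk.pos
        omega
      · have h2 : 0 < k * (l + 1) := by positivity
        rw [Nat.sub_add_cancel h2, ← pow_mul]
        congr 2
        ring
    rw [hA] at hdvd
    have hpos : 0 < ∏ l ∈ Finset.range m, ((Fintype.card F ^ k) ^ (2 * (l + 1)) - 1) :=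
      Finset.prod_pos fun l _ => Nat.sub_pos_of_lt
        (Nat.one_lt_pow (by omega) (Nat.one_lt_pow hk.ne_zero Fintype.one_lt_card))
    have hdvd2 : r ∣ Fintype.card F ^ (d ^ 2) *
        ∏ j ∈ (Finset.range d).filter (fun j => ¬ k ∣ j + 1), (Fintype.card F ^ (2 * (j + 1)) - 1) := by
      refine (Nat.mul_dvd_mul_iff_right hpos).1 ((dvd_trans ?_ hdvd).trans (dvd_of_eq (by ring)))
      exact mul_dvd_mul_left r (dvd_mul_left _ _)
    have hnq : ¬ r ∣ Fintype.card F ^ (d ^ 2) := fun h => by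
      obtain ⟨n, hn, hq⟩ := FiniteField.card F p
      rw [hq] at h
      exact hrp' ((Nat.prime_dvd_prime_iff_eq hrp hn).1 (hrp.dvd_of_dvd_pow (hrp.dvd_of_dvd_pow h)))
    obtain ⟨j, hj, hjd⟩ := hrp.prime.exists_mem_finset_dvd ((hrp.dvd_mul.1 hdvd2).resolve_left hnq)
    obtain ⟨hjr, hjk⟩ := Finset.mem_filter.1 hj
    rw [Finset.mem_range] at hjr
    have hej := hterm j hjd
    have hed : e₀ ≤ d := (Nat.le_of_dvd (by omega) hej).trans (by omega)
    have hke : ¬ k ∣ e₀ := fun h => hjk (h.trans hej)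
    have hkd : k ∣ d := ⟨m, hkm.symm⟩
    have hkd' := Nat.le_of_dvd hd0 hkd
    have hed' : e₀ < d := lt_of_le_of_ne hed fun e => hke (e ▸ hkd)
    have he00 : 0 < e₀ := by rcases hie with ⟨-, h⟩ | h <;> omega
    obtain ⟨x, hx, hfix⟩ : ∃ x : ↥(Matrix.symplecticGroup (Fin d) F),
        ((x ^ r : ↥(Matrix.symplecticGroup (Fin d) F)) : Matrix (Fin d ⊕ Fin d) (Fin d ⊕ Fin d) F) =
          (1 : F) • (1 : Matrix (Fin d ⊕ Fin d) (Fin d ⊕ Fin d) F) ∧
        Module.finrank F (fixSp (Matrix.toLin' (x : Matrix (Fin d ⊕ Fin d) (Fin d ⊕ Fin d) F))) = 2 * (d - e₀) := by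
      rcases hie with ⟨hio, h⟩ | h
      · exact exists_sp_fixed_dim (d := d) (e := d - e₀) (N := 1) hr (by rw [← hi]; omega)
      · have ht : 1 ≤ (r - 1) / i := Nat.div_pos (Nat.le_of_dvd (by have := hrp.two_le; omega) hir) hi0
        obtain ⟨x, hx, hfix, -⟩ := exists_sp_type (d := d) (e := d - e₀) (N := 1) (u := 1) hr hr2
          (hi ▸ ⟨e₀, by omega⟩) one_pos ht le_rfl (by rw [← hi]; omega)
        exact ⟨x, hx, hfix⟩
    rcases key x hx _ hfix (by omega) (by omega) with ⟨-, h1⟩ | ⟨h1, h2⟩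
    · have h := h1 hrp'
      rw [show 2 * d - 2 * (d - e₀) = 2 * e₀ by omega] at h
      exact hke ((Nat.mul_dvd_mul_iff_left two_pos).1 h)
    · have := hrp.two_le
      omega
  · rintro ⟨rfl, rfl, rfl, hodd⟩ x hx ⟨z, hz⟩ hxns
    have h2 : (2 : F) ≠ 0 := by
      intro h
      have h1 : ringChar F = 2 := CharP.ringChar_of_prime_eq_zero Nat.prime_two (by exact_mod_cast h)
      rw [FiniteField.even_card_iff_char_two] at h1
      exact Nat.not_even_iff_odd.2 hodd (Nat.even_iff.2 h1)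
    obtain ⟨ν, M, hν, hM, hMM, hspan⟩ := exists_sadj_generator hd0 h2 hK
    have hν0 : ν ≠ 0 := fun h => hν (h ▸ IsSquare.zero)
    have hiso := spGL_iso hx
    have hff : ∀ v, Matrix.toLin' (x : Matrix (Fin 2 ⊕ Fin 2) (Fin 2 ⊕ Fin 2) F)
        (Matrix.toLin' (x : Matrix (Fin 2 ⊕ Fin 2) (Fin 2 ⊕ Fin 2) F) v) = z • v := fun v => by
      rw [← toLin'_mul_apply, ← pow_two, hz, map_smul, Matrix.toLin'_one]
      rfl
    have hzz : z * z = 1 := by
      obtain ⟨v, hv⟩ : ∃ v, sympBilin 2 F (Pi.single (Sum.inl 0) 1) v ≠ 0 := by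
        by_contra h
        push Not at h
        have h0 : (Pi.single (Sum.inl 0) 1 : Fin 2 ⊕ Fin 2 → F) = 0 := (sympBilin_nondegenerate 2 F).1 _ h
        simpa using congrFun h0 (Sum.inl 0)
      have h := (hiso (Matrix.toLin' (x : Matrix (Fin 2 ⊕ Fin 2) (Fin 2 ⊕ Fin 2) F) (Pi.single (Sum.inl 0) 1))
        (Matrix.toLin' (x : Matrix (Fin 2 ⊕ Fin 2) (Fin 2 ⊕ Fin 2) F) v)).trans (hiso (Pi.single (Sum.inl 0) 1) v)
      rw [hff, hff, map_smul, map_smul, LinearMap.smul_apply, smul_eq_mul, smul_eq_mul, ← mul_assoc] at h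
      exact mul_right_cancel₀ hv (h.trans (one_mul _).symm)
    obtain ⟨J, hJ, hJJ, hcomm⟩ := exists_sadj_of_sq (ν := ν) h2 hν0 hiso hff hzz (fun c => by
      by_contra hc
      push Not at hc
      refine hxns c (Matrix.toLin'.injective (LinearMap.ext fun v => ?_))
      rw [map_smul, Matrix.toLin'_one]
      exact hc v)
    obtain ⟨g, hg, hgJ⟩ := sadj_conj (J := Matrix.toLin' M) h2 hν (fun u v => hKf M hM u v) (fun v => by
      rw [← LinearMap.comp_apply, ← Matrix.toLin'_mul, hMM, map_smul, Matrix.toLin'_one]; rfl) hJ hJJ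
    refine ⟨g, hg, mem_normalizer_of M hM hspan (-1) (by ring) ?_⟩
    apply Matrix.toLin'.injective
    refine LinearMap.ext fun v => ?_
    rw [map_smul, Matrix.toLin'_mul, Matrix.toLin'_mul, LinearMap.smul_apply, LinearMap.comp_apply,
      LinearMap.comp_apply, toLin'_mul_apply, toLin'_mul_apply, toLin'_mul_apply, toLin'_mul_apply, hgJ,
      hcomm, map_smul]
    have h := congrArg (Matrix.toLin' ((g⁻¹ : GL (Fin 2 ⊕ Fin 2) F) : Matrix (Fin 2 ⊕ Fin 2) (Fin 2 ⊕ Fin 2) F))
      (hgJ (Matrix.toLin' ((g⁻¹ : GL (Fin 2 ⊕ Fin 2) F) : Matrix (Fin 2 ⊕ Fin 2) (Fin 2 ⊕ Fin 2) F)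
        (Matrix.toLin' (x : Matrix (Fin 2 ⊕ Fin 2) (Fin 2 ⊕ Fin 2) F)
          (Matrix.toLin' (g : Matrix (Fin 2 ⊕ Fin 2) (Fin 2 ⊕ Fin 2) F) v))))
    rw [toLin'_apply_inv, toLin'_inv_apply] at h
    rw [h]

end Cfsg.Agent.S5975
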