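import Cfsg.Statements.S5976
import Cfsg.Agent.Lib.PrimeOrderSp.GUType

set_option autoImplicit false
open scoped MatrixGroups
open Cfsg

namespace Cfsg.Agent.S5976

/-- Elements of prime order of PSp_n(q), q odd, and the subgroups of type GU_{n/2}(q). Here `T = PSp_{2d}(F)` for a field `F` with `q` elements, `q` odd, `d ≥ 2`, realised through the matrices preserving the standard alternating form `f`; `K` is a subalgebra of the `2d × 2d` matrices that is a field of degree 2 over `F`, closed under taking adjoints for `f` but not consisting of self-adjoint elements (so `F^{2d}` becomes a `d`-dimensional space over `K ≅ F_{q²}` on which `f` is the trace of a multiple of a non-degenerate hermitian form); `H` is the subgroup of `T` normalizing `K` — the symplectic maps that are `K`-linear or `K`-semilinear, a subgroup of type GU_d(q) (maximality is not assumed). Ω is the set of cosets of `H` in `T`, so an element of `T` of prime order `r` (`x ∈ T` with `x^r` scalar, `x` not scalar) fixes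 a point of Ω exactly when some `T`-conjugate of `x` normalizes `K`. Let `r` be a prime dividing the index of `H`. Then every element of `T` of order `r` fixes a point of Ω if and only if `r = 2`. -/
theorem result {F : Type*} [Field F] [Fintype F] {p : ℕ} [Fact p.Prime] [CharP F p] {q : ℕ} (hq : Fintype.card F = q)
    (hodd : Odd q) (d : ℕ) (hd : 2 ≤ d)
    (K : Subalgebra F (Matrix (Fin d ⊕ Fin d) (Fin d ⊕ Fin d) F)) (hK : Cfsg.Geo.IsFieldSubalgebra 2 K)
    (hKf : Cfsg.Geo.IsAdjointClosedFor (Cfsg.sympForm d F) K) (hKns : ¬ Cfsg.Geo.IsSelfAdjointFor (Cfsg.sympForm d F) K)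
    (r : ℕ) [Fact r.Prime]
    (hΩ : r ∣ (Cfsg.Geo.subalgebraNormalizer K).relIndex (Cfsg.spGL d F)) :
    (∀ x ∈ Cfsg.spGL d F, (∃ z : F, ((x ^ r : GL (Fin d ⊕ Fin d) F) : Matrix (Fin d ⊕ Fin d) (Fin d ⊕ Fin d) F) = z • (1 : Matrix (Fin d ⊕ Fin d) (Fin d ⊕ Fin d) F)) →
      (∀ z : F, (x : Matrix (Fin d ⊕ Fin d) (Fin d ⊕ Fin d) F) ≠ z • (1 : Matrix (Fin d ⊕ Fin d) (Fin d ⊕ Fin d) F)) →
      ∃ g ∈ Cfsg.spGL d F, g⁻¹ * x * g ∈ Cfsg.Geo.subalgebraNormalizer K) ↔ r = 2 := by
  open CfsgLib.PrimeOrderSp CfsgLib.Geometry in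
  classical
  subst hq
  have hd0 : 0 < d := by omega
  have hrp : r.Prime := Fact.out
  have h2 : (2 : F) ≠ 0 := by
    intro h
    have h1 : ringChar F = 2 := CharP.ringChar_of_prime_eq_zero Nat.prime_two (by exact_mod_cast h)
    rw [FiniteField.even_card_iff_char_two] at h1
    exact Nat.not_even_iff_odd.2 hodd (Nat.even_iff.2 h1)
  obtain ⟨ν, M, hν, hM, hMskew, hspan⟩ := exists_skew_generator hd0 h2 hK hKf hKns
  have hν0 : ν ≠ 0 := fun h => hν (h ▸ IsSquare.zero)
  -- normalising elements, up to conjugation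
  have hfix : ∀ x ∈ Cfsg.spGL d F, (∃ g ∈ Cfsg.spGL d F, g⁻¹ * x * g ∈ Cfsg.Geo.subalgebraNormalizer K) →
      ∃ (e : F) (J : Module.End F (Fin d ⊕ Fin d → F)), e * e = 1 ∧ SkewSq ν J ∧
        ∀ v, Matrix.toLin' (x : Matrix (Fin d ⊕ Fin d) (Fin d ⊕ Fin d) F) (J v) =
          e • J (Matrix.toLin' (x : Matrix (Fin d ⊕ Fin d) (Fin d ⊕ Fin d) F) v) := by
    rintro x hx ⟨g, hg, hgN⟩
    obtain ⟨e, he, hcomm⟩ := normalizer_sign h2 hν0 hM hMskew hspan hd0
      (mul_mem (mul_mem (inv_mem hg) hx) hg) hgN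
    let J : Module.End F (Fin d ⊕ Fin d → F) :=
      (Matrix.toLin' (g : Matrix (Fin d ⊕ Fin d) (Fin d ⊕ Fin d) F)).comp ((Matrix.toLin' M).comp
        (Matrix.toLin' ((g⁻¹ : GL (Fin d ⊕ Fin d) F) : Matrix (Fin d ⊕ Fin d) (Fin d ⊕ Fin d) F)))
    refine ⟨e, J, he, ⟨fun u v => ?_, fun v => ?_⟩, fun v => ?_⟩
    · simp only [J, LinearMap.comp_apply]
      rw [← spGL_iso (inv_mem hg) _ v, toLin'_apply_inv, hMskew.skew]
      rw [← spGL_iso (inv_mem hg) u (Matrix.toLin' (g : Matrix (Fin d ⊕ Fin d) (Fin d ⊕ Fin d) F) _),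
        toLin'_apply_inv]
    · simp only [J, LinearMap.comp_apply]
      rw [toLin'_apply_inv, hMskew.sq, map_smul, toLin'_inv_apply]
    · simp only [J, LinearMap.comp_apply]
      have h := congrArg (Matrix.toLin' (g : Matrix (Fin d ⊕ Fin d) (Fin d ⊕ Fin d) F))
        (hcomm (Matrix.toLin' ((g⁻¹ : GL (Fin d ⊕ Fin d) F) : Matrix (Fin d ⊕ Fin d) (Fin d ⊕ Fin d) F) v))
      simp only [toLin'_mul_apply, map_smul, toLin'_inv_apply] at h
      exact h
  constructor
  · intro H
    by_contra hr2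
    have hodd' : Odd r := hrp.odd_of_ne_two hr2
    -- a derangement commutes with no skew element
    have key : ∀ x : ↥(Matrix.symplecticGroup (Fin d) F),
        ((x ^ r : ↥(Matrix.symplecticGroup (Fin d) F)) : Matrix (Fin d ⊕ Fin d) (Fin d ⊕ Fin d) F) =
          (1 : F) • (1 : Matrix (Fin d ⊕ Fin d) (Fin d ⊕ Fin d) F) →
        (∀ c : F, (x : Matrix (Fin d ⊕ Fin d) (Fin d ⊕ Fin d) F) ≠ c • (1 : Matrix (Fin d ⊕ Fin d) (Fin d ⊕ Fin d) F)) →
        ∃ J : Module.End F (Fin d ⊕ Fin d → F), SkewSq ν J ∧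
          ∀ v, Matrix.toLin' (x : Matrix (Fin d ⊕ Fin d) (Fin d ⊕ Fin d) F) (J v) =
            J (Matrix.toLin' (x : Matrix (Fin d ⊕ Fin d) (Fin d ⊕ Fin d) F) v) := by
      intro x hx hns
      obtain ⟨e, J, he, hJ, hcomm⟩ := hfix (spToGL F d x) (spToGL_mem x)
        (H (spToGL F d x) (spToGL_mem x) ⟨1, by rw [← map_pow, spToGL_val]; exact hx⟩
          (by rw [spToGL_val]; exact hns))
      rw [spToGL_val] at hcomm
      refine ⟨J, hJ, ?_⟩
      have hpow : ∀ (k : ℕ) v, ((Matrix.toLin' (x : Matrix (Fin d ⊕ Fin d) (Fin d ⊕ Fin d) F)) ^ k) (J v) =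
          e ^ k • J (((Matrix.toLin' (x : Matrix (Fin d ⊕ Fin d) (Fin d ⊕ Fin d) F)) ^ k) v) := fun k => by
        induction k with
        | zero => simp
        | succ k ih =>
          intro v
          simp only [pow_succ' (Matrix.toLin' (x : Matrix (Fin d ⊕ Fin d) (Fin d ⊕ Fin d) F)) k,
            Module.End.mul_apply, ih, map_smul, hcomm, smul_smul, ← pow_succ]
      have hfr : (Matrix.toLin' (x : Matrix (Fin d ⊕ Fin d) (Fin d ⊕ Fin d) F)) ^ r = 1 := by
        rw [← pow_apply_toLin', ← SubmonoidClass.coe_pow, hx, one_smul, Matrix.toLin'_one]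
        rfl
      obtain ⟨v, hv⟩ : ∃ v, J v ≠ 0 := by
        by_contra hc
        push Not at hc
        have h := hJ.sq (Pi.single (Sum.inl ⟨0, hd0⟩) 1)
        rw [hc] at h
        have h' := congrFun h.symm (Sum.inl ⟨0, hd0⟩)
        simp at h'
        exact hν0 h'
      have he1 : e ^ r = 1 := by
        have h := hpow r v
        rw [hfr, Module.End.one_apply, Module.End.one_apply] at h
        exact smul_left_injective F hv (by simpa using h.symm)
      obtain ⟨k, hk⟩ := hodd'
      rw [hk, pow_succ, pow_mul, pow_two, he, one_pow, one_mul] at he1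
      intro v
      rw [hcomm, he1, one_smul]
    by_cases hrp' : r = p
    · -- transvections
      subst hrp'
      set w : Fin d ⊕ Fin d → F := Pi.single (Sum.inl ⟨0, hd0⟩) 1 with hw
      have hw0 : w ≠ 0 := fun h => by simpa [w] using congrFun h (Sum.inl ⟨0, hd0⟩)
      let x : ↥(Matrix.symplecticGroup (Fin d) F) :=
        ⟨Cfsg.sympTransvection d w (1 : F), sympTransvection_mem d F w 1⟩
      have hpow : ∀ (k : ℕ) v, (Matrix.toLin' (x : Matrix (Fin d ⊕ Fin d) (Fin d ⊕ Fin d) F) ^ k) v =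
          v + ((k : F) * Cfsg.sympForm d F v w) • w := fun k => by
        induction k with
        | zero => simp
        | succ k ih =>
          intro v
          rw [pow_succ', Module.End.mul_apply, ih, Matrix.toLin'_apply, sympTransvection_mulVec,
            ← sympBilin_apply (u := v + _)]
          simp only [map_add, map_smul, LinearMap.add_apply, LinearMap.smul_apply, smul_eq_mul,
            sympBilin_isAlt d F w, mul_zero, add_zero, sympBilin_apply, Nat.cast_succ, add_mul, one_mul, add_smul,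
            add_assoc]
      have hx : ((x ^ r : ↥(Matrix.symplecticGroup (Fin d) F)) : Matrix (Fin d ⊕ Fin d) (Fin d ⊕ Fin d) F) =
          (1 : F) • (1 : Matrix (Fin d ⊕ Fin d) (Fin d ⊕ Fin d) F) := by
        rw [SubmonoidClass.coe_pow, one_smul]
        apply Matrix.toLin'.injective
        rw [pow_apply_toLin', Matrix.toLin'_one]
        refine LinearMap.ext fun v => ?_
        rw [hpow, CharP.cast_eq_zero, zero_mul, zero_smul, add_zero, LinearMap.id_apply]
      obtain ⟨J, hJ, hcomm⟩ := key x hx (fun c hc => by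
        obtain ⟨u, hu⟩ : ∃ u, Cfsg.sympForm d F u w ≠ 0 := ⟨Pi.single (Sum.inr ⟨0, hd0⟩) 1, by
          simp [w, sympForm_eq, Pi.single_apply]⟩
        have e1 := hpow 1
        simp only [pow_one, Nat.cast_one, one_mul, hc, map_smul, Matrix.toLin'_one, LinearMap.smul_apply,
          LinearMap.id_apply] at e1
        have hw1 : Cfsg.sympForm d F w w = 0 := sympBilin_isAlt d F w
        have hc1 := e1 w
        rw [hw1, zero_smul, add_zero] at hc1
        have hcone : c = 1 := smul_left_injective F hw0 (hc1.trans (one_smul F w).symm)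
        have hc2 := e1 u
        rw [hcone, one_smul, left_eq_add, smul_eq_zero] at hc2
        exact hu (hc2.resolve_right hw0))
      exact transvection_not_commute hν hJ.sq hw0 hcomm
    · have hr : (r : F) ≠ 0 := cast_ne_zero_of_prime_ne hrp hrp'
      obtain ⟨L, iL, fL, η, J₀, φ, hL, hη, hJ₀, hφ, hφc⟩ := exists_gu_hom (F := F) (d := d) h2
      -- rescale to the square `ν`
      obtain ⟨s, hs⟩ : IsSquare (ν / η) := by
        have hη0 : η ≠ 0 := fun h => hη (h ▸ IsSquare.zero)
        have hchar : ringChar F ≠ 2 := fun h => h2 (by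
          exact_mod_cast (h ▸ ringChar.Nat.cast_ringChar : ((2 : ℕ) : F) = 0))
        rw [FiniteField.isSquare_iff hchar (div_ne_zero hν0 hη0), div_pow,
          (FiniteField.pow_dichotomy hchar hν0).resolve_left fun e => hν ((FiniteField.isSquare_iff hchar hν0).2 e),
          (FiniteField.pow_dichotomy hchar hη0).resolve_left fun e => hη ((FiniteField.isSquare_iff hchar hη0).2 e),
          div_self (neg_ne_zero.2 one_ne_zero)]
      have hη0 : η ≠ 0 := fun h => hη (h ▸ IsSquare.zero)
      have hsJ : SkewSq ν (s • J₀) := ⟨fun u v => by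
          simp only [LinearMap.smul_apply, map_smul, hJ₀.skew, smul_eq_mul, mul_neg],
        fun v => by
          simp only [LinearMap.smul_apply, map_smul, hJ₀.sq, smul_smul, ← hs]
          rw [← mul_assoc, ← hs, div_mul_cancel₀ _ hη0]⟩
      obtain ⟨g, hg, hgJ⟩ := skewSq_conj hMskew hsJ h2 hν
      have hN : ∀ c, (MulAut.conj g⁻¹).toMonoidHom.comp φ c ∈
          Cfsg.Geo.subalgebraNormalizer K ⊓ Cfsg.spGL d F := by
        intro c
        simp only [MonoidHom.coe_comp, Function.comp_apply, MulEquiv.coe_toMonoidHom, MulAut.conj_apply, inv_inv]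
        refine Subgroup.mem_inf.2 ⟨mem_normalizer_of M hM hspan 1 (one_mul 1) ?_,
          mul_mem (mul_mem (inv_mem hg) (hφc c).1) hg⟩
        rw [one_smul]
        apply Matrix.toLin'.injective
        refine LinearMap.ext fun v => ?_
        rw [Matrix.toLin'_mul, Matrix.toLin'_mul, LinearMap.comp_apply, LinearMap.comp_apply, toLin'_mul_apply,
          toLin'_mul_apply, toLin'_mul_apply, toLin'_mul_apply, hgJ, LinearMap.smul_apply, map_smul,
          (hφc c).2, ← LinearMap.smul_apply s J₀]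
        have e := congrArg (Matrix.toLin' ((g⁻¹ : GL (Fin d ⊕ Fin d) F) : Matrix (Fin d ⊕ Fin d) (Fin d ⊕ Fin d) F))
          (hgJ (Matrix.toLin' ((g⁻¹ : GL (Fin d ⊕ Fin d) F) : Matrix (Fin d ⊕ Fin d) (Fin d ⊕ Fin d) F)
            (Matrix.toLin' (φ c : Matrix (Fin d ⊕ Fin d) (Fin d ⊕ Fin d) F)
              (Matrix.toLin' (g : Matrix (Fin d ⊕ Fin d) (Fin d ⊕ Fin d) F) v))))
        rw [toLin'_apply_inv, toLin'_inv_apply] at e
        exact e.symm
      have hdvd := (mul_dvd_mul_right hΩ (Nat.card ↥(Cfsg.GU d L (Fintype.card F)))).trans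
        (relIndex_mul_dvd _ ((MulAut.conj g⁻¹).injective.comp hφ) hN)
      rw [card_spGL, CfsgLib.Classical.card_symplecticGroup, CfsgLib.Classical.card_GU hL,
        Nat.card_eq_fintype_card (α := F), Fintype.card_fin] at hdvd
      have hsplit : ∏ i ∈ Finset.range d, (Fintype.card F ^ (2 * (i + 1)) - 1) =
          (∏ i ∈ Finset.range d, if Even i then Fintype.card F ^ (i + 1) + 1 else Fintype.card F ^ (i + 1) - 1) *
          ∏ i ∈ Finset.range d, if Even i then Fintype.card F ^ (i + 1) - 1 else Fintype.card F ^ (i + 1) + 1 := by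
        rw [← Finset.prod_mul_distrib]
        refine Finset.prod_congr rfl fun i _ => ?_
        split_ifs
        · rw [← Nat.sq_sub_sq, ← pow_mul, one_pow, mul_comm 2]
        · rw [mul_comm (Fintype.card F ^ (i + 1) - 1), ← Nat.sq_sub_sq, ← pow_mul, one_pow, mul_comm 2]
      rw [hsplit] at hdvd
      have hpos : 0 < ∏ i ∈ Finset.range d,
          if Even i then Fintype.card F ^ (i + 1) + 1 else Fintype.card F ^ (i + 1) - 1 :=
        Finset.prod_pos fun i _ => by
          split_ifs
          · omega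
          · exact Nat.sub_pos_of_lt (Nat.one_lt_pow (by omega) Fintype.one_lt_card)
      have hdvd2 : r ∣ Fintype.card F ^ (d ^ 2) * ∏ i ∈ Finset.range d,
          if Even i then Fintype.card F ^ (i + 1) - 1 else Fintype.card F ^ (i + 1) + 1 := by
        refine (Nat.mul_dvd_mul_iff_right hpos).1 ((dvd_trans ?_ hdvd).trans (dvd_of_eq (by ring)))
        exact mul_dvd_mul_left r (dvd_mul_left _ _)
      have hnq : ¬ r ∣ Fintype.card F ^ (d ^ 2) := fun h => by
        obtain ⟨n, hn, hq⟩ := FiniteField.card F p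
        rw [hq] at h
        exact hrp' ((Nat.prime_dvd_prime_iff_eq hrp hn).1 (hrp.dvd_of_dvd_pow (hrp.dvd_of_dvd_pow h)))
      obtain ⟨j, hj, hjd⟩ := hrp.prime.exists_mem_finset_dvd ((hrp.dvd_mul.1 hdvd2).resolve_left hnq)
      rw [Finset.mem_range] at hj
      set i := orderOf ((Fintype.card F : ℕ) : ZMod r) with hi
      have hi0 : 0 < i := orderOf_card_pos hr
      haveI : Fact (2 < r) := ⟨lt_of_le_of_ne hrp.two_le (Ne.symm hr2)⟩
      -- the parity of the order
      have hshape : (Odd i ∧ i ≤ d) ∨ (4 ∣ i ∧ i ≤ 2 * d) := by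
        by_cases hev : Even j
        · rw [if_pos hev] at hjd
          have h : i ∣ j + 1 := (dvd_pow_sub_one_iff Fintype.card_pos).1 hjd
          refine Or.inl ⟨Odd.of_dvd_nat (Even.add_one hev) h, (Nat.le_of_dvd (by omega) h).trans (by omega)⟩
        · rw [if_neg hev] at hjd
          have hneg : ((Fintype.card F : ℕ) : ZMod r) ^ (j + 1) = -1 := by
            rw [← ZMod.natCast_eq_zero_iff, Nat.cast_add, Nat.cast_pow, Nat.cast_one] at hjd
            exact eq_neg_of_add_eq_zero_left hjd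
          have h2j : i ∣ 2 * (j + 1) := by
            rw [hi, orderOf_dvd_iff_pow_eq_one, mul_comm, pow_mul, hneg, neg_one_sq]
          have hnd : ¬ i ∣ j + 1 := fun h => by
            rw [hi, orderOf_dvd_iff_pow_eq_one, hneg] at h
            exact ZMod.neg_one_ne_one h
          refine Or.inr ⟨?_, (Nat.le_of_dvd (by omega) h2j).trans (by omega)⟩
          rcases Nat.even_or_odd i with ⟨i₀, hi₀⟩ | ho
          · rcases Nat.even_or_odd i₀ with ⟨i₁, hi₁⟩ | ho'
            · exact ⟨i₁, by omega⟩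
            · refine absurd ?_ hnd
              obtain ⟨t, ht⟩ : i₀ ∣ j + 1 :=
                (Nat.mul_dvd_mul_iff_left two_pos).1 (by rwa [hi₀, ← two_mul] at h2j)
              obtain ⟨t', ht'⟩ : Even t := by
                have : Even (j + 1) := Nat.even_add_one.2 hev
                rw [ht] at this
                exact (Nat.even_mul.1 this).resolve_left (Nat.not_even_iff_odd.2 ho')
              exact ⟨t', by rw [ht, hi₀, ht']; ring⟩
          · exact absurd ((Nat.coprime_two_right.2 ho).dvd_of_dvd_mul_left h2j) hnd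
      have hscal : ∀ x : ↥(Matrix.symplecticGroup (Fin d) F),
          ((x ^ r : ↥(Matrix.symplecticGroup (Fin d) F)) : Matrix (Fin d ⊕ Fin d) (Fin d ⊕ Fin d) F) =
            (1 : F) • (1 : Matrix (Fin d ⊕ Fin d) (Fin d ⊕ Fin d) F) →
          Module.finrank F (fixSp (Matrix.toLin' (x : Matrix (Fin d ⊕ Fin d) (Fin d ⊕ Fin d) F))) < 2 * d →
          ((Matrix.toLin' (x : Matrix (Fin d ⊕ Fin d) (Fin d ⊕ Fin d) F)) ^ r = 1) ∧
          ∀ c : F, (x : Matrix (Fin d ⊕ Fin d) (Fin d ⊕ Fin d) F) ≠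
            c • (1 : Matrix (Fin d ⊕ Fin d) (Fin d ⊕ Fin d) F) := by
        intro x hx hlt
        have hfr : (Matrix.toLin' (x : Matrix (Fin d ⊕ Fin d) (Fin d ⊕ Fin d) F)) ^ r = 1 := by
          rw [← pow_apply_toLin', ← SubmonoidClass.coe_pow, hx, one_smul, Matrix.toLin'_one]
          rfl
        refine ⟨hfr, fun c hc => ?_⟩
        have hlin : ∀ v, Matrix.toLin' (x : Matrix (Fin d ⊕ Fin d) (Fin d ⊕ Fin d) F) v = c • v := fun v => by
          rw [hc, Matrix.toLin'_apply, Matrix.smul_mulVec, Matrix.one_mulVec]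
        have hpow : ∀ k : ℕ, ∀ v, (Matrix.toLin' (x : Matrix (Fin d ⊕ Fin d) (Fin d ⊕ Fin d) F) ^ k) v =
            c ^ k • v := fun k => by
          induction k with
          | zero => simp
          | succ k ih => intro v; rw [pow_succ', Module.End.mul_apply, ih, hlin, smul_smul, pow_succ']
        let v₀ : Fin d ⊕ Fin d → F := Pi.single (Sum.inl ⟨0, hd0⟩) 1
        let v₁ : Fin d ⊕ Fin d → F := Pi.single (Sum.inr ⟨0, hd0⟩) 1
        have h01 : sympBilin d F v₀ v₁ ≠ 0 := by simp [v₀, v₁, sympForm_eq, Pi.single_apply]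
        have hc2 : c * c = 1 := by
          have e := spGL_iso (spToGL_mem x) v₀ v₁
          rw [spToGL_val, hlin, hlin, map_smul, map_smul, LinearMap.smul_apply, smul_eq_mul, smul_eq_mul,
            ← mul_assoc] at e
          exact (mul_eq_right₀ h01).1 e
        obtain ⟨k, hk⟩ := hodd'
        have hcr : c = c ^ r := by rw [hk, pow_succ, pow_mul, pow_two, hc2, one_pow, one_mul]
        have htop : fixSp (Matrix.toLin' (x : Matrix (Fin d ⊕ Fin d) (Fin d ⊕ Fin d) F)) = ⊤ :=
          Submodule.eq_top_iff'.2 fun v => mem_fixSp.2 (by rw [hlin, hcr, ← hpow, hfr, Module.End.one_apply])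
        rw [htop, finrank_top, Module.finrank_fintype_fun_eq_card, Fintype.card_sum, Fintype.card_fin] at hlt
        omega
      have hmovdim : ∀ (x : ↥(Matrix.symplecticGroup (Fin d) F)) (e : ℕ),
          (Matrix.toLin' (x : Matrix (Fin d ⊕ Fin d) (Fin d ⊕ Fin d) F)) ^ r = 1 →
          Module.finrank F (fixSp (Matrix.toLin' (x : Matrix (Fin d ⊕ Fin d) (Fin d ⊕ Fin d) F))) = 2 * e →
          Module.finrank F (movSp (Matrix.toLin' (x : Matrix (Fin d ⊕ Fin d) (Fin d ⊕ Fin d) F))) + 2 * e = 2 * d := by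
        intro x e hfr he
        have h := Submodule.finrank_add_eq_of_isCompl (isCompl_fix_mov hr hfr)
        rw [he, Module.finrank_fintype_fun_eq_card, Fintype.card_sum, Fintype.card_fin] at h
        omega
      rcases hshape with ⟨hio, hid⟩ | ⟨⟨i₁, hi₁⟩, hid⟩
      · obtain ⟨x, hx, hfixd⟩ := exists_sp_fixed_dim (d := d) (e := d - i) (N := 1) hr (by rw [← hi]; omega)
        obtain ⟨hfr, hns⟩ := hscal x hx (by omega)
        obtain ⟨J, hJ, hcomm⟩ := key x hx hns
        exact no_skew_odd hν hJ (spGL_iso (spToGL_mem x)) hr hr2 hfr (hi ▸ hio)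
          (by have := hmovdim x _ hfr hfixd; rw [← hi, spToGL_val]; omega) (by rw [spToGL_val]; exact hcomm)
      · have ht : 1 ≤ (r - 1) / i := by
          have h3 := CfsgLib.KnownB.PrimeOrder.card_factors (F := F) (r := r) hr
          rw [← hi] at h3
          rw [← h3, Nat.mul_div_cancel _ hi0]
          rcases Nat.eq_zero_or_pos (CfsgLib.KnownB.PrimeOrder.factors F r).card with h0 | h0
          · rw [h0, zero_mul] at h3; have := hrp.two_le; omega
          · exact h0
        obtain ⟨x, hx, hfixd, -⟩ := exists_sp_type (d := d) (e := d - 2 * i₁) (N := 1) (u := 1) hr hr2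
          (hi ▸ ⟨2 * i₁, by omega⟩) one_pos ht le_rfl (by rw [← hi]; omega)
        obtain ⟨hfr, hns⟩ := hscal x hx (by omega)
        obtain ⟨J, hJ, hcomm⟩ := key x hx hns
        exact no_skew_even h2 hν hJ (spGL_iso (spToGL_mem x)) hr hfr (j := 2 * i₁) (by omega) (even_two_mul i₁)
          (by rw [← hi]; omega) (by have := hmovdim x _ hfr hfixd; rw [spToGL_val]; omega) (by rw [spToGL_val]; exact hcomm)
  · rintro rfl x hx ⟨z, hz⟩ -
    obtain ⟨y, rfl⟩ := exists_spToGL hx
    obtain ⟨e, J, he, hJ, hcomm⟩ := exists_skew_of_sq hd0 h2 hν0 y (z := z) (by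
      rw [← map_pow, spToGL_val] at hz; exact hz)
    obtain ⟨g, hg, hgJ⟩ := skewSq_conj hMskew hJ h2 hν
    refine ⟨g, hg, mem_normalizer_of M hM hspan e he ?_⟩
    apply Matrix.toLin'.injective
    refine LinearMap.ext fun v => ?_
    rw [map_smul, Matrix.toLin'_mul, Matrix.toLin'_mul, LinearMap.smul_apply, LinearMap.comp_apply,
      LinearMap.comp_apply, toLin'_mul_apply, toLin'_mul_apply, toLin'_mul_apply, toLin'_mul_apply, hgJ,
      spToGL_val, hcomm, map_smul]
    have h := congrArg (Matrix.toLin' ((g⁻¹ : GL (Fin d ⊕ Fin d) F) : Matrix (Fin d ⊕ Fin d) (Fin d ⊕ Fin d) F))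
      (hgJ (Matrix.toLin' ((g⁻¹ : GL (Fin d ⊕ Fin d) F) : Matrix (Fin d ⊕ Fin d) (Fin d ⊕ Fin d) F)
        (Matrix.toLin' (y : Matrix (Fin d ⊕ Fin d) (Fin d ⊕ Fin d) F)
          (Matrix.toLin' (g : Matrix (Fin d ⊕ Fin d) (Fin d ⊕ Fin d) F) v))))
    rw [toLin'_apply_inv, toLin'_inv_apply] at h
    rw [h]

end Cfsg.Agent.S5976
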