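import Cfsg.Statements.S5979
import Cfsg.Agent.Lib.ThreeTransp.DiagModel
import Cfsg.Agent.Lib.Classical.Order

set_option autoImplicit false
set_option maxHeartbeats 1600000
open scoped MatrixGroups
open Cfsg

namespace Cfsg.Agent.S5979


open Matrix
open scoped Kronecker

variable {F : Type*} [Field F]

/-- A matrix that is not scalar moves some vector off its line. -/
private theorem exists_functional {b : ℕ} [NeZero b] {B : Matrix (Fin b) (Fin b) F}
    (hB : ∀ β : F, B ≠ β • 1) :
    ∃ w φ : Fin b → F, φ ⬝ᵥ w = 0 ∧ φ ⬝ᵥ (B *ᵥ w) ≠ 0 := by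
  by_cases h : ∃ k l, k ≠ l ∧ B k l ≠ 0
  · obtain ⟨k, l, hkl, h0⟩ := h
    exact ⟨Pi.single l 1, Pi.single k 1, by simp [Pi.single_eq_of_ne hkl, Pi.single_eq_of_ne hkl.symm], by simpa using h0⟩
  · push Not at h
    obtain ⟨k, l, hkl⟩ : ∃ k l, B k k ≠ B l l := by
      by_contra hc
      push Not at hc
      refine hB (B 0 0) (Matrix.ext fun k l => ?_)
      by_cases hkl : k = l
      · subst hkl; simp [hc k 0]
      · simp [h k l hkl, hkl]
    have hne : k ≠ l := fun h => hkl (by rw [h])
    refine ⟨Pi.single k 1 + Pi.single l 1, Pi.single k 1 - Pi.single l 1, ?_, ?_⟩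
    · simp [Pi.single_eq_of_ne hne, Pi.single_eq_of_ne hne.symm, sub_dotProduct]
    · simp [Matrix.mulVec_add, sub_dotProduct, h k l hne, h l k hne.symm, sub_eq_zero, add_neg_eq_zero, hkl]

/-- If the second factor is not scalar the moved space of a product is at least the size of the first. -/
private theorem le_rank_left {a b : ℕ} [NeZero b] {A : Matrix (Fin a) (Fin a) F} {B : Matrix (Fin b) (Fin b) F}
    (hA : A.det ≠ 0) (hB : ∀ β : F, B ≠ β • 1) (c : F) : a ≤ (A ⊗ₖ B - c • 1).rank := by
  obtain ⟨w, φ, hφw, hφ⟩ := exists_functional hB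
  let emb : (Fin a → F) →ₗ[F] (Fin a × Fin b → F) :=
    { toFun := fun u x => u x.1 * w x.2
      map_add' := fun u v => funext fun x => add_mul _ _ _
      map_smul' := fun s u => funext fun x => mul_assoc _ _ _ }
  let proj : (Fin a × Fin b → F) →ₗ[F] (Fin a → F) :=
    { toFun := fun v i => ∑ k, φ k * v (i, k)
      map_add' := fun u v => funext fun i => by simp [mul_add, Finset.sum_add_distrib]
      map_smul' := fun s u => funext fun i => by simp [Finset.mul_sum, mul_left_comm] }
  have hkey : ∀ u, proj ((A ⊗ₖ B - c • 1) *ᵥ emb u) = (φ ⬝ᵥ (B *ᵥ w)) • (A *ᵥ u) := fun u => by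
    funext i
    have h1 : ∀ k, ((A ⊗ₖ B - c • 1) *ᵥ emb u) (i, k) = (A *ᵥ u) i * (B *ᵥ w) k - c * (u i * w k) := fun k => by
      rw [Matrix.sub_mulVec, Matrix.smul_mulVec, Matrix.one_mulVec, Pi.sub_apply, Pi.smul_apply, smul_eq_mul]
      congr 1
      simp only [Matrix.mulVec, dotProduct, Fintype.sum_prod_type, Matrix.kroneckerMap_apply]
      rw [Finset.sum_mul_sum]
      refine Finset.sum_congr rfl fun j _ => Finset.sum_congr rfl fun l _ => ?_
      show A i j * B k l * (u j * w l) = _
      ring
    show ∑ k, φ k * ((A ⊗ₖ B - c • 1) *ᵥ emb u) (i, k) = _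
    simp only [h1, mul_sub, Finset.sum_sub_distrib, Pi.smul_apply, smul_eq_mul]
    have h2 : ∑ k, φ k * (c * (u i * w k)) = c * u i * (φ ⬝ᵥ w) := by
      simp only [dotProduct, Finset.mul_sum]; exact Finset.sum_congr rfl fun k _ => by ring
    rw [h2, hφw, mul_zero, sub_zero]
    simp only [dotProduct, Finset.sum_mul]
    exact Finset.sum_congr rfl fun k _ => by ring
  have hinj : Function.Injective ((A ⊗ₖ B - c • 1).mulVecLin ∘ₗ emb) := by
    refine (injective_iff_map_eq_zero _).2 fun u hu => ?_
    have h : proj ((A ⊗ₖ B - c • 1) *ᵥ emb u) = 0 := by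
      rw [show (A ⊗ₖ B - c • 1) *ᵥ emb u = 0 from hu, map_zero]
    rw [hkey] at h
    exact Matrix.eq_zero_of_mulVec_eq_zero hA ((smul_eq_zero.1 h).resolve_left hφ)
  have h := LinearMap.finrank_range_of_inj hinj
  rw [Module.finrank_fin_fun] at h
  exact h.symm.trans_le (Submodule.finrank_mono (LinearMap.range_comp_le_range _ _))

/-- Symmetrically. -/
private theorem le_rank_right {a b : ℕ} [NeZero a] {A : Matrix (Fin a) (Fin a) F} {B : Matrix (Fin b) (Fin b) F}
    (hB : B.det ≠ 0) (hA : ∀ α : F, A ≠ α • 1) (c : F) : b ≤ (A ⊗ₖ B - c • 1).rank := by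
  have h := le_rank_left (A := B) (B := A) hB hA c
  rw [show B ⊗ₖ A - c • 1 = (A ⊗ₖ B - c • 1).submatrix (Equiv.prodComm _ _) (Equiv.prodComm _ _) by
    ext ⟨i, k⟩ ⟨j, l⟩
    simp [Matrix.one_apply, Prod.ext_iff, and_comm, mul_comm], Matrix.rank_submatrix] at h
  exact h

/-- The rank of a product with a scalar factor. -/
private theorem rank_scalar {a b : ℕ} (α : F) (B : Matrix (Fin b) (Fin b) F) (c : F) :
    ((α • (1 : Matrix (Fin a) (Fin a) F)) ⊗ₖ B - c • 1).rank = a * (α • B - c • 1).rank := by
  set M : Matrix (Fin b) (Fin b) F := α • B - c • 1 with hM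
  have h1 : (α • (1 : Matrix (Fin a) (Fin a) F)) ⊗ₖ B - c • 1 = (1 : Matrix (Fin a) (Fin a) F) ⊗ₖ M := by
    ext ⟨i, k⟩ ⟨j, l⟩
    by_cases hij : i = j <;> simp [hM, hij, Matrix.one_apply, Prod.ext_iff]
  rw [h1]
  let g : (Fin a → LinearMap.range M.mulVecLin) →ₗ[F] (Fin a × Fin b → F) :=
    { toFun := fun v x => (v x.1 : Fin b → F) x.2
      map_add' := fun u v => rfl
      map_smul' := fun s u => rfl }
  have hg : Function.Injective g := fun u v huv => funext fun i => Subtype.ext (funext fun k => congrFun huv (i, k))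
  have happ : ∀ (v : Fin a × Fin b → F) i k,
      (((1 : Matrix (Fin a) (Fin a) F) ⊗ₖ M) *ᵥ v) (i, k) = (M *ᵥ fun l => v (i, l)) k := fun v i k => by
    simp [Matrix.mulVec, dotProduct, Fintype.sum_prod_type, Matrix.one_apply, Finset.sum_ite_eq]
  have hrange : LinearMap.range g = LinearMap.range ((1 : Matrix (Fin a) (Fin a) F) ⊗ₖ M).mulVecLin := by
    refine le_antisymm ?_ ?_
    · rintro _ ⟨v, rfl⟩
      have hv : ∀ i, ∃ w, M *ᵥ w = (v i : Fin b → F) := fun i => (v i).2
      choose w hw using hv
      refine ⟨fun x => w x.1 x.2, funext fun x => ?_⟩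
      show (((1 : Matrix (Fin a) (Fin a) F) ⊗ₖ M) *ᵥ fun x => w x.1 x.2) (x.1, x.2) = _
      rw [happ]
      exact congrFun (hw x.1) x.2
    · rintro _ ⟨v, rfl⟩
      exact ⟨fun i => ⟨M *ᵥ fun l => v (i, l), ⟨_, rfl⟩⟩, funext fun x => (happ v x.1 x.2).symm⟩
  rw [Matrix.rank, ← hrange, LinearMap.finrank_range_of_inj hg, Module.finrank_pi_fintype, Finset.sum_const,
    Finset.card_univ, Fintype.card_fin, smul_eq_mul]
  rfl

/-- The factors of the identity are scalar. -/
private theorem scalar_of_kronecker {a b : ℕ} [NeZero a] [NeZero b] {A : Matrix (Fin a) (Fin a) F}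
    {B : Matrix (Fin b) (Fin b) F} (h : A ⊗ₖ B = 1) : ∃ α : F, α ≠ 0 ∧ A = α • 1 ∧ B = α⁻¹ • 1 := by
  have h0 := congrFun (congrFun h (0, 0)) (0, 0)
  simp only [Matrix.kroneckerMap_apply, Matrix.one_apply_eq] at h0
  refine ⟨A 0 0, left_ne_zero_of_mul_eq_one h0, Matrix.ext fun i j => ?_, Matrix.ext fun k l => ?_⟩
  · have hij := congrFun (congrFun h (i, 0)) (j, 0)
    simp only [Matrix.kroneckerMap_apply, Matrix.one_apply, Prod.ext_iff, and_true] at hij
    have hB0 : B 0 0 ≠ 0 := right_ne_zero_of_mul_eq_one h0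
    by_cases he : i = j
    · rw [if_pos he] at hij
      subst he
      simp only [Matrix.smul_apply, Matrix.one_apply_eq, smul_eq_mul, mul_one]
      exact mul_right_cancel₀ hB0 (hij.trans h0.symm)
    · rw [if_neg he] at hij
      simp [he, (mul_eq_zero.1 hij).resolve_right hB0]
  · have hkl := congrFun (congrFun h (0, k)) (0, l)
    simp only [Matrix.kroneckerMap_apply, Matrix.one_apply, Prod.ext_iff, true_and] at hkl
    have hA0 : A 0 0 ≠ 0 := left_ne_zero_of_mul_eq_one h0
    by_cases he : k = l
    · rw [if_pos he] at hkl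
      subst he
      simp only [Matrix.smul_apply, Matrix.one_apply_eq, smul_eq_mul, mul_one]
      exact eq_inv_of_mul_eq_one_right hkl
    · rw [if_neg he] at hkl
      simp [he, (mul_eq_zero.1 hkl).resolve_left hA0]

/-- Rank and powers after conjugation and reindexing. -/
private theorem conj_facts {n : ℕ} {κ : Type} [Fintype κ] [DecidableEq κ] (e : Fin n ≃ κ) (T : GL (Fin n) F)
    {x : Matrix (Fin n) (Fin n) F} {M : Matrix κ κ F}
    (hx : x = (T : Matrix (Fin n) (Fin n) F) * M.submatrix e e * ((T⁻¹ : GL (Fin n) F) : Matrix (Fin n) (Fin n) F)) :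
    (∀ c : F, (x - c • 1).rank = (M - c • 1).rank) ∧ ∀ r : ℕ, x ^ r = 1 → M ^ r = 1 := by
  have hsub : ∀ A B : Matrix κ κ F, A.submatrix e e * B.submatrix e e = (A * B).submatrix e e := fun A B =>
    Matrix.submatrix_mul_equiv A B e e e
  refine ⟨fun c => ?_, fun r hr => ?_⟩
  · have h1 : x - c • 1 = (T : Matrix (Fin n) (Fin n) F) * (M - c • 1).submatrix e e *
        ((T⁻¹ : GL (Fin n) F) : Matrix (Fin n) (Fin n) F) := by
      rw [Matrix.submatrix_sub, Pi.sub_apply, Pi.sub_apply, Matrix.submatrix_smul, Pi.smul_apply, Pi.smul_apply,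
        Matrix.submatrix_one_equiv, mul_sub, sub_mul, ← hx, mul_smul_comm, mul_one, smul_mul_assoc, Units.mul_inv]
    rw [h1, Matrix.rank_mul_eq_left_of_isUnit_det ((T⁻¹ : GL (Fin n) F) : Matrix (Fin n) (Fin n) F) _
      ((Matrix.isUnit_iff_isUnit_det _).1 (T⁻¹).isUnit),
      Matrix.rank_mul_eq_right_of_isUnit_det (T : Matrix (Fin n) (Fin n) F) _
      ((Matrix.isUnit_iff_isUnit_det _).1 T.isUnit), Matrix.rank_submatrix]
  · have h2 : ∀ m : ℕ, x ^ m = (T : Matrix (Fin n) (Fin n) F) * (M ^ m).submatrix e e *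
        ((T⁻¹ : GL (Fin n) F) : Matrix (Fin n) (Fin n) F) := fun m => by
      induction m with
      | zero => simp
      | succ m ih =>
        rw [pow_succ, ih, hx, pow_succ, ← hsub]
        simp only [mul_assoc, Units.inv_mul_cancel_left]
    have h3 := h2 r
    rw [hr] at h3
    have h4 := congrArg (fun N => ((T⁻¹ : GL (Fin n) F) : Matrix (Fin n) (Fin n) F) * N *
      (T : Matrix (Fin n) (Fin n) F)) h3
    simp only [mul_one, Units.inv_mul, ← mul_assoc, one_mul] at h4
    rw [mul_assoc, Units.inv_mul, mul_one] at h4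
    have h5 := congrArg (fun N => N.submatrix e.symm e.symm) h4
    simpa [Matrix.submatrix_submatrix] using h5.symm

/-- Elements of prime order of PSL_n(q) and the stabilizers of tensor decompositions with factors of different dimensions. Here `T = PSL_n(F)` for a field `F` with `q` elements and `n = a·b` with `2 ≤ a < b`; a tensor decomposition `F^n ≅ F^a ⊗ F^b` is given by a bijection `e` of index sets and a change of basis `P`, and `H` is the subgroup of matrices of determinant 1 in its stabilizer (the conjugate by `P` of the group of Kronecker products `g₁ ⊗ g₂`) — a subgroup of type GL_a(q) ⊗ GL_b(q) (maximality is not assumed); Ω is the set of cosets of `H` in `T`, so an element of `T` of prime order `r` (a matrix `x` of determinant 1 with `x^r` scalar, `x` not scalar) fixes a point of Ω exactly when some conjugate of `x` by a matrix of determinant 1 lies in `H`. Let `r` be a prime dividing the index of `H`. Then every element of `T` of order `r` fixes a point of Ω if and only if `r = 2`, `a = 2`, `q` is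 odd and `(q − 1)_2 ≤ (n)_2` (2-parts). -/
theorem result {F : Type*} [Field F] [Fintype F] {p : ℕ} [Fact p.Prime] [CharP F p] {q : ℕ} (hq : Fintype.card F = q)
    (n a b : ℕ) (hab : n = a * b) (ha : 2 ≤ a) (hlt : a < b) (e : Fin n ≃ Fin a × Fin b) (P : GL (Fin n) F)
    (r : ℕ) [Fact r.Prime]
    (hΩ : r ∣ (Cfsg.Geo.tensorProductSubgroup a b e P).relIndex (Cfsg.Geo.specialLinear (Fin n) F)) :
    (∀ x ∈ Cfsg.Geo.specialLinear (Fin n) F, (∃ z : F, ((x ^ r : GL (Fin n) F) : Matrix (Fin n) (Fin n) F) = z • (1 : Matrix (Fin n) (Fin n) F)) →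
      (∀ z : F, (x : Matrix (Fin n) (Fin n) F) ≠ z • (1 : Matrix (Fin n) (Fin n) F)) →
      ∃ g ∈ Cfsg.Geo.specialLinear (Fin n) F, g⁻¹ * x * g ∈ Cfsg.Geo.tensorProductSubgroup a b e P) ↔
    (r = 2 ∧ a = 2 ∧ Odd q ∧ padicValNat 2 (q - 1) ≤ padicValNat 2 n) := by
  open CfsgLib.ThreeTransp.PrimeInv CfsgLib.PrimeOrderSp Polynomial in
  classical
  subst hq
  have hrprime : r.Prime := Fact.out
  have hp : p.Prime := Fact.out
  haveI : NeZero a := ⟨by omega⟩
  haveI : NeZero b := ⟨by omega⟩
  have hn4 : 6 ≤ n := by rw [hab]; nlinarith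
  haveI : Nonempty (Fin n) := ⟨⟨0, by omega⟩⟩
  have hpdvd : ∀ l : ℕ, (l : F) = 0 → l.Prime → l = p := fun l hl hlp =>
    ((Nat.prime_dvd_prime_iff_eq hp hlp).1 ((CharP.cast_eq_zero_iff F p l).1 hl)).symm
  constructor
  · intro hall
    by_contra hcrit
    -- the factors of a fixed element
    have hkey : ∀ x g : GL (Fin n) F, g⁻¹ * x * g ∈ Cfsg.Geo.tensorProductSubgroup a b e P →
        ∃ (A : Matrix (Fin a) (Fin a) F) (B : Matrix (Fin b) (Fin b) F), A.det ≠ 0 ∧ B.det ≠ 0 ∧
          (∀ c : F, ((x : Matrix (Fin n) (Fin n) F) - c • 1).rank = (A ⊗ₖ B - c • 1).rank) ∧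
          ((x : Matrix (Fin n) (Fin n) F) ^ r = 1 → (A ⊗ₖ B) ^ r = 1) := fun x g hg => by
      obtain ⟨_, ⟨k, ⟨A, B, hk⟩, rfl⟩, hy⟩ := hg
      have h : x = g * P * Cfsg.Geo.glReindex e.symm k * (g * P)⁻¹ := by
        have h' : P * Cfsg.Geo.glReindex e.symm k * P⁻¹ = g⁻¹ * x * g := hy
        calc x = g * (g⁻¹ * x * g) * g⁻¹ := by group
          _ = g * P * Cfsg.Geo.glReindex e.symm k * (g * P)⁻¹ := by rw [← h']; group
      have hx : (x : Matrix (Fin n) (Fin n) F) = ((g * P : GL (Fin n) F) : Matrix (Fin n) (Fin n) F) *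
          ((A : Matrix (Fin a) (Fin a) F) ⊗ₖ (B : Matrix (Fin b) (Fin b) F)).submatrix e e *
            (((g * P)⁻¹ : GL (Fin n) F) : Matrix (Fin n) (Fin n) F) := by
        rw [h, Units.val_mul, Units.val_mul (g * P), ← hk]
        rfl
      obtain ⟨hrk, hpw⟩ := conj_facts e (g * P) hx
      exact ⟨A, B, ((Matrix.isUnit_iff_isUnit_det _).1 A.isUnit).ne_zero,
        ((Matrix.isUnit_iff_isUnit_det _).1 B.isUnit).ne_zero, hrk, hpw r⟩
    -- a small eigenspace complement forces a scalar first factor
    have hsmall : ∀ x g : GL (Fin n) F, g⁻¹ * x * g ∈ Cfsg.Geo.tensorProductSubgroup a b e P →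
        (∃ c₀ : F, ((x : Matrix (Fin n) (Fin n) F) - c₀ • 1).rank < b) →
        ∀ c : F, a ∣ ((x : Matrix (Fin n) (Fin n) F) - c • 1).rank := fun x g hg ⟨c₀, hc₀⟩ c => by
      obtain ⟨A, B, hA, hB, hrk, -⟩ := hkey x g hg
      by_cases hsc : ∃ α : F, A = α • 1
      · obtain ⟨α, rfl⟩ := hsc
        rw [hrk, rank_scalar]
        exact dvd_mul_right _ _
      · push Not at hsc
        have := le_rank_right hB hsc c₀
        rw [← hrk] at this
        omega
    let i0 : Fin n := ⟨0, by omega⟩
    let i1 : Fin n := ⟨1, by omega⟩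
    have h01 : i0 ≠ i1 := by simp [i0, i1]
    by_cases hrp : r = p
    · subst hrp
      have hdet : (1 + Matrix.single i0 i1 (1 : F)).det = 1 := Matrix.det_transvection_of_ne i0 i1 h01 1
      let x : GL (Fin n) F := Matrix.GeneralLinearGroup.mkOfDetNeZero (1 + Matrix.single i0 i1 (1 : F))
        (by rw [hdet]; exact one_ne_zero)
      have hE : ∀ k : ℕ, (1 + Matrix.single i0 i1 (1 : F)) ^ k = 1 + Matrix.single i0 i1 (k : F) := fun k => by
        induction k with
        | zero => simp
        | succ k ih =>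
          rw [pow_succ, ih]
          simp only [mul_add, add_mul, one_mul, mul_one, Matrix.single_mul_single_of_ne _ _ _ _ h01.symm, add_zero]
          rw [add_assoc, ← Matrix.single_add, Nat.cast_succ]
      obtain ⟨g, -, hg⟩ := hall x (Units.ext hdet) ⟨1, by
        rw [Units.val_pow_eq_pow_val, one_smul]
        show (1 + Matrix.single i0 i1 (1 : F)) ^ r = 1
        rw [hE, CharP.cast_eq_zero, Matrix.single_zero, add_zero]⟩ (fun t ht => by
          have h := congrFun (congrFun ht i0) i1
          simp [x, h01] at h)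
      have hr1 : ((x : Matrix (Fin n) (Fin n) F) - (1 : F) • 1).rank = 1 := by
        rw [one_smul]
        show ((1 + Matrix.single i0 i1 (1 : F)) - 1).rank = 1
        rw [add_sub_cancel_left, show Matrix.single i0 i1 (1 : F) =
          Matrix.vecMulVec (Pi.single i0 1) (Pi.single i1 1) by
            ext u v
            simp only [Matrix.vecMulVec, Matrix.single_apply, Pi.single_apply, Matrix.of_apply]
            by_cases hu : u = i0 <;> by_cases hv : v = i1 <;> simp [hu, hv, eq_comm]]
        refine le_antisymm (Matrix.rank_vecMulVec_le _ _) ?_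
        rw [Nat.one_le_iff_ne_zero, Matrix.rank, Ne, Submodule.finrank_eq_zero, LinearMap.range_eq_bot]
        intro h
        have := congrFun (LinearMap.congr_fun h (Pi.single i1 1)) i0
        simp [Matrix.vecMulVec, Matrix.mulVec, dotProduct, Pi.single_apply] at this
      have h := hsmall x g hg ⟨1, by rw [hr1]; omega⟩ 1
      rw [hr1, Nat.dvd_one] at h
      omega
    have hrF : (r : F) ≠ 0 := fun h => hrp (hpdvd r h hrprime)
    set i := orderOf ((Fintype.card F : ℕ) : ZMod r) with hi
    have hi0 : 0 < i := orderOf_card_pos hrF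
    have hqpos : 0 < Fintype.card F := Fintype.card_pos
    have hin : i ≤ n := by
      have hdiv : r ∣ Nat.card (Cfsg.Geo.specialLinear (Fin n) F) :=
        hΩ.trans (Subgroup.relIndex_dvd_card _ _)
      rw [show Nat.card (Cfsg.Geo.specialLinear (Fin n) F) = Nat.card (Matrix.SpecialLinearGroup (Fin n) F) from
        Nat.card_congr
          { toFun := fun g => ⟨(g.1 : Matrix (Fin n) (Fin n) F), congrArg Units.val g.2⟩
            invFun := fun g => ⟨Matrix.SpecialLinearGroup.toGL g, Units.ext g.2⟩
            left_inv := fun g => Subtype.ext (Units.ext rfl)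
            right_inv := fun g => Subtype.ext rfl },
        CfsgLib.Classical.card_SL_fin', Nat.card_eq_fintype_card (α := F)] at hdiv
      rcases hrprime.dvd_mul.1 hdiv with h1 | h1
      · obtain ⟨e', -, he⟩ := FiniteField.card F p
        rw [he] at h1
        exact absurd ((Nat.prime_dvd_prime_iff_eq hrprime hp).1 (hrprime.dvd_of_dvd_pow (hrprime.dvd_of_dvd_pow h1))) hrp
      · obtain ⟨j, hj, hjd⟩ := (hrprime.prime.dvd_finsetProd_iff _).1 h1
        rw [dvd_pow_sub_one_iff hqpos, ← hi] at hjd
        have := Nat.le_of_dvd (by omega) hjd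
        rw [Finset.mem_range] at hj
        omega
    rcases Nat.lt_or_ge i 2 with hi1 | hi2
    swap
    · have hnr1 : ¬ r ∣ Fintype.card F - 1 := not_dvd_of_two_le hi2
      obtain ⟨x, hx, hns, hxr, hfix⟩ := exists_fix_dim (n := n) (r := r) (e := n - i) (N := 1) hrF hi2
        (show n - i + 1 * i = n by omega) (by omega)
      rw [Matrix.SpecialLinearGroup.coe_pow, one_smul] at hx
      obtain ⟨g, -, hg⟩ := hall (Matrix.SpecialLinearGroup.toGL x) (Units.ext x.2)
        ⟨1, by rw [Units.val_pow_eq_pow_val, one_smul]; exact hx⟩ hns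
      obtain ⟨A, B, hA, hB, hrk, hpw⟩ := hkey _ g hg
      have hrx : ((x : Matrix (Fin n) (Fin n) F) - (1 : F) • 1).rank = i := by
        have hrk' := LinearMap.finrank_range_add_finrank_ker (Matrix.toLin' (x : Matrix (Fin n) (Fin n) F) - 1)
        rw [Module.finrank_fin_fun] at hrk'
        rw [fixSp] at hfix
        rw [one_smul, Matrix.rank, ← Matrix.toLin'_apply', map_sub, Matrix.toLin'_one, ← Module.End.one_eq_id]
        omega
      have h1 := (hrk 1).symm.trans hrx
      -- normalise
      have hAr : (A ^ r) ⊗ₖ (B ^ r) = 1 := by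
        have hpowk : ∀ m : ℕ, (A ⊗ₖ B) ^ m = (A ^ m) ⊗ₖ (B ^ m) := fun m => by
          induction m with
          | zero => simp
          | succ m ih => rw [pow_succ, ih, ← Matrix.mul_kronecker_mul, ← pow_succ, ← pow_succ]
        rw [← hpowk]; exact hpw hx
      obtain ⟨α, hα, hAα, hBα⟩ := scalar_of_kronecker hAr
      obtain ⟨u, hu⟩ := exists_root hnr1 α
      have hu0 : u ≠ 0 := fun h => hα (by rw [← hu, h, zero_pow hrprime.ne_zero])
      set A₁ := u⁻¹ • A with hA₁
      set B₁ := u • B with hB₁
      have hAB₁ : A ⊗ₖ B = A₁ ⊗ₖ B₁ := by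
        rw [hA₁, hB₁, Matrix.smul_kronecker, Matrix.kronecker_smul, smul_smul, inv_mul_cancel₀ hu0, one_smul]
      have hA₁r : A₁ ^ r = 1 := by
        rw [hA₁, _root_.smul_pow, hAα, smul_smul, inv_pow, hu, inv_mul_cancel₀ hα, one_smul]
      have hB₁r : B₁ ^ r = 1 := by
        rw [hB₁, _root_.smul_pow, hBα, smul_smul, hu, mul_inv_cancel₀ hα, one_smul]
      rw [hAB₁] at h1
      have hmov : ∀ {m : ℕ} (M : Matrix (Fin m) (Fin m) F), M ^ r = 1 → i ∣ (M - 1).rank := fun {m} M hM => by
        have hMr : Matrix.toLin' M ^ r = 1 := by rw [← Matrix.toLin'_pow, hM, Matrix.toLin'_one]; rfl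
        obtain ⟨N, hN, -⟩ := finrank_mov hrF hMr
        refine ⟨N, ?_⟩
        rw [Matrix.rank, ← Matrix.toLin'_apply', map_sub, Matrix.toLin'_one, ← Module.End.one_eq_id, mul_comm i]
        exact hN
      by_cases hsc : ∃ β : F, A₁ = β • 1
      · obtain ⟨β, hβ⟩ := hsc
        have hβ1 : β = 1 := eq_one_of_pow_eq_one hnr1 (by
          have h := hA₁r
          rw [hβ, _root_.smul_pow, one_pow] at h
          have := congrFun (congrFun h 0) 0
          simpa using this)
        rw [hβ, rank_scalar, hβ1, one_smul, one_smul] at h1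
        obtain ⟨N, hN⟩ := hmov B₁ hB₁r
        rw [hN, ← mul_assoc, mul_comm a i, mul_assoc] at h1
        have h2 := Nat.eq_of_mul_eq_mul_left hi0 (h1.trans (mul_one i).symm)
        have := Nat.eq_one_of_mul_eq_one_right h2
        omega
      · push Not at hsc
        have hB₁d : B₁.det ≠ 0 := by rw [hB₁, Matrix.det_smul]; exact mul_ne_zero (pow_ne_zero _ hu0) hB
        have h2 := le_rank_right hB₁d hsc 1
        rw [h1] at h2
        have h3 : (A₁ - 1).rank ≤ a := (Matrix.rank_le_card_width _).trans (Fintype.card_fin a).le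
        have h4 : (A₁ - 1).rank ≠ 0 := fun h => by
          rw [Matrix.rank, Submodule.finrank_eq_zero, LinearMap.range_eq_bot, ← Matrix.toLin'_apply'] at h
          exact hsc 1 (by rw [one_smul]; exact sub_eq_zero.1 (Matrix.toLin'.injective (by rw [h, map_zero])))
        have h5 := Nat.le_of_dvd (Nat.pos_of_ne_zero h4) (hmov A₁ hA₁r)
        omega
    -- `q ≡ 1 (mod r)`
    have hi1' : i = 1 := by omega
    have hrq : r ∣ Fintype.card F - 1 := orderOf_eq_one_iff_dvd.1 hi1'
    have hdiag : ∀ d : Fin n → F, ∏ j, d j = 1 → (∃ z, ∀ j, d j ^ r = z) → d i0 ≠ d ⟨2, by omega⟩ →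
        ∃ x g : GL (Fin n) F, g⁻¹ * x * g ∈ Cfsg.Geo.tensorProductSubgroup a b e P ∧
          ∀ c, ((x : Matrix (Fin n) (Fin n) F) - c • 1).rank = (Finset.univ.filter fun j => d j ≠ c).card :=
      fun d hd ⟨z, hz⟩ hne => by
      have hdet : (Matrix.diagonal d).det = 1 := by rw [Matrix.det_diagonal, hd]
      let x : GL (Fin n) F := Matrix.GeneralLinearGroup.mkOfDetNeZero (Matrix.diagonal d) (by rw [hdet]; exact one_ne_zero)
      obtain ⟨g, -, hg⟩ := hall x (Units.ext hdet) ⟨z, by
        rw [Units.val_pow_eq_pow_val]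
        show Matrix.diagonal d ^ r = _
        rw [Matrix.diagonal_pow, Matrix.smul_one_eq_diagonal]
        exact congrArg _ (funext hz)⟩ (fun t ht => by
          have ht' : Matrix.diagonal d = t • (1 : Matrix (Fin n) (Fin n) F) := ht
          rw [Matrix.smul_one_eq_diagonal] at ht'
          exact hne (by rw [Matrix.diagonal_injective ht']))
      refine ⟨x, g, hg, fun c => ?_⟩
      show (Matrix.diagonal d - c • 1).rank = _
      rw [Matrix.smul_one_eq_diagonal, Matrix.diagonal_sub, Matrix.rank_diagonal, Fintype.card_subtype]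
      simp [sub_eq_zero]
    let i2 : Fin n := ⟨2, by omega⟩
    have h02 : i2 ≠ i0 := by simp [i2, i0]
    have h12 : i2 ≠ i1 := by simp [i2, i1]
    rcases eq_or_ne r 2 with rfl | hr2
    · have hodd : Odd (Fintype.card F) := by rw [Nat.odd_iff]; omega
      have h2F : (-1 : F) ≠ 1 := fun h => hrp (hpdvd 2 (by push_cast; linear_combination -h) Nat.prime_two)
      by_cases ha2 : a = 2
      · -- one eigenvalue of odd multiplicity
        have hv : padicValNat 2 n < padicValNat 2 (Fintype.card F - 1) := by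
          by_contra h; exact hcrit ⟨rfl, ha2, hodd, not_lt.1 h⟩
        set l := padicValNat 2 n with hl
        obtain ⟨g, hg⟩ := IsCyclic.exists_generator (α := Fˣ)
        have hordg : orderOf g = Fintype.card F - 1 := by
          rw [orderOf_eq_card_of_forall_mem_zpowers hg, Nat.card_eq_fintype_card, Fintype.card_units]
        obtain ⟨K, hK⟩ : 2 ^ (l + 1) ∣ Fintype.card F - 1 :=
          (pow_dvd_pow 2 (by omega)).trans pow_padicValNat_dvd
        have hK0 : 0 < K := Nat.pos_of_ne_zero fun h => by
          rw [h, mul_zero] at hK; have := Fintype.one_lt_card (α := F); omega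
        let c : F := ((g ^ K : Fˣ) : F)
        have hc1 : c ^ 2 ^ l * c ^ 2 ^ l = 1 := by
          rw [← pow_add, ← two_mul, ← pow_succ']
          show ((g ^ K : Fˣ) : F) ^ 2 ^ (l + 1) = 1
          rw [← Units.val_pow_eq_pow_val, ← pow_mul, mul_comm, ← hK, ← hordg, pow_orderOf_eq_one, Units.val_one]
        have hc2 : c ^ 2 ^ l ≠ 1 := by
          show ((g ^ K : Fˣ) : F) ^ 2 ^ l ≠ 1
          rw [← Units.val_pow_eq_pow_val, ← pow_mul, Ne, Units.val_eq_one]
          refine pow_ne_one_of_lt_orderOf (mul_ne_zero hK0.ne' (pow_ne_zero _ two_ne_zero)) ?_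
          rw [hordg, hK, pow_succ, mul_comm K, mul_assoc]
          exact Nat.mul_lt_mul_of_pos_left (by omega) (pow_pos two_pos _)
        obtain ⟨m, hm⟩ : 2 ^ l ∣ n := pow_padicValNat_dvd
        have hmo : Odd m := by
          rw [Nat.odd_iff]
          by_contra hme
          refine pow_succ_padicValNat_not_dvd (p := 2) (n := n) (by omega) ?_
          rw [← hl, hm, pow_succ]
          exact Nat.mul_dvd_mul_left _ (by omega)
        have hcn : c ^ n = -1 := by
          rw [hm, pow_mul, (mul_self_eq_one_iff.1 hc1).resolve_left hc2, hmo.neg_one_pow]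
        have hc0 : c ≠ 0 := Units.ne_zero _
        obtain ⟨x, g', hg', hrk⟩ := hdiag (fun j => if j = i0 then -c else c) (by
          rw [Finset.prod_ite, Finset.filter_eq', Finset.filter_ne', if_pos (Finset.mem_univ _), Finset.prod_singleton,
            Finset.prod_const, Finset.card_erase_of_mem (Finset.mem_univ _), Finset.card_univ, Fintype.card_fin,
            neg_mul, ← pow_succ', Nat.sub_add_cancel (by omega), hcn, neg_neg])
          ⟨c ^ 2, fun j => by split_ifs <;> simp⟩ (by
            show (if i0 = i0 then -c else c) ≠ if i2 = i0 then -c else c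
            rw [if_pos rfl, if_neg h02]
            intro h
            exact h2F (mul_right_cancel₀ hc0 (by rw [neg_one_mul, one_mul]; exact h)))
        have h1 := hrk c
        rw [show (Finset.univ.filter fun j : Fin n => (if j = i0 then -c else c) ≠ c) = {i0} by
          ext j
          by_cases hj : j = i0
          · simp [hj]
            intro h
            exact h2F (mul_right_cancel₀ hc0 (by rw [neg_one_mul, one_mul]; exact h))
          · simp [hj], Finset.card_singleton] at h1
        have h := hsmall x g' hg' ⟨c, by omega⟩ c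
        rw [h1, Nat.dvd_one] at h
        omega
      · obtain ⟨x, g, hg, hrk⟩ := hdiag (fun j => if j = i0 ∨ j = i1 then -1 else 1) (by
          rw [← Finset.prod_subset (Finset.subset_univ {i0, i1}) (fun j _ hj => by
            simp only [Finset.mem_insert, Finset.mem_singleton] at hj; simp [hj]), Finset.prod_pair h01]
          simp)
          ⟨1, fun j => by split_ifs <;> simp⟩ (by
            show (if i0 = i0 ∨ i0 = i1 then (-1 : F) else 1) ≠ if i2 = i0 ∨ i2 = i1 then -1 else 1
            rw [if_pos (Or.inl rfl), if_neg (by simp [h02, h12])]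
            exact h2F)
        have h1 := hrk 1
        rw [show (Finset.univ.filter fun j : Fin n => (if j = i0 ∨ j = i1 then (-1 : F) else 1) ≠ 1) = {i0, i1} by
          ext j
          by_cases hj : j = i0 ∨ j = i1
          · rcases hj with hj | hj <;> simp [hj, h2F, h01, h01.symm]
          · simp [hj], Finset.card_pair h01] at h1
        have h := hsmall x g hg ⟨1, by omega⟩ 1
        rw [h1] at h
        have := Nat.le_of_dvd two_pos h
        omega
    · obtain ⟨ζu, hζu⟩ := exists_prime_orderOf_dvd_card r (G := Fˣ) (by rw [Fintype.card_units]; exact hrq)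
      set ζ : F := (ζu : F) with hζ
      have hζord : orderOf ζ = r := by rw [hζ, orderOf_units, hζu]
      have hζr : ζ ^ r = 1 := by rw [← hζord, pow_orderOf_eq_one]
      have hζ0 : ζ ≠ 0 := ζu.ne_zero
      have hζ1 : ζ ≠ 1 := fun h => by rw [h, orderOf_one] at hζord; exact hrprime.ne_one hζord.symm
      have hζi : ζ ≠ ζ⁻¹ := fun h => by
        have h2 : ζ ^ 2 = 1 := by rw [pow_two]; nth_rewrite 2 [h]; exact mul_inv_cancel₀ hζ0
        have := Nat.le_of_dvd two_pos (hζord ▸ orderOf_dvd_of_pow_eq_one h2)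
        have := hrprime.two_le
        omega
      obtain ⟨x, g, hg, hrk⟩ := hdiag (fun j => if j = i0 then ζ else if j = i1 then ζ⁻¹ else 1) (by
        rw [← Finset.prod_subset (Finset.subset_univ {i0, i1}) (fun j _ hj => by
          simp only [Finset.mem_insert, Finset.mem_singleton, not_or] at hj; simp [hj.1, hj.2]),
          Finset.prod_pair h01]
        simp [h01.symm, hζ0])
        ⟨1, fun j => by split_ifs <;> simp [hζr]⟩ (by
          show (if i0 = i0 then ζ else _) ≠ if i2 = i0 then ζ else if i2 = i1 then ζ⁻¹ else 1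
          rw [if_pos rfl, if_neg h02, if_neg h12]
          exact hζ1)
      have h1 := hrk 1
      rw [show (Finset.univ.filter fun j : Fin n => (if j = i0 then ζ else if j = i1 then ζ⁻¹ else 1) ≠ 1) = {i0, i1} by
        ext j
        by_cases hj : j = i0
        · simp [hj, hζ1]
        · by_cases hj' : j = i1
          · simp [hj', h01.symm, hζ1]
          · simp [hj, hj'], Finset.card_pair h01] at h1
      have hsm : ∃ c₀ : F, ((x : Matrix (Fin n) (Fin n) F) - c₀ • 1).rank < b := ⟨1, by omega⟩
      have ha2 := Nat.le_of_dvd two_pos (h1 ▸ hsmall x g hg hsm 1)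
      have h2 := hrk ζ
      rw [show (Finset.univ.filter fun j : Fin n => (if j = i0 then ζ else if j = i1 then ζ⁻¹ else 1) ≠ ζ) =
          Finset.univ.erase i0 by
        ext j
        by_cases hj : j = i0
        · simp [hj]
        · by_cases hj' : j = i1
          · simp [hj', h01.symm, hζi.symm]
          · simp [hj, hj', hζ1.symm], Finset.card_erase_of_mem (Finset.mem_univ _), Finset.card_univ,
        Fintype.card_fin] at h2
      have h3 := h2 ▸ hsmall x g hg hsm ζ
      obtain rfl : a = 2 := by omega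
      omega
  · rintro ⟨rfl, rfl, hodd, hv⟩ x hx ⟨z, hz⟩ hns
    rw [Units.val_pow_eq_pow_val] at hz
    have h2F : ((2 : ℕ) : F) ≠ 0 := fun h => by
      obtain ⟨e', -, he⟩ := FiniteField.card F p
      have hdiv : 2 ∣ Fintype.card F := by rw [he, ← hpdvd 2 h Nat.prime_two]; exact dvd_pow_self _ e'.pos.ne'
      rw [Nat.odd_iff] at hodd
      omega
    have hxdet : (x : Matrix (Fin n) (Fin n) F).det = 1 := congrArg Units.val hx
    -- transport of a model
    have fin : ∀ (A : GL (Fin 2) F) (B : GL (Fin b) F) (Dm : GL (Fin n) F),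
        (Dm : Matrix (Fin n) (Fin n) F) = Matrix.reindexAlgEquiv F F e.symm
          ((A : Matrix (Fin 2) (Fin 2) F) ⊗ₖ (B : Matrix (Fin b) (Fin b) F)) → IsConj x Dm →
        (∀ t : Fˣ, ∃ h : GL (Fin n) F, h * Dm = Dm * h ∧ Matrix.GeneralLinearGroup.det h = t) →
        ∃ g ∈ Cfsg.Geo.specialLinear (Fin n) F, g⁻¹ * x * g ∈ Cfsg.Geo.tensorProductSubgroup 2 b e P := by
      intro A B Dm hD hconj hcent
      obtain ⟨k, hk⟩ := isConj_iff.1 hconj
      obtain ⟨h, hh, hdet⟩ := hcent ((Matrix.GeneralLinearGroup.det P * Matrix.GeneralLinearGroup.det k)⁻¹)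
      refine ⟨(P * h * k)⁻¹, ?_, ?_⟩
      · show Matrix.GeneralLinearGroup.det _ = 1
        rw [map_inv, map_mul, map_mul, hdet, inv_eq_one, mul_right_comm, mul_inv_cancel]
      · rw [inv_inv, show P * h * k * x * (P * h * k)⁻¹ = P * Dm * P⁻¹ by
          calc P * h * k * x * (P * h * k)⁻¹ = P * (h * (k * x * k⁻¹) * h⁻¹) * P⁻¹ := by group
            _ = P * Dm * P⁻¹ := by rw [hk, hh, mul_inv_cancel_right]]
        let K : GL (Fin 2 × Fin b) F := Matrix.GeneralLinearGroup.mkOfDetNeZero
          ((A : Matrix (Fin 2) (Fin 2) F) ⊗ₖ (B : Matrix (Fin b) (Fin b) F)) (by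
            rw [Matrix.det_kronecker]
            exact mul_ne_zero (pow_ne_zero _ ((Matrix.isUnit_iff_isUnit_det _).1 A.isUnit).ne_zero)
              (pow_ne_zero _ ((Matrix.isUnit_iff_isUnit_det _).1 B.isUnit).ne_zero))
        have hK : Cfsg.Geo.glReindex e.symm K = Dm := Units.ext hD.symm
        exact ⟨Dm, ⟨K, ⟨A, B, rfl⟩, hK⟩, rfl⟩
    by_cases hpow : ∃ c, c ^ 2 = z
    · obtain ⟨c, rfl⟩ := hpow
      have hzn : (c ^ 2) ^ n = 1 := by
        have := congrArg Matrix.det hz
        rw [Matrix.det_pow, hxdet, one_pow, Matrix.det_smul, Matrix.det_one, mul_one, Fintype.card_fin] at this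
        exact this.symm
      have hc : c ≠ 0 := fun h => by
        rw [h, zero_pow two_ne_zero, zero_pow (by omega)] at hzn
        exact zero_ne_one hzn
      have hneg : -c ≠ c := fun h => h2F (by
        have h' : (2 : F) * c = 0 := by linear_combination -h
        push_cast
        exact (mul_eq_zero.1 h').resolve_right hc)
      have hrq : 2 ∣ Fintype.card F - 1 := by rw [Nat.odd_iff] at hodd; omega
      obtain ⟨d, hchar, hd⟩ := CfsgLib.ThreeTransp.DiagModel.exists_roots (r := 2) hrq hz
      have hdc : ∀ j, d j = c ∨ d j = -c := fun j => sq_eq_sq_iff_eq_or_eq_neg.1 (hd j)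
      set k := (Finset.univ.filter fun j => d j = -c).card with hk
      have hprod : ∏ j, d j = c ^ n * (-1) ^ k := by
        rw [show ∏ j, d j = ∏ j, c * if d j = -c then -1 else 1 from Finset.prod_congr rfl fun j _ => by
          rcases hdc j with h | h <;> simp [h, hneg.symm], Finset.prod_mul_distrib, Finset.prod_const,
          Finset.card_univ, Fintype.card_fin, Finset.prod_ite, Finset.prod_const, Finset.prod_const_one, mul_one]
      have hdet : ∏ j, d j = 1 := by
        have h := congrArg (Polynomial.eval 0) hchar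
        rw [← Polynomial.coeff_zero_eq_eval_zero, Polynomial.eval_prod] at h
        have h2' := Matrix.det_eq_sign_charpoly_coeff (x : Matrix (Fin n) (Fin n) F)
        rw [hxdet, h] at h2'
        simp only [eval_sub, eval_X, eval_C, zero_sub, Finset.prod_neg, Finset.card_univ, Fintype.card_fin,
          ← mul_assoc, ← mul_pow] at h2'
        simpa using h2'.symm
      have hkev : Even k := by
        by_contra hko
        rw [Nat.not_even_iff_odd] at hko
        have hcn : c ^ n = -1 := by
          have h := hprod.symm.trans hdet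
          rw [hko.neg_one_pow, mul_neg_one] at h
          exact eq_neg_of_add_eq_zero_left (by linear_combination -h)
        set l := padicValNat 2 n with hl
        obtain ⟨m, hm⟩ : 2 ^ l ∣ n := pow_padicValNat_dvd
        have hgcd := pow_gcd_eq_one.2 ⟨show (Units.mk0 c hc) ^ (2 * n) = 1 from Units.ext (by
            rw [Units.val_pow_eq_pow_val, Units.val_mk0, mul_comm, pow_mul, hcn]; simp),
          show (Units.mk0 c hc) ^ (Fintype.card F - 1) = 1 from Units.ext (by
            rw [Units.val_pow_eq_pow_val, Units.val_mk0, FiniteField.pow_card_sub_one_eq_one c hc]; rfl)⟩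
        have hgd : Nat.gcd (2 * n) (Fintype.card F - 1) ∣ n := by
          have hq0 : Fintype.card F - 1 ≠ 0 := by have := Fintype.one_lt_card (α := F); omega
          have hg0 : Nat.gcd (2 * n) (Fintype.card F - 1) ≠ 0 := Nat.gcd_ne_zero_right hq0
          have hvg : padicValNat 2 (Nat.gcd (2 * n) (Fintype.card F - 1)) ≤ l :=
            ((padicValNat_dvd_iff_le hq0).1 (pow_padicValNat_dvd.trans (Nat.gcd_dvd_right _ _))).trans hv
          obtain ⟨s, hs⟩ := pow_padicValNat_dvd (p := 2) (n := Nat.gcd (2 * n) (Fintype.card F - 1))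
          have hso : Nat.Coprime s 2 := (Nat.prime_two.coprime_iff_not_dvd.2 fun h2s => by
            have hd : 2 ^ (padicValNat 2 (Nat.gcd (2 * n) (Fintype.card F - 1)) + 1) ∣
                Nat.gcd (2 * n) (Fintype.card F - 1) := by
              rw [pow_succ]
              exact (Nat.mul_dvd_mul_left _ h2s).trans (dvd_of_eq hs.symm)
            exact pow_succ_padicValNat_not_dvd hg0 hd).symm
          have hsn : s ∣ n := hso.dvd_of_dvd_mul_left (Dvd.dvd.trans ⟨_, hs.trans (mul_comm _ _)⟩ (Nat.gcd_dvd_left _ _))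
          rw [hs]
          refine Nat.Coprime.mul_dvd_of_dvd_of_dvd (Nat.Coprime.pow_left _ hso.symm) ?_ hsn
          exact (pow_dvd_pow 2 hvg).trans pow_padicValNat_dvd
        obtain ⟨w, hw⟩ := hgd
        have h1 : c ^ n = 1 := by
          have h := congrArg Units.val hgcd
          rw [Units.val_pow_eq_pow_val, Units.val_mk0, Units.val_one] at h
          rw [hw, pow_mul, h, one_pow]
        rw [hcn] at h1
        exact h2F (by push_cast; linear_combination -h1)
      obtain ⟨k₀, hk₀⟩ := hkev
      have hk₀b : k₀ ≤ b := by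
        have := Finset.card_le_univ (Finset.univ.filter fun j => d j = -c)
        rw [Fintype.card_fin, ← hk] at this
        omega
      let dB : Fin b → F := fun j => if (j : ℕ) < k₀ then -c else c
      let d' : Fin n → F := fun j => dB (e j).2
      have hdB0 : ∀ j, dB j ≠ 0 := fun j => by simp only [dB]; split_ifs <;> simp [hc]
      have hd'2 : ∀ j, d' j ^ 2 = c ^ 2 := fun j => by simp only [d', dB]; split_ifs <;> simp
      have hcnt : (Finset.univ.filter fun j => d' j = -c).card = k := by
        rw [hk₀, ← two_mul, ← Fintype.card_fin 2, ← Fintype.card_fin k₀, ← Fintype.card_prod,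
          ← Fintype.card_subtype]
        refine Fintype.card_congr
          { toFun := fun j => ((e j.1).1, ⟨((e j.1).2 : ℕ), ?_⟩)
            invFun := fun w => ⟨e.symm (w.1, ⟨w.2, by omega⟩), by simp [d', dB]⟩
            left_inv := fun j => Subtype.ext (by simp)
            right_inv := fun w => Prod.ext (by simp) (Fin.ext (by simp)) }
        by_contra hcon
        have := j.2
        simp [d', dB, hcon, hneg.symm] at this
      have hsplit : ∀ f : Fin n → F, (∀ j, f j = c ∨ f j = -c) → ∏ j, (X - C (f j)) =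
          (X - C (-c)) ^ (Finset.univ.filter fun j => f j = -c).card *
            (X - C c) ^ (n - (Finset.univ.filter fun j => f j = -c).card) := fun f hf => by
        rw [show ∏ j, (X - C (f j)) = ∏ j, if f j = -c then (X - C (-c)) else (X - C c) from
          Finset.prod_congr rfl fun j _ => by rcases hf j with h | h <;> simp [h, hneg.symm],
          Finset.prod_ite, Finset.prod_const, Finset.prod_const, Finset.filter_not,
          Finset.card_sdiff_of_subset (Finset.filter_subset _ _), Finset.card_univ, Fintype.card_fin]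
      have hchar' : (x : Matrix (Fin n) (Fin n) F).charpoly = ∏ j, (X - C (d' j)) := by
        rw [hchar, hsplit d hdc, hsplit d' (fun j => sq_eq_sq_iff_eq_or_eq_neg.1 (hd'2 j)), hcnt, hk]
      have hd'0 : (Matrix.diagonal d').det ≠ 0 := by
        rw [Matrix.det_diagonal]; exact Finset.prod_ne_zero_iff.2 fun j _ => hdB0 _
      have hdBd : (Matrix.diagonal dB).det ≠ 0 := by
        rw [Matrix.det_diagonal]; exact Finset.prod_ne_zero_iff.2 fun j _ => hdB0 _
      let Dm : GL (Fin n) F := Matrix.GeneralLinearGroup.mkOfDetNeZero (Matrix.diagonal d') hd'0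
      refine fin 1 (Matrix.GeneralLinearGroup.mkOfDetNeZero (Matrix.diagonal dB) hdBd) Dm ?_
        (CfsgLib.ThreeTransp.DiagModel.isConj_diag h2F (pow_ne_zero 2 hc) hz hd'2 rfl hchar') fun t => ?_
      · show Matrix.diagonal d' = Matrix.reindex e.symm e.symm ((1 : Matrix (Fin 2) (Fin 2) F) ⊗ₖ Matrix.diagonal dB)
        rw [← Matrix.diagonal_one, Matrix.diagonal_kronecker_diagonal, Matrix.reindex_apply,
          Matrix.submatrix_diagonal_equiv]
        congr 1
        funext j
        simp [d']
      · let v : Fin n → F := fun j => if j = ⟨0, by omega⟩ then (t : F) else 1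
        have hdv : (Matrix.diagonal v).det = (t : F) := by simp [Matrix.det_diagonal, v]
        have hdv' : (Matrix.diagonal v).det ≠ 0 := by rw [hdv]; exact t.ne_zero
        refine ⟨Matrix.GeneralLinearGroup.mkOfDetNeZero _ hdv', Units.ext ?_, Units.ext hdv⟩
        show Matrix.diagonal v * Matrix.diagonal d' = Matrix.diagonal d' * Matrix.diagonal v
        rw [Matrix.diagonal_mul_diagonal, Matrix.diagonal_mul_diagonal]
        exact congrArg _ (funext fun j => mul_comm _ _)
    · push Not at hpow
      have hss := (killed_of_root (r := 2) h2F hz hpow).2.1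
      have hz0 : z ≠ 0 := fun h => hpow 0 (by rw [h, zero_pow two_ne_zero])
      let K : Matrix (Fin 2) (Fin 2) F := !![0, z; 1, 0]
      have hKK : K * K = z • 1 := by
        ext a b; fin_cases a <;> fin_cases b <;> simp [K, Matrix.mul_apply, Fin.sum_univ_two]
      have hKd : K.det ≠ 0 := by simp [K, Matrix.det_fin_two_of, hz0]
      let Dm0 : Matrix (Fin n) (Fin n) F :=
        Matrix.reindexAlgEquiv F F e.symm (K ⊗ₖ (1 : Matrix (Fin b) (Fin b) F))
      have hD2 : Dm0 ^ 2 = z • 1 := by
        rw [pow_two, ← map_mul, ← Matrix.mul_kronecker_mul, hKK, one_mul, Matrix.smul_kronecker,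
          Matrix.one_kronecker_one, map_smul, map_one]
      have hDd : Dm0.det ≠ 0 := by
        rw [show Dm0 = Matrix.reindex e.symm e.symm (K ⊗ₖ (1 : Matrix (Fin b) (Fin b) F)) from rfl,
          Matrix.det_reindex_self, Matrix.det_kronecker, Matrix.det_one, one_pow, mul_one]
        exact pow_ne_zero _ hKd
      let Dm : GL (Fin n) F := Matrix.GeneralLinearGroup.mkOfDetNeZero Dm0 hDd
      have hPirr : Irreducible (X ^ 2 - C z : F[X]) := X_pow_sub_C_irreducible_of_prime Nat.prime_two hpow
      have hchar : ∀ A : Matrix (Fin n) (Fin n) F, A ^ 2 = z • 1 → A.charpoly = (X ^ 2 - C z) ^ b := fun A hA => by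
        have hm := CfsgLib.KnownB.PrimeOrder.monic_prod_normalizedFactors (Matrix.charpoly_monic A)
        have hall' : ∀ Q' ∈ UniqueFactorizationMonoid.normalizedFactors A.charpoly, Q' = X ^ 2 - C z := fun Q' hQ' => by
          have hQi := UniqueFactorizationMonoid.irreducible_of_normalized_factor Q' hQ'
          refine eq_of_monic_of_associated (CfsgLib.KnownB.PrimeOrder.monic_of_mem_nf hQ')
            (monic_X_pow_sub_C z two_ne_zero) (hQi.associated_of_dvd hPirr ?_)
          refine (CfsgLib.KnownB.Semisimple.dvd_minpoly_of_dvd_charpoly (Matrix.toLin' A) hQi (by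
            rw [Matrix.charpoly_toLin']; exact UniqueFactorizationMonoid.dvd_of_mem_normalizedFactors hQ')).trans
            (minpoly.dvd F _ ?_)
          rw [show Matrix.toLin' A = Matrix.toLinAlgEquiv' A from rfl, aeval_algHom_apply, map_sub, map_pow, aeval_X,
            aeval_C, hA, Algebra.algebraMap_eq_smul_one, sub_self, map_zero]
        rw [Multiset.eq_replicate_of_mem hall', Multiset.prod_replicate] at hm
        have hdeg := congrArg natDegree hm
        rw [natDegree_pow, natDegree_X_pow_sub_C, Matrix.charpoly_natDegree_eq_dim, Fintype.card_fin] at hdeg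
        have hn2 : n = 2 * b := hab
        rw [← hm]
        congr 1
        omega
      refine fin (Matrix.GeneralLinearGroup.mkOfDetNeZero K hKd) 1 Dm rfl
        (CfsgLib.KnownB.Semisimple.isConj_of_charpoly hss ((killed_of_root (r := 2) h2F hD2 hpow).2.1)
          ((hchar _ hz).trans (hchar _ hD2).symm)) fun s => ?_
      obtain ⟨u, v, huv⟩ := FiniteField.exists_root_sum_quadratic
        (f := X ^ 2 - C (s : F)) (g := C (-z) * X ^ 2) (degree_X_pow_sub_C (by norm_num) _)
        (by rw [degree_C_mul_X_pow _ (neg_ne_zero.2 hz0)]; rfl) (Nat.odd_iff.1 hodd)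
      simp only [eval_sub, eval_mul, eval_C, eval_pow, eval_X] at huv
      let H0 : Fin b → Matrix (Fin 2) (Fin 2) F := fun j => if j = 0 then !![u, z * v; v, u] else 1
      let Hm : Matrix (Fin n) (Fin n) F := Matrix.reindexAlgEquiv F F e.symm (Matrix.blockDiagonal H0)
      have hHd : Hm.det = (s : F) := by
        rw [show Hm = Matrix.reindex e.symm e.symm (Matrix.blockDiagonal H0) from rfl, Matrix.det_reindex_self,
          Matrix.det_blockDiagonal, Finset.prod_eq_single (0 : Fin b) (fun j _ hj => by simp [H0, hj]) (by simp)]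
        simp [H0, Matrix.det_fin_two_of]
        linear_combination huv
      have hHd' : Hm.det ≠ 0 := by rw [hHd]; exact s.ne_zero
      refine ⟨Matrix.GeneralLinearGroup.mkOfDetNeZero Hm hHd', Units.ext ?_, Units.ext hHd⟩
      show Hm * Dm0 = Dm0 * Hm
      rw [← map_mul, ← map_mul, Matrix.kronecker_one, ← Matrix.blockDiagonal_mul, ← Matrix.blockDiagonal_mul]
      congr 2
      funext j
      by_cases hj : j = 0 <;> simp only [H0, hj, if_true, if_false, one_mul, mul_one]
      ext a b; fin_cases a <;> fin_cases b <;> simp [K, Matrix.mul_apply, Fin.sum_univ_two] <;> ring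

end Cfsg.Agent.S5979
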