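import Cfsg.Statements.S5981
import Cfsg.Agent.Lib.ThreeTransp.HermSim
import Cfsg.Agent.Lib.ThreeTransp.EigenSym
import Cfsg.Agent.Lib.ThreeTransp.DiagModel
import Cfsg.Agent.Lib.Geometry.GraphPSL.Congr
import Cfsg.Agent.Lib.AschbacherOrth.Classes
import Cfsg.Agent.Lib.OrthPrime.Iso
import Cfsg.Agent.Lib.OrthPrime.Std
import Cfsg.Agent.Lib.Classical.OrthStd
import Cfsg.Agent.Lib.Classical.Order
import Cfsg.Agent.Lib.Geometry.GeoOmega

set_option autoImplicit false
set_option maxHeartbeats 2000000
open scoped MatrixGroups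
open Cfsg

namespace Cfsg.Agent.S5981


open Cfsg.Geo CfsgLib.AschbacherForm CfsgLib.ThreeTransp.HermSim Matrix

variable {F : Type*} [Field F] {n : ℕ}

/-- The similarity group of a quadratic form through the Gram matrix of its polar form. -/
private theorem mem_sim_iff (h2 : (2 : F) ≠ 0) {Q : QuadraticForm F (Fin n → F)} [Nonempty (Fin n)]
    {J : GL (Fin n) F} (hG : Geom (RingEquiv.refl F) (QuadraticMap.polar ⇑Q) J 1) (g : GL (Fin n) F) :
    g ∈ quadSimilarityGroup ⇑Q ↔
      ∃ c : F, IsSim (RingEquiv.refl F) (J : Matrix (Fin n) (Fin n) F) (g : Matrix (Fin n) (Fin n) F) c := by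
  constructor
  · rintro ⟨c, hc⟩
    refine ⟨c, (hG.isSim_iff _ _).2 fun u v => ?_⟩
    simp only [QuadraticMap.polar, ← Matrix.mulVec_add, hc]
    ring
  · rintro ⟨c, hc⟩
    refine ⟨Units.mk0 c (isSim_ne_zero hc), fun v => mul_left_cancel₀ h2 ?_⟩
    have h := (hG.isSim_iff _ _).1 hc v v
    rw [CfsgLib.Geometry.polar_self', CfsgLib.Geometry.polar_self'] at h
    rw [h, Units.val_mk0]
    ring

/-- Conjugation by a matrix of determinant one into the similarity group of a symmetric form. -/
private theorem exists_conj_mem' [Finite F] [Nonempty (Fin n)] (h2 : (2 : F) ≠ 0) {J x D M : GL (Fin n) F} {c : F}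
    (hJ : (J : Matrix (Fin n) (Fin n) F)ᵀ = J) (hM : (M : Matrix (Fin n) (Fin n) F)ᵀ = M)
    (hsq : IsSquare ((J : Matrix (Fin n) (Fin n) F).det * (M : Matrix (Fin n) (Fin n) F).det))
    (hD : IsSim (RingEquiv.refl F) (M : Matrix (Fin n) (Fin n) F) (D : Matrix (Fin n) (Fin n) F) c) (hconj : IsConj x D)
    (hcent : ∀ t : Fˣ, ∃ h : GL (Fin n) F, h * D = D * h ∧ Matrix.GeneralLinearGroup.det h = t) :
    ∃ g ∈ Cfsg.Geo.specialLinear (Fin n) F,
      ∃ d : F, IsSim (RingEquiv.refl F) (J : Matrix (Fin n) (Fin n) F)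
        ((g⁻¹ * x * g : GL (Fin n) F) : Matrix (Fin n) (Fin n) F) d := by
  obtain ⟨Y, hY⟩ := CfsgLib.Geometry.GraphPSL.congr_of_disc h2 hJ hM
    ((Matrix.isUnit_iff_isUnit_det _).1 J.isUnit).ne_zero ((Matrix.isUnit_iff_isUnit_det _).1 M.isUnit).ne_zero hsq
  have hY' : (M : Matrix (Fin n) (Fin n) F) = (Y : Matrix (Fin n) (Fin n) F)ᵀ * (J : Matrix (Fin n) (Fin n) F) *
      (Y : Matrix (Fin n) (Fin n) F).map (RingEquiv.refl F) := hY.symm
  obtain ⟨k, hk⟩ := isConj_iff.1 hconj
  obtain ⟨h, hh, hdet⟩ := hcent ((Matrix.GeneralLinearGroup.det Y * Matrix.GeneralLinearGroup.det k)⁻¹)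
  refine ⟨(Y * h * k)⁻¹, ?_, c, ?_⟩
  · show Matrix.GeneralLinearGroup.det _ = 1
    rw [map_inv, map_mul, map_mul, hdet, inv_eq_one, mul_right_comm, mul_inv_cancel]
  · rw [inv_inv, show Y * h * k * x * (Y * h * k)⁻¹ = Y * D * Y⁻¹ from ?_, Units.val_mul, Units.val_mul]
    · exact isSim_conj Y hY' hD
    · calc Y * h * k * x * (Y * h * k)⁻¹ = Y * (h * (k * x * k⁻¹) * h⁻¹) * Y⁻¹ := by group
        _ = Y * D * Y⁻¹ := by rw [hk, hh, mul_inv_cancel_right]

/-- A transvection is not a similitude of a symmetric form. -/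
private theorem no_transvection (h2 : (2 : F) ≠ 0) {a b : Fin n} (hab : a ≠ b) {M : GL (Fin n) F}
    (hM : (M : Matrix (Fin n) (Fin n) F)ᵀ = M) :
    ¬ IsSim (RingEquiv.refl F) (M : Matrix (Fin n) (Fin n) F) (1 + Matrix.single a b (1 : F)) 1 := by
  intro h
  rw [IsSim, one_smul] at h
  have key : ∀ k l, (if k = b then ((M : Matrix (Fin n) (Fin n) F) a l + if l = b then
      (M : Matrix (Fin n) (Fin n) F) a a else 0) else 0) +
      (if l = b then (M : Matrix (Fin n) (Fin n) F) k a else 0) = 0 := fun k l => by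
    have h' := congrFun (congrFun h k) l
    rw [show (1 + Matrix.single a b (1 : F)).map (RingEquiv.refl F) = 1 + Matrix.single a b (1 : F) from rfl,
      Matrix.transpose_add, Matrix.transpose_one, Matrix.transpose_single, add_mul, one_mul, mul_add, mul_one,
      add_mul] at h'
    simp only [Matrix.add_apply, Matrix.mul_apply, Matrix.single_apply] at h'
    rw [add_assoc, add_eq_left] at h'
    refine Eq.trans ?_ h'
    have hk' : (b = k) = (k = b) := propext eq_comm
    have hl' : (b = l) = (l = b) := propext eq_comm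
    by_cases hk : k = b <;> by_cases hl : l = b <;>
      simp [hk', hl', hk, hl, Finset.sum_ite_eq, Finset.mul_sum] <;> ring
  have hoff : ∀ k, k ≠ b → (M : Matrix (Fin n) (Fin n) F) k a = 0 := fun k hk => by
    simpa [hk] using key k b
  have haa := hoff a hab
  have hsym : (M : Matrix (Fin n) (Fin n) F) b a = (M : Matrix (Fin n) (Fin n) F) a b :=
    congrFun (congrFun hM a) b
  have hbb := key b b
  simp only [if_true, hsym, haa, add_zero] at hbb
  rw [← two_mul] at hbb
  have hab0 := (mul_eq_zero.1 hbb).resolve_left h2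
  exact ((Matrix.isUnit_iff_isUnit_det _).1 M.isUnit).ne_zero (Matrix.det_eq_zero_of_column_eq_zero a fun k => by
    by_cases hk : k = b
    · rw [hk, hsym, hab0]
    · exact hoff k hk)

open Polynomial Module CfsgLib.PrimeOrderSp CfsgLib.KnownB.PrimeOrder in
/-- An element of order `r` with one irreducible constituent of odd degree `i` preserves no symmetric form. -/
private theorem no_single [Fintype F] {r : ℕ} [Fact r.Prime] (hr2 : r ≠ 2) (hr : (r : F) ≠ 0)
    (hodd : Odd (orderOf ((Fintype.card F : ℕ) : ZMod r)))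
    {x : Matrix (Fin n) (Fin n) F} (hxr : Matrix.toLin' x ^ r = 1)
    (hmov : Module.finrank F (movSp (Matrix.toLin' x)) = orderOf ((Fintype.card F : ℕ) : ZMod r))
    {M : GL (Fin n) F} (hsim : IsSim (RingEquiv.refl F) (M : Matrix (Fin n) (Fin n) F) x 1) : False := by
  classical
  have hrp : r.Prime := Fact.out
  set i := orderOf ((Fintype.card F : ℕ) : ZMod r) with hi
  have hi0 : 0 < i := orderOf_card_pos hr
  set f := Matrix.toLin' x with hf
  have hk := killed_movSp (f := f) hr hxr
  have hne : movSp f ≠ ⊥ := fun h => by rw [h, finrank_bot] at hmov; omega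
  obtain ⟨P, hP, v, hv, hv0, hPv⟩ := exists_factor (factors F r) hk.inv hne hk.kill
  obtain ⟨hirr, hm, hd, hP1⟩ := (mem_factors hrp.ne_zero).1 hP
  have hdeg : P.natDegree = i := hk.deg P hP
  have hcyc : cyc f v = movSp f := Submodule.eq_of_le_of_finrank_le (cyc_le hk.inv hv)
    (by rw [finrank_cyc hirr hPv hv0, hdeg, hmov])
  have hPX : Polynomial.aeval x (P * (X - 1)) = 0 := by
    apply Matrix.toLinAlgEquiv'.injective
    rw [map_zero, ← aeval_algHom_apply]
    refine LinearMap.ext fun u => ?_
    have hu : (f - 1) u ∈ cyc f v := hcyc ▸ LinearMap.mem_range_self (f - 1) u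
    obtain ⟨a, ha⟩ := hu
    rw [evalAt_apply] at ha
    show Polynomial.aeval f (P * (X - 1)) u = 0
    rw [map_mul, map_sub, aeval_X, map_one, Module.End.mul_apply, ← ha, ← Module.End.mul_apply, ← map_mul,
      mul_comm, map_mul, Module.End.mul_apply, hPv, map_zero]
  have hx1 : x ^ r = 1 := by
    apply Matrix.toLin'.injective
    rw [Matrix.toLin'_pow, hxr, Matrix.toLin'_one]
    rfl
  set y := x ^ (r - 1) with hy
  have hxy : x * y = 1 := by rw [hy, ← pow_succ', Nat.sub_add_cancel hrp.one_le, hx1]
  have hswap : ∀ k, (x ^ k)ᵀ * (M : Matrix (Fin n) (Fin n) F) = (M : Matrix (Fin n) (Fin n) F) * y ^ k := by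
    have h1 : xᵀ * (M : Matrix (Fin n) (Fin n) F) = (M : Matrix (Fin n) (Fin n) F) * y := by
      have h : xᵀ * (M : Matrix (Fin n) (Fin n) F) * x * y = (1 : F) • (M : Matrix (Fin n) (Fin n) F) * y :=
        congrArg (· * y) hsim
      rwa [one_smul, mul_assoc, hxy, mul_one] at h
    intro k
    induction k with
    | zero => simp
    | succ k ih => rw [pow_succ, Matrix.transpose_mul, mul_assoc, ih, ← mul_assoc, h1, mul_assoc, ← pow_succ']
  have hpoly : ∀ R : F[X], (Polynomial.aeval x R)ᵀ * (M : Matrix (Fin n) (Fin n) F) =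
      (M : Matrix (Fin n) (Fin n) F) * Polynomial.aeval y R := by
    intro R
    induction R using Polynomial.induction_on' with
    | add a b ha hb => rw [map_add, map_add, Matrix.transpose_add, add_mul, mul_add, ha, hb]
    | monomial k a =>
      rw [aeval_monomial, aeval_monomial, ← Algebra.smul_def, ← Algebra.smul_def, Matrix.transpose_smul,
        Matrix.smul_mul, Matrix.mul_smul, hswap]
  have hyR : Polynomial.aeval y (P * (X - 1)) = 0 := by
    have h := hpoly (P * (X - 1))
    rw [hPX, Matrix.transpose_zero, zero_mul] at h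
    have h' := congrArg ((↑M⁻¹ : Matrix (Fin n) (Fin n) F) * ·) h
    simpa only [mul_zero, ← mul_assoc, Units.inv_mul, one_mul] using h'.symm
  haveI := Fact.mk hirr
  haveI : Module.Finite F (AdjoinRoot P) := (AdjoinRoot.powerBasis' hm).finite
  set ρ : AdjoinRoot P := AdjoinRoot.root P with hρ
  have hρr : ρ ^ r = 1 := CfsgLib.PrimeOrderSp.root_pow_eq_one hrp.ne_zero hP
  have hdvd : P ∣ (P * (X - 1)).comp (X ^ (r - 1)) := by
    rw [← aeval_eq_zero_iff hirr hPv hv0, aeval_comp, map_pow, aeval_X,
      show f ^ (r - 1) = Matrix.toLinAlgEquiv' y by rw [hy, map_pow]; rfl, aeval_algHom_apply, hyR, map_zero,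
      LinearMap.zero_apply]
  have h0 : Polynomial.aeval (ρ ^ (r - 1)) (P * (X - 1)) = 0 := by
    obtain ⟨b, hb⟩ := hdvd
    have h := congrArg (Polynomial.aeval ρ) hb
    rw [aeval_comp, map_pow, aeval_X, map_mul (Polynomial.aeval ρ) P b, hρ, AdjoinRoot.aeval_eq, AdjoinRoot.mk_self,
      zero_mul] at h
    exact h
  have hρ1 : ρ ≠ 1 := fun h1 => by
    have h2 : P ∣ X - 1 := AdjoinRoot.mk_eq_zero.1 (by
      rw [map_sub, AdjoinRoot.mk_X, map_one, show AdjoinRoot.root P = 1 from h1, sub_self])
    refine hP1 (eq_of_monic_of_associated hm (monic_X_sub_C 1) ?_)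
    exact hirr.associated_of_dvd (irreducible_X_sub_C 1) (by simpa using h2)
  have hordρ : orderOf ρ = r := orderOf_eq_prime hρr hρ1
  have hpow : ∀ a b : ℕ, ρ ^ a = ρ ^ b → (a : ZMod r) = (b : ZMod r) := fun a b hab => by
    rw [ZMod.natCast_eq_natCast_iff']
    have hp := hordρ ▸ IsPrimitiveRoot.orderOf ρ
    exact hp.pow_inj (Nat.mod_lt _ hrp.pos) (Nat.mod_lt _ hrp.pos) (by
      rw [← pow_eq_pow_mod a hρr, ← pow_eq_pow_mod b hρr, hab])
  rw [map_mul, map_sub, aeval_X, map_one] at h0
  have hroot : Polynomial.aeval (ρ ^ (r - 1)) P = 0 := by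
    refine (mul_eq_zero.1 h0).resolve_right fun h => ?_
    have h' := hpow (r - 1) 0 (by rw [pow_zero]; exact sub_eq_zero.1 h)
    rw [Nat.cast_sub hrp.one_le, ZMod.natCast_self, Nat.cast_zero, Nat.cast_one, zero_sub, neg_eq_zero] at h'
    exact one_ne_zero h'
  have hconj : ∀ j : ℕ, Polynomial.aeval (ρ ^ (Fintype.card F ^ j)) P = 0 := fun j => by
    have h := Polynomial.aeval_algHom_apply ((FiniteField.frobeniusAlgHom F (AdjoinRoot P)) ^ j) ρ P
    rw [show Polynomial.aeval ρ P = 0 by rw [hρ, AdjoinRoot.aeval_eq, AdjoinRoot.mk_self], map_zero] at h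
    rw [show ((FiniteField.frobeniusAlgHom F (AdjoinRoot P)) ^ j) ρ = ρ ^ Fintype.card F ^ j by
      simp [AlgHom.coe_pow, FiniteField.coe_frobeniusAlgHom, pow_iterate]] at h
    exact h
  have hinj : ∀ a b : ℕ, a < i → b < i → ρ ^ Fintype.card F ^ a = ρ ^ Fintype.card F ^ b → a = b := by
    intro a b ha hb hab
    have h := hpow _ _ hab
    rw [Nat.cast_pow, Nat.cast_pow] at h
    have h0 : ((Fintype.card F : ℕ) : ZMod r) ≠ 0 := fun h0 => by
      rw [hi, h0, orderOf_zero] at hi0; exact lt_irrefl 0 hi0
    set U := Units.mk0 _ h0 with hU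
    have h' := pow_inj_mod.1 (show U ^ a = U ^ b from Units.ext (by
      rw [Units.val_pow_eq_pow_val, Units.val_pow_eq_pow_val, hU, Units.val_mk0]; exact h))
    rwa [← orderOf_units, hU, Units.val_mk0, ← hi, Nat.mod_eq_of_lt ha, Nat.mod_eq_of_lt hb] at h'
  let T : Finset (AdjoinRoot P) := insert (ρ ^ (r - 1)) ((Finset.range i).image fun j => ρ ^ Fintype.card F ^ j)
  have hTcard : T.card = i + 1 := by
    rw [Finset.card_insert_of_notMem, Finset.card_image_of_injOn, Finset.card_range]
    · exact fun a ha b hb hab => hinj a b (Finset.mem_range.1 ha) (Finset.mem_range.1 hb) hab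
    · rw [Finset.mem_image]
      rintro ⟨j, -, hj⟩
      have h := hpow _ _ hj
      rw [Nat.cast_pow, Nat.cast_sub hrp.one_le, ZMod.natCast_self, Nat.cast_one, zero_sub] at h
      have h1 : ((Fintype.card F : ℕ) : ZMod r) ^ (2 * j) = 1 := by
        rw [mul_comm, pow_mul, h, neg_one_sq]
      have h2 := orderOf_dvd_of_pow_eq_one h1
      rw [← hi] at h2
      obtain ⟨l, hl⟩ : i ∣ j := (Nat.coprime_two_right.2 hodd).dvd_of_dvd_mul_left h2
      rw [hl, pow_mul, hi, pow_orderOf_eq_one, one_pow] at h
      have h3 : ((2 : ℕ) : ZMod r) = 0 := by push_cast; linear_combination h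
      rw [ZMod.natCast_eq_zero_iff] at h3
      exact hr2 ((Nat.prime_dvd_prime_iff_eq hrp Nat.prime_two).1 h3)
  have hsub : T.val ⊆ (P.map (algebraMap F (AdjoinRoot P))).roots := fun t ht => by
    rw [mem_roots (Polynomial.map_ne_zero hirr.ne_zero), IsRoot, eval_map, ← aeval_def]
    rcases Finset.mem_insert.1 (show t ∈ T from ht) with rfl | ht
    · exact hroot
    · obtain ⟨j, -, rfl⟩ := Finset.mem_image.1 ht
      exact hconj j
  have := card_le_degree_of_subset_roots hsub
  rw [hTcard, natDegree_map, hdeg] at this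
  omega

/-- Products over all exponents split by parity. -/
private theorem prod_parity (f : ℕ → ℕ) (m : ℕ) :
    ∏ j ∈ Finset.range (2 * m), f j =
      (∏ j ∈ Finset.range m, f (2 * j)) * ∏ j ∈ Finset.range m, f (2 * j + 1) := by
  induction m with
  | zero => simp
  | succ m ih =>
    rw [show 2 * (m + 1) = 2 * m + 1 + 1 by ring, Finset.prod_range_succ, Finset.prod_range_succ, ih,
      Finset.prod_range_succ, Finset.prod_range_succ]
    ring

open CfsgLib.OrthPrime CfsgLib.Classical QuadraticMap in
/-- The order of an orthogonal group in odd and in even dimension. -/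
private theorem card_isometry [Fintype F] (h2 : (2 : F) ≠ 0) (hn : 3 ≤ n) {Q : QuadraticForm F (Fin n → F)}
    (hQ : (polarBilin Q).Nondegenerate) :
    (∀ m, n = 2 * m + 1 → Nat.card (Cfsg.isometryGroup F ⇑Q) =
      2 * Fintype.card F ^ (m ^ 2) * ∏ i ∈ Finset.range m, (Fintype.card F ^ (2 * (i + 1)) - 1)) ∧
    (∀ k, n = 2 * (k + 1) → Nat.card (Cfsg.isometryGroup F ⇑Q) =
      2 * Fintype.card F ^ ((k + 1) * k) *
        (if sgn Q ⊤ = 1 then Fintype.card F ^ (k + 1) - 1 else Fintype.card F ^ (k + 1) + 1) *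
        ∏ i ∈ Finset.range k, (Fintype.card F ^ (2 * (i + 1)) - 1)) := by
  classical
  have hrefl : Nat.card (Cfsg.isometryGroup F ⇑Q) = Nat.card (CfsgLib.Geometry.orth Q) :=
    card_isometryGroup _ Q (LinearEquiv.refl F _) fun v => rfl
  constructor
  · intro m hm
    let Qo := CfsgLib.Geometry.matQuad (CfsgLib.Geometry.oddMat m F)
    let e : (Unit ⊕ (Fin m ⊕ Fin m)) ≃ Fin n :=
      Fintype.equivFinOfCardEq (by simp [Fintype.card_sum]; omega)
    let E := LinearEquiv.funCongrLeft F F e
    let Qo' : QuadraticForm F (Fin n → F) := Qo.comp (E : _ →ₗ[F] _)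
    have hQo' : (polarBilin Qo').Nondegenerate :=
      CfsgLib.Classical.nondeg_of_isometry E (fun v => rfl) (nondeg_odd h2 m)
    haveI : Nonempty (Fin n) := ⟨⟨0, by omega⟩⟩
    obtain ⟨J, hJ⟩ := CfsgLib.AschbacherOrth.exists_geom hQ
    obtain ⟨J', hJ'⟩ := CfsgLib.AschbacherOrth.exists_geom hQo'
    have hd : (J : Matrix (Fin n) (Fin n) F).det ≠ 0 := ((Matrix.isUnit_iff_isUnit_det _).1 J.isUnit).ne_zero
    have hd' : (J' : Matrix (Fin n) (Fin n) F).det ≠ 0 := ((Matrix.isUnit_iff_isUnit_det _).1 J'.isUnit).ne_zero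
    set l : F := (J : Matrix (Fin n) (Fin n) F).det * (J' : Matrix (Fin n) (Fin n) F).det with hl
    have hl0 : l ≠ 0 := mul_ne_zero hd hd'
    have hsy : ∀ {K : GL (Fin n) F} {R : QuadraticForm F (Fin n → F)},
        Geom (RingEquiv.refl F) (polar ⇑R) K 1 → (K : Matrix (Fin n) (Fin n) F)ᵀ = K := fun {K R} hK => by
      have h := hK.symm
      rwa [show (K : Matrix (Fin n) (Fin n) F).map (RingEquiv.refl F) = K from rfl, one_smul] at h
    obtain ⟨P, hP⟩ := CfsgLib.Geometry.GraphPSL.congr_of_disc h2 (J := l • (J : Matrix (Fin n) (Fin n) F))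
      (J' := (J' : Matrix (Fin n) (Fin n) F)) (by rw [Matrix.transpose_smul, hsy hJ]) (hsy hJ')
      (by rw [Matrix.det_smul]; exact mul_ne_zero (pow_ne_zero _ hl0) hd) hd' (by
        rw [Matrix.det_smul, Fintype.card_fin, mul_assoc, ← hl, ← pow_succ]
        exact Even.isSquare_pow ⟨m + 1, by omega⟩ _)
    have hval : ∀ v, (l • Q) ((P : Matrix (Fin n) (Fin n) F) *ᵥ v) = Qo' v := fun v => by
      refine mul_left_cancel₀ h2 ?_
      rw [← CfsgLib.Geometry.polar_self', ← CfsgLib.Geometry.polar_self', hJ'.eq_gram, ← hP]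
      show _ = formOfGram (RingEquiv.refl F) ((P : Matrix (Fin n) (Fin n) F)ᵀ * (l • (J : Matrix (Fin n) (Fin n) F)) *
        (P : Matrix (Fin n) (Fin n) F).map (RingEquiv.refl F)) v v
      rw [← CfsgLib.Aschbacher.formOfGram_mulVec, CfsgLib.Aschbacher.formOfGram_smul, ← hJ.eq_gram]
      simp [QuadraticMap.polar]
      ring
    have h1 := card_isometryGroup (Cfsg.quadFormOdd m F) (l • Q)
      (E.symm.trans (CfsgLib.Geometry.glEquiv P)) (fun v => by
        rw [LinearEquiv.trans_apply]
        refine Eq.trans ?_ (hval (E.symm v)).symm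
        show _ = Qo (E (E.symm v))
        rw [E.apply_symm_apply, ← CfsgLib.Geometry.coe_matQuad_odd])
    have h3 : Cfsg.isometryGroup F ⇑(l • Q) = Cfsg.isometryGroup F ⇑Q := by
      ext g
      refine ⟨fun hg u v => mul_left_cancel₀ hl0 ?_, fun hg u v => ?_⟩
      · simpa using hg u v
      · have := hg u v
        simp_all
    rw [← h3,
      card_isometryGroup (⇑(l • Q)) (l • Q) (LinearEquiv.refl F _) fun v => rfl, ← h1, card_isometry_odd h2,
      Nat.card_eq_fintype_card]
  · intro k hk
    rcases sgn_cases (Q := Q) (⊤ : Submodule F (Fin n → F)) with hs | hs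
    · obtain ⟨e, he⟩ := exists_isometry (Q' := Q) (CfsgLib.Geometry.nondegenerate_plus (F := F) (k + 1)) hQ
        (k := k + 1) (by simp; omega) (by simp; omega) (by rw [sgn_plusForm, hs])
      have h1 := card_isometryGroup (Cfsg.quadFormPlus (k + 1) F) Q e (fun v => by
        rw [he, ← CfsgLib.Geometry.coe_matQuad_plus])
      rw [hrefl, ← h1, card_isometry_plus, hs, if_pos rfl, Nat.card_eq_fintype_card]
    · obtain ⟨ν, hν⟩ := FiniteField.exists_nonsquare (F := F) (fun hc => h2 (by
        haveI := ringChar.charP F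
        have : CharP F 2 := hc ▸ this
        exact CharTwo.two_eq_zero))
      have hab : BinAniso (0 : F) (-ν) := fun z₁ z₂ h => by
        by_cases hz : z₂ = 0
        · subst hz; exact ⟨by simpa using h, rfl⟩
        · exact absurd ⟨z₁ / z₂, by field_simp; linear_combination -h⟩ hν
      obtain ⟨e, he⟩ := exists_isometry (Q' := Q) (CfsgLib.Geometry.nondegenerate_minus (F := F) k hab) hQ
        (k := k + 1) (by simp; omega) (by simp; omega) (by rw [sgn_minusForm k hab, hs])
      have h1 := card_isometryGroup (Cfsg.quadFormMinus k F 0 (-ν)) Q e (fun v => by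
        rw [he, ← CfsgLib.Geometry.coe_matQuad_minus])
      rw [hrefl, ← h1, card_isometry_minus k hab, hs, if_neg (by norm_num), Nat.card_eq_fintype_card]

/-- Elements of prime order of PSL_n(q), q odd, and the subgroups of orthogonal type. Here `T = PSL_n(F)` for a field `F` with `q` elements, `q` odd, `n ≥ 3`; `Q` is a non-degenerate quadratic form on `F^n` (of either type when `n` is even) and `H` is the subgroup of matrices of determinant 1 that preserve `Q` up to a scalar — a subgroup of type O^ε_n(q) (maximality is not assumed); Ω is the set of cosets of `H` in `T`, so an element of `T` of prime order `r` (a matrix `x` of determinant 1 with `x^r` scalar, `x` not scalar) fixes a point of Ω exactly when some conjugate of `x` by a matrix of determinant 1 preserves `Q` up to a scalar. Let `r` be a prime dividing the index of `H`, with `(n, r) ≠ (6, 3)`. Then every element of `T` of order `r` fixes a point of Ω if and only if `r = 2`, or `r ∈ {3, 5}`, `n = r` and `(q − 1)_r = r` (the `r`-part of `q − 1` is exactly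 `r`). The case `(n, r) = (6, 3)` is not covered by this statement. -/
theorem result {F : Type*} [Field F] [Fintype F] {p : ℕ} [Fact p.Prime] [CharP F p] {q : ℕ} (hq : Fintype.card F = q)
    (hodd : Odd q) (n : ℕ) (hn : 3 ≤ n) (Q : (Fin n → F) → F) (hQ : Cfsg.Geo.IsNondegenerateQuadraticForm Q)
    (r : ℕ) [Fact r.Prime] (hgap : ¬ (n = 6 ∧ r = 3))
    (hΩ : r ∣ (Cfsg.Geo.quadSimilarityGroup Q).relIndex (Cfsg.Geo.specialLinear (Fin n) F)) :
    (∀ x ∈ Cfsg.Geo.specialLinear (Fin n) F, (∃ z : F, ((x ^ r : GL (Fin n) F) : Matrix (Fin n) (Fin n) F) = z • (1 : Matrix (Fin n) (Fin n) F)) →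
      (∀ z : F, (x : Matrix (Fin n) (Fin n) F) ≠ z • (1 : Matrix (Fin n) (Fin n) F)) →
      ∃ g ∈ Cfsg.Geo.specialLinear (Fin n) F, g⁻¹ * x * g ∈ Cfsg.Geo.quadSimilarityGroup Q) ↔
    (r = 2 ∨ ((r = 3 ∨ r = 5) ∧ n = r ∧ padicValNat r (q - 1) = 1)) := by
  open CfsgLib.ThreeTransp.PrimeInv CfsgLib.PrimeOrderSp Polynomial in
  classical
  subst hq
  have hrprime : r.Prime := Fact.out
  haveI : Nonempty (Fin n) := ⟨⟨0, by omega⟩⟩
  obtain ⟨Q, rfl, hQn⟩ := CfsgLib.Geometry.exists_quadraticForm hQ
  have hp : p.Prime := Fact.out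
  have hpdvd : ∀ l : ℕ, (l : F) = 0 → l.Prime → l = p := fun l hl hlp =>
    ((Nat.prime_dvd_prime_iff_eq hp hlp).1 ((CharP.cast_eq_zero_iff F p l).1 hl)).symm
  have hpodd : p ≠ 2 := fun h => by
    obtain ⟨e, -, he⟩ := FiniteField.card F p
    have hdiv : 2 ∣ Fintype.card F := by rw [he, h]; exact dvd_pow_self _ e.pos.ne'
    rw [Nat.odd_iff] at hodd
    omega
  have h2 : (2 : F) ≠ 0 := fun h => hpodd (hpdvd 2 (by exact_mod_cast h) Nat.prime_two).symm
  obtain ⟨J, hG⟩ := CfsgLib.AschbacherOrth.exists_geom hQn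
  have hJ : (J : Matrix (Fin n) (Fin n) F)ᵀ = J := by
    have h := hG.symm
    rwa [show (J : Matrix (Fin n) (Fin n) F).map (RingEquiv.refl F) = J from rfl, one_smul] at h
  have hdJ : (J : Matrix (Fin n) (Fin n) F).det ≠ 0 := ((Matrix.isUnit_iff_isUnit_det _).1 J.isUnit).ne_zero
  have hsl : ∀ v : GL (Fin n) F, v ∈ Cfsg.Geo.specialLinear (Fin n) F →
      (v : Matrix (Fin n) (Fin n) F).det = 1 := fun v hv => congrArg Units.val hv
  constructor
  · intro hall
    by_contra hcrit
    rw [not_or] at hcrit
    obtain ⟨hr2, hexc⟩ := hcrit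
    have use' : ∀ (x g : GL (Fin n) F), g⁻¹ * x * g ∈ quadSimilarityGroup ⇑Q → ∃ c : F,
        IsSim (RingEquiv.refl F) (J : Matrix (Fin n) (Fin n) F) ((g⁻¹ * x * g : GL (Fin n) F) : Matrix (Fin n) (Fin n) F) c :=
      fun x g hg => (mem_sim_iff h2 hG _).1 hg
    have hpowsim : ∀ {y : Matrix (Fin n) (Fin n) F} {c : F},
        IsSim (RingEquiv.refl F) (J : Matrix (Fin n) (Fin n) F) y c →
        ∀ k : ℕ, IsSim (RingEquiv.refl F) (J : Matrix (Fin n) (Fin n) F) (y ^ k) (c ^ k) := fun {y c} hy k => by
      induction k with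
      | zero => simpa using isSim_one (RingEquiv.refl F) (J : Matrix (Fin n) (Fin n) F)
      | succ k ih => rw [pow_succ, pow_succ]; exact isSim_mul ih hy
    have hconjz : ∀ {x g : GL (Fin n) F}, (x : Matrix (Fin n) (Fin n) F) ^ r = 1 →
        ((g⁻¹ * x * g : GL (Fin n) F) : Matrix (Fin n) (Fin n) F) ^ r = 1 := fun {x g} hx => by
      have h := conj_pow (i := r) (a := g⁻¹) (b := x)
      rw [inv_inv] at h
      rw [← Units.val_pow_eq_pow_val, h, Units.val_mul, Units.val_mul, Units.val_pow_eq_pow_val, hx, mul_one,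
        Units.inv_mul]
    -- the form seen from the original coordinates
    have htrans : ∀ (x g : GL (Fin n) F) (c : F), IsSim (RingEquiv.refl F) (J : Matrix (Fin n) (Fin n) F)
        ((g⁻¹ * x * g : GL (Fin n) F) : Matrix (Fin n) (Fin n) F) c →
        ∃ N : GL (Fin n) F, (N : Matrix (Fin n) (Fin n) F)ᵀ = N ∧
          IsSim (RingEquiv.refl F) (N : Matrix (Fin n) (Fin n) F) (x : Matrix (Fin n) (Fin n) F) c := fun x g c hc => by
      let N : GL (Fin n) F := Matrix.GeneralLinearGroup.mkOfDetNeZero
        (((g⁻¹ : GL (Fin n) F) : Matrix (Fin n) (Fin n) F)ᵀ * J * ((g⁻¹ : GL (Fin n) F) : Matrix (Fin n) (Fin n) F)) (by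
          rw [Matrix.det_mul, Matrix.det_mul, Matrix.det_transpose]
          have h := ((Matrix.isUnit_iff_isUnit_det _).1 (g⁻¹).isUnit).ne_zero
          exact mul_ne_zero (mul_ne_zero h hdJ) h)
      have hN : (N : Matrix (Fin n) (Fin n) F) =
          ((g⁻¹ : GL (Fin n) F) : Matrix (Fin n) (Fin n) F)ᵀ * J * ((g⁻¹ : GL (Fin n) F) : Matrix (Fin n) (Fin n) F) :=
        rfl
      refine ⟨N, by rw [hN, Matrix.transpose_mul, Matrix.transpose_mul, Matrix.transpose_transpose, hJ, mul_assoc], ?_⟩
      have hJN : (J : Matrix (Fin n) (Fin n) F) =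
          (g : Matrix (Fin n) (Fin n) F)ᵀ * N * (g : Matrix (Fin n) (Fin n) F).map (RingEquiv.refl F) := by
        show _ = (g : Matrix (Fin n) (Fin n) F)ᵀ * N * (g : Matrix (Fin n) (Fin n) F)
        calc (J : Matrix (Fin n) (Fin n) F)
            = ((g : Matrix (Fin n) (Fin n) F)ᵀ * ((g⁻¹ : GL (Fin n) F) : Matrix (Fin n) (Fin n) F)ᵀ) * J *
              (((g⁻¹ : GL (Fin n) F) : Matrix (Fin n) (Fin n) F) * (g : Matrix (Fin n) (Fin n) F)) := by
              rw [← Matrix.transpose_mul, Units.inv_mul, Matrix.transpose_one, one_mul, mul_one]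
          _ = _ := by rw [hN]; simp only [mul_assoc]
      have h := isSim_conj g hJN hc
      rwa [← Units.val_mul, ← Units.val_mul, show g * (g⁻¹ * x * g) * g⁻¹ = x by group] at h
    by_cases hrp : r = p
    · -- transvections
      subst hrp
      let a : Fin n := ⟨0, by omega⟩
      let b : Fin n := ⟨1, by omega⟩
      have hab : a ≠ b := by simp [a, b]
      have hdet : (1 + Matrix.single a b (1 : F)).det = 1 := Matrix.det_transvection_of_ne a b hab 1
      let x : GL (Fin n) F := Matrix.GeneralLinearGroup.mkOfDetNeZero (1 + Matrix.single a b (1 : F))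
        (by rw [hdet]; exact one_ne_zero)
      have hE : ∀ k : ℕ, (1 + Matrix.single a b (1 : F)) ^ k = 1 + Matrix.single a b (k : F) := fun k => by
        induction k with
        | zero => simp
        | succ k ih =>
          rw [pow_succ, ih]
          simp only [mul_add, add_mul, one_mul, mul_one, Matrix.single_mul_single_of_ne _ _ _ _ hab.symm, add_zero]
          rw [add_assoc, ← Matrix.single_add, Nat.cast_succ]
      have hxr : (x : Matrix (Fin n) (Fin n) F) ^ r = 1 := by
        show (1 + Matrix.single a b (1 : F)) ^ r = 1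
        rw [hE, CharP.cast_eq_zero, Matrix.single_zero, add_zero]
      obtain ⟨g, -, hg⟩ := hall x (Units.ext hdet) ⟨1, by rw [Units.val_pow_eq_pow_val, hxr, one_smul]⟩ (fun t ht => by
        have h := congrFun (congrFun ht a) b
        simp [x, hab] at h)
      obtain ⟨c, hc⟩ := use' x g hg
      have h1 := hpowsim hc r
      rw [hconjz hxr] at h1
      have hc1 : c = 1 := by
        have := isSim_unique h1 (isSim_one _ _)
        have h' : (c - 1) ^ r = 0 := by rw [sub_pow_char, this, one_pow, sub_self]
        exact sub_eq_zero.1 (pow_eq_zero_iff hrprime.ne_zero |>.1 h')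
      subst hc1
      obtain ⟨N, hNs, hN⟩ := htrans x g 1 hc
      exact no_transvection h2 hab hNs hN
    have hrF : (r : F) ≠ 0 := fun h => hrp (hpdvd r h hrprime)
    set i := orderOf ((Fintype.card F : ℕ) : ZMod r) with hi
    have hi0 : 0 < i := orderOf_card_pos hrF
    have hrq' : ¬ r ∣ Fintype.card F := fun h => by
      obtain ⟨e, -, he⟩ := FiniteField.card F p
      rw [he] at h
      exact hrp ((Nat.prime_dvd_prime_iff_eq hrprime hp).1 (hrprime.dvd_of_dvd_pow h))
    have hqpos : 0 < Fintype.card F := Fintype.card_pos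
    -- orders
    set H := quadSimilarityGroup ⇑Q ⊓ Cfsg.Geo.specialLinear (Fin n) F with hH
    have hSL : Nat.card (Cfsg.Geo.specialLinear (Fin n) F) = Nat.card (Matrix.SpecialLinearGroup (Fin n) F) :=
      Nat.card_congr
        { toFun := fun g => ⟨(g.1 : Matrix (Fin n) (Fin n) F), congrArg Units.val g.2⟩
          invFun := fun g => ⟨Matrix.SpecialLinearGroup.toGL g, Units.ext g.2⟩
          left_inv := fun g => Subtype.ext (Units.ext rfl)
          right_inv := fun g => Subtype.ext rfl }
    have hH1 : r * Nat.card H ∣ Nat.card (Matrix.SpecialLinearGroup (Fin n) F) := by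
      have h := Subgroup.relIndex_mul_relIndex ⊥ H (Cfsg.Geo.specialLinear (Fin n) F) bot_le inf_le_right
      rw [Subgroup.relIndex_bot_left, Subgroup.relIndex_bot_left] at h
      rw [← hSL, ← h, mul_comm (Nat.card H), hH, Subgroup.inf_relIndex_right]
      exact Nat.mul_dvd_mul_right hΩ _
    rw [CfsgLib.Classical.card_SL_fin', Nat.card_eq_fintype_card (α := F)] at hH1
    have hdiv := (dvd_mul_right r _).trans hH1
    have hin : i ≤ n := by
      rcases hrprime.dvd_mul.1 hdiv with h1 | h1
      · exact absurd (hrprime.dvd_of_dvd_pow h1) hrq'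
      · obtain ⟨j, hj, hjd⟩ := (hrprime.prime.dvd_finsetProd_iff _).1 h1
        rw [dvd_pow_sub_one_iff hqpos, ← hi] at hjd
        have := Nat.le_of_dvd (by omega) hjd
        rw [Finset.mem_range] at hj
        omega
    rcases Nat.lt_or_ge i 2 with hi1 | hi2
    · -- `q ≡ 1`
      have hi1' : i = 1 := by omega
      have hrq : r ∣ Fintype.card F - 1 := orderOf_eq_one_iff_dvd.1 hi1'
      obtain ⟨M, z, hcard, hprod, hz0, hMr, ⟨a, ha, b, hb, hab⟩, hbad⟩ :=
        CfsgLib.ThreeTransp.EigenSym.exists_asym hr2 hrq (s := 1) Nat.cast_one hn hgap (fun hrn hn35 => by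
          have hv : padicValNat r (Fintype.card F - 1) ≠ 1 := fun h => hexc ⟨by omega, hrn.symm, h⟩
          have h1 : 1 ≤ padicValNat r (Fintype.card F - 1) := one_le_padicValNat_of_dvd (by
            have := Fintype.one_lt_card (α := F); omega) hrq
          omega)
      let e : Fin n ≃ Fin M.toList.length := finCongr (by rw [Multiset.length_toList, hcard])
      let d : Fin n → F := fun j => M.toList.get (e j)
      have hd : Multiset.map d (Finset.univ : Finset (Fin n)).val = M := by
        have h1 : (Finset.univ : Finset (Fin n)).val.map e = (Finset.univ : Finset (Fin M.toList.length)).val :=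
          congrArg Finset.val (Finset.map_univ_equiv e)
        rw [show d = M.toList.get ∘ e from rfl, ← Multiset.map_map, h1, Fin.univ_val_map]
        exact (congrArg _ (List.ofFn_get _)).trans (Multiset.coe_toList M)
      have hdet : (Matrix.diagonal d).det = 1 := by
        rw [Matrix.det_diagonal]
        show (Multiset.map d (Finset.univ : Finset (Fin n)).val).prod = 1
        rw [hd, hprod]
      have hdmem : ∀ j, d j ∈ M := fun j => Multiset.mem_toList.1 (List.get_mem _ _)
      have hdr : Matrix.diagonal d ^ r = z • (1 : Matrix (Fin n) (Fin n) F) := by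
        rw [Matrix.diagonal_pow, Matrix.smul_one_eq_diagonal]
        exact congrArg _ (funext fun j => hMr _ (hdmem j))
      let x : GL (Fin n) F := Matrix.GeneralLinearGroup.mkOfDetNeZero (Matrix.diagonal d) (by rw [hdet]; exact one_ne_zero)
      obtain ⟨g, -, hg⟩ := hall x (Units.ext hdet) ⟨z, by rw [Units.val_pow_eq_pow_val]; exact hdr⟩ (fun t ht => by
        have ht' : Matrix.diagonal d = t • (1 : Matrix (Fin n) (Fin n) F) := ht
        rw [Matrix.smul_one_eq_diagonal] at ht'
        have hdt := Matrix.diagonal_injective ht'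
        rw [← hd, Multiset.mem_map] at ha hb
        obtain ⟨u, -, rfl⟩ := ha
        obtain ⟨v, -, rfl⟩ := hb
        rw [hdt] at hab
        exact hab rfl)
      obtain ⟨c, hc⟩ := use' x g hg
      rw [Units.val_mul, Units.val_mul] at hc
      have h := stable_of_sim (fun j h0 => hz0 (by
        rw [← hMr _ (hdmem j), h0, zero_pow hrprime.ne_zero])) hc
      refine hbad c ?_
      rw [← hd, Multiset.map_map, Multiset.map_map]
      simpa only [Function.comp_def, pow_one, RingEquiv.refl_apply] using h
    -- `i ≥ 2`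
    have hnr1 : ¬ r ∣ Fintype.card F - 1 := not_dvd_of_two_le hi2
    rcases Nat.even_or_odd i with hev | hio
    swap
    · obtain ⟨x, hx, hns, hxr, hfix⟩ := exists_fix_dim (n := n) (r := r) (e := n - i) (N := 1) hrF hi2
        (show n - i + 1 * i = n by omega) (by omega)
      rw [Matrix.SpecialLinearGroup.coe_pow, one_smul] at hx
      obtain ⟨g, -, hg⟩ := hall (Matrix.SpecialLinearGroup.toGL x) (Units.ext x.2)
        ⟨1, by rw [Units.val_pow_eq_pow_val, one_smul]; exact hx⟩ hns
      obtain ⟨c, hc⟩ := use' _ g hg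
      have h1 := hpowsim hc r
      rw [hconjz (x := Matrix.SpecialLinearGroup.toGL x) hx] at h1
      obtain rfl : c = 1 := eq_one_of_pow_eq_one hnr1 (isSim_unique h1 (isSim_one _ _))
      obtain ⟨N, -, hN⟩ := htrans _ g 1 hc
      refine no_single hr2 hrF hio hxr ?_ hN
      have hrk := LinearMap.finrank_range_add_finrank_ker (Matrix.toLin' (x : Matrix (Fin n) (Fin n) F) - 1)
      rw [Module.finrank_fin_fun] at hrk
      rw [movSp]
      rw [fixSp] at hfix
      omega
    · -- even `i`
      have hidvd : ∀ j, r ∣ Fintype.card F ^ j - 1 → i ∣ j := fun j h => (dvd_pow_sub_one_iff hqpos).1 h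
      have hOdvd : Nat.card (Cfsg.isometryGroup F ⇑Q) ∣ 2 * Nat.card H := by
        set O := Cfsg.isometryGroup F ⇑Q
        let φ : O →* Fˣ := Matrix.GeneralLinearGroup.det.comp O.subtype
        have hmul := Subgroup.card_eq_card_quotient_mul_card_subgroup φ.ker
        rw [Nat.card_congr (QuotientGroup.quotientKerEquivRange φ).toEquiv] at hmul
        rw [hmul]
        refine Nat.mul_dvd_mul ?_ ?_
        · have hsub : ∀ u ∈ φ.range, u ^ 2 = 1 := by
            rintro u ⟨g, rfl⟩
            refine Units.ext ?_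
            have hg : IsSim (RingEquiv.refl F) (J : Matrix (Fin n) (Fin n) F)
                ((g : GL (Fin n) F) : Matrix (Fin n) (Fin n) F) 1 := (hG.isSim_iff _ _).2 fun u v => by
              have e : ∀ w, Q (((g : GL (Fin n) F) : Matrix (Fin n) (Fin n) F) *ᵥ w) = Q w := fun w => g.2 w w
              simp only [QuadraticMap.polar, ← Matrix.mulVec_add, e, one_mul]
            have h : (((g : GL (Fin n) F) : Matrix (Fin n) (Fin n) F)ᵀ * J *
                ((g : GL (Fin n) F) : Matrix (Fin n) (Fin n) F)) = (1 : F) • (J : Matrix (Fin n) (Fin n) F) := hg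
            have h' := congrArg Matrix.det h
            rw [Matrix.det_mul, Matrix.det_mul, Matrix.det_transpose, one_smul, mul_right_comm,
              mul_left_eq_self₀] at h'
            rw [Units.val_pow_eq_pow_val, pow_two]
            exact h'.resolve_right hdJ
          rw [← IsCyclic.exponent_eq_card]
          exact Monoid.exponent_dvd_of_forall_pow_eq_one fun u => Subtype.ext (hsub u.1 u.2)
        · let ψ : φ.ker →* GL (Fin n) F := O.subtype.comp φ.ker.subtype
          refine Subgroup.card_dvd_of_injective (ψ.codRestrict H fun g => ⟨⟨1, fun v => ?_⟩, g.2⟩) fun a b h => ?_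
          · rw [Units.val_one, one_mul]
            exact g.1.2 v v
          · exact Subtype.ext (Subtype.ext (congrArg (fun y : H => (y : GL (Fin n) F)) h))
      have hr2' : ¬ r ∣ 2 := fun h => hr2 ((Nat.prime_dvd_prime_iff_eq hrprime Nat.prime_two).1 h)
      obtain ⟨hodd', heven'⟩ := card_isometry h2 hn hQn
      have hmain : r * Nat.card (Cfsg.isometryGroup F ⇑Q) ∣
          2 * (Fintype.card F ^ (n * (n - 1) / 2) * ∏ j ∈ Finset.range (n - 1), (Fintype.card F ^ (j + 2) - 1)) :=
        ((Nat.mul_dvd_mul_left r hOdvd).trans (dvd_of_eq (mul_left_comm r 2 _))).trans (Nat.mul_dvd_mul_left 2 hH1)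
      rcases Nat.even_or_odd' n with ⟨k', hk' | hk'⟩
      swap
      · rw [hodd' k' hk', show n - 1 = 2 * k' by omega, prod_parity,
          Finset.prod_congr rfl (fun j _ => show Fintype.card F ^ (2 * j + 2) - 1 = Fintype.card F ^ (2 * (j + 1)) - 1 by
            rw [show 2 * j + 2 = 2 * (j + 1) by ring])] at hmain
        have hpos : 0 < ∏ i ∈ Finset.range k', (Fintype.card F ^ (2 * (i + 1)) - 1) := Finset.prod_pos fun j _ => by
          have : 1 < Fintype.card F ^ (2 * (j + 1)) := Nat.one_lt_pow (by omega) Fintype.one_lt_card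
          omega
        have h : r ∣ 2 * Fintype.card F ^ (n * (2 * k') / 2) *
            ∏ j ∈ Finset.range k', (Fintype.card F ^ (2 * j + 1 + 2) - 1) := by
          refine (dvd_mul_left r (2 * Fintype.card F ^ (k' ^ 2))).trans ((Nat.mul_dvd_mul_iff_right hpos).1 ?_)
          convert hmain using 1 <;> ring
        rcases hrprime.dvd_mul.1 h with h1 | h1
        · rcases hrprime.dvd_mul.1 h1 with h3 | h3
          · exact hr2' h3
          · exact hrq' (hrprime.dvd_of_dvd_pow h3)
        · obtain ⟨j, -, hj⟩ := (hrprime.prime.dvd_finsetProd_iff _).1 h1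
          have := hidvd _ hj
          obtain ⟨e, he⟩ := hev
          obtain ⟨f', hf'⟩ : 2 ∣ 2 * j + 1 + 2 := dvd_trans (show 2 ∣ i from ⟨e, by omega⟩) this
          omega
      · obtain ⟨k, rfl⟩ : ∃ k, k' = k + 1 := ⟨k' - 1, by omega⟩
        rw [heven' k hk', show n - 1 = 2 * k + 1 by omega, Finset.prod_range_succ, prod_parity,
          Finset.prod_congr rfl (fun j _ => show Fintype.card F ^ (2 * j + 2) - 1 = Fintype.card F ^ (2 * (j + 1)) - 1 by
            rw [show 2 * j + 2 = 2 * (j + 1) by ring]),
          show Fintype.card F ^ (2 * k + 2) - 1 =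
              (Fintype.card F ^ (k + 1) + 1) * (Fintype.card F ^ (k + 1) - 1) by
            rw [← Nat.sq_sub_sq, one_pow, ← pow_mul]; ring_nf] at hmain
        have hq1 : 1 < Fintype.card F ^ (k + 1) := Nat.one_lt_pow (by omega) Fintype.one_lt_card
        have hpos : 0 < ∏ i ∈ Finset.range k, (Fintype.card F ^ (2 * (i + 1)) - 1) := Finset.prod_pos fun j _ => by
          have : 1 < Fintype.card F ^ (2 * (j + 1)) := Nat.one_lt_pow (by omega) Fintype.one_lt_card
          omega
        have hsgn : r ∣ if CfsgLib.OrthPrime.sgn Q ⊤ = 1 then Fintype.card F ^ (k + 1) + 1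
            else Fintype.card F ^ (k + 1) - 1 := by
          have h : r ∣ 2 * Fintype.card F ^ (n * (2 * k + 1) / 2) *
              (∏ j ∈ Finset.range k, (Fintype.card F ^ (2 * j + 1 + 2) - 1)) *
              (if CfsgLib.OrthPrime.sgn Q ⊤ = 1 then Fintype.card F ^ (k + 1) + 1
                else Fintype.card F ^ (k + 1) - 1) := by
            by_cases hs : CfsgLib.OrthPrime.sgn Q ⊤ = 1
            · simp only [hs, if_true] at hmain ⊢
              refine (dvd_mul_left r (2 * Fintype.card F ^ ((k + 1) * k))).trans ((Nat.mul_dvd_mul_iff_right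
                (Nat.mul_pos (show 0 < Fintype.card F ^ (k + 1) - 1 by omega) hpos)).1 ?_)
              convert hmain using 1 <;> ring
            · simp only [hs, if_false] at hmain ⊢
              refine (dvd_mul_left r (2 * Fintype.card F ^ ((k + 1) * k))).trans ((Nat.mul_dvd_mul_iff_right
                (Nat.mul_pos (show 0 < Fintype.card F ^ (k + 1) + 1 by omega) hpos)).1 ?_)
              convert hmain using 1 <;> ring
          rcases hrprime.dvd_mul.1 h with h1 | h1
          · rcases hrprime.dvd_mul.1 h1 with h3 | h3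
            · rcases hrprime.dvd_mul.1 h3 with h4 | h4
              · exact absurd h4 hr2'
              · exact absurd (hrprime.dvd_of_dvd_pow h4) hrq'
            · obtain ⟨j, -, hj⟩ := (hrprime.prime.dvd_finsetProd_iff _).1 h3
              have := hidvd _ hj
              obtain ⟨e, he⟩ := hev
              obtain ⟨f', hf'⟩ : 2 ∣ 2 * j + 1 + 2 := dvd_trans (show 2 ∣ i from ⟨e, by omega⟩) this
              omega
          · exact h1
        set q := Fintype.card F with hq
        set ε := CfsgLib.OrthPrime.sgn Q ⊤ with hε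
        have hsz : (ε : ZMod r) * (q : ZMod r) ^ (k + 1) = -1 := by
          rcases CfsgLib.OrthPrime.sgn_cases (Q := Q) (⊤ : Submodule F (Fin n → F)) with hs | hs
          · rw [← hε] at hs
            rw [if_pos hs, ← ZMod.natCast_eq_zero_iff, Nat.cast_add, Nat.cast_pow, Nat.cast_one] at hsgn
            rw [hs, Int.cast_one, one_mul]
            exact eq_neg_of_add_eq_zero_left hsgn
          · rw [← hε] at hs
            rw [if_neg (by rw [hs]; norm_num), ← ZMod.natCast_eq_zero_iff, Nat.cast_sub (by omega), Nat.cast_pow,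
              Nat.cast_one, sub_eq_zero] at hsgn
            rw [hs, hsgn, Int.cast_neg, Int.cast_one, mul_one]
        have hqn : (q : ZMod r) ^ n = 1 := by
          rw [hk', mul_comm, pow_mul]
          have h := congrArg (· ^ 2) hsz
          simp only [mul_pow, neg_one_sq] at h
          rcases CfsgLib.OrthPrime.sgn_cases (Q := Q) (⊤ : Submodule F (Fin n → F)) with hs | hs <;>
            rw [← hε] at hs <;> simpa [hs] using h
        obtain ⟨N, hN⟩ := orderOf_dvd_of_pow_eq_one hqn
        rw [← hi] at hN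
        obtain ⟨x, hx, hns, hxr, hfix⟩ := exists_fix_dim (n := n) (r := r) (e := 0) (N := N) hrF hi2
          (by rw [← hi, zero_add, mul_comm]; exact hN.symm) (by omega)
        rw [Matrix.SpecialLinearGroup.coe_pow, one_smul] at hx
        obtain ⟨g, -, hg⟩ := hall (Matrix.SpecialLinearGroup.toGL x) (Units.ext x.2)
          ⟨1, by rw [Units.val_pow_eq_pow_val, one_smul]; exact hx⟩ hns
        set y : GL (Fin n) F := g⁻¹ * Matrix.SpecialLinearGroup.toGL x * g with hy
        obtain ⟨c, hc⟩ := use' _ g hg
        have h1 := hpowsim hc r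
        rw [hconjz (x := Matrix.SpecialLinearGroup.toGL x) hx] at h1
        obtain rfl : c = 1 := eq_one_of_pow_eq_one hnr1 (isSim_unique h1 (isSim_one _ _))
        have hyQ : ∀ v, Q ((y : Matrix (Fin n) (Fin n) F) *ᵥ v) = Q v := fun v => mul_left_cancel₀ h2 (by
          have h := (hG.isSim_iff _ _).1 hc v v
          rwa [CfsgLib.Geometry.polar_self', CfsgLib.Geometry.polar_self', one_mul] at h)
        have hy1 : y ^ r = 1 := Units.ext (by
          rw [Units.val_pow_eq_pow_val]; exact hconjz (x := Matrix.SpecialLinearGroup.toGL x) hx)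
        have hnofix : ∀ v, (y : Matrix (Fin n) (Fin n) F) *ᵥ v = v → v = 0 := fun v hv => by
          have h : (g : Matrix (Fin n) (Fin n) F) *ᵥ v ∈ fixSp (Matrix.toLin' (x : Matrix (Fin n) (Fin n) F)) := by
            rw [mem_fixSp, Matrix.toLin'_apply]
            conv_rhs => rw [← hv]
            rw [Matrix.mulVec_mulVec, Matrix.mulVec_mulVec, hy, ← Units.val_mul,
              show g * (g⁻¹ * Matrix.SpecialLinearGroup.toGL x * g) = Matrix.SpecialLinearGroup.toGL x * g by group,
              Units.val_mul]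
            rfl
          rw [Submodule.finrank_eq_zero.1 hfix, Submodule.mem_bot] at h
          have := congrArg (((g⁻¹ : GL (Fin n) F) : Matrix (Fin n) (Fin n) F) *ᵥ ·) h
          simpa [Matrix.mulVec_mulVec] using this
        let S := {v : Fin n → F // Q v = 0 ∧ v ≠ 0}
        let σ : GL (Fin n) F → Prop := fun u => ∀ v, Q ((u : Matrix (Fin n) (Fin n) F) *ᵥ v) = Q v
        have hyinv : ∀ v, ((y⁻¹ : GL (Fin n) F) : Matrix (Fin n) (Fin n) F) *ᵥ ((y : Matrix (Fin n) (Fin n) F) *ᵥ v) = v :=
          fun v => by rw [Matrix.mulVec_mulVec, Units.inv_mul, Matrix.one_mulVec]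
        have hyinv' : ∀ v, (y : Matrix (Fin n) (Fin n) F) *ᵥ (((y⁻¹ : GL (Fin n) F) : Matrix (Fin n) (Fin n) F) *ᵥ v) = v :=
          fun v => by rw [Matrix.mulVec_mulVec, Units.mul_inv, Matrix.one_mulVec]
        let π : Equiv.Perm S :=
          { toFun := fun v => ⟨(y : Matrix (Fin n) (Fin n) F) *ᵥ v.1, by rw [hyQ]; exact v.2.1,
              fun h => v.2.2 (by rw [← hyinv v.1, h, Matrix.mulVec_zero])⟩
            invFun := fun v => ⟨((y⁻¹ : GL (Fin n) F) : Matrix (Fin n) (Fin n) F) *ᵥ v.1,
              by rw [← hyQ, hyinv']; exact v.2.1,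
              fun h => v.2.2 (by rw [← hyinv' v.1, h, Matrix.mulVec_zero])⟩
            left_inv := fun v => Subtype.ext (hyinv v.1)
            right_inv := fun v => Subtype.ext (hyinv' v.1) }
        have hπk : ∀ (j : ℕ) (v : S), ((π ^ j) v).1 = ((y ^ j : GL (Fin n) F) : Matrix (Fin n) (Fin n) F) *ᵥ v.1 := by
          intro j
          induction j with
          | zero => intro v; simp
          | succ j ih =>
            intro v
            rw [pow_succ', Equiv.Perm.mul_apply, pow_succ', Units.val_mul, ← Matrix.mulVec_mulVec, ← ih]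
            rfl
        have hπr : π ^ r ^ 1 = 1 := Equiv.ext fun v => Subtype.ext (by
          rw [pow_one, hπk, hy1, Units.val_one, Matrix.one_mulVec]; rfl)
        have hrS : r ∣ Fintype.card S := by
          by_contra hnd
          obtain ⟨v, hv⟩ := Equiv.Perm.exists_fixed_point_of_prime hnd hπr
          exact v.2.2 (hnofix v.1 (congrArg Subtype.val hv))
        have hQz := CfsgLib.OrthPrime.hasExcess (Q := Q) (⊤ : Submodule F (Fin n → F)) (k + 1)
          (eq_bot_iff.2 fun u hu => (Submodule.mem_bot F).2 (hQn.1 u fun v => by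
            have := CfsgLib.Geometry.mem_polarPerp.1 hu.2 v trivial
            simpa [QuadraticMap.polar_comm] using this)) (by rw [finrank_top, Module.finrank_fin_fun, hk']) 0
        have hfib : CfsgLib.OrthPrime.fib Q (⊤ : Submodule F (Fin n → F)) 0 = Fintype.card S + 1 := by
          rw [CfsgLib.OrthPrime.fib, Nat.card_congr ((Equiv.subtypeUnivEquiv fun v => Submodule.mem_top).subtypeEquiv
            (p := fun v : (⊤ : Submodule F (Fin n → F)) => Q v = 0) (q := fun v => Q v = 0) fun v => Iff.rfl),
            Nat.card_eq_fintype_card, Fintype.card_subtype, Fintype.card_subtype,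
            ← Finset.card_erase_add_one (a := (0 : Fin n → F)) (by simp)]
          congr 2
          ext v
          simp [and_comm]
        rw [hfib, ← hε, CfsgLib.OrthPrime.natCard_submodule, finrank_top, Module.finrank_fin_fun,
          CfsgLib.OrthPrime.delta, if_pos rfl] at hQz
        have h := congrArg (fun a : ℤ => (a : ZMod r)) hQz
        simp only [← hq] at h
        push_cast at h
        rw [(ZMod.natCast_eq_zero_iff (Fintype.card S) r).2 hrS, zero_add, mul_one, hqn, hsz] at h
        have h2' : ((2 : ℕ) : ZMod r) * ((q : ZMod r) - 1) = 0 := by push_cast; linear_combination h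
        rcases mul_eq_zero.1 h2' with h3 | h3
        · exact hr2' ((ZMod.natCast_eq_zero_iff 2 r).1 h3)
        · have : orderOf ((q : ℕ) : ZMod r) = 1 := by rw [sub_eq_zero.1 h3, orderOf_one]
          omega
  · intro hcrit x hx ⟨z, hz⟩ hns
    rw [Units.val_pow_eq_pow_val] at hz
    have hzn : z ^ n = 1 := by
      have := congrArg Matrix.det hz
      rw [Matrix.det_pow, hsl x hx, one_pow, Matrix.det_smul, Matrix.det_one, mul_one, Fintype.card_fin] at this
      exact this.symm
    suffices H : ∃ g ∈ Cfsg.Geo.specialLinear (Fin n) F, ∃ d : F, IsSim (RingEquiv.refl F)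
        (J : Matrix (Fin n) (Fin n) F) ((g⁻¹ * x * g : GL (Fin n) F) : Matrix (Fin n) (Fin n) F) d by
      obtain ⟨g, hg, d, hd⟩ := H
      exact ⟨g, hg, (mem_sim_iff h2 hG _).2 ⟨d, hd⟩⟩
    have hdetc : ∀ d : Fin n → F, ∀ D : GL (Fin n) F, (D : Matrix (Fin n) (Fin n) F) = Matrix.diagonal d →
        ∀ t : Fˣ, ∃ h : GL (Fin n) F, h * D = D * h ∧ Matrix.GeneralLinearGroup.det h = t := fun d D hD t => by
      let v : Fin n → F := fun j => if j = ⟨0, by omega⟩ then (t : F) else 1
      have hdv : (Matrix.diagonal v).det = (t : F) := by simp [Matrix.det_diagonal, v]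
      have hdv' : (Matrix.diagonal v).det ≠ 0 := by rw [hdv]; exact t.ne_zero
      refine ⟨Matrix.GeneralLinearGroup.mkOfDetNeZero _ hdv', Units.ext ?_, Units.ext hdv⟩
      rw [Units.val_mul, Units.val_mul, hD]
      show Matrix.diagonal v * Matrix.diagonal d = Matrix.diagonal d * Matrix.diagonal v
      rw [Matrix.diagonal_mul_diagonal, Matrix.diagonal_mul_diagonal]
      exact congrArg _ (funext fun j => mul_comm _ _)
    rcases hcrit with rfl | ⟨hr35, hnr, hv⟩
    · have h2F : ((2 : ℕ) : F) ≠ 0 := by exact_mod_cast h2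
      by_cases hpow : ∃ c, c ^ 2 = z
      · obtain ⟨c, rfl⟩ := hpow
        have hc : c ≠ 0 := fun h => by
          rw [h, zero_pow two_ne_zero, zero_pow (by omega)] at hzn
          exact zero_ne_one hzn
        have hrq : 2 ∣ Fintype.card F - 1 := by rw [Nat.odd_iff] at hodd; omega
        obtain ⟨d, hchar, hd⟩ := CfsgLib.ThreeTransp.DiagModel.exists_roots (r := 2) hrq hz
        have hd0 : ∀ j, d j ≠ 0 := fun j h => pow_ne_zero 2 hc (by rw [← hd j, h, zero_pow two_ne_zero])
        let D : GL (Fin n) F := Matrix.GeneralLinearGroup.mkOfDetNeZero (Matrix.diagonal d) (by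
          rw [Matrix.det_diagonal]; exact Finset.prod_ne_zero_iff.2 fun j _ => hd0 j)
        let m : Fin n → F := fun j => if j = ⟨0, by omega⟩ then (J : Matrix (Fin n) (Fin n) F).det else 1
        have hdm : (Matrix.diagonal m).det = (J : Matrix (Fin n) (Fin n) F).det := by simp [Matrix.det_diagonal, m]
        have hdm' : (Matrix.diagonal m).det ≠ 0 := by rw [hdm]; exact hdJ
        let M : GL (Fin n) F := Matrix.GeneralLinearGroup.mkOfDetNeZero (Matrix.diagonal m) hdm'
        exact exists_conj_mem' h2 (D := D) (M := M) (c := c ^ 2) hJ (Matrix.diagonal_transpose m)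
          (by show IsSquare (_ * (Matrix.diagonal m).det); rw [hdm]; exact ⟨_, rfl⟩)
          (by
            show (Matrix.diagonal d)ᵀ * Matrix.diagonal m * (Matrix.diagonal d).map (RingEquiv.refl F) =
              c ^ 2 • Matrix.diagonal m
            rw [Matrix.diagonal_transpose, show (Matrix.diagonal d).map (RingEquiv.refl F) = Matrix.diagonal d from rfl,
              Matrix.diagonal_mul_diagonal, Matrix.diagonal_mul_diagonal, ← Matrix.diagonal_smul]
            exact congrArg _ (funext fun j => by simp only [Pi.smul_apply, smul_eq_mul, ← hd j]; ring))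
          (CfsgLib.ThreeTransp.DiagModel.isConj_diag h2F (pow_ne_zero 2 hc) hz hd rfl hchar) (hdetc d D rfl)
      · push Not at hpow
        obtain ⟨-, hss, t, hnt, -⟩ := killed_of_root (r := 2) h2F hz hpow
        subst hnt
        have hz0 : z ≠ 0 := fun h => hpow 0 (by rw [h, zero_pow two_ne_zero])
        obtain ⟨t, rfl⟩ : ∃ t', t = t' + 1 := ⟨t - 1, by omega⟩
        -- block models
        obtain ⟨a₀, b₀, hab₀⟩ := FiniteField.exists_root_sum_quadratic
          (f := C z * X ^ 2 - C ((-1) ^ t * (J : Matrix (Fin (2 * (t + 1))) (Fin (2 * (t + 1))) F).det)) (g := C (-1 : F) * X ^ 2)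
          (by rw [degree_sub_C] <;> simp [degree_C_mul_X_pow _ hz0])
          (by simp [degree_C_mul_X_pow]) (Nat.odd_iff.1 hodd)
        simp only [eval_sub, eval_mul, eval_C, eval_pow, eval_X] at hab₀
        let K : Matrix (Fin 2) (Fin 2) F := !![0, z; 1, 0]
        let G0 : Fin (t + 1) → Matrix (Fin 2) (Fin 2) F := fun j =>
          if j = 0 then !![a₀, b₀; b₀, z * a₀] else !![0, 1; 1, 0]
        let e : Fin 2 × Fin (t + 1) ≃ Fin (2 * (t + 1)) := finProdFinEquiv
        let Mm : Matrix (Fin (2 * (t + 1))) (Fin (2 * (t + 1))) F :=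
          Matrix.reindexAlgEquiv F F e (Matrix.blockDiagonal G0)
        let Dm : Matrix (Fin (2 * (t + 1))) (Fin (2 * (t + 1))) F :=
          Matrix.reindexAlgEquiv F F e (Matrix.blockDiagonal fun _ => K)
        have hMdet : Mm.det = (-1) ^ t * (z * a₀ ^ 2 - b₀ ^ 2) := by
          rw [show Mm = Matrix.reindex e e (Matrix.blockDiagonal G0) from rfl, Matrix.det_reindex_self,
            Matrix.det_blockDiagonal, Fin.prod_univ_succ]
          simp [G0, Matrix.det_fin_two_of]
          ring
        have hMdet' : Mm.det = (J : Matrix (Fin (2 * (t + 1))) (Fin (2 * (t + 1))) F).det := by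
          have h1 : z * a₀ ^ 2 - b₀ ^ 2 = (-1) ^ t * (J : Matrix (Fin (2 * (t + 1))) (Fin (2 * (t + 1))) F).det := by linear_combination hab₀
          rw [hMdet, h1, ← mul_assoc, ← mul_pow, neg_one_mul, neg_neg, one_pow, one_mul]
        have hDd : Dm.det = (-z) ^ (t + 1) := by
          rw [show Dm = Matrix.reindex e e (Matrix.blockDiagonal fun _ => K) from rfl, Matrix.det_reindex_self,
            Matrix.det_blockDiagonal]
          simp [K, Matrix.det_fin_two_of]
        have hDd' : Dm.det ≠ 0 := by rw [hDd]; exact pow_ne_zero _ (neg_ne_zero.2 hz0)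
        have hMd' : Mm.det ≠ 0 := by rw [hMdet']; exact hdJ
        let M : GL (Fin (2 * (t + 1))) F := Matrix.GeneralLinearGroup.mkOfDetNeZero Mm hMd'
        let D : GL (Fin (2 * (t + 1))) F := Matrix.GeneralLinearGroup.mkOfDetNeZero Dm hDd'
        have hKK : K * K = z • 1 := by
          ext a b; fin_cases a <;> fin_cases b <;> simp [K, Matrix.mul_apply, Fin.sum_univ_two]
        have hD2 : Dm ^ 2 = z • 1 := by
          rw [pow_two, ← map_mul, ← Matrix.blockDiagonal_mul]
          simp only [hKK]
          rw [show (fun _ : Fin (t + 1) => z • (1 : Matrix (Fin 2) (Fin 2) F)) = z • 1 from rfl,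
            Matrix.blockDiagonal_smul, Matrix.blockDiagonal_one, map_smul, map_one]
        have hMs : Mmᵀ = Mm := by
          show (Matrix.reindex e e (Matrix.blockDiagonal G0))ᵀ = Matrix.reindex e e (Matrix.blockDiagonal G0)
          rw [Matrix.transpose_reindex, Matrix.blockDiagonal_transpose]
          congr 2
          funext j
          by_cases hj : j = 0 <;> simp only [G0, hj, if_true, if_false] <;>
            (ext a b; fin_cases a <;> fin_cases b <;> rfl)
        have hblock : ∀ j, Kᵀ * G0 j * K = z • G0 j := fun j => by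
          by_cases hj : j = 0 <;> simp only [G0, hj, if_true, if_false] <;>
            (ext a b; fin_cases a <;> fin_cases b <;> simp [K, Matrix.mul_apply, Fin.sum_univ_two] <;> ring)
        have hsim : IsSim (RingEquiv.refl F) Mm Dm z := by
          show Dmᵀ * Mm * Dm = z • Mm
          rw [show Dmᵀ = Matrix.reindexAlgEquiv F F e (Matrix.blockDiagonal fun _ => Kᵀ) by
              show (Matrix.reindex e e (Matrix.blockDiagonal fun _ => K))ᵀ = _
              rw [Matrix.transpose_reindex, Matrix.blockDiagonal_transpose]; rfl,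
            ← map_mul, ← map_mul, ← map_smul, ← Matrix.blockDiagonal_mul, ← Matrix.blockDiagonal_mul,
            ← Matrix.blockDiagonal_smul]
          simp only [hblock]
          rfl
        have hPirr : Irreducible (X ^ 2 - C z : F[X]) := X_pow_sub_C_irreducible_of_prime Nat.prime_two hpow
        have hchar : ∀ A : Matrix (Fin (2 * (t + 1))) (Fin (2 * (t + 1))) F, A ^ 2 = z • 1 →
            A.charpoly = (X ^ 2 - C z) ^ (t + 1) := fun A hA => by
          have hm := CfsgLib.KnownB.PrimeOrder.monic_prod_normalizedFactors (Matrix.charpoly_monic A)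
          have hall' : ∀ Q' ∈ UniqueFactorizationMonoid.normalizedFactors A.charpoly, Q' = X ^ 2 - C z := fun Q' hQ' => by
            have hQi := UniqueFactorizationMonoid.irreducible_of_normalized_factor Q' hQ'
            refine eq_of_monic_of_associated (CfsgLib.KnownB.PrimeOrder.monic_of_mem_nf hQ')
              (monic_X_pow_sub_C z two_ne_zero) (hQi.associated_of_dvd hPirr ?_)
            refine (CfsgLib.KnownB.Semisimple.dvd_minpoly_of_dvd_charpoly (Matrix.toLin' A) hQi (by
              rw [Matrix.charpoly_toLin']; exact UniqueFactorizationMonoid.dvd_of_mem_normalizedFactors hQ')).trans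
              (minpoly.dvd F _ ?_)
            rw [show Matrix.toLin' A = Matrix.toLinAlgEquiv' A from rfl, aeval_algHom_apply, map_sub, map_pow, aeval_X,
              aeval_C, hA, Algebra.algebraMap_eq_smul_one, sub_self, map_zero]
          rw [Multiset.eq_replicate_of_mem hall', Multiset.prod_replicate] at hm
          have hdeg := congrArg natDegree hm
          rw [natDegree_pow, natDegree_X_pow_sub_C, Matrix.charpoly_natDegree_eq_dim, Fintype.card_fin] at hdeg
          rw [← hm]
          congr 1
          omega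
        have hssD : Module.End.IsSemisimple (Matrix.toLin' (D : Matrix (Fin (2 * (t + 1))) (Fin (2 * (t + 1))) F)) :=
          (killed_of_root (r := 2) h2F hD2 hpow).2.1
        refine exists_conj_mem' h2 (D := D) (M := M) (c := z) hJ hMs
          (by show IsSquare (_ * Mm.det); rw [hMdet']; exact ⟨_, rfl⟩) hsim
          (CfsgLib.KnownB.Semisimple.isConj_of_charpoly hss hssD ((hchar _ hz).trans (hchar _ hD2).symm)) fun s => ?_
        obtain ⟨u, v, huv⟩ := FiniteField.exists_root_sum_quadratic
          (f := X ^ 2 - C (s : F)) (g := C (-z) * X ^ 2) (degree_X_pow_sub_C (by norm_num) _)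
          (by rw [degree_C_mul_X_pow _ (neg_ne_zero.2 hz0)]; rfl) (Nat.odd_iff.1 hodd)
        simp only [eval_sub, eval_mul, eval_C, eval_pow, eval_X] at huv
        let H0 : Fin (t + 1) → Matrix (Fin 2) (Fin 2) F := fun j => if j = 0 then !![u, z * v; v, u] else 1
        let Hm : Matrix (Fin (2 * (t + 1))) (Fin (2 * (t + 1))) F :=
          Matrix.reindexAlgEquiv F F e (Matrix.blockDiagonal H0)
        have hHd : Hm.det = (s : F) := by
          rw [show Hm = Matrix.reindex e e (Matrix.blockDiagonal H0) from rfl, Matrix.det_reindex_self,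
            Matrix.det_blockDiagonal, Fin.prod_univ_succ]
          simp [H0, Matrix.det_fin_two_of]
          linear_combination huv
        have hHd' : Hm.det ≠ 0 := by rw [hHd]; exact s.ne_zero
        refine ⟨Matrix.GeneralLinearGroup.mkOfDetNeZero Hm hHd', Units.ext ?_, Units.ext hHd⟩
        show Hm * Dm = Dm * Hm
        rw [← map_mul, ← map_mul, ← Matrix.blockDiagonal_mul, ← Matrix.blockDiagonal_mul]
        congr 2
        funext j
        by_cases hj : j = 0 <;> simp only [H0, hj, if_true, if_false, one_mul, mul_one]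
        ext a b; fin_cases a <;> fin_cases b <;> simp [K, Matrix.mul_apply, Fin.sum_univ_two] <;> ring
    · obtain rfl : r = n := hnr.symm
      haveI : NeZero r := ⟨hrprime.ne_zero⟩
      have hr2 : r ≠ 2 := by omega
      have hrq : r ∣ Fintype.card F - 1 := dvd_of_one_le_padicValNat (by rw [hv])
      have hrF : (r : F) ≠ 0 := fun h => by
        have hrp := hpdvd r h hrprime
        obtain ⟨e, -, he⟩ := FiniteField.card F p
        have h1 : r ∣ Fintype.card F := by rw [he, hrp]; exact dvd_pow_self _ e.pos.ne'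
        have h2' := Nat.dvd_sub h1 hrq
        rw [show Fintype.card F - (Fintype.card F - 1) = 1 by have := Fintype.card_pos (α := F); omega,
          Nat.dvd_one] at h2'
        exact hrprime.ne_one h2'
      have hzr : z = 1 := by
        by_cases hpow : ∃ c, c ^ r = z
        · obtain ⟨c, rfl⟩ := hpow
          have hc : c ≠ 0 := fun h => by
            rw [h, zero_pow hrprime.ne_zero, zero_pow hrprime.ne_zero] at hzn
            exact zero_ne_one hzn
          have h1 : c ^ Nat.gcd (r * r) (Fintype.card F - 1) = 1 :=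
            pow_gcd_eq_one.2 ⟨by rw [pow_mul]; exact hzn, FiniteField.pow_card_sub_one_eq_one c hc⟩
          have h2' : Nat.gcd (r * r) (Fintype.card F - 1) ∣ r := by
            rw [← pow_two]
            obtain ⟨j, hj, hj'⟩ := (Nat.dvd_prime_pow hrprime).1 (Nat.gcd_dvd_left (r ^ 2) (Fintype.card F - 1))
            rw [hj']
            have h3 : r ^ j ∣ Fintype.card F - 1 := hj' ▸ Nat.gcd_dvd_right (r ^ 2) (Fintype.card F - 1)
            have h4 := (padicValNat_dvd_iff_le (show Fintype.card F - 1 ≠ 0 by
              have := Fintype.one_lt_card (α := F); omega)).1 h3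
            rw [hv] at h4
            rcases (show j = 0 ∨ j = 1 by omega) with rfl | rfl <;> simp
          obtain ⟨l, hl⟩ := h2'
          rw [hl, pow_mul, h1, one_pow]
        · push Not at hpow
          obtain ⟨-, -, t, hnt, hdet⟩ := killed_of_root hrF hz hpow
          rw [hsl x hx, ((hrprime.odd_of_ne_two hr2).add_one).neg_one_pow, one_mul] at hdet
          have : t = 1 := by
            have := Nat.eq_of_mul_eq_mul_left hrprime.pos ((mul_one r).trans hnt)
            omega
          rw [this, pow_one] at hdet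
          exact absurd ((one_pow r).trans hdet) (hpow 1)
      subst hzr
      obtain ⟨d, hchar, hd⟩ := CfsgLib.ThreeTransp.DiagModel.exists_roots (r := r) (c := (1 : F))
        (x := (x : Matrix (Fin r) (Fin r) F)) hrq (by rw [one_pow]; exact hz)
      simp only [one_pow] at hd
      obtain ⟨ζu, hζu⟩ := exists_prime_orderOf_dvd_card r (G := Fˣ) (by rw [Fintype.card_units]; exact hrq)
      set ζ : F := (ζu : F) with hζ
      have hprim : IsPrimitiveRoot ζ r := by
        rw [hζ, ← hζu, ← orderOf_units]; exact IsPrimitiveRoot.orderOf _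
      let Z : ZMod r → F := fun a => ζ ^ a.val
      have hZadd : ∀ a b, Z a * Z b = Z (a + b) := fun a b => by
        simp only [Z, ← pow_add, ZMod.val_add]
        exact pow_eq_pow_mod _ hprim.pow_eq_one
      have hZinj : Function.Injective Z := fun a b h =>
        ZMod.val_injective r (hprim.pow_inj (ZMod.val_lt a) (ZMod.val_lt b) h)
      have hlog : ∀ j, ∃ a : ZMod r, Z a = d j := fun j => by
        obtain ⟨a, ha, hae⟩ := hprim.eq_pow_of_pow_eq_one (hd j)
        exact ⟨(a : ZMod r), by rw [← hae]; simp [Z, ZMod.val_natCast, Nat.mod_eq_of_lt ha]⟩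
      choose a ha using hlog
      let cnt : ZMod r → ℕ := fun b => (Multiset.map a (Finset.univ : Finset (Fin r)).val).count b
      have hcard : Multiset.card (Multiset.map a (Finset.univ : Finset (Fin r)).val) = r := by simp
      have hsum : ∑ b, cnt b = r := (Multiset.sum_count_eq_card fun b _ => Finset.mem_univ b).trans hcard
      have hprod : ∏ j, d j = 1 := by
        have h := congrArg (Polynomial.eval 0) hchar
        rw [← Polynomial.coeff_zero_eq_eval_zero, Polynomial.eval_prod] at h
        have h2' := Matrix.det_eq_sign_charpoly_coeff (x : Matrix (Fin r) (Fin r) F)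
        rw [hsl x hx, h] at h2'
        simp only [eval_sub, eval_X, eval_C, zero_sub, Finset.prod_neg, Finset.card_univ, Fintype.card_fin,
          ← mul_assoc, ← mul_pow] at h2'
        simpa using h2'.symm
      have hZsum : ∀ S : Finset (Fin r), ∏ j ∈ S, Z (a j) = Z (∑ j ∈ S, a j) := fun S => by
        induction S using Finset.induction_on with
        | empty => simp [Z]
        | insert j S hj ih => rw [Finset.prod_insert hj, Finset.sum_insert hj, ih, hZadd]
      have hsum0 : ∑ j, a j = 0 := hZinj (by rw [← hZsum]; simpa [ha, Z] using hprod)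
      have hs : ∑ b, (cnt b : ZMod r) * b = 0 := by
        rw [← hsum0, ← Finset.sum_fiberwise (Finset.univ : Finset (Fin r)) a a]
        refine Finset.sum_congr rfl fun b _ => ?_
        rw [Finset.sum_congr rfl (fun j hj => (Finset.mem_filter.1 hj).2), Finset.sum_const, nsmul_eq_mul]
        congr 2
        simp only [cnt, Multiset.count_map, ← Finset.filter_val, Finset.card_val, eq_comm]
      obtain ⟨b, hb⟩ := CfsgLib.ThreeTransp.EigenSym.exists_sym (by omega) cnt hsum hs
      obtain ⟨v, π, hπ, hvπ, hvcnt⟩ := CfsgLib.ThreeTransp.EigenSym.exists_invol cnt hsum (fun a => b + b - a)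
        (fun a => sub_sub_cancel _ _) hb
      have hmulti : Multiset.map v (Finset.univ : Finset (Fin r)).val = Multiset.map a (Finset.univ : Finset (Fin r)).val :=
        Multiset.ext.2 hvcnt
      let d' : Fin r → F := fun j => Z (v j)
      have hd'0 : ∀ j, d' j ≠ 0 := fun j => pow_ne_zero _ ζu.ne_zero
      have hd'r : ∀ j, d' j ^ r = 1 := fun j => by
        simp only [d', Z]; rw [← pow_mul, mul_comm, pow_mul, hprim.pow_eq_one, one_pow]
      let D : GL (Fin r) F := Matrix.GeneralLinearGroup.mkOfDetNeZero (Matrix.diagonal d') (by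
        rw [Matrix.det_diagonal]; exact Finset.prod_ne_zero_iff.2 fun j _ => hd'0 j)
      have hchar' : (x : Matrix (Fin r) (Fin r) F).charpoly = ∏ j, (X - C (d' j)) := by
        rw [hchar, Finset.prod_eq_multiset_prod, Finset.prod_eq_multiset_prod]
        refine congrArg Multiset.prod ?_
        have h := congrArg (Multiset.map fun b => (X - C (Z b) : F[X])) hmulti
        rw [Multiset.map_map, Multiset.map_map] at h
        simpa only [Function.comp_def, ha] using h.symm
      have hsim : ∀ j, d' j * (RingEquiv.refl F) (d' (π j)) = Z (b + b) := fun j => by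
        simp only [RingEquiv.refl_apply, d', hvπ, hZadd, add_sub_cancel]
      set P := permForm F π with hP
      have hPd : P.det ≠ 0 := ((Matrix.isUnit_iff_isUnit_det _).1 (permGL F π hπ).isUnit).ne_zero
      set l : F := (J : Matrix (Fin r) (Fin r) F).det * P.det with hl
      have hl0 : l ≠ 0 := mul_ne_zero hdJ hPd
      have hPd' : (l • P).det ≠ 0 := by rw [Matrix.det_smul]; exact mul_ne_zero (pow_ne_zero _ hl0) hPd
      have hPs : Pᵀ = P := permForm_herm (RingEquiv.refl F) hπ
      refine exists_conj_mem' h2 (D := D) (M := Matrix.GeneralLinearGroup.mkOfDetNeZero _ hPd') (c := Z (b + b)) hJ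
        (show (l • P)ᵀ = l • P by rw [Matrix.transpose_smul, hPs]) ?_ ?_
        (CfsgLib.ThreeTransp.DiagModel.isConj_diag hrF one_ne_zero hz hd'r rfl hchar') (hdetc d' D rfl)
      · show IsSquare (_ * (l • P).det)
        rw [Matrix.det_smul, Fintype.card_fin, mul_left_comm, ← hl, ← pow_succ]
        exact ((hrprime.odd_of_ne_two hr2).add_one).isSquare_pow _
      · show IsSim (RingEquiv.refl F) (l • P) (Matrix.diagonal d') (Z (b + b))
        have h := isSim_diag (RingEquiv.refl F) (π := π) hsim
        unfold IsSim at h ⊢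
        rw [Matrix.mul_smul, Matrix.smul_mul, h, smul_comm]

end Cfsg.Agent.S5981
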