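import Cfsg.Statements.S5982
import Cfsg.Agent.Lib.ThreeTransp.HermSim
import Cfsg.Agent.Lib.ThreeTransp.EigenSym
import Cfsg.Agent.Lib.ThreeTransp.DiagModel
import Cfsg.Agent.Lib.Classical.UnitarySU
import Cfsg.Agent.Lib.Classical.Order
import Cfsg.Agent.Lib.InvolTwo.Unitary

set_option autoImplicit false
set_option maxHeartbeats 2000000
open scoped MatrixGroups
open Cfsg

namespace Cfsg.Agent.S5982


open Cfsg.Geo CfsgLib.AschbacherForm CfsgLib.ThreeTransp.HermSim Matrix

/-- A scalar of a similitude of a hermitian form is fixed. -/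
private theorem sim_scalar_fixed {F : Type*} [Field F] {n : ℕ} [Nonempty (Fin n)] {τ : F ≃+* F}
    {f : (Fin n → F) → (Fin n → F) → F} {J : GL (Fin n) F} (hG : Geom τ f J 1) {g : Matrix (Fin n) (Fin n) F} {c : F}
    (hg : IsSim τ (J : Matrix (Fin n) (Fin n) F) g c) : τ c = c := by
  have hJ : ((J : Matrix (Fin n) (Fin n) F).map τ)ᵀ = (J : Matrix (Fin n) (Fin n) F) := by
    rw [hG.symm, one_smul]
  have h1 := congrArg (fun A : Matrix (Fin n) (Fin n) F => (A.map τ)ᵀ) hg
  simp only [CfsgLib.Aschbacher.map_mul_equiv, Matrix.transpose_mul, Matrix.map_map,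
    show (τ : F → F) ∘ τ = id from funext hG.invol, Matrix.map_id,
    Matrix.map_smul' (hf := map_mul τ), Matrix.transpose_smul] at h1
  rw [hJ, Matrix.transpose_map, Matrix.transpose_transpose, ← mul_assoc] at h1
  unfold IsSim at hg
  rw [hg] at h1
  exact (smul_left_injective F (J.isUnit.ne_zero) h1).symm

/-- Involutory elements in characteristic two. -/
private theorem invol_conj {F : Type*} [Field F] [Fintype F] [CharP F 2] {n : ℕ} {τ : F ≃+* F}
    (hne : τ ≠ RingEquiv.refl F) {f : (Fin n → F) → (Fin n → F) → F} {J : GL (Fin n) F} (hG : Geom τ f J 1)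
    (x : GL (Fin n) F) {z : F} (hz : (x : Matrix (Fin n) (Fin n) F) ^ 2 = z • 1)
    (hns : ∀ t : F, (x : Matrix (Fin n) (Fin n) F) ≠ t • 1) (hn : 0 < n) :
    ∃ g ∈ Cfsg.Geo.specialLinear (Fin n) F, g⁻¹ * x * g ∈ similarityGroup f := by
  classical
  haveI : Nonempty (Fin n) := ⟨⟨0, hn⟩⟩
  have hsqrt : ∀ a : F, ∃ b : F, b ^ 2 = a := fun a => by
    obtain ⟨b, hb⟩ := FiniteField.isSquare_of_char_two (ringChar.eq_iff.2 inferInstance) a
    exact ⟨b, by rw [pow_two, hb]⟩
  obtain ⟨c, hc⟩ := hsqrt z
  have hc0 : c ≠ 0 := by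
    rintro rfl
    rw [← hc, zero_pow two_ne_zero, zero_smul] at hz
    exact (x.isUnit.pow 2).ne_zero hz
  set x' : Matrix (Fin n) (Fin n) F := c⁻¹ • (x : Matrix (Fin n) (Fin n) F) with hx'
  have hx'2 : x' * x' = 1 := by
    rw [hx', smul_mul_smul_comm, ← pow_two (x : Matrix (Fin n) (Fin n) F), hz, ← hc, smul_smul, ← pow_two c⁻¹,
      inv_pow, inv_mul_cancel₀ (pow_ne_zero _ hc0), one_smul]
  set a := (x' - 1).rank with ha
  have h2a : 2 * a ≤ n := CfsgLib.InvolTwo.Unitary.two_rank_le hx'2
  have ha0 : 0 < a := by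
    refine Nat.pos_of_ne_zero fun h0 => hns c ?_
    have h1 : x' - 1 = 0 := by
      rw [ha, Matrix.rank, Submodule.finrank_eq_zero, LinearMap.range_eq_bot] at h0
      exact Matrix.toLin'.injective (by rw [Matrix.toLin'_apply', h0, map_zero])
    rw [sub_eq_zero, hx', inv_smul_eq_iff₀ hc0] at h1
    exact h1
  -- the pairing
  let π : Fin n → Fin n := fun i =>
    if h : (i : ℕ) < a then ⟨i + a, by omega⟩ else if (i : ℕ) < 2 * a then ⟨i - a, by omega⟩ else i
  have hπv : ∀ i : Fin n, (π i : ℕ) = if (i : ℕ) < a then (i : ℕ) + a else if (i : ℕ) < 2 * a then (i : ℕ) - a else i :=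
    fun i => by simp only [π]; split_ifs <;> rfl
  have hπ : Function.Involutive π := fun i => by
    refine Fin.ext ?_
    rw [hπv, hπv]
    split_ifs <;> omega
  let w : Fin n → F := fun i => if (i : ℕ) < a then 1 else 0
  have hwπ : ∀ i, w i * w (π i) = 0 := fun i => by
    simp only [w, hπv]
    split_ifs <;> first | omega | simp
  let M := permForm F π
  let N : Matrix (Fin n) (Fin n) F := Matrix.diagonal w * M
  have hMM : M * M = 1 := permForm_mul_self hπ
  have hperm : ∀ v : Fin n → F, M * Matrix.diagonal v = Matrix.diagonal (fun i => v (π i)) * M := fun v => by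
    ext i j
    rw [Matrix.mul_diagonal, Matrix.diagonal_mul]
    by_cases h : j = π i
    · subst h; ring
    · simp [M, permForm, h]
  have hMdM : ∀ v : Fin n → F, M * Matrix.diagonal v * M = Matrix.diagonal (fun i => v (π i)) := fun v => by
    rw [hperm, mul_assoc, hMM, mul_one]
  have hMT : Mᵀ = M := by
    have := permForm_herm (RingEquiv.refl F) hπ
    simpa using this
  have hwz : ∀ v v' : Fin n → F, (∀ i, v i * v' i = 0) → Matrix.diagonal v * Matrix.diagonal v' = 0 := fun v v' h => by
    rw [Matrix.diagonal_mul_diagonal, show (fun i => v i * v' i) = fun _ => (0 : F) from funext h,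
      Matrix.diagonal_zero]
  have hNN : N * N = 0 := by
    show Matrix.diagonal w * M * (Matrix.diagonal w * M) = 0
    rw [mul_assoc, ← mul_assoc M, hMdM, hwz _ _ hwπ]
  have hD2 : (1 + N) * (1 + N) = 1 := by
    rw [add_mul, mul_add, mul_add, one_mul, mul_one, one_mul, hNN, add_zero, add_assoc,
      ← two_smul F, CharTwo.two_eq_zero, zero_smul, add_zero]
  have hNτ : N.map τ = N := by
    ext i j
    simp only [N, Matrix.map_apply, Matrix.diagonal_mul, M, permForm, Matrix.of_apply, w, map_mul, apply_ite τ,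
      map_one, map_zero]
  have hNT : Nᵀ * M = Matrix.diagonal (fun i => w (π i)) := by
    show (Matrix.diagonal w * M)ᵀ * M = _
    rw [Matrix.transpose_mul, hMT, Matrix.diagonal_transpose, hMdM]
  have hsim : IsSim τ M (1 + N) 1 := by
    have h1 : M * N = Matrix.diagonal (fun i => w (π i)) := by
      show M * (Matrix.diagonal w * M) = _
      rw [← mul_assoc, hMdM]
    have h2 : Nᵀ * M * N = 0 := by
      rw [hNT]
      show Matrix.diagonal (fun i => w (π i)) * (Matrix.diagonal w * M) = 0
      rw [← mul_assoc, hwz _ _ (fun i => by rw [mul_comm]; exact hwπ i), zero_mul]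
    rw [IsSim, one_smul, Matrix.map_add τ (map_add τ), Matrix.map_one τ (map_zero τ) (map_one τ), hNτ,
      Matrix.transpose_add, Matrix.transpose_one, add_mul, one_mul, mul_add, mul_one, add_mul, h2, h1, hNT,
      add_zero, add_assoc, ← two_smul F, CharTwo.two_eq_zero, zero_smul, add_zero]
  have hrank : (1 + N - 1).rank = a := by
    rw [add_sub_cancel_left]
    show (Matrix.diagonal w * M).rank = a
    have hMu : IsUnit M.det := (Matrix.isUnit_iff_isUnit_det _).1 (permGL F π hπ).isUnit
    rw [Matrix.rank_mul_eq_left_of_isUnit_det M _ hMu, Matrix.rank_diagonal]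
    rw [Fintype.card_subtype]
    rw [show (Finset.univ.filter fun i : Fin n => w i ≠ 0) = Finset.univ.filter fun i : Fin n => (i : ℕ) < a from
      Finset.filter_congr fun i _ => by simp only [w]; split_ifs with h <;> simp [h]]
    exact Fin.card_filter_val_lt.trans (min_eq_right (by omega))
  obtain ⟨k, hk⟩ := CfsgLib.InvolTwo.Unitary.isConj_matrix hx'2 hD2 (ha.symm.trans hrank.symm)
  let D₁ : GL (Fin n) F := ⟨1 + N, 1 + N, hD2, hD2⟩
  let D : GL (Fin n) F := Units.map (Matrix.scalar (Fin n) : F →+* Matrix (Fin n) (Fin n) F).toMonoidHom (Units.mk0 c hc0) * D₁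
  have hDv : (D : Matrix (Fin n) (Fin n) F) = c • (1 + N) := by
    show Matrix.scalar (Fin n) c * (1 + N) = c • (1 + N)
    rw [Matrix.scalar_apply, ← Matrix.smul_eq_diagonal_mul]
  refine exists_conj_mem hne hG (x := x) (D := D) (M := permGL F π hπ) (c := c * τ c * 1) (permForm_herm τ hπ)
    (by rw [hDv]; exact isSim_smul hsim c) (isConj_iff.2 ⟨k, ?_⟩) fun t => ?_
  · refine mul_inv_eq_iff_eq_mul.2 (Units.ext ?_)
    rw [Units.val_mul, Units.val_mul, hDv, smul_mul_assoc]
    have hk' : (k : Matrix (Fin n) (Fin n) F) * x' = (1 + N) * (k : Matrix (Fin n) (Fin n) F) := hk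
    rw [hx', mul_smul_comm, inv_smul_eq_iff₀ hc0] at hk'
    exact hk'
  · obtain ⟨u, hu⟩ := hsqrt (t : F)
    have hu0 : u ≠ 0 := fun h => t.ne_zero (by rw [← hu, h, zero_pow two_ne_zero])
    set i₀ : Fin n := ⟨0, hn⟩
    set i₁ : Fin n := π i₀ with hi₁
    have h01 : i₀ ≠ i₁ := fun h => by
      have := congrArg Fin.val h
      rw [hi₁, hπv] at this
      simp [i₀, ha0] at this
      omega
    let e : Fin n → F := fun i => if i = i₀ ∨ i = i₁ then u else 1
    have heπ : (fun i => e (π i)) = e := funext fun i => by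
      refine if_congr ?_ rfl rfl
      constructor
      · rintro (h | h)
        · exact Or.inr (by rw [hi₁, ← h, hπ])
        · exact Or.inl (hπ.injective h)
      · rintro (h | h)
        · exact Or.inr (by rw [h])
        · exact Or.inl (by rw [h, hi₁, hπ])
    have hdet : (Matrix.diagonal e).det = (t : F) := by
      rw [Matrix.det_diagonal, ← Finset.prod_subset (Finset.subset_univ {i₀, i₁}) (fun i _ hi => by
        simp only [Finset.mem_insert, Finset.mem_singleton] at hi; simp [e, hi]),
        Finset.prod_pair h01]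
      simp [e, ← hu, pow_two]
    refine ⟨Matrix.GeneralLinearGroup.mkOfDetNeZero (Matrix.diagonal e) (by rw [hdet]; exact t.ne_zero), ?_,
      Units.ext hdet⟩
    refine Units.ext ?_
    show Matrix.diagonal e * (D : Matrix (Fin n) (Fin n) F) = (D : Matrix (Fin n) (Fin n) F) * Matrix.diagonal e
    rw [hDv]
    rw [Matrix.mul_smul, Matrix.smul_mul, mul_add, add_mul, mul_one, one_mul]
    congr 2
    show Matrix.diagonal e * (Matrix.diagonal w * M) = Matrix.diagonal w * M * Matrix.diagonal e
    rw [mul_assoc (Matrix.diagonal w) M, hperm e, heπ, ← mul_assoc, ← mul_assoc, Matrix.diagonal_mul_diagonal,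
      Matrix.diagonal_mul_diagonal]
    congr 2
    exact funext fun i => mul_comm _ _

/-- A prime dividing the index is a divisor of some `(-q₀)^m + 1`. -/
private theorem index_data {F : Type*} [Field F] [Fintype F] {q₀ : ℕ} (hF : Fintype.card F = q₀ ^ 2) {n : ℕ}
    (hn : 2 ≤ n) {f : (Fin n → F) → (Fin n → F) → F} (hf : Cfsg.Geo.IsUnitaryFormPow q₀ f) {r : ℕ} [Fact r.Prime]
    (hr2 : r ≠ 2) (hrq₀ : ¬ r ∣ q₀) (hΩ : r ∣ (similarityGroup f).relIndex (Cfsg.Geo.specialLinear (Fin n) F)) :
    ∃ m, 2 ≤ m ∧ m ≤ n ∧ (-(q₀ : ZMod r)) ^ m = -1 := by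
  classical
  have hrprime : r.Prime := Fact.out
  haveI : Nonempty (Fin n) := ⟨⟨0, by omega⟩⟩
  have hFn : Nat.card F = q₀ ^ 2 := by rw [Nat.card_eq_fintype_card, hF]
  have hq2 := CfsgLib.Classical.two_le_q hFn
  obtain ⟨τ, J, hτ, hne, hG⟩ := exists_gram hF hf
  obtain ⟨τ', hU⟩ := exists_uform hF n
  obtain rfl : τ' = τ := RingEquiv.ext fun a => by rw [hU.pow, hτ]
  have hJ : ((J : Matrix (Fin n) (Fin n) F).map τ')ᵀ = (J : Matrix (Fin n) (Fin n) F) := by rw [hG.symm, one_smul]
  obtain ⟨Y, hY⟩ := exists_congr hne hG.invol J 1 hJ (by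
    rw [Units.val_one, Matrix.map_one τ' (map_zero τ') (map_one τ'), Matrix.transpose_one])
  set H := similarityGroup f ⊓ Cfsg.Geo.specialLinear (Fin n) F with hH
  let φ : Cfsg.SU n F q₀ →* GL (Fin n) F :=
    (MulAut.conj Y).toMonoidHom.comp (Matrix.SpecialLinearGroup.toGL.comp (Cfsg.SU n F q₀).subtype)
  have hφ : ∀ a, φ a ∈ H := fun a => by
    refine ⟨(hG.mem_similarity_iff _).2 ⟨1, ?_⟩, ?_⟩
    · show IsSim τ' _ ((Y * Matrix.SpecialLinearGroup.toGL a.1 * Y⁻¹ : GL (Fin n) F) : Matrix (Fin n) (Fin n) F) 1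
      rw [Units.val_mul, Units.val_mul]
      exact isSim_conj Y hY (hU.isSim (g := Matrix.SpecialLinearGroup.toGL a.1) fun u v => a.2 u v)
    · show Matrix.GeneralLinearGroup.det (Y * Matrix.SpecialLinearGroup.toGL a.1 * Y⁻¹) = 1
      rw [map_mul, map_mul, map_inv, show Matrix.GeneralLinearGroup.det (Matrix.SpecialLinearGroup.toGL a.1) = 1 from
        Units.ext a.1.2, mul_one, mul_inv_cancel]
  have hdvd : Nat.card (Cfsg.SU n F q₀) ∣ Nat.card H := by
    refine Subgroup.card_dvd_of_injective (φ.codRestrict H hφ) fun a b h => ?_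
    have h' : φ a = φ b := congrArg Subtype.val h
    have h'' : Matrix.SpecialLinearGroup.toGL a.1 = Matrix.SpecialLinearGroup.toGL b.1 := (MulAut.conj Y).injective h'
    exact Subtype.ext (Subtype.ext (congrArg Units.val h''))
  have hSL : Nat.card (Cfsg.Geo.specialLinear (Fin n) F) = Nat.card (Matrix.SpecialLinearGroup (Fin n) F) :=
    Nat.card_congr
      { toFun := fun g => ⟨(g.1 : Matrix (Fin n) (Fin n) F), congrArg Units.val g.2⟩
        invFun := fun g => ⟨Matrix.SpecialLinearGroup.toGL g, Units.ext g.2⟩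
        left_inv := fun g => Subtype.ext (Units.ext rfl)
        right_inv := fun g => Subtype.ext rfl }
  have h1 : r * Nat.card (Cfsg.SU n F q₀) ∣ Nat.card (Matrix.SpecialLinearGroup (Fin n) F) := by
    have h := Subgroup.relIndex_mul_relIndex ⊥ H (Cfsg.Geo.specialLinear (Fin n) F) bot_le inf_le_right
    rw [Subgroup.relIndex_bot_left, Subgroup.relIndex_bot_left] at h
    rw [← hSL, ← h, mul_comm (Nat.card H), hH, Subgroup.inf_relIndex_right]
    exact Nat.mul_dvd_mul hΩ hdvd
  -- the product formulas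
  let u : ℕ → ℕ := fun j => if Even (j + 1) then q₀ ^ (j + 2) + 1 else q₀ ^ (j + 2) - 1
  let w : ℕ → ℕ := fun j => if Even (j + 1) then q₀ ^ (j + 2) - 1 else q₀ ^ (j + 2) + 1
  have huw : ∀ j, (q₀ ^ 2) ^ (j + 2) - 1 = u j * w j := fun j => by
    rw [← pow_mul, mul_comm, pow_mul]
    simp only [u, w]
    rw [show (q₀ ^ (j + 2)) ^ 2 - 1 = (q₀ ^ (j + 2) + 1) * (q₀ ^ (j + 2) - 1) by rw [← Nat.sq_sub_sq, one_pow]]
    split_ifs
    · rfl
    · exact mul_comm _ _
  have hupos : ∀ j, 0 < u j := fun j => by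
    have : 1 < q₀ ^ (j + 2) := Nat.one_lt_pow (by omega) (by omega)
    simp only [u]; split_ifs <;> omega
  have hSU : Nat.card (Cfsg.SU n F q₀) = q₀ ^ (n * (n - 1) / 2) * ∏ j ∈ Finset.range (n - 1), u j := by
    have h := CfsgLib.Classical.card_SU_mul hFn (show 1 ≤ n by omega)
    rw [CfsgLib.Classical.card_GU hFn] at h
    obtain ⟨n', rfl⟩ : ∃ n', n = n' + 1 := ⟨n - 1, by omega⟩
    rw [Finset.prod_range_succ' _ n', if_pos (show Even 0 from Even.zero)] at h
    rw [show n' + 1 - 1 = n' from rfl] at h ⊢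
    simp only [u]
    refine Nat.eq_of_mul_eq_mul_left (show 0 < q₀ + 1 by omega) (h.trans ?_)
    ring
  rw [hSU, CfsgLib.Classical.card_SL_fin', hFn, Finset.prod_congr rfl (fun j _ => huw j), Finset.prod_mul_distrib]
    at h1
  have h2 : r ∣ (q₀ ^ 2) ^ (n * (n - 1) / 2) * ∏ j ∈ Finset.range (n - 1), w j := by
    refine (dvd_mul_left r (q₀ ^ (n * (n - 1) / 2))).trans ((Nat.mul_dvd_mul_iff_right
      (Finset.prod_pos fun j (_ : j ∈ Finset.range (n - 1)) => hupos j)).1 ?_)
    convert h1 using 1 <;> ring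
  rcases hrprime.dvd_mul.1 h2 with h3 | h3
  · exact absurd (hrprime.dvd_of_dvd_pow (hrprime.dvd_of_dvd_pow h3)) hrq₀
  · obtain ⟨j, hj, hjd⟩ := (hrprime.prime.dvd_finsetProd_iff _).1 h3
    rw [Finset.mem_range] at hj
    refine ⟨j + 2, by omega, by omega, ?_⟩
    rw [← ZMod.natCast_eq_zero_iff] at hjd
    simp only [w] at hjd
    by_cases he : Even (j + 1)
    · rw [if_pos he, Nat.cast_sub (Nat.one_le_pow _ _ (by omega)), Nat.cast_pow, Nat.cast_one, sub_eq_zero] at hjd
      rw [(show Odd (j + 2) from he.add_one).neg_pow, hjd]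
    · rw [if_neg he, Nat.cast_add, Nat.cast_pow, Nat.cast_one] at hjd
      have hev : Even (j + 2) := (Nat.not_even_iff_odd.1 he).add_one
      rw [hev.neg_pow]
      exact eq_neg_of_add_eq_zero_left hjd

open Polynomial Module CfsgLib.PrimeOrderSp CfsgLib.KnownB.PrimeOrder in
/-- An element of order `r` with one irreducible constituent of degree `i` is not unitary. -/
private theorem no_single {F : Type*} [Field F] [Fintype F] {q₀ : ℕ} (hF : Fintype.card F = q₀ ^ 2)
    {τ : F ≃+* F} (hτ : ∀ a, τ a = a ^ q₀) {n : ℕ} {r : ℕ} [Fact r.Prime] (hr : (r : F) ≠ 0)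
    (hord : orderOf (-(q₀ : ZMod r)) = 2 * orderOf ((Fintype.card F : ℕ) : ZMod r))
    {x : Matrix (Fin n) (Fin n) F} (hxr : Matrix.toLin' x ^ r = 1)
    (hmov : Module.finrank F (movSp (Matrix.toLin' x)) = orderOf ((Fintype.card F : ℕ) : ZMod r))
    {M : GL (Fin n) F} (hsim : IsSim τ (M : Matrix (Fin n) (Fin n) F) x 1) : False := by
  classical
  have hrp : r.Prime := Fact.out
  set i := orderOf ((Fintype.card F : ℕ) : ZMod r) with hi
  have hi0 : 0 < i := orderOf_card_pos hr
  set f := Matrix.toLin' x with hf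
  have hk := killed_movSp (f := f) hr hxr
  have hne : movSp f ≠ ⊥ := fun h => by rw [h, finrank_bot] at hmov; omega
  obtain ⟨P, hP, v, hv, hv0, hPv⟩ := exists_factor (factors F r) hk.inv hne hk.kill
  obtain ⟨hirr, hm, hd, hP1⟩ := (mem_factors hrp.ne_zero).1 hP
  have hdeg : P.natDegree = i := hk.deg P hP
  have hcyc : cyc f v = movSp f := Submodule.eq_of_le_of_finrank_le (cyc_le hk.inv hv)
    (by rw [finrank_cyc hirr hPv hv0, hdeg, hmov])
  -- the polynomial `P * (X - 1)` kills everything
  have hPX : Polynomial.aeval x (P * (X - 1)) = 0 := by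
    apply Matrix.toLinAlgEquiv'.injective
    rw [map_zero, ← aeval_algHom_apply]
    refine LinearMap.ext fun u => ?_
    have hu : (f - 1) u ∈ cyc f v := hcyc ▸ LinearMap.mem_range_self (f - 1) u
    obtain ⟨a, ha⟩ := hu
    rw [evalAt_apply] at ha
    show Polynomial.aeval f (P * (X - 1)) u = 0
    rw [map_mul, map_sub, aeval_X, map_one, Module.End.mul_apply, ← ha, ← Module.End.mul_apply, ← map_mul,
      mul_comm, map_mul, Module.End.mul_apply, hPv, map_zero]
  -- move the polynomial across the form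
  have hx1 : x ^ r = 1 := by
    apply Matrix.toLin'.injective
    rw [Matrix.toLin'_pow, hxr, Matrix.toLin'_one]
    rfl
  set y := x ^ (r - 1) with hy
  have hxy : x * y = 1 := by rw [hy, ← pow_succ', Nat.sub_add_cancel hrp.one_le, hx1]
  have hswap : ∀ k, (x ^ k)ᵀ * (M : Matrix (Fin n) (Fin n) F) = (M : Matrix (Fin n) (Fin n) F) * (y ^ k).map τ := by
    have h1 : xᵀ * (M : Matrix (Fin n) (Fin n) F) = (M : Matrix (Fin n) (Fin n) F) * y.map τ := by
      have h := congrArg (· * y.map τ) hsim
      simp only [one_smul] at h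
      rw [mul_assoc, ← CfsgLib.Aschbacher.map_mul_equiv, hxy, Matrix.map_one τ (map_zero τ) (map_one τ), mul_one] at h
      exact h
    intro k
    induction k with
    | zero => simp [Matrix.map_one τ (map_zero τ) (map_one τ)]
    | succ k ih =>
      rw [pow_succ, Matrix.transpose_mul, mul_assoc, ih, ← mul_assoc, h1, mul_assoc,
        ← CfsgLib.Aschbacher.map_mul_equiv, ← pow_succ']
  have hpoly : ∀ R : F[X], (Polynomial.aeval x R)ᵀ * (M : Matrix (Fin n) (Fin n) F) =
      (M : Matrix (Fin n) (Fin n) F) * (Polynomial.aeval y (R.map (τ : F →+* F))).map τ := by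
    intro R
    induction R using Polynomial.induction_on' with
    | add a b ha hb =>
      rw [Polynomial.map_add, map_add, map_add, Matrix.transpose_add, Matrix.map_add τ (map_add τ), add_mul,
        mul_add, ha, hb]
    | monomial k a =>
      rw [Polynomial.map_monomial, aeval_monomial, aeval_monomial, ← Algebra.smul_def, ← Algebra.smul_def,
        Matrix.transpose_smul, Matrix.map_smul' (hf := map_mul τ), Matrix.smul_mul, Matrix.mul_smul, hswap]
      congr 1
      simp [hτ, ← pow_mul, ← pow_two, ← hF, FiniteField.pow_card]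
  have hyR : Polynomial.aeval y ((P * (X - 1)).map (τ : F →+* F)) = 0 := by
    have h := hpoly (P * (X - 1))
    rw [hPX, Matrix.transpose_zero, zero_mul] at h
    have h' := congrArg ((↑M⁻¹ : Matrix (Fin n) (Fin n) F) * ·) h
    simp only [mul_zero, ← mul_assoc, Units.inv_mul, one_mul] at h'
    ext a b
    exact τ.injective ((congrFun (congrFun h'.symm a) b).trans (map_zero τ).symm)
  haveI := Fact.mk hirr
  haveI : Module.Finite F (AdjoinRoot P) := (AdjoinRoot.powerBasis' hm).finite
  set ρ : AdjoinRoot P := AdjoinRoot.root P with hρ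
  have hρr : ρ ^ r = 1 := CfsgLib.PrimeOrderSp.root_pow_eq_one hrp.ne_zero hP
  have hdvd : P ∣ ((P * (X - 1)).map (τ : F →+* F)).comp (X ^ (r - 1)) := by
    rw [← aeval_eq_zero_iff hirr hPv hv0, aeval_comp, map_pow, aeval_X,
      show f ^ (r - 1) = Matrix.toLinAlgEquiv' y by rw [hy, map_pow]; rfl, aeval_algHom_apply, hyR, map_zero,
      LinearMap.zero_apply]
  have h0 : Polynomial.aeval (ρ ^ (r - 1)) ((P * (X - 1)).map (τ : F →+* F)) = 0 := by
    obtain ⟨b, hb⟩ := hdvd
    have h := congrArg (Polynomial.aeval ρ) hb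
    rw [aeval_comp, map_pow, aeval_X, map_mul (Polynomial.aeval ρ) P b, hρ, AdjoinRoot.aeval_eq, AdjoinRoot.mk_self,
      zero_mul] at h
    exact h
  have hρ1 : ρ ≠ 1 := fun h1 => by
    have h2 : P ∣ X - 1 := AdjoinRoot.mk_eq_zero.1 (by
      rw [map_sub, AdjoinRoot.mk_X, map_one, show AdjoinRoot.root P = 1 from h1, sub_self])
    refine hP1 (eq_of_monic_of_associated hm (monic_X_sub_C 1) ?_)
    exact hirr.associated_of_dvd (irreducible_X_sub_C 1) (by simpa using h2)
  have hordρ : orderOf ρ = r := orderOf_eq_prime hρr hρ1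
  have hpow : ∀ a b : ℕ, ρ ^ a = ρ ^ b → (a : ZMod r) = (b : ZMod r) := fun a b hab => by
    rw [ZMod.natCast_eq_natCast_iff']
    have hp := hordρ ▸ IsPrimitiveRoot.orderOf ρ
    exact hp.pow_inj (Nat.mod_lt _ hrp.pos) (Nat.mod_lt _ hrp.pos) (by
      rw [← pow_eq_pow_mod a hρr, ← pow_eq_pow_mod b hρr, hab])
  rw [Polynomial.map_mul, Polynomial.map_sub, Polynomial.map_X, Polynomial.map_one, map_mul, map_sub, aeval_X,
    map_one] at h0
  have h0' : Polynomial.aeval (ρ ^ (r - 1)) (P.map (τ : F →+* F)) = 0 := by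
    refine (mul_eq_zero.1 h0).resolve_right fun h => ?_
    have h' := hpow (r - 1) 0 (by rw [pow_zero]; exact sub_eq_zero.1 h)
    rw [Nat.cast_sub hrp.one_le, ZMod.natCast_self, Nat.cast_zero, Nat.cast_one, zero_sub, neg_eq_zero] at h'
    exact one_ne_zero h'
  -- apply the Frobenius of the subfield
  obtain ⟨p, hp⟩ := CharP.exists F
  obtain ⟨e', hpP, he'⟩ := FiniteField.card F p
  haveI := Fact.mk hpP
  haveI : CharP (AdjoinRoot P) p := charP_of_injective_algebraMap (algebraMap F (AdjoinRoot P)).injective p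
  obtain ⟨e, -, he⟩ := (Nat.dvd_prime_pow hpP).1 (show q₀ ∣ p ^ (e' : ℕ) by
    rw [← he', hF]; exact dvd_pow_self _ two_ne_zero)
  have hroot : Polynomial.aeval (ρ ^ ((r - 1) * q₀)) P = 0 := by
    have h := congrArg (iterateFrobenius (AdjoinRoot P) p e) h0'
    rw [map_zero, aeval_def, eval₂_map, Polynomial.hom_eval₂] at h
    have hcomp : (iterateFrobenius (AdjoinRoot P) p e).comp ((algebraMap F (AdjoinRoot P)).comp (τ : F →+* F)) =
        algebraMap F (AdjoinRoot P) := RingHom.ext fun c => by
      show iterateFrobenius (AdjoinRoot P) p e (algebraMap F (AdjoinRoot P) (τ c)) = _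
      rw [iterateFrobenius_def, ← he, ← map_pow, hτ, ← pow_mul, ← pow_two, ← hF, FiniteField.pow_card]
    rw [hcomp, iterateFrobenius_def, ← he, ← pow_mul] at h
    rw [aeval_def]
    exact h
  have hconj : ∀ j : ℕ, Polynomial.aeval (ρ ^ (Fintype.card F ^ j)) P = 0 := fun j => by
    have h := Polynomial.aeval_algHom_apply ((FiniteField.frobeniusAlgHom F (AdjoinRoot P)) ^ j) ρ P
    rw [show Polynomial.aeval ρ P = 0 by rw [hρ, AdjoinRoot.aeval_eq, AdjoinRoot.mk_self], map_zero] at h
    rw [show ((FiniteField.frobeniusAlgHom F (AdjoinRoot P)) ^ j) ρ = ρ ^ Fintype.card F ^ j by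
      simp [AlgHom.coe_pow, FiniteField.coe_frobeniusAlgHom, pow_iterate]] at h
    exact h
  -- count
  have hq0 : (q₀ : ZMod r) ^ 2 = ((Fintype.card F : ℕ) : ZMod r) := by rw [hF, Nat.cast_pow]
  have hinj : ∀ a b : ℕ, a < i → b < i → ρ ^ Fintype.card F ^ a = ρ ^ Fintype.card F ^ b → a = b := by
    intro a b ha hb hab
    have h := hpow _ _ hab
    rw [Nat.cast_pow, Nat.cast_pow] at h
    have h0 : ((Fintype.card F : ℕ) : ZMod r) ≠ 0 := fun h0 => by
      rw [hi, h0, orderOf_zero] at hi0; exact lt_irrefl 0 hi0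
    set U := Units.mk0 _ h0 with hU
    have h' := pow_inj_mod.1 (show U ^ a = U ^ b from Units.ext (by
      rw [Units.val_pow_eq_pow_val, Units.val_pow_eq_pow_val, hU, Units.val_mk0]; exact h))
    rwa [← orderOf_units, hU, Units.val_mk0, ← hi, Nat.mod_eq_of_lt ha, Nat.mod_eq_of_lt hb] at h'
  let T : Finset (AdjoinRoot P) := insert (ρ ^ ((r - 1) * q₀))
    ((Finset.range i).image fun j => ρ ^ Fintype.card F ^ j)
  have hTcard : T.card = i + 1 := by
    rw [Finset.card_insert_of_notMem, Finset.card_image_of_injOn, Finset.card_range]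
    · exact fun a ha b hb hab => hinj a b (Finset.mem_range.1 ha) (Finset.mem_range.1 hb) hab
    · rw [Finset.mem_image]
      rintro ⟨j, -, hj⟩
      have h := hpow _ _ hj
      rw [Nat.cast_pow, ← hq0, ← neg_sq, ← pow_mul, Nat.cast_mul, Nat.cast_sub hrp.one_le, ZMod.natCast_self,
        Nat.cast_one, zero_sub, neg_one_mul] at h
      rcases Nat.eq_zero_or_pos j with rfl | hj0
      · rw [mul_zero, pow_zero] at h
        have h1 : orderOf (-(q₀ : ZMod r)) = 1 := by rw [← h, orderOf_one]
        omega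
      have hne0 : -(q₀ : ZMod r) ≠ 0 := fun h0 => by
        rw [h0, orderOf_zero] at hord; omega
      have h1 : (-(q₀ : ZMod r)) ^ (2 * j - 1) = 1 := by
        refine mul_right_cancel₀ hne0 ?_
        rw [← pow_succ, Nat.sub_add_cancel (by omega), one_mul, h]
      have h2 := orderOf_dvd_of_pow_eq_one h1
      rw [hord] at h2
      have := (dvd_mul_right 2 i).trans h2
      omega
  have hsub : T.val ⊆ (P.map (algebraMap F (AdjoinRoot P))).roots := fun t ht => by
    rw [mem_roots (Polynomial.map_ne_zero hirr.ne_zero), IsRoot, eval_map, ← aeval_def]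
    rcases Finset.mem_insert.1 (show t ∈ T from ht) with rfl | ht
    · exact hroot
    · obtain ⟨j, -, rfl⟩ := Finset.mem_image.1 ht
      exact hconj j
  have := card_le_degree_of_subset_roots hsub
  rw [hTcard, natDegree_map, hdeg] at this
  omega

/-- Elements of prime order of PSL_n(q), q = q₀², and the subgroups of unitary type. Here `T = PSL_n(F)` for a field `F` with `q = q₀²` elements (`n ≥ 3`), `f` is a non-degenerate unitary form on `F^n` for the involutory automorphism `x ↦ x^{q₀}`, and `H` is the subgroup of matrices of determinant 1 that preserve `f` up to a scalar — a subgroup of type GU_n(q₀) (maximality is not assumed); Ω is the set of cosets of `H` in `T`, so an element of `T` of prime order `r` (a matrix `x` of determinant 1 with `x^r` scalar, `x` not scalar) fixes a point of Ω exactly when some conjugate of `x` by a matrix of determinant 1 preserves `f` up to a scalar. Let `r` be a prime dividing the index of `H`, with `r = 2` or `r` different from the characteristic `p`, and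 with `(n, r) ≠ (6, 3)`. Then every element of `T` of order `r` fixes a point of Ω if and only if either `r = 2` and (`p = 2` or `(n)_2 ≤ (q − 1)_2`), or `r ∈ {3, 5}`, `n = r` and `(q₀ − 1)_r = r`. (Odd `r = p` and the case `(n, r) = (6, 3)` are not covered by this statement.) -/
theorem result {F : Type*} [Field F] [Fintype F] {p : ℕ} [Fact p.Prime] [CharP F p] {q : ℕ} (hq : Fintype.card F = q)
    (q₀ : ℕ) (hq₀ : q = q₀ ^ 2) (n : ℕ) (hn : 3 ≤ n) (f : (Fin n → F) → (Fin n → F) → F) (hf : Cfsg.Geo.IsUnitaryFormPow q₀ f)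
    (r : ℕ) [Fact r.Prime] (hr : r = 2 ∨ r ≠ p) (hgap : ¬ (n = 6 ∧ r = 3))
    (hΩ : r ∣ (Cfsg.Geo.similarityGroup f).relIndex (Cfsg.Geo.specialLinear (Fin n) F)) :
    (∀ x ∈ Cfsg.Geo.specialLinear (Fin n) F, (∃ z : F, ((x ^ r : GL (Fin n) F) : Matrix (Fin n) (Fin n) F) = z • (1 : Matrix (Fin n) (Fin n) F)) →
      (∀ z : F, (x : Matrix (Fin n) (Fin n) F) ≠ z • (1 : Matrix (Fin n) (Fin n) F)) →
      ∃ g ∈ Cfsg.Geo.specialLinear (Fin n) F, g⁻¹ * x * g ∈ Cfsg.Geo.similarityGroup f) ↔
    ((r = 2 ∧ (p = 2 ∨ padicValNat 2 n ≤ padicValNat 2 (q - 1))) ∨ ((r = 3 ∨ r = 5) ∧ n = r ∧ padicValNat r (q₀ - 1) = 1)) := by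
  open CfsgLib.ThreeTransp.PrimeInv CfsgLib.PrimeOrderSp Polynomial in
  classical
  subst hq₀
  have hrprime : r.Prime := Fact.out
  haveI : Nonempty (Fin n) := ⟨⟨0, by omega⟩⟩
  obtain ⟨τ, J, hτ, hne, hG⟩ := exists_gram hq hf
  have hFn : Nat.card F = q₀ ^ 2 := by rw [Nat.card_eq_fintype_card, hq]
  have hq2 := CfsgLib.Classical.two_le_q hFn
  have hp : p.Prime := Fact.out
  have hpdvd : ∀ l : ℕ, (l : F) = 0 → l.Prime → l = p := fun l hl hlp =>
    ((Nat.prime_dvd_prime_iff_eq hp hlp).1 ((CharP.cast_eq_zero_iff F p l).1 hl)).symm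
  have hpq : p ∣ q₀ := by
    obtain ⟨e, -, he⟩ := FiniteField.card F p
    exact hp.dvd_of_dvd_pow (n := 2) (by rw [← hq, he]; exact dvd_pow_self _ e.pos.ne')
  have hsl : ∀ v : GL (Fin n) F, v ∈ Cfsg.Geo.specialLinear (Fin n) F →
      (v : Matrix (Fin n) (Fin n) F).det = 1 := fun v hv => congrArg Units.val hv
  have hzn : ∀ (v : GL (Fin n) F) (z : F), v ∈ Cfsg.Geo.specialLinear (Fin n) F →
      (v : Matrix (Fin n) (Fin n) F) ^ r = z • 1 → z ^ n = 1 := fun v z hv h => by
    have := congrArg Matrix.det h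
    rw [Matrix.det_pow, hsl v hv, one_pow, Matrix.det_smul, Matrix.det_one, mul_one, Fintype.card_fin] at this
    exact this.symm
  constructor
  · intro hall
    by_contra hcrit
    rw [not_or] at hcrit
    -- transport of a conjugate
    have use' : ∀ (x g : GL (Fin n) F), g⁻¹ * x * g ∈ similarityGroup f → ∃ c : F,
        IsSim τ (J : Matrix (Fin n) (Fin n) F) ((g⁻¹ * x * g : GL (Fin n) F) : Matrix (Fin n) (Fin n) F) c ∧
          τ c = c ∧ c ≠ 0 := fun x g hg => by
      obtain ⟨c, hc⟩ := (hG.mem_similarity_iff _).1 hg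
      exact ⟨c, hc, sim_scalar_fixed hG hc, isSim_ne_zero hc⟩
    have hpowsim : ∀ {y : Matrix (Fin n) (Fin n) F} {c : F}, IsSim τ (J : Matrix (Fin n) (Fin n) F) y c →
        ∀ k : ℕ, IsSim τ (J : Matrix (Fin n) (Fin n) F) (y ^ k) (c ^ k) := fun {y c} hy k => by
      induction k with
      | zero => simpa using isSim_one τ (J : Matrix (Fin n) (Fin n) F)
      | succ k ih => rw [pow_succ, pow_succ]; exact isSim_mul ih hy
    have hconjz : ∀ {x g : GL (Fin n) F} {z : F}, (x : Matrix (Fin n) (Fin n) F) ^ r = z • 1 →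
        ((g⁻¹ * x * g : GL (Fin n) F) : Matrix (Fin n) (Fin n) F) ^ r = z • 1 := fun {x g z} hx => by
      have h := conj_pow (i := r) (a := g⁻¹) (b := x)
      rw [inv_inv] at h
      rw [← Units.val_pow_eq_pow_val, h, Units.val_mul, Units.val_mul, Units.val_pow_eq_pow_val, hx, mul_smul_comm,
        mul_one, smul_mul_assoc, Units.inv_mul]
    rcases eq_or_ne r 2 with rfl | hr2
    · -- a non-square scalar
      have hcr := hcrit.1
      simp only [true_and, not_or, not_le] at hcr
      obtain ⟨hp2, hv⟩ := hcr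
      have h2n : 2 ∣ n := dvd_of_one_le_padicValNat (by omega)
      obtain ⟨k, rfl⟩ := h2n
      have hk0 : k ≠ 0 := by omega
      rw [padicValNat.mul two_ne_zero hk0, padicValNat.self one_lt_two] at hv
      have h2F : ringChar F ≠ 2 := by rw [ringChar.eq F p]; exact hp2
      have hodd : Fintype.card F % 2 = 1 := FiniteField.odd_card_of_char_ne_two h2F
      obtain ⟨u, hu, hnsq⟩ := exists_non_power (r := 2) (F := F) (by omega) (k := k)
        ((pow_dvd_pow 2 (show padicValNat 2 (Fintype.card F - 1) ≤ padicValNat 2 k by rw [hq]; omega)).trans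
          pow_padicValNat_dvd)
      have hq1 : Fintype.card F % 4 ≠ 3 := by
        rw [hq, Nat.pow_mod]
        have : q₀ % 4 < 4 := Nat.mod_lt _ (by norm_num)
        interval_cases q₀ % 4 <;> norm_num
      obtain ⟨ι, hι⟩ := FiniteField.isSquare_neg_one_iff.2 hq1
      have hu0 : u ≠ 0 := fun h => hnsq 0 (by rw [h, zero_pow two_ne_zero])
      have hz : ∀ c : F, c ^ 2 ≠ -u := fun c hc => hnsq (ι * c) (by
        rw [mul_pow, hc, pow_two, ← hι, neg_one_mul, neg_neg])
      let K : Matrix (Fin 2) (Fin 2) F := !![0, -u; 1, 0]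
      let e : Fin k × Fin 2 ≃ Fin (2 * k) := finProdFinEquiv.trans (finCongr (mul_comm k 2))
      let X₀ : Matrix (Fin (2 * k)) (Fin (2 * k)) F :=
        Matrix.reindexAlgEquiv F F e (Matrix.kroneckerMap (· * ·) (1 : Matrix (Fin k) (Fin k) F) K)
      have hdet : X₀.det = 1 := by
        rw [show X₀ = Matrix.reindex e e (Matrix.kroneckerMap (· * ·) (1 : Matrix (Fin k) (Fin k) F) K) from rfl,
          Matrix.det_reindex_self, Matrix.det_kronecker, Matrix.det_one, one_pow, one_mul, Fintype.card_fin]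
        simp [K, Matrix.det_fin_two_of, hu]
      have hK : K * K = (-u) • 1 := by
        ext a b; fin_cases a <;> fin_cases b <;> simp [K, Matrix.mul_apply, Fin.sum_univ_two]
      have hX2 : X₀ ^ 2 = (-u) • 1 := by
        rw [pow_two, ← map_mul, ← Matrix.mul_kronecker_mul, one_mul, hK, Matrix.kronecker_smul,
          Matrix.one_kronecker_one, map_smul, map_one]
      let x : GL (Fin (2 * k)) F := Matrix.GeneralLinearGroup.mkOfDetNeZero X₀ (by rw [hdet]; exact one_ne_zero)
      have hx : x ∈ Cfsg.Geo.specialLinear (Fin (2 * k)) F := Units.ext hdet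
      obtain ⟨g, -, hg⟩ := hall x hx ⟨-u, by rw [Units.val_pow_eq_pow_val]; exact hX2⟩ (fun t ht => by
        have h := hX2
        rw [show X₀ = t • 1 from ht, _root_.smul_pow, one_pow] at h
        exact hz t (smul_left_injective F one_ne_zero h))
      obtain ⟨c, hc, hcτ, hc0⟩ := use' x g hg
      have h1 := hpowsim hc 2
      rw [hconjz (x := x) hX2] at h1
      have h2 := isSim_unique h1 (by simpa using isSim_smul (isSim_one τ (J : Matrix (Fin (2 * k)) (Fin (2 * k)) F)) (-u))
      rw [hτ, ← pow_succ'] at h2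
      have hc1 : c ^ (q₀ - 1) = 1 := by
        refine mul_left_cancel₀ hc0 ?_
        rw [← pow_succ', Nat.sub_add_cancel (by omega), ← hτ, hcτ, mul_one]
      have h3 : (-u) ^ (Fintype.card F / 2) = 1 := by
        obtain ⟨m, hm⟩ : 2 ∣ q₀ - 1 := by
          have : q₀ % 2 = 1 := by
            have := hodd
            rw [hq, Nat.pow_mod] at this
            rcases Nat.mod_two_eq_zero_or_one q₀ with h | h <;> simp [h] at this ⊢
          omega
        have hcard : Fintype.card F / 2 = (q₀ + 1) * m := by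
          have : Fintype.card F - 1 = (q₀ + 1) * (q₀ - 1) := by rw [hq, ← Nat.sq_sub_sq, one_pow]
          rw [hm, mul_left_comm] at this
          omega
        have hev : Even (q₀ + 1) := ⟨m + 1, by omega⟩
        rw [hcard, pow_mul, hev.neg_pow, ← h2, ← pow_mul, ← hm, hc1]
      have hsq := (FiniteField.isSquare_iff h2F (neg_ne_zero.2 hu0)).2 h3
      obtain ⟨b, hb⟩ := hsq
      exact hz b (by rw [pow_two, hb])
    -- odd `r`
    have hrp : r ≠ p := hr.resolve_left hr2
    have hrF : (r : F) ≠ 0 := fun h => hrp (hpdvd r h hrprime)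
    have hrq₀ : ¬ r ∣ q₀ := fun h => by
      obtain ⟨e', -, he'⟩ := FiniteField.card F p
      exact hrp ((Nat.prime_dvd_prime_iff_eq hrprime hp).1 (hrprime.dvd_of_dvd_pow (n := (e' : ℕ)) (by
        rw [← he', hq]; exact h.trans (dvd_pow_self _ two_ne_zero))))
    obtain ⟨m, hm2, hmn, hm⟩ := index_data hq (by omega) hf hr2 hrq₀ hΩ
    set i := orderOf ((Fintype.card F : ℕ) : ZMod r) with hi
    have hi0 : 0 < i := orderOf_card_pos hrF
    have hsq : ((Fintype.card F : ℕ) : ZMod r) = (-(q₀ : ZMod r)) ^ 2 := by rw [hq, Nat.cast_pow, neg_sq]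
    have hneg1 : (-1 : ZMod r) ≠ 1 := fun h => by
      have : ((2 : ℕ) : ZMod r) = 0 := by push_cast; linear_combination -h
      rw [ZMod.natCast_eq_zero_iff] at this
      exact hr2 ((Nat.prime_dvd_prime_iff_eq hrprime Nat.prime_two).1 this)
    have he2 : orderOf (-(q₀ : ZMod r)) ∣ 2 * m := orderOf_dvd_of_pow_eq_one (by
      rw [mul_comm, pow_mul, hm, neg_sq, one_pow])
    have heven : 2 ∣ orderOf (-(q₀ : ZMod r)) := by
      by_contra h
      have h1 := ((Nat.prime_two.coprime_iff_not_dvd.2 h).symm).dvd_of_dvd_mul_left he2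
      exact hneg1 (hm.symm.trans (orderOf_dvd_iff_pow_eq_one.1 h1))
    have hord : orderOf (-(q₀ : ZMod r)) = 2 * i := by
      rw [hi, hsq, orderOf_pow_of_dvd two_ne_zero heven, Nat.mul_div_cancel' heven]
    have him : i ∣ m := by rw [hord] at he2; exact Nat.dvd_of_mul_dvd_mul_left two_pos he2
    have hin : i ≤ n := (Nat.le_of_dvd (by omega) him).trans hmn
    rcases Nat.lt_or_ge i 2 with hi1 | hi2
    swap
    · obtain ⟨x, hx, hns, hxr, hfix⟩ := exists_fix_dim (n := n) (r := r) (e := n - i) (N := 1) hrF hi2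
        (show n - i + 1 * i = n by omega) (by omega)
      rw [Matrix.SpecialLinearGroup.coe_pow] at hx
      obtain ⟨g, -, hg⟩ := hall (Matrix.SpecialLinearGroup.toGL x) (Units.ext x.2)
        ⟨1, by rw [Units.val_pow_eq_pow_val]; exact hx⟩ hns
      obtain ⟨c, hc, -, -⟩ := use' _ g hg
      have h1 := hpowsim hc r
      rw [hconjz (x := Matrix.SpecialLinearGroup.toGL x) hx, one_smul] at h1
      have hc1 : c = 1 := eq_one_of_pow_eq_one (not_dvd_of_two_le hi2) (isSim_unique h1 (isSim_one τ _))
      subst hc1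
      let N : GL (Fin n) F := ⟨((g⁻¹ : GL (Fin n) F) : Matrix (Fin n) (Fin n) F)ᵀ * J *
          ((g⁻¹ : GL (Fin n) F) : Matrix (Fin n) (Fin n) F).map τ,
        ((g : Matrix (Fin n) (Fin n) F).map τ) * ((J⁻¹ : GL (Fin n) F) : Matrix (Fin n) (Fin n) F) *
          (g : Matrix (Fin n) (Fin n) F)ᵀ, by
          calc _ = ((g⁻¹ : GL (Fin n) F) : Matrix (Fin n) (Fin n) F)ᵀ * ((J : Matrix (Fin n) (Fin n) F) *
                (((g⁻¹ : GL (Fin n) F) : Matrix (Fin n) (Fin n) F).map τ * (g : Matrix (Fin n) (Fin n) F).map τ) *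
                ((J⁻¹ : GL (Fin n) F) : Matrix (Fin n) (Fin n) F)) * (g : Matrix (Fin n) (Fin n) F)ᵀ := by
                simp only [mul_assoc]
            _ = 1 := by
              rw [← CfsgLib.Aschbacher.map_mul_equiv, Units.inv_mul, Matrix.map_one τ (map_zero τ) (map_one τ),
                mul_one, Units.mul_inv, mul_one, ← Matrix.transpose_mul, Units.mul_inv, Matrix.transpose_one], by
          calc _ = (g : Matrix (Fin n) (Fin n) F).map τ * (((J⁻¹ : GL (Fin n) F) : Matrix (Fin n) (Fin n) F) *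
                ((g : Matrix (Fin n) (Fin n) F)ᵀ * ((g⁻¹ : GL (Fin n) F) : Matrix (Fin n) (Fin n) F)ᵀ) *
                (J : Matrix (Fin n) (Fin n) F)) * ((g⁻¹ : GL (Fin n) F) : Matrix (Fin n) (Fin n) F).map τ := by
                simp only [mul_assoc]
            _ = 1 := by
              rw [← Matrix.transpose_mul, Units.inv_mul, Matrix.transpose_one, mul_one, Units.inv_mul, mul_one,
                ← CfsgLib.Aschbacher.map_mul_equiv, Units.mul_inv, Matrix.map_one τ (map_zero τ) (map_one τ)]⟩
      have hJN : (J : Matrix (Fin n) (Fin n) F) =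
          (g : Matrix (Fin n) (Fin n) F)ᵀ * N * (g : Matrix (Fin n) (Fin n) F).map τ := by
        calc (J : Matrix (Fin n) (Fin n) F)
            = ((g : Matrix (Fin n) (Fin n) F)ᵀ * ((g⁻¹ : GL (Fin n) F) : Matrix (Fin n) (Fin n) F)ᵀ) * J *
              (((g⁻¹ : GL (Fin n) F) : Matrix (Fin n) (Fin n) F).map τ * (g : Matrix (Fin n) (Fin n) F).map τ) := by
              rw [← Matrix.transpose_mul, Units.inv_mul, Matrix.transpose_one, one_mul,
                ← CfsgLib.Aschbacher.map_mul_equiv, Units.inv_mul, Matrix.map_one τ (map_zero τ) (map_one τ), mul_one]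
          _ = _ := by simp only [N, mul_assoc]
      have h2 := isSim_conj g hJN hc
      rw [← Units.val_mul, ← Units.val_mul,
        show g * (g⁻¹ * Matrix.SpecialLinearGroup.toGL x * g) * g⁻¹ = Matrix.SpecialLinearGroup.toGL x by group] at h2
      refine no_single hq hτ hrF hord hxr ?_ h2
      have hrk := LinearMap.finrank_range_add_finrank_ker (Matrix.toLin' (x : Matrix (Fin n) (Fin n) F) - 1)
      rw [Module.finrank_fin_fun] at hrk
      rw [movSp]
      rw [fixSp] at hfix
      omega
    -- `q₀ ≡ 1`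
    have hi1' : i = 1 := by omega
    have hrq : r ∣ Fintype.card F - 1 := orderOf_eq_one_iff_dvd.1 hi1'
    have hq₀1 : (q₀ : ZMod r) = 1 := by
      have h1 := pow_orderOf_eq_one (-(q₀ : ZMod r))
      rw [hord, hi1', mul_one, pow_two] at h1
      rcases mul_self_eq_one_iff.1 h1 with h2 | h2
      · rw [h2, orderOf_one] at hord; omega
      · exact neg_injective h2
    have hrq₁ : r ∣ q₀ - 1 := by
      rw [← ZMod.natCast_eq_zero_iff, Nat.cast_sub (by omega), hq₀1, Nat.cast_one, sub_self]
    obtain ⟨M, z, hcard, hprod, hz0, hMr, ⟨a, ha, b, hb, hab⟩, hbad⟩ :=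
      CfsgLib.ThreeTransp.EigenSym.exists_asym hr2 hrq hq₀1 hn hgap (fun hrn hn35 => by
        have hv : padicValNat r (q₀ - 1) ≠ 1 := fun h => hcrit.2 ⟨by omega, hrn.symm, h⟩
        have h1 : 1 ≤ padicValNat r (q₀ - 1) := one_le_padicValNat_of_dvd (by omega) hrq₁
        have h2 : Fintype.card F - 1 = (q₀ + 1) * (q₀ - 1) := by rw [hq, ← Nat.sq_sub_sq, one_pow]
        rw [h2, padicValNat.mul (by omega) (by omega)]
        omega)
    let e : Fin n ≃ Fin M.toList.length := finCongr (by rw [Multiset.length_toList, hcard])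
    let d : Fin n → F := fun j => M.toList.get (e j)
    have hd : Multiset.map d (Finset.univ : Finset (Fin n)).val = M := by
      have h1 : (Finset.univ : Finset (Fin n)).val.map e = (Finset.univ : Finset (Fin M.toList.length)).val :=
        congrArg Finset.val (Finset.map_univ_equiv e)
      rw [show d = M.toList.get ∘ e from rfl, ← Multiset.map_map, h1, Fin.univ_val_map]
      exact (congrArg _ (List.ofFn_get _)).trans (Multiset.coe_toList M)
    have hdet : (Matrix.diagonal d).det = 1 := by
      rw [Matrix.det_diagonal]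
      show (Multiset.map d (Finset.univ : Finset (Fin n)).val).prod = 1
      rw [hd, hprod]
    have hdmem : ∀ j, d j ∈ M := fun j => Multiset.mem_toList.1 (List.get_mem _ _)
    have hdr : Matrix.diagonal d ^ r = z • (1 : Matrix (Fin n) (Fin n) F) := by
      rw [Matrix.diagonal_pow, Matrix.smul_one_eq_diagonal]
      exact congrArg _ (funext fun j => hMr _ (hdmem j))
    let x : GL (Fin n) F := Matrix.GeneralLinearGroup.mkOfDetNeZero (Matrix.diagonal d) (by rw [hdet]; exact one_ne_zero)
    obtain ⟨g, -, hg⟩ := hall x (Units.ext hdet) ⟨z, by rw [Units.val_pow_eq_pow_val]; exact hdr⟩ (fun t ht => by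
      have ht' : Matrix.diagonal d = t • (1 : Matrix (Fin n) (Fin n) F) := ht
      rw [Matrix.smul_one_eq_diagonal] at ht'
      have hdt := Matrix.diagonal_injective ht'
      rw [← hd, Multiset.mem_map] at ha hb
      obtain ⟨u, -, rfl⟩ := ha
      obtain ⟨v, -, rfl⟩ := hb
      rw [hdt] at hab
      exact hab rfl)
    obtain ⟨c, hc, -, -⟩ := use' x g hg
    rw [Units.val_mul, Units.val_mul] at hc
    have h := stable_of_sim (fun j h0 => hz0 (by
      rw [← hMr _ (hdmem j), h0, zero_pow hrprime.ne_zero])) hc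
    refine hbad c ?_
    rw [← hd, Multiset.map_map, Multiset.map_map]
    simpa only [Function.comp_def, hτ] using h
  · intro hcrit x hx ⟨z, hz⟩ hns
    rw [Units.val_pow_eq_pow_val] at hz
    have hzn' := hzn x z hx hz
    have hdetc : ∀ d : Fin n → F, (∀ j, d j ≠ 0) → ∀ D : GL (Fin n) F,
        (D : Matrix (Fin n) (Fin n) F) = Matrix.diagonal d →
        ∀ t : Fˣ, ∃ h : GL (Fin n) F, h * D = D * h ∧ Matrix.GeneralLinearGroup.det h = t := fun d hd D hD t => by
      let v : Fin n → F := fun j => if j = ⟨0, by omega⟩ then (t : F) else 1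
      have hdv : (Matrix.diagonal v).det = (t : F) := by simp [Matrix.det_diagonal, v]
      have hdv' : (Matrix.diagonal v).det ≠ 0 := by rw [hdv]; exact t.ne_zero
      refine ⟨Matrix.GeneralLinearGroup.mkOfDetNeZero _ hdv', Units.ext ?_, Units.ext hdv⟩
      rw [Units.val_mul, Units.val_mul, hD]
      show Matrix.diagonal v * Matrix.diagonal d = Matrix.diagonal d * Matrix.diagonal v
      rw [Matrix.diagonal_mul_diagonal, Matrix.diagonal_mul_diagonal]
      exact congrArg _ (funext fun j => mul_comm _ _)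
    rcases hcrit with ⟨rfl, hor⟩ | ⟨hr35, hnr, hv⟩
    · by_cases hp2 : p = 2
      · subst hp2
        exact invol_conj hne hG x hz hns (by omega)
      · have hv := hor.resolve_left hp2
        have hr2F : ((2 : ℕ) : F) ≠ 0 := fun h => hp2 (hpdvd 2 h Nat.prime_two).symm
        have h2F : ringChar F ≠ 2 := by rw [ringChar.eq F p]; exact hp2
        have hodd : Fintype.card F % 2 = 1 := FiniteField.odd_card_of_char_ne_two h2F
        obtain ⟨c, rfl⟩ : ∃ c, c ^ 2 = z := by
          by_contra hpow
          push Not at hpow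
          obtain ⟨-, -, t, hnt, hdet⟩ := killed_of_root (r := 2) hr2F hz hpow
          rw [hsl x hx] at hdet
          norm_num at hdet
          have ht0 : t ≠ 0 := by omega
          have hq1 : Fintype.card F % 4 ≠ 3 := by
            rw [hq, Nat.pow_mod]
            have : q₀ % 4 < 4 := Nat.mod_lt _ (by norm_num)
            interval_cases q₀ % 4 <;> norm_num
          obtain ⟨ι, hι⟩ := FiniteField.isSquare_neg_one_iff.2 hq1
          have := padic_le_of_pow (r := 2) (u := -z) (fun c hc => hpow (ι * c) (by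
            rw [mul_pow, hc, pow_two, ← hι, neg_one_mul, neg_neg])) hdet.symm ht0
          rw [hnt, padicValNat.mul two_ne_zero ht0, padicValNat.self one_lt_two, ← hq] at hv
          omega
        have hc : c ≠ 0 := fun h => by
          rw [h, zero_pow two_ne_zero, zero_pow (by omega)] at hzn'
          exact zero_ne_one hzn'
        have hrq : 2 ∣ Fintype.card F - 1 := by omega
        obtain ⟨d, hchar, hd⟩ := CfsgLib.ThreeTransp.DiagModel.exists_roots (r := 2) hrq hz
        have hd0 : ∀ j, d j ≠ 0 := fun j h => pow_ne_zero 2 hc (by rw [← hd j, h, zero_pow two_ne_zero])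
        let D : GL (Fin n) F := Matrix.GeneralLinearGroup.mkOfDetNeZero (Matrix.diagonal d) (by
          rw [Matrix.det_diagonal]; exact Finset.prod_ne_zero_iff.2 fun j _ => hd0 j)
        have hsim : ∀ j, d j * τ (d j) = c * τ c := fun j => by
          rcases sq_eq_sq_iff_eq_or_eq_neg.1 (hd j) with h | h <;> simp [h]
        exact exists_conj_mem hne hG (D := D) (M := permGL F id fun _ => rfl) (permForm_herm τ fun _ => rfl)
          (isSim_diag τ (π := id) hsim)
          (CfsgLib.ThreeTransp.DiagModel.isConj_diag hr2F (pow_ne_zero 2 hc) hz hd rfl hchar) (hdetc d hd0 D rfl)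
    · obtain rfl : r = n := hnr.symm
      haveI : NeZero r := ⟨hrprime.ne_zero⟩
      have hr2 : r ≠ 2 := by omega
      have hrp : r ≠ p := hr.resolve_left hr2
      have hrF : (r : F) ≠ 0 := fun h => hrp (hpdvd r h hrprime)
      have hrq₁ : r ∣ q₀ - 1 := dvd_of_one_le_padicValNat (by rw [hv])
      have hq1 : Fintype.card F - 1 = (q₀ + 1) * (q₀ - 1) := by rw [hq, ← Nat.sq_sub_sq, one_pow]
      have hrq : r ∣ Fintype.card F - 1 := hq1 ▸ hrq₁.mul_left _
      have hrp1 : ¬ r ∣ q₀ + 1 := fun h => by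
        have h2 := Nat.dvd_sub h hrq₁
        rw [show q₀ + 1 - (q₀ - 1) = 2 by omega] at h2
        exact hr2 ((Nat.prime_dvd_prime_iff_eq hrprime Nat.prime_two).1 h2)
      have hvq : padicValNat r (Fintype.card F - 1) = 1 := by
        rw [hq1, padicValNat.mul (by omega) (by omega), padicValNat.eq_zero_of_not_dvd hrp1, hv]
      have hzr : z = 1 := by
        by_cases hpow : ∃ c, c ^ r = z
        · obtain ⟨c, rfl⟩ := hpow
          have hc : c ≠ 0 := fun h => by
            rw [h, zero_pow hrprime.ne_zero, zero_pow hrprime.ne_zero] at hzn'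
            exact zero_ne_one hzn'
          have h1 : c ^ Nat.gcd (r * r) (Fintype.card F - 1) = 1 :=
            pow_gcd_eq_one.2 ⟨by rw [pow_mul]; exact hzn', FiniteField.pow_card_sub_one_eq_one c hc⟩
          have h2 : Nat.gcd (r * r) (Fintype.card F - 1) ∣ r := by
            rw [← pow_two]
            obtain ⟨j, hj, hj'⟩ := (Nat.dvd_prime_pow hrprime).1 (Nat.gcd_dvd_left (r ^ 2) (Fintype.card F - 1))
            rw [hj']
            have h3 : r ^ j ∣ Fintype.card F - 1 := hj' ▸ Nat.gcd_dvd_right (r ^ 2) (Fintype.card F - 1)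
            have h4 := (padicValNat_dvd_iff_le (show Fintype.card F - 1 ≠ 0 by
              have := Fintype.one_lt_card (α := F); omega)).1 h3
            rw [hvq] at h4
            rcases (show j = 0 ∨ j = 1 by omega) with rfl | rfl <;> simp
          obtain ⟨l, hl⟩ := h2
          rw [hl, pow_mul, h1, one_pow]
        · push Not at hpow
          obtain ⟨-, -, t, hnt, hdet⟩ := killed_of_root hrF hz hpow
          rw [hsl x hx, ((hrprime.odd_of_ne_two hr2).add_one).neg_one_pow, one_mul] at hdet
          have : t = 1 := by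
            have := Nat.eq_of_mul_eq_mul_left hrprime.pos ((mul_one r).trans hnt)
            omega
          rw [this, pow_one] at hdet
          exact absurd ((one_pow r).trans hdet) (hpow 1)
      subst hzr
      obtain ⟨d, hchar, hd⟩ := CfsgLib.ThreeTransp.DiagModel.exists_roots (r := r) (c := (1 : F))
        (x := (x : Matrix (Fin r) (Fin r) F)) hrq (by rw [one_pow]; exact hz)
      simp only [one_pow] at hd
      obtain ⟨ζu, hζu⟩ := exists_prime_orderOf_dvd_card r (G := Fˣ) (by rw [Fintype.card_units]; exact hrq)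
      set ζ : F := (ζu : F) with hζ
      have hprim : IsPrimitiveRoot ζ r := by
        rw [hζ, ← hζu, ← orderOf_units]; exact IsPrimitiveRoot.orderOf _
      let Z : ZMod r → F := fun a => ζ ^ a.val
      have hZadd : ∀ a b, Z a * Z b = Z (a + b) := fun a b => by
        simp only [Z, ← pow_add, ZMod.val_add]
        exact pow_eq_pow_mod _ hprim.pow_eq_one
      have hZinj : Function.Injective Z := fun a b h =>
        ZMod.val_injective r (hprim.pow_inj (ZMod.val_lt a) (ZMod.val_lt b) h)
      have hlog : ∀ j, ∃ a : ZMod r, Z a = d j := fun j => by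
        obtain ⟨a, ha, hae⟩ := hprim.eq_pow_of_pow_eq_one (hd j)
        exact ⟨(a : ZMod r), by rw [← hae]; simp [Z, ZMod.val_natCast, Nat.mod_eq_of_lt ha]⟩
      choose a ha using hlog
      let cnt : ZMod r → ℕ := fun b => (Multiset.map a (Finset.univ : Finset (Fin r)).val).count b
      have hcard : Multiset.card (Multiset.map a (Finset.univ : Finset (Fin r)).val) = r := by simp
      have hsum : ∑ b, cnt b = r := (Multiset.sum_count_eq_card fun b _ => Finset.mem_univ b).trans hcard
      have hprod : ∏ j, d j = 1 := by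
        have h := congrArg (Polynomial.eval 0) hchar
        rw [← Polynomial.coeff_zero_eq_eval_zero, Polynomial.eval_prod] at h
        have h2 := Matrix.det_eq_sign_charpoly_coeff (x : Matrix (Fin r) (Fin r) F)
        rw [hsl x hx, h] at h2
        simp only [eval_sub, eval_X, eval_C, zero_sub, Finset.prod_neg, Finset.card_univ, Fintype.card_fin,
          ← mul_assoc, ← mul_pow] at h2
        simpa using h2.symm
      have hZsum : ∀ S : Finset (Fin r), ∏ j ∈ S, Z (a j) = Z (∑ j ∈ S, a j) := fun S => by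
        induction S using Finset.induction_on with
        | empty => simp [Z]
        | insert j S hj ih => rw [Finset.prod_insert hj, Finset.sum_insert hj, ih, hZadd]
      have hsum0 : ∑ j, a j = 0 := hZinj (by rw [← hZsum]; simpa [ha, Z] using hprod)
      have hs : ∑ b, (cnt b : ZMod r) * b = 0 := by
        rw [← hsum0, ← Finset.sum_fiberwise (Finset.univ : Finset (Fin r)) a a]
        refine Finset.sum_congr rfl fun b _ => ?_
        rw [Finset.sum_congr rfl (fun j hj => (Finset.mem_filter.1 hj).2), Finset.sum_const, nsmul_eq_mul]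
        congr 2
        simp only [cnt, Multiset.count_map, ← Finset.filter_val, Finset.card_val, eq_comm]
      obtain ⟨b, hb⟩ := CfsgLib.ThreeTransp.EigenSym.exists_sym (by omega) cnt hsum hs
      obtain ⟨v, π, hπ, hvπ, hvcnt⟩ := CfsgLib.ThreeTransp.EigenSym.exists_invol cnt hsum (fun a => b + b - a)
        (fun a => sub_sub_cancel _ _) hb
      have hmulti : Multiset.map v (Finset.univ : Finset (Fin r)).val = Multiset.map a (Finset.univ : Finset (Fin r)).val :=
        Multiset.ext.2 hvcnt
      let d' : Fin r → F := fun j => Z (v j)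
      have hd'0 : ∀ j, d' j ≠ 0 := fun j => pow_ne_zero _ ζu.ne_zero
      have hd'r : ∀ j, d' j ^ r = 1 := fun j => by
        simp only [d', Z]; rw [← pow_mul, mul_comm, pow_mul, hprim.pow_eq_one, one_pow]
      let D : GL (Fin r) F := Matrix.GeneralLinearGroup.mkOfDetNeZero (Matrix.diagonal d') (by
        rw [Matrix.det_diagonal]; exact Finset.prod_ne_zero_iff.2 fun j _ => hd'0 j)
      have hchar' : (x : Matrix (Fin r) (Fin r) F).charpoly = ∏ j, (X - C (d' j)) := by
        rw [hchar, Finset.prod_eq_multiset_prod, Finset.prod_eq_multiset_prod]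
        refine congrArg Multiset.prod ?_
        have h := congrArg (Multiset.map fun b => (X - C (Z b) : F[X])) hmulti
        rw [Multiset.map_map, Multiset.map_map] at h
        simpa only [Function.comp_def, ha] using h.symm
      have hs1 : (q₀ : ZMod r) = 1 := by
        have := (ZMod.natCast_eq_zero_iff _ r).2 hrq₁
        rw [Nat.cast_sub (by omega), Nat.cast_one, sub_eq_zero] at this
        exact this
      have hsim : ∀ j, d' j * τ (d' (π j)) = Z (b + b) := fun j => by
        have hq' : q₀ % r = 1 := by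
          have h := congrArg ZMod.val hs1
          rwa [ZMod.val_natCast, ZMod.val_one] at h
        rw [hτ, pow_eq_pow_mod q₀ (hd'r _), hq', pow_one]
        simp only [d', hvπ, hZadd, add_sub_cancel]
      exact exists_conj_mem hne hG (D := D) (M := permGL F π hπ) (permForm_herm τ hπ) (isSim_diag τ hsim)
        (CfsgLib.ThreeTransp.DiagModel.isConj_diag hrF one_ne_zero hz hd'r rfl hchar') (hdetc d' hd'0 D rfl)

end Cfsg.Agent.S5982
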