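import Cfsg.Statements.S5984
import Cfsg.Agent.Lib.ThreeTransp.PolarPair
import Cfsg.Agent.Lib.ThreeTransp.CycloClass
import Cfsg.Agent.Lib.ThreeTransp.DiagModel
import Cfsg.Agent.Lib.AschbacherForm.UnitBase
import Cfsg.Agent.Lib.KnownB.UnitaryConj
import Cfsg.Agent.Lib.Classical.UnitarySU

set_option autoImplicit false
set_option maxHeartbeats 2000000
open scoped MatrixGroups
open Cfsg

namespace Cfsg.Agent.S5984

/-- Elements of prime order of PSU_n(q) and the stabilizers of pairs of complementary totally singular subspaces. Here `T = PSU_n(q)` is realised through `SU_n(q)`, the matrices of determinant 1 over the field `F` with `q²` elements preserving the hermitian form `Σ uᵢ vᵢ^q`, with `n ≥ 4` even; `D` is a pair of complementary subspaces of dimension `n/2` on each of which the form vanishes identically, and `H` is the subgroup of `SU_n(q)` fixing or interchanging the two members — a subgroup of type GL_{n/2}(q²).2 (maximality is not assumed). Ω is the set of cosets of `H`, so an element of `T` of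 prime order `r` (`x ∈ SU_n(q)` with `x^r` scalar, `x` not scalar) fixes a point of Ω exactly when some `SU_n(q)`-conjugate of `x` lies in `H`. Let `r` be a prime dividing the index of `H`. Then every element of `T` of order `r` fixes a point of Ω if and only if `r = 2`, `q` is odd and `(q + 1)_2 ≤ (n)_2` (2-parts). -/
theorem result {F : Type*} [Field F] [Fintype F] {p : ℕ} [Fact p.Prime] [CharP F p] {q : ℕ} (hq : Fintype.card F = q ^ 2)
    (n : ℕ) (hn : 4 ≤ n) (he : Even n) (D : Fin 2 → Submodule F (Fin n → F)) (hD : Cfsg.Geo.IsMDecomposition (n / 2) D)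
    (hDs : ∀ i, Cfsg.Geo.IsTotallySingularFor (Cfsg.hermForm n F q) (D i))
    (r : ℕ) [Fact r.Prime]
    (hΩ : r ∣ (Cfsg.Geo.decompositionStabilizer D).relIndex (Cfsg.GU n F q ⊓ Cfsg.Geo.specialLinear (Fin n) F)) :
    (∀ x ∈ Cfsg.GU n F q ⊓ Cfsg.Geo.specialLinear (Fin n) F, (∃ z : F, ((x ^ r : GL (Fin n) F) : Matrix (Fin n) (Fin n) F) = z • (1 : Matrix (Fin n) (Fin n) F)) →
      (∀ z : F, (x : Matrix (Fin n) (Fin n) F) ≠ z • (1 : Matrix (Fin n) (Fin n) F)) →
      ∃ g ∈ Cfsg.GU n F q ⊓ Cfsg.Geo.specialLinear (Fin n) F, g⁻¹ * x * g ∈ Cfsg.Geo.decompositionStabilizer D) ↔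
    (r = 2 ∧ Odd q ∧ padicValNat 2 (q + 1) ≤ padicValNat 2 n) := by
  open Matrix CfsgLib.ThreeTransp CfsgLib.ThreeTransp.PolarPair in
  classical
  have hr : r.Prime := Fact.out
  have hpp : p.Prime := Fact.out
  obtain ⟨τ, hU⟩ := CfsgLib.AschbacherForm.exists_uform hq n
  have hτ : ∀ x, τ x = x ^ q := hU.pow
  have hτ2 : ∀ x, τ (τ x) = x := hU.invol
  have hτne : (τ : F →+* F) ≠ RingHom.id F := fun h => hU.ne (RingEquiv.ext fun a => RingHom.congr_fun h a)
  have hq2 : 2 ≤ q := hU.q_pos
  obtain ⟨m₀, -, hm₀⟩ := FiniteField.card F p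
  have hqp : ∀ s : ℕ, s.Prime → s ∣ q → s = p := fun s hs h => by
    have : s ∣ p ^ (m₀ : ℕ) := by rw [← hm₀, hq]; exact dvd_pow h two_ne_zero
    exact (Nat.prime_dvd_prime_iff_eq hs hpp).1 (hs.dvd_of_dvd_pow this)
  have hpq : p ∣ q := by
    refine hpp.dvd_of_dvd_pow (n := 2) ?_
    rw [← hq, hm₀]; exact dvd_pow_self p (PNat.ne_zero m₀)
  have hmem : ∀ g : GL (Fin n) F, g ∈ Cfsg.GU n F q ↔
      (g : Matrix (Fin n) (Fin n) F)ᵀ * (g : Matrix (Fin n) (Fin n) F).map τ = 1 :=
    fun g => CfsgLib.KnownB.PSLAut.mem_GU_iff hτ g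
  have hmemA : ∀ g : GL (Fin n) F, g ∈ Cfsg.GU n F q ↔
      CfsgLib.KnownB.UnitaryConj.adj (τ : F →+* F) (g : Matrix (Fin n) (Fin n) F) * g = 1 :=
    fun g => CfsgLib.KnownB.UnitaryConj.mem_GU_iff_adj (σ := (τ : F →+* F)) hτ2 hτ g
  have hsl : ∀ v : GL (Fin n) F, v ∈ Cfsg.Geo.specialLinear (Fin n) F →
      (v : Matrix (Fin n) (Fin n) F).det = 1 := fun v hv => congrArg Units.val hv
  have hsl' : ∀ v : GL (Fin n) F, (v : Matrix (Fin n) (Fin n) F).det = 1 →
      v ∈ Cfsg.Geo.specialLinear (Fin n) F := fun v hv => Units.ext hv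
  obtain ⟨k, hk⟩ : ∃ k, n = 2 * k := ⟨n / 2, by obtain ⟨a, ha⟩ := he; omega⟩
  have hk2 : n / 2 = k := by omega
  let e : Fin k ⊕ Fin k ≃ Fin n := finSumFinEquiv.trans (finCongr (by omega))
  have hpolar : IsPolar q (D 0) (D 1) := by
    refine ⟨⟨?_, codisjoint_iff.2 (eq_top_iff.2 (hD.iSup_eq_top ▸ iSup_le fun i => ?_))⟩, hDs 0, hDs 1⟩
    · exact hD.indep.pairwiseDisjoint (by decide)
    · fin_cases i
      · exact le_sup_left
      · exact le_sup_right
  obtain ⟨P₀, hP₀, hD0, hD1⟩ := hpolar.exists_basis hτ hτ2 e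
  have hne01 : D 0 ≠ D 1 := fun h => by
    have h1 := hpolar.compl.disjoint
    rw [← h, disjoint_self] at h1
    have := hD.finrank_eq 0
    rw [h1, finrank_bot] at this
    omega
  -- the rank facts
  have hrank : ∀ y : GL (Fin n) F, y ∈ Cfsg.GU n F q → y ∈ Cfsg.Geo.decompositionStabilizer D →
      ∀ c : F, c * τ c = 1 →
        Even ((y : Matrix (Fin n) (Fin n) F) - c • 1).rank ∨
          (k ≤ ((y : Matrix (Fin n) (Fin n) F) - c • 1).rank ∧
            ∀ z : F, (y : Matrix (Fin n) (Fin n) F) ^ r = z • 1 → r = 2) := by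
    rintro y hy ⟨σp, hσp⟩ c hc
    have h10 : ∀ i : Fin 2, i ≠ 0 → i = 1 := by decide
    by_cases h0 : σp 0 = 0
    · left
      have h1 : σp 1 = 1 := h10 _ fun h => absurd (σp.injective (h.trans h0.symm)) (by decide)
      refine even_rank hτ2 hP₀ ((hmem y).1 hy) ?_ ?_ hc
      · rw [← hD0]; have := hσp 0; rwa [h0] at this
      · rw [← hD1]; have := hσp 1; rwa [h1] at this
    · right
      have e01 := hσp 0
      rw [h10 _ h0] at e01
      have e10 := hσp 1
      rw [show σp 1 = 0 by
        by_contra h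
        exact absurd (σp.injective ((h10 _ h).trans (h10 _ h0).symm)) (by decide)] at e10
      refine ⟨?_, fun z hz => ?_⟩
      · have h := le_rank_of_swap hpolar.compl.disjoint e01 c
        rwa [hD.finrank_eq 0, hk2] at h
      · by_contra hr2
        obtain ⟨m, hm⟩ := hr.odd_of_ne_two hr2
        have key : ∀ j, (D 0).map (Matrix.toLin' ((y : Matrix (Fin n) (Fin n) F) ^ (2 * j + 1))) = D 1 := by
          intro j
          induction j with
          | zero => rwa [mul_zero, zero_add, pow_one]
          | succ j ih =>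
            rw [show 2 * (j + 1) + 1 = (2 * j + 1) + 1 + 1 by ring, pow_succ', pow_succ', Matrix.toLin'_mul,
              Submodule.map_comp, Matrix.toLin'_mul, Submodule.map_comp, ih, e10, e01]
        have hkey := key m
        rw [← hm, hz] at hkey
        have hle : D 1 ≤ D 0 := by
          rw [← hkey]
          rintro _ ⟨w, hw, rfl⟩
          rw [Matrix.toLin'_apply, Matrix.smul_mulVec, Matrix.one_mulVec]
          exact (D 0).smul_mem z hw
        exact hne01 (Submodule.eq_of_le_of_finrank_eq hle (by rw [hD.finrank_eq, hD.finrank_eq])).symm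
  constructor
  · intro h
    by_contra hcon
    suffices hbad : ∃ (x : GL (Fin n) F) (z c : F), x ∈ Cfsg.GU n F q ⊓ Cfsg.Geo.specialLinear (Fin n) F ∧
        (x : Matrix (Fin n) (Fin n) F) ^ r = z • 1 ∧ (∀ w : F, (x : Matrix (Fin n) (Fin n) F) ≠ w • 1) ∧
        c * τ c = 1 ∧ Odd ((x : Matrix (Fin n) (Fin n) F) - c • 1).rank ∧
        (r ≠ 2 ∨ ((x : Matrix (Fin n) (Fin n) F) - c • 1).rank < k) by
      obtain ⟨x, z, c, hx, hxr, hns, hc, hodd, hlast⟩ := hbad
      obtain ⟨g, hg, hst⟩ := h x hx ⟨z, by rw [Units.val_pow_eq_pow_val]; exact hxr⟩ hns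
      have hg' := (Subgroup.mem_inf.1 hg).1
      have hyU : g⁻¹ * x * g ∈ Cfsg.GU n F q := mul_mem (mul_mem (inv_mem hg') (Subgroup.mem_inf.1 hx).1) hg'
      have hrk : (((g⁻¹ * x * g : GL (Fin n) F) : Matrix (Fin n) (Fin n) F) - c • 1).rank =
          ((x : Matrix (Fin n) (Fin n) F) - c • 1).rank := by
        have : ((g⁻¹ * x * g : GL (Fin n) F) : Matrix (Fin n) (Fin n) F) - c • 1 =
            ((g⁻¹ : GL (Fin n) F) : Matrix (Fin n) (Fin n) F) * ((x : Matrix (Fin n) (Fin n) F) - c • 1) * g := by
          rw [mul_sub, sub_mul, mul_smul_comm, mul_one, smul_mul_assoc, Units.inv_mul, Units.val_mul, Units.val_mul]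
        rw [this, Matrix.rank_mul_eq_left_of_isUnit_det _ _ ((Matrix.isUnit_iff_isUnit_det _).1 g.isUnit),
          Matrix.rank_mul_eq_right_of_isUnit_det _ _ ((Matrix.isUnit_iff_isUnit_det _).1 (g⁻¹).isUnit)]
      rcases hrank _ hyU hst c hc with hev | ⟨hle, hr2⟩
      · rw [hrk] at hev
        exact Nat.not_even_iff_odd.2 hodd hev
      · rw [hrk] at hle
        have := hr2 z (by
          have hc' := conj_pow (a := g⁻¹) (b := x) (i := r)
          rw [inv_inv] at hc'
          rw [← Units.val_pow_eq_pow_val, hc', Units.val_mul, Units.val_mul, Units.val_pow_eq_pow_val, hxr,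
            mul_smul_comm, mul_one, smul_mul_assoc, Units.inv_mul])
        rcases hlast with hl | hl
        · exact hl this
        · omega
    have hτfix : ∃ l : F, l ≠ 0 ∧ τ l = -l := by
      obtain ⟨a, ha⟩ : ∃ a, τ a ≠ a := by
        by_contra hc
        push Not at hc
        exact hU.ne (RingEquiv.ext hc)
      exact ⟨a - τ a, sub_ne_zero.2 (Ne.symm ha), by rw [map_sub, hτ2]; ring⟩
    by_cases hrp : r = p
    · -- a transvection
      subst hrp
      obtain ⟨μ, hμ⟩ := CfsgLib.Geometry.exists_norm_eq hτne hτ2 (c := (-1 : F)) (by simp)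
      obtain ⟨l, hl0, hl⟩ := hτfix
      let i0 : Fin n := ⟨0, by omega⟩
      let i1 : Fin n := ⟨1, by omega⟩
      have h01 : i0 ≠ i1 := by simp [i0, i1, Fin.ext_iff]
      let v : Fin n → F := Pi.single i0 1 + Pi.single i1 μ
      have hvv : (τ ∘ v) ⬝ᵥ v = 0 := by
        have hv : τ ∘ v = Pi.single i0 1 + Pi.single i1 (τ μ) := by
          funext j; simp [v, Pi.single_apply, apply_ite τ]
        rw [hv, add_dotProduct, single_dotProduct, single_dotProduct]
        simp [v, Pi.single_apply, h01, h01.symm]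
        have : μ * τ μ = -1 := hμ
        linear_combination this
      let X : Matrix (Fin n) (Fin n) F := 1 + l • vecMulVec v (τ ∘ v)
      have hsq : (l • vecMulVec v (τ ∘ v)) * (l • vecMulVec v (τ ∘ v)) = 0 := by
        rw [smul_mul_smul_comm, vecMulVec_mul_vecMulVec, hvv]; simp
      have hinv : X * (1 - l • vecMulVec v (τ ∘ v)) = 1 := by
        show (1 + l • vecMulVec v (τ ∘ v)) * (1 - l • vecMulVec v (τ ∘ v)) = 1
        rw [add_mul, one_mul, mul_sub, mul_one, hsq]; abel
      let x : GL (Fin n) F := ⟨X, 1 - l • vecMulVec v (τ ∘ v), hinv, mul_eq_one_comm.1 hinv⟩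
      have hXU : Xᵀ * X.map τ = 1 := by
        have h1 : Xᵀ = 1 + l • vecMulVec (τ ∘ v) v := by
          simp [X, Matrix.transpose_vecMulVec]
        have h2 : X.map τ = 1 + τ l • vecMulVec (τ ∘ v) v := by
          ext a b
          simp [X, Matrix.vecMulVec_apply, Matrix.one_apply, apply_ite τ, hτ2]
        rw [h1, h2, add_mul, one_mul, mul_add, mul_one, smul_mul_smul_comm, vecMulVec_mul_vecMulVec, dotProduct_comm,
          hvv, hl]
        simp [neg_smul]
      have hdet : X.det = 1 := by
        show (1 + l • vecMulVec v (τ ∘ v)).det = 1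
        rw [← Matrix.smul_vecMulVec, Matrix.vecMulVec_eq Unit, Matrix.det_one_add_replicateCol_mul_replicateRow,
          dotProduct_smul, hvv, smul_zero, add_zero]
      have hr1 : (X - (1 : F) • 1).rank = 1 := by
        rw [one_smul, show X - 1 = vecMulVec (l • v) (τ ∘ v) by rw [Matrix.smul_vecMulVec]; simp [X]]
        refine le_antisymm (Matrix.rank_vecMulVec_le _ _) ?_
        rw [Nat.one_le_iff_ne_zero, Matrix.rank, Ne, Submodule.finrank_eq_zero, LinearMap.range_eq_bot]
        intro h0
        have := congrFun (LinearMap.congr_fun h0 (Pi.single i0 1)) i0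
        simp [Matrix.vecMulVec, Matrix.mulVec, dotProduct, Pi.single_apply, v, h01, hl0, apply_ite τ] at this
      refine ⟨x, 1, 1, Subgroup.mem_inf.2 ⟨(hmem x).2 hXU, hsl' x hdet⟩, ?_, fun w hw => ?_, by simp,
        by show Odd (X - _).rank; rw [hr1]; exact odd_one, Or.inr (by show (X - _).rank < k; rw [hr1]; omega)⟩
      · show (1 + l • vecMulVec v (τ ∘ v)) ^ r = (1 : F) • 1
        have hpowX : ∀ j : ℕ, (1 + l • vecMulVec v (τ ∘ v)) ^ j = 1 + (j : F) • (l • vecMulVec v (τ ∘ v)) := by
          intro j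
          induction j with
          | zero => simp
          | succ j ih =>
            rw [pow_succ, ih, add_mul, one_mul, mul_add, mul_one, smul_mul_assoc, hsq, smul_zero, add_zero,
              Nat.cast_succ, add_smul, one_smul]
            abel
        rw [hpowX, CharP.cast_eq_zero, zero_smul, add_zero, one_smul]
      · have e0 := congrFun (congrFun (show X = w • 1 from hw) i0) i1
        have h10 : i1 ≠ i0 := h01.symm
        simp [X, v, Matrix.vecMulVec_apply, Pi.single_apply, h01, h10, apply_ite τ, hl0] at e0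
        rw [e0, zero_mul] at hμ
        exact neg_ne_zero.2 one_ne_zero hμ.symm
    -- elements diagonalisable over `F`
    have hdiag : ∀ (d : Fin n → F) (z c : F), (∀ j, d j * τ (d j) = 1) → (∏ j, d j) = 1 → (∀ j, d j ^ r = z) →
        (∃ a b, d a ≠ d b) → c * τ c = 1 → Odd (Finset.univ.filter fun j => d j ≠ c).card →
        (r ≠ 2 ∨ (Finset.univ.filter fun j => d j ≠ c).card < k) →
        ∃ (x : GL (Fin n) F) (z c : F), x ∈ Cfsg.GU n F q ⊓ Cfsg.Geo.specialLinear (Fin n) F ∧
          (x : Matrix (Fin n) (Fin n) F) ^ r = z • 1 ∧ (∀ w : F, (x : Matrix (Fin n) (Fin n) F) ≠ w • 1) ∧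
          c * τ c = 1 ∧ Odd ((x : Matrix (Fin n) (Fin n) F) - c • 1).rank ∧
          (r ≠ 2 ∨ ((x : Matrix (Fin n) (Fin n) F) - c • 1).rank < k) := by
      intro d z c hd hprod hpow ⟨a, b, hab⟩ hc hodd hlast
      have hdet : (diagonal d).det = 1 := by rw [det_diagonal, hprod]
      let x : GL (Fin n) F := Matrix.GeneralLinearGroup.mkOfDetNeZero (diagonal d) (by rw [hdet]; exact one_ne_zero)
      have hrk : ((x : Matrix (Fin n) (Fin n) F) - c • 1).rank = (Finset.univ.filter fun j => d j ≠ c).card := by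
        show (diagonal d - c • 1).rank = _
        rw [Matrix.smul_one_eq_diagonal, diagonal_sub, Matrix.rank_diagonal, Fintype.card_subtype]
        exact congrArg Finset.card (Finset.filter_congr fun j _ => by rw [sub_ne_zero])
      refine ⟨x, z, c, Subgroup.mem_inf.2 ⟨(hmem x).2 ?_, hsl' x hdet⟩, ?_, fun w hw => ?_, hc, hrk ▸ hodd, hrk ▸ hlast⟩
      · show (diagonal d)ᵀ * (diagonal d).map τ = 1
        rw [diagonal_transpose, diagonal_map (map_zero τ), diagonal_mul_diagonal, ← diagonal_one]
        exact congrArg _ (funext hd)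
      · show diagonal d ^ r = z • 1
        rw [diagonal_pow, Matrix.smul_one_eq_diagonal]
        exact congrArg _ (funext hpow)
      · have ea := congrFun (congrFun (show diagonal d = w • 1 from hw) a) a
        have eb := congrFun (congrFun (show diagonal d = w • 1 from hw) b) b
        simp at ea eb
        exact hab (ea.trans eb.symm)
    let i0 : Fin n := ⟨0, by omega⟩
    let i1 : Fin n := ⟨1, by omega⟩
    let i2 : Fin n := ⟨2, by omega⟩
    have h01 : i0 ≠ i1 := by simp [i0, i1, Fin.ext_iff]
    have h02 : i0 ≠ i2 := by simp [i0, i2, Fin.ext_iff]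
    have hroot : ∀ s : ℕ, 0 < s → s ∣ q + 1 → ∃ ζ : F, orderOf ζ = s ∧ ζ * τ ζ = 1 := by
      intro s hs hdvd
      have hdvd' : s ∣ q ^ 2 - 1 := hdvd.trans ⟨q - 1, by rw [← Nat.sq_sub_sq, one_pow]⟩
      obtain ⟨g, hg⟩ := IsCyclic.exists_generator (α := Fˣ)
      obtain ⟨t, ht⟩ := hdvd'
      have ho : orderOf g = s * t := by
        rw [orderOf_eq_card_of_forall_mem_zpowers hg, Nat.card_eq_fintype_card, Fintype.card_units, hq, ht]
      have ht0 : t ≠ 0 := fun h0 => by
        have : 1 < q ^ 2 := Nat.one_lt_pow two_ne_zero (by omega)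
        rw [h0, mul_zero] at ht; omega
      have hzo : orderOf ((g ^ t : Fˣ) : F) = s := by
        rw [orderOf_units, orderOf_pow' _ ht0, ho, Nat.gcd_eq_right (dvd_mul_left _ _),
          Nat.mul_div_cancel _ (Nat.pos_of_ne_zero ht0)]
      refine ⟨((g ^ t : Fˣ) : F), hzo, ?_⟩
      rw [hτ, ← pow_succ']
      obtain ⟨u, hu⟩ := hdvd
      rw [hu, pow_mul]
      conv_lhs => rw [← hzo]
      rw [pow_orderOf_eq_one, one_pow]
    by_cases hr2 : r = 2
    · subst hr2
      have hodd : Odd q := Nat.not_even_iff_odd.1 fun hev =>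
        hrp (hqp 2 Nat.prime_two hev.two_dvd)
      have hv : padicValNat 2 n < padicValNat 2 (q + 1) := by
        by_contra hle
        exact hcon ⟨rfl, hodd, not_lt.1 hle⟩
      obtain ⟨ζ, hζo, hζn⟩ := hroot (2 ^ (padicValNat 2 n + 1)) (pow_pos two_pos _)
        ((pow_dvd_pow 2 hv).trans pow_padicValNat_dvd)
      obtain ⟨m, hm⟩ : 2 ^ padicValNat 2 n ∣ n := pow_padicValNat_dvd
      have hmo : Odd m := by
        refine Nat.not_even_iff_odd.1 fun hev => pow_succ_padicValNat_not_dvd (p := 2) (show n ≠ 0 by omega) ?_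
        obtain ⟨m', hm'⟩ := hev.two_dvd
        exact ⟨m', hm.trans (by rw [hm', pow_succ, mul_assoc])⟩
      have hhalf : ζ ^ (2 ^ padicValNat 2 n) = -1 := by
        have h1 : (ζ ^ (2 ^ padicValNat 2 n)) * (ζ ^ (2 ^ padicValNat 2 n)) = 1 := by
          rw [← pow_add, ← two_mul, ← pow_succ', ← hζo, pow_orderOf_eq_one]
        refine (mul_self_eq_one_iff.1 h1).resolve_left fun h' => ?_
        have h2' := orderOf_dvd_of_pow_eq_one h'
        rw [hζo] at h2'
        have := Nat.le_of_dvd (pow_pos two_pos _) h2'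
        have := Nat.pow_lt_pow_right (one_lt_two) (Nat.lt_succ_self (padicValNat 2 n))
        omega
      have hζn' : ζ ^ n = -1 := by rw [hm, pow_mul, hhalf, hmo.neg_one_pow]
      have h2F : (2 : F) ≠ 0 := (hU.two_iff).2 hodd
      have hζ0 : ζ ≠ 0 := fun h0 => by rw [h0, zero_pow (by omega)] at hζn'; exact neg_ne_zero.2 one_ne_zero hζn'.symm
      have hneg : -ζ ≠ ζ := fun h0 => hζ0 ((mul_eq_zero.1 (show (2 : F) * ζ = 0 by linear_combination -h0)).resolve_left h2F)
      have hflt : (Finset.univ.filter fun j : Fin n => (if j = i0 then -ζ else ζ) ≠ ζ) = {i0} := by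
        ext j
        by_cases hj : j = i0 <;> simp [hj, hneg]
      refine hdiag (fun j => if j = i0 then -ζ else ζ) (ζ ^ 2) ζ (fun j => ?_) ?_ (fun j => ?_)
        ⟨i0, i1, by simp [h01.symm, hneg]⟩ hζn (by rw [hflt]; simp) (Or.inr (by rw [hflt]; simp; omega))
      · split_ifs
        · rw [map_neg, neg_mul_neg, hζn]
        · exact hζn
      · rw [Finset.prod_ite, Finset.prod_const, Finset.prod_const, Finset.filter_eq', if_pos (Finset.mem_univ _),
          Finset.card_singleton, pow_one, Finset.filter_ne', Finset.card_erase_of_mem (Finset.mem_univ _),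
          Finset.card_univ, Fintype.card_fin, neg_mul, ← pow_succ', show n - 1 + 1 = n by omega, hζn', neg_neg]
      · split_ifs <;> simp
    -- odd `r` prime to `p`
    have hqr : ¬ r ∣ q := fun h => hrp (hqp r hr h)
    have hcardF : Nat.card F = q ^ 2 := by rw [Nat.card_eq_fintype_card, hq]
    set S := Cfsg.GU n F q ⊓ Cfsg.Geo.specialLinear (Fin n) F with hS
    set H := Cfsg.Geo.decompositionStabilizer D ⊓ Cfsg.GU n F q with hH
    have hSU : Nat.card S = Nat.card (Cfsg.SU n F q) := by
      symm
      refine Nat.card_congr (Equiv.ofBijective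
        (fun a : Cfsg.SU n F q => (⟨Matrix.SpecialLinearGroup.toGL (a : Matrix.SpecialLinearGroup (Fin n) F),
          fun u v => a.2 u v, hsl' _ a.1.2⟩ : S)) ⟨fun a b h => ?_, fun g => ?_⟩)
      · exact Subtype.ext (Subtype.ext (congrArg (fun s : S => ((s : GL (Fin n) F) : Matrix (Fin n) (Fin n) F)) h))
      · exact ⟨⟨⟨((g : GL (Fin n) F) : Matrix (Fin n) (Fin n) F), hsl _ g.2.2⟩, fun u v => g.2.1 u v⟩,
          Subtype.ext (Units.ext rfl)⟩
    -- the group `GL_k` inside the stabiliser
    have hstdmap : ∀ A : GL (Fin k) F, ∃ y : GL (Fin n) F, y ∈ H ∧ (y : Matrix (Fin n) (Fin n) F) =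
        (P₀ : Matrix (Fin n) (Fin n) F) * lift τ e A * ((P₀⁻¹ : GL (Fin n) F) : Matrix (Fin n) (Fin n) F) := by
      intro A
      let L : GL (Fin n) F := ⟨lift τ e A, lift τ e A⁻¹, by rw [← lift_mul, mul_inv_cancel, lift_one],
        by rw [← lift_mul, inv_mul_cancel, lift_one]⟩
      have hinv : ∀ (A : GL (Fin k) F), (stdL F e).map (Matrix.toLin' (lift τ e A)) ≤ stdL F e ∧
          (stdR F e).map (Matrix.toLin' (lift τ e A)) ≤ stdR F e := by
        intro A
        constructor <;>
        · rintro _ ⟨w, hw, rfl⟩ i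
          rw [Matrix.toLin'_apply, Matrix.mulVec, dotProduct, ← e.sum_comp, Fintype.sum_sum_type]
          simp [lift, hw _]
      have hle : ∀ {S₀ : Submodule F (Fin n → F)}, (S₀.map (Matrix.toLin' (lift τ e A)) ≤ S₀) →
          (S₀.map (Matrix.toLin' (lift τ e A⁻¹)) ≤ S₀) → S₀.map (Matrix.toLin' (lift τ e A)) = S₀ := by
        intro S₀ h1 h2
        refine le_antisymm h1 fun w hw => ?_
        refine ⟨Matrix.toLin' (lift τ e A⁻¹) w, h2 ⟨w, hw, rfl⟩, ?_⟩
        rw [← LinearMap.comp_apply, ← Matrix.toLin'_mul, ← lift_mul, mul_inv_cancel, lift_one, Matrix.toLin'_one,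
          LinearMap.id_apply]
      have hmapD : ∀ S₀ : Submodule F (Fin n → F), S₀.map (Matrix.toLin' (lift τ e A)) = S₀ →
          (S₀.map (Matrix.toLin' (P₀ : Matrix (Fin n) (Fin n) F))).map
            (Matrix.toLin' ((P₀ * L * P₀⁻¹ : GL (Fin n) F) : Matrix (Fin n) (Fin n) F)) =
          S₀.map (Matrix.toLin' (P₀ : Matrix (Fin n) (Fin n) F)) := by
        intro S₀ hS₀
        rw [← Submodule.map_comp, ← Matrix.toLin'_mul, ← Units.val_mul, inv_mul_cancel_right, Units.val_mul,
          Matrix.toLin'_mul, Submodule.map_comp]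
        exact congrArg _ hS₀
      refine ⟨P₀ * L * P₀⁻¹, Subgroup.mem_inf.2 ⟨⟨1, fun i => ?_⟩, (hmem _).2 ?_⟩, by rw [Units.val_mul, Units.val_mul]⟩
      · fin_cases i
        · show (D 0).map _ = D 0
          rw [hD0]; exact hmapD _ (hle (hinv A).1 (hinv A⁻¹).1)
        · show (D 1).map _ = D 1
          rw [hD1]; exact hmapD _ (hle (hinv A).2 (hinv A⁻¹).2)
      · rw [Units.val_mul, Units.val_mul]
        exact gram_inj hP₀ (lift_gram hτ2 e A)
    choose ψ hψ hψv using hstdmap
    have hψmul : ∀ A B, ψ (A * B) = ψ A * ψ B := fun A B => Units.ext (by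
      rw [Units.val_mul, hψv, hψv, hψv, lift_mul]
      simp only [mul_assoc, Units.inv_mul_cancel_left])
    let ψh : GL (Fin k) F →* H := MonoidHom.mk' (fun A => ⟨ψ A, hψ A⟩) fun A B => Subtype.ext (hψmul A B)
    have hψi : Function.Injective ψh := fun A B hAB => by
      have h1 : lift τ e A = lift τ e B := by
        have h := congrArg (fun y : H => ((P₀⁻¹ : GL (Fin n) F) : Matrix (Fin n) (Fin n) F) *
          ((y : GL (Fin n) F) : Matrix (Fin n) (Fin n) F) * (P₀ : Matrix (Fin n) (Fin n) F)) hAB
        simpa [ψh, hψv, mul_assoc] using h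
      refine Units.ext (Matrix.ext fun i j => ?_)
      have := congrFun (congrFun h1 (e (Sum.inl i))) (e (Sum.inl j))
      simpa [lift] using this
    have hGLdvd : Nat.card (GL (Fin k) F) ∣ Nat.card H :=
      Subgroup.card_dvd_of_injective ψh hψi
    have hkey : r * Nat.card (GL (Fin k) F) ∣ Nat.card (Cfsg.GU n F q) := by
      refine (Nat.mul_dvd_mul_left r hGLdvd).trans ?_
      let δ : H →* Fˣ := Matrix.GeneralLinearGroup.det.comp H.subtype
      have hrange : Nat.card δ.range ∣ q + 1 := by
        rw [← CfsgLib.Classical.card_normOne hcardF]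
        refine Subgroup.card_dvd_of_le ?_
        rw [← CfsgLib.Classical.guDet_range hcardF (show 1 ≤ n by omega)]
        rintro _ ⟨y, rfl⟩
        exact ⟨⟨y, (Subgroup.mem_inf.1 y.2).2⟩, rfl⟩
      have hker : Nat.card δ.ker = Nat.card ((Cfsg.Geo.decompositionStabilizer D).subgroupOf S) :=
        Nat.card_congr
          { toFun := fun y => ⟨⟨y.1.1, Subgroup.mem_inf.2 ⟨(Subgroup.mem_inf.1 y.1.2).2,
              MonoidHom.mem_ker.1 y.2⟩⟩, Subgroup.mem_subgroupOf.2 (Subgroup.mem_inf.1 y.1.2).1⟩
            invFun := fun y => ⟨⟨y.1.1, Subgroup.mem_inf.2 ⟨Subgroup.mem_subgroupOf.1 y.2, (Subgroup.mem_inf.1 y.1.2).1⟩⟩,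
              MonoidHom.mem_ker.2 (Subgroup.mem_inf.1 y.1.2).2⟩
            left_inv := fun y => rfl
            right_inv := fun y => rfl }
      rw [Subgroup.card_eq_card_quotient_mul_card_subgroup δ.ker,
        Nat.card_congr (QuotientGroup.quotientKerEquivRange δ).toEquiv, hker,
        ← CfsgLib.Classical.card_SU_mul hcardF (show 1 ≤ n by omega), ← hSU,
        ← Subgroup.index_mul_card ((Cfsg.Geo.decompositionStabilizer D).subgroupOf S),
        show r * (Nat.card δ.range * Nat.card ((Cfsg.Geo.decompositionStabilizer D).subgroupOf S)) =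
          Nat.card δ.range * (r * Nat.card ((Cfsg.Geo.decompositionStabilizer D).subgroupOf S)) by ring]
      exact Nat.mul_dvd_mul hrange (Nat.mul_dvd_mul_right hΩ _)
    obtain ⟨j, hj, hjd⟩ : ∃ j, j < k ∧ r ∣ q ^ (2 * j + 1) + 1 := by
      have hGU : Nat.card (Cfsg.GU n F q) = q ^ (n * (n - 1) / 2) *
          ((∏ l ∈ Finset.range k, (q ^ (2 * l + 1) + 1)) * ∏ l ∈ Finset.range k, (q ^ (2 * l + 2) - 1)) := by
        rw [CfsgLib.Classical.card_GU hcardF]
        congr 1
        rw [← Finset.prod_mul_distrib, hk]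
        clear_value e
        clear * - k q
        induction k with
        | zero => simp
        | succ k ih =>
          rw [show 2 * (k + 1) = 2 * k + 1 + 1 by ring, Finset.prod_range_succ, Finset.prod_range_succ, ih,
            Finset.prod_range_succ, if_pos (even_two_mul k), if_neg (Nat.not_even_two_mul_add_one k)]
          ring
      have hGL : Nat.card (GL (Fin k) F) = (∏ l : Fin k, q ^ (2 * (l : ℕ))) *
          ∏ l ∈ Finset.range k, (q ^ (2 * l + 2) - 1) := by
        rw [Matrix.card_GL_field, hq, ← Finset.prod_range_reflect, ← Fin.prod_univ_eq_prod_range, ← Finset.prod_mul_distrib]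
        refine Finset.prod_congr rfl fun l _ => ?_
        rw [Nat.mul_sub, mul_one, ← pow_mul, ← pow_mul, ← pow_add,
          show 2 * (l : ℕ) + (2 * (k - 1 - (l : ℕ)) + 2) = 2 * k by omega]
      rw [hGU, hGL, ← mul_assoc, ← mul_assoc] at hkey
      have hB : 0 < ∏ l ∈ Finset.range k, (q ^ (2 * l + 2) - 1) := Finset.prod_pos fun l _ => by
        have := Nat.one_lt_pow (show 2 * l + 2 ≠ 0 by omega) (show 1 < q by omega); omega
      have h' := (dvd_mul_right r _).trans (Nat.dvd_of_mul_dvd_mul_right hB hkey)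
      rcases hr.dvd_mul.1 h' with h1 | h1
      · exact absurd (hr.dvd_of_dvd_pow h1) hqr
      · obtain ⟨j, hj, hjd⟩ := hr.prime.exists_mem_finset_dvd h1
        exact ⟨j, Finset.mem_range.1 hj, hjd⟩
    have hrF : (r : F) ≠ 0 := fun h0 =>
      hrp ((Nat.prime_dvd_prime_iff_eq hpp hr).1 ((CharP.cast_eq_zero_iff F p r).1 h0)).symm
    by_cases hq1 : r ∣ q + 1
    · obtain ⟨ζ, hζo, hζn⟩ := hroot r hr.pos hq1
      have hζr : ζ ^ r = 1 := by rw [← hζo, pow_orderOf_eq_one]
      have hζ1 : ζ ≠ 1 := fun h0 => by rw [h0, orderOf_one] at hζo; exact hr.ne_one hζo.symm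
      have hζ0 : ζ ≠ 0 := fun h0 => by rw [h0, zero_mul] at hζn; exact zero_ne_one hζn
      have hinv : ζ⁻¹ ≠ ζ := fun h0 => by
        have hsq : ζ ^ 2 = 1 := by rw [pow_two]; nth_rewrite 1 [← h0]; exact inv_mul_cancel₀ hζ0
        have hd' := orderOf_dvd_of_pow_eq_one hsq
        rw [hζo] at hd'
        exact hr2 ((Nat.prime_dvd_prime_iff_eq hr Nat.prime_two).1 hd')
      have hflt : (Finset.univ.filter fun j : Fin n => (if j = i0 then ζ else if j = i1 then ζ⁻¹ else 1) ≠ ζ) =
          Finset.univ.erase i0 := by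
        ext j
        by_cases hj : j = i0
        · simp [hj]
        · by_cases hj1 : j = i1 <;> simp [hj, hj1, h01.symm, hinv, hζ1.symm]
      refine hdiag (fun j => if j = i0 then ζ else if j = i1 then ζ⁻¹ else 1) 1 ζ (fun j => ?_) ?_ (fun j => ?_)
        ⟨i0, i2, by simp [h02.symm, hζ1, show i2 ≠ i1 by simp [i2, i1, Fin.ext_iff]]⟩ hζn (by
          rw [hflt, Finset.card_erase_of_mem (Finset.mem_univ _), Finset.card_univ, Fintype.card_fin]
          exact Nat.Even.sub_odd (by omega) he odd_one) (Or.inl hr2)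
      · split_ifs
        · exact hζn
        · rw [map_inv₀, ← mul_inv, hζn, inv_one]
        · rw [map_one, one_mul]
      · rw [← Finset.prod_subset (Finset.subset_univ {i0, i1}) (fun j _ hj => by
          simp only [Finset.mem_insert, Finset.mem_singleton, not_or] at hj
          simp [hj.1, hj.2]), Finset.prod_pair h01]
        simp [h01.symm, hζ0]
      · split_ifs <;> simp [hζr]
    · set ee := orderOf (((q ^ 2 : ℕ)) : ZMod r) with hee
      have hneg : ((q : ℕ) : ZMod r) ^ (2 * j + 1) = -1 := by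
        rw [← ZMod.natCast_eq_zero_iff, Nat.cast_add, Nat.cast_pow, Nat.cast_one] at hjd
        exact eq_neg_of_add_eq_zero_left hjd
      have hed : ee ∣ 2 * j + 1 := by
        rw [hee, orderOf_dvd_iff_pow_eq_one, Nat.cast_pow, ← pow_mul, mul_comm, pow_mul, hneg, neg_one_sq]
      have heo : Odd ee := by
        obtain ⟨t, ht⟩ := hed
        exact (Nat.odd_mul.1 (ht ▸ odd_two_mul_add_one j)).1
      have hele : ee ≤ n := by
        have := Nat.le_of_dvd (by omega) hed; omega
      haveI : Fact (2 < r) := ⟨lt_of_le_of_ne hr.two_le (Ne.symm hr2)⟩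
      have hqe : ((q : ℕ) : ZMod r) ^ ee = -1 := by
        have hsq : ((q : ZMod r) ^ ee) * ((q : ZMod r) ^ ee) = 1 := by
          rw [← pow_add, ← two_mul, pow_mul, hee, ← Nat.cast_pow, pow_orderOf_eq_one]
        refine (mul_self_eq_one_iff.1 hsq).resolve_left fun h1 => ?_
        obtain ⟨t, ht⟩ := hed
        rw [ht, pow_mul, h1, one_pow] at hneg
        exact ZMod.neg_one_ne_one hneg.symm
      have he1 : ee ≠ 1 := fun h1 => hq1 (by
        rw [← ZMod.natCast_eq_zero_iff, Nat.cast_add, Nat.cast_one]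
        rw [h1, pow_one] at hqe
        rw [hqe, neg_add_cancel])
      have hcardGUe : r ∣ Nat.card (Cfsg.GU ee F q) := by
        rw [CfsgLib.Classical.card_GU hcardF]
        refine dvd_mul_of_dvd_right ?_ _
        refine dvd_trans ?_ (Finset.dvd_prod_of_mem _ (Finset.mem_range.2 (show ee - 1 < ee by have := heo.pos; omega)))
        rw [if_pos (Nat.Odd.sub_odd heo odd_one), show ee - 1 + 1 = ee by have := heo.pos; omega,
          ← ZMod.natCast_eq_zero_iff, Nat.cast_add, Nat.cast_pow, Nat.cast_one, hqe, neg_add_cancel]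
      obtain ⟨y, hy⟩ := exists_prime_orderOf_dvd_card' r (G := Cfsg.GU ee F q) hcardGUe
      set Y := ((y : GL (Fin ee) F) : Matrix (Fin ee) (Fin ee) F) with hY
      have hYr : Y ^ r = 1 := by
        rw [hY, ← Units.val_pow_eq_pow_val, ← hy, ← Subgroup.orderOf_coe, pow_orderOf_eq_one, Units.val_one]
      have hY1 : Y ≠ 1 := fun h1 => by
        rw [← Subgroup.orderOf_coe, show (y : GL (Fin ee) F) = 1 from Units.ext h1, orderOf_one] at hy
        exact hr.ne_one hy.symm
      have hYU : Yᵀ * Y.map τ = 1 := (CfsgLib.KnownB.PSLAut.mem_GU_iff hτ _).1 y.2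
      have hYd : Y.det = 1 := by
        have h1 : Y.det ^ r = 1 := by rw [← det_pow, hYr, det_one]
        have h2' : Y.det ^ (q + 1) = 1 := by
          have h := congrArg Matrix.det hYU
          rw [det_mul, det_transpose, det_one, ← RingEquiv.mapMatrix_apply, ← RingEquiv.map_det, hτ, ← pow_succ'] at h
          exact h
        have := pow_gcd_eq_one.2 ⟨h1, h2'⟩
        rwa [(hr.coprime_iff_not_dvd.2 hq1).gcd_eq_one, pow_one] at this
      have hYrank : (Y - 1).rank = ee := by
        have hu : IsUnit (Y - 1).det := by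
          rw [isUnit_iff_ne_zero]
          intro h0
          let S₀ := UniqueFactorizationMonoid.normalizedFactors Y.charpoly
          have hcases : ∀ Q ∈ S₀, Q = Polynomial.X - 1 ∨ Q.natDegree = ee := fun Q hQ => by
            by_cases h1 : Q = Polynomial.X - 1
            · exact Or.inl h1
            have hQi := UniqueFactorizationMonoid.irreducible_of_normalized_factor Q hQ
            right
            rw [hee, ← hq]
            refine CfsgLib.KnownB.PrimeOrder.natDegree_eq_orderOf hrF hQi (CfsgLib.KnownB.PrimeOrder.monic_of_mem_nf hQ) ?_ h1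
            refine (CfsgLib.KnownB.Semisimple.dvd_minpoly_of_dvd_charpoly (Matrix.toLin' Y) hQi (by
              rw [Matrix.charpoly_toLin']; exact UniqueFactorizationMonoid.dvd_of_mem_normalizedFactors hQ)).trans
              (minpoly.dvd F _ ?_)
            rw [show Matrix.toLin' Y = Matrix.toLinAlgEquiv' Y from rfl, Polynomial.aeval_algHom_apply, map_sub,
              map_pow, Polynomial.aeval_X, map_one, hYr, sub_self, map_zero]
          have hdvd : (Polynomial.X - 1 : Polynomial F) ∣ Y.charpoly := by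
            rw [show (Polynomial.X - 1 : Polynomial F) = Polynomial.X - Polynomial.C 1 by simp,
              Polynomial.dvd_iff_isRoot, Polynomial.IsRoot, Matrix.eval_charpoly, map_one,
              show (1 : Matrix (Fin ee) (Fin ee) F) - Y = -(Y - 1) by abel, det_neg, h0, mul_zero]
          have hprod := CfsgLib.KnownB.PrimeOrder.monic_prod_normalizedFactors (Matrix.charpoly_monic Y)
          by_cases hall : ∀ Q ∈ S₀, Q = Polynomial.X - 1
          · have hchar : Y.charpoly = (1 : Matrix (Fin ee) (Fin ee) F).charpoly := by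
              have hc : S₀.prod = Y.charpoly := hprod
              rw [Multiset.eq_replicate_of_mem hall, Multiset.prod_replicate] at hc
              have hcard : Multiset.card S₀ = ee := by
                have := congrArg Polynomial.natDegree hc
                rw [Matrix.charpoly_natDegree_eq_dim, Fintype.card_fin, Polynomial.natDegree_pow,
                  show (Polynomial.X - 1 : Polynomial F) = Polynomial.X - Polynomial.C 1 by simp,
                  Polynomial.natDegree_X_sub_C, mul_one] at this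
                exact this
              rw [← hc, hcard, Matrix.charpoly_one, Fintype.card_fin]
            let yG : GL (Fin ee) F := (y : GL (Fin ee) F)
            obtain ⟨c, hc⟩ := isConj_iff.1 (CfsgLib.KnownB.Semisimple.isConj_of_charpoly
              (A := yG) (B := 1)
              (CfsgLib.ThreeTransp.CycloClass.semisimple hrF hYr)
              (CfsgLib.ThreeTransp.CycloClass.semisimple hrF (r := r) (by rw [Units.val_one, one_pow])) hchar)
            exact hY1 (by rw [hY, show (y : GL (Fin ee) F) = 1 from conj_eq_one_iff.1 hc, Units.val_one])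
          · push Not at hall
            obtain ⟨Q, hQ, hQne⟩ := hall
            have hQd : Q.natDegree = ee := (hcases Q hQ).resolve_left hQne
            have hQc : Q = Y.charpoly := Polynomial.eq_of_monic_of_dvd_of_natDegree_le
              (CfsgLib.KnownB.PrimeOrder.monic_of_mem_nf hQ) (Matrix.charpoly_monic Y)
              (UniqueFactorizationMonoid.dvd_of_mem_normalizedFactors hQ)
              (by rw [Matrix.charpoly_natDegree_eq_dim, Fintype.card_fin, hQd]) |>.symm
            have hQi := UniqueFactorizationMonoid.irreducible_of_normalized_factor Q hQ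
            have hL : Irreducible (Polynomial.X - 1 : Polynomial F) := by
              simpa using Polynomial.irreducible_X_sub_C (1 : F)
            refine hQne (Polynomial.eq_of_monic_of_associated (CfsgLib.KnownB.PrimeOrder.monic_of_mem_nf hQ)
              (by simpa using Polynomial.monic_X_sub_C (1 : F)) (hL.associated_of_dvd hQi (hQc ▸ hdvd)).symm)
        rw [Matrix.rank_of_isUnit _ ((Matrix.isUnit_iff_isUnit_det _).2 hu), Fintype.card_fin]
      let f : Fin ee ⊕ Fin (n - ee) ≃ Fin n := finSumFinEquiv.trans (finCongr (by omega))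
      let X : Matrix (Fin n) (Fin n) F := Matrix.reindexAlgEquiv F F f (Matrix.fromBlocks Y 0 0 1)
      have hdet : X.det = 1 := by
        simp [X, hYd]
      let x : GL (Fin n) F := Matrix.GeneralLinearGroup.mkOfDetNeZero X (by rw [hdet]; exact one_ne_zero)
      have hsub : X - (1 : F) • 1 = Matrix.reindexAlgEquiv F F f (Matrix.fromBlocks (Y - 1) 0 0 0) := by
        rw [one_smul, ← map_one (Matrix.reindexAlgEquiv F F f), ← map_sub]
        congr 1
        rw [← Matrix.fromBlocks_one, sub_eq_add_neg, Matrix.fromBlocks_neg, Matrix.fromBlocks_add]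
        simp [sub_eq_add_neg]
      have hXrank : (X - (1 : F) • 1).rank = ee := by
        rw [hsub, Matrix.reindexAlgEquiv_apply, Matrix.rank_reindex,
          CfsgLib.InvolTwo.JordanTypes.rank_fromBlocks_diag, hYrank, Matrix.rank_zero, add_zero]
      refine ⟨x, 1, 1, Subgroup.mem_inf.2 ⟨(hmem x).2 ?_, hsl' x hdet⟩, ?_, fun w hw => ?_, by simp,
        by show Odd (X - _).rank; rw [hXrank]; exact heo, Or.inl hr2⟩
      · show Xᵀ * X.map τ = 1
        simp only [X, Matrix.reindexAlgEquiv_apply, Matrix.reindex_apply, Matrix.transpose_submatrix,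
          ← Matrix.submatrix_map, Matrix.submatrix_mul_equiv, Matrix.fromBlocks_transpose, Matrix.fromBlocks_map,
          Matrix.transpose_zero, Matrix.map_zero _ (map_zero τ), Matrix.transpose_one,
          Matrix.map_one τ (map_zero τ) (map_one τ), Matrix.fromBlocks_multiply, Matrix.mul_zero, Matrix.zero_mul,
          add_zero, zero_add, mul_one, hYU, Matrix.fromBlocks_one, Matrix.submatrix_one_equiv]
      · show X ^ r = (1 : F) • 1
        have hb : ∀ m : ℕ, (Matrix.fromBlocks Y 0 0 (1 : Matrix (Fin (n - ee)) (Fin (n - ee)) F)) ^ m =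
            Matrix.fromBlocks (Y ^ m) 0 0 1 := by
          intro m
          induction m with
          | zero => simp [Matrix.fromBlocks_one]
          | succ m ih => rw [pow_succ, ih, Matrix.fromBlocks_multiply]; simp [pow_succ]
        rw [show X ^ r = Matrix.reindexAlgEquiv F F f ((Matrix.fromBlocks Y 0 0 1) ^ r) from (map_pow _ _ _).symm,
          hb, hYr, Matrix.fromBlocks_one, map_one, one_smul]
      · have hlt : ee < n := by
          rcases hele.lt_or_eq with h0 | h0
          · exact h0
          · exact absurd he (Nat.not_even_iff_odd.2 (h0 ▸ heo))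
        have e1 := congrFun (congrFun (show X = w • 1 from hw) (f (Sum.inr ⟨0, by omega⟩))) (f (Sum.inr ⟨0, by omega⟩))
        simp [X] at e1
        have := hXrank
        rw [show X = w • 1 from hw, ← e1, sub_self, Matrix.rank_zero] at this
        have := heo.pos
        omega
  · rintro ⟨rfl, hodd, hv⟩ x hx ⟨z, hz⟩ hns
    rw [Units.val_pow_eq_pow_val] at hz
    have hxU := (Subgroup.mem_inf.1 hx).1
    have dx := hsl x (Subgroup.mem_inf.1 hx).2
    have h2F : (2 : F) ≠ 0 := (hU.two_iff).2 hodd
    set X := (x : Matrix (Fin n) (Fin n) F) with hX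
    have hXU : Xᵀ * X.map τ = 1 := (hmem x).1 hxU
    have hherm : ∀ u v : Fin n → F, hermForm n F q (X *ᵥ u) (X *ᵥ v) = hermForm n F q u v := fun u v => hxU u v
    -- moving an invariant polar pair to `D`
    have toStab : ∀ U W : Submodule F (Fin n → F), IsPolar q U W →
        U.map (Matrix.toLin' X) ≤ U → W.map (Matrix.toLin' X) ≤ W →
        ∃ g ∈ Cfsg.GU n F q ⊓ Cfsg.Geo.specialLinear (Fin n) F, g⁻¹ * x * g ∈ Cfsg.Geo.decompositionStabilizer D := by
      intro U W hUW hUx hWx
      obtain ⟨P, hP, hPU, hPW⟩ := hUW.exists_basis hτ hτ2 e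
      have hd0 := ((Matrix.isUnit_iff_isUnit_det _).1 P₀.isUnit).ne_zero
      have hdP := ((Matrix.isUnit_iff_isUnit_det _).1 P.isUnit).ne_zero
      set t := (P₀ : Matrix (Fin n) (Fin n) F).det / (P : Matrix (Fin n) (Fin n) F).det with ht
      have hdd : ∀ M : GL (Fin n) F, (M : Matrix (Fin n) (Fin n) F)ᵀ * (M : Matrix (Fin n) (Fin n) F).map τ = gramJ F e →
          (M : Matrix (Fin n) (Fin n) F).det * τ (M : Matrix (Fin n) (Fin n) F).det = (gramJ F e).det := fun M hM => by
        rw [← hM, det_mul, det_transpose, ← RingEquiv.mapMatrix_apply, ← RingEquiv.map_det]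
      have htn : t * τ t = 1 := by
        rw [ht, map_div₀, div_mul_div_comm, hdd P₀ hP₀, hdd P hP, div_self]
        rw [← hdd P hP]
        exact mul_ne_zero hdP ((map_ne_zero τ).2 hdP)
      obtain ⟨a, ha0, ha⟩ : ∃ a : F, a ≠ 0 ∧ a = t * τ a := by
        by_cases h1 : (1 : F) + t = 0
        · obtain ⟨s, hs⟩ : ∃ s, τ s ≠ s := by
            by_contra hc
            push Not at hc
            exact hU.ne (RingEquiv.ext hc)
          refine ⟨s - τ s, sub_ne_zero.2 (Ne.symm hs), ?_⟩
          rw [map_sub, hτ2]; linear_combination (s - τ s) * h1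
        · refine ⟨1 + t, h1, ?_⟩
          rw [map_add, map_one]; linear_combination -htn
      haveI : NeZero k := ⟨by omega⟩
      let dA : Fin k → F := fun i => if i = 0 then a else 1
      let A : GL (Fin k) F := ⟨diagonal dA, diagonal fun i => (dA i)⁻¹,
        by rw [diagonal_mul_diagonal, ← diagonal_one]; congr 1; funext i; simp only [dA]; split_ifs <;> simp [ha0],
        by rw [diagonal_mul_diagonal, ← diagonal_one]; congr 1; funext i; simp only [dA]; split_ifs <;> simp [ha0]⟩
      have hdl : (lift τ e A).det = t := by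
        simp only [lift, Matrix.reindexAlgEquiv_apply, Matrix.det_reindex_self, Matrix.det_fromBlocks_zero₂₁]
        show (diagonal dA).det * ((diagonal fun i => (dA i)⁻¹)ᵀ.map τ).det = t
        rw [diagonal_transpose, diagonal_map (map_zero τ), det_diagonal, det_diagonal]
        simp only [dA, apply_ite τ, apply_ite Inv.inv, inv_one, map_one, Finset.prod_ite_eq', Finset.mem_univ, if_true]
        rw [map_inv₀]
        nth_rewrite 1 [ha]
        rw [mul_assoc, mul_inv_cancel₀ ((map_ne_zero τ).2 ha0), mul_one]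
      let L : GL (Fin n) F := ⟨lift τ e A, lift τ e A⁻¹, by rw [← lift_mul, mul_inv_cancel, lift_one],
        by rw [← lift_mul, inv_mul_cancel, lift_one]⟩
      let g : GL (Fin n) F := P * L * P₀⁻¹
      have hgU : g ∈ Cfsg.GU n F q := by
        rw [hmem]
        have hPL : ((P * L : GL (Fin n) F) : Matrix (Fin n) (Fin n) F)ᵀ * ((P * L : GL (Fin n) F) : Matrix (Fin n) (Fin n) F).map τ =
            gramJ F e := by
          rw [Units.val_mul, Matrix.transpose_mul, Matrix.map_mul]
          calc _ = (lift τ e A)ᵀ * ((P : Matrix (Fin n) (Fin n) F)ᵀ * (P : Matrix (Fin n) (Fin n) F).map τ) *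
                (lift τ e A).map τ := by simp only [mul_assoc]; rfl
            _ = _ := by rw [hP]; exact lift_gram hτ2 e A
        have e1 : ((P₀⁻¹ : GL (Fin n) F) : Matrix (Fin n) (Fin n) F)ᵀ * (P₀ : Matrix (Fin n) (Fin n) F)ᵀ = 1 := by
          rw [← Matrix.transpose_mul, Units.mul_inv, Matrix.transpose_one]
        have e2 : (P₀ : Matrix (Fin n) (Fin n) F).map τ * ((P₀⁻¹ : GL (Fin n) F) : Matrix (Fin n) (Fin n) F).map τ = 1 := by
          rw [← Matrix.map_mul, Units.mul_inv, Matrix.map_one τ (map_zero τ) (map_one τ)]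
        rw [Units.val_mul, Matrix.transpose_mul, Matrix.map_mul]
        calc _ = ((P₀⁻¹ : GL (Fin n) F) : Matrix (Fin n) (Fin n) F)ᵀ * (((P * L : GL (Fin n) F) : Matrix (Fin n) (Fin n) F)ᵀ *
              ((P * L : GL (Fin n) F) : Matrix (Fin n) (Fin n) F).map τ) * ((P₀⁻¹ : GL (Fin n) F) : Matrix (Fin n) (Fin n) F).map τ := by
              simp only [mul_assoc]
          _ = (((P₀⁻¹ : GL (Fin n) F) : Matrix (Fin n) (Fin n) F)ᵀ * (P₀ : Matrix (Fin n) (Fin n) F)ᵀ) *
              ((P₀ : Matrix (Fin n) (Fin n) F).map τ * ((P₀⁻¹ : GL (Fin n) F) : Matrix (Fin n) (Fin n) F).map τ) := by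
              rw [hPL, ← hP₀]; simp only [mul_assoc]
          _ = 1 := by rw [e1, e2, mul_one]
      have hgd : (g : Matrix (Fin n) (Fin n) F).det = 1 := by
        rw [Units.val_mul, Units.val_mul, det_mul, det_mul, show (L : Matrix (Fin n) (Fin n) F) = lift τ e A from rfl, hdl,
          Matrix.coe_units_inv, Matrix.det_nonsing_inv, Ring.inverse_eq_inv', ht]
        field_simp
      refine ⟨g, Subgroup.mem_inf.2 ⟨hgU, hsl' g hgd⟩, ⟨1, fun i => ?_⟩⟩
      have hinv : ∀ i, (D i).map (Matrix.toLin' (g : Matrix (Fin n) (Fin n) F)) = if i = 0 then U else W := by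
        have hstd : ∀ S₀ : Submodule F (Fin n → F), S₀ = stdL F e ∨ S₀ = stdR F e →
            S₀.map (Matrix.toLin' (lift τ e A)) ≤ S₀ := by
          rintro S₀ (rfl | rfl) <;>
          · rintro _ ⟨w, hw, rfl⟩ i
            rw [Matrix.toLin'_apply, Matrix.mulVec, dotProduct, ← e.sum_comp, Fintype.sum_sum_type]
            simp [lift, hw _]
        have hgen : ∀ (S₀ U₀ D₀ : Submodule F (Fin n → F)), (S₀ = stdL F e ∨ S₀ = stdR F e) →
            U₀ = S₀.map (Matrix.toLin' (P : Matrix (Fin n) (Fin n) F)) →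
            D₀ = S₀.map (Matrix.toLin' (P₀ : Matrix (Fin n) (Fin n) F)) →
            D₀.map (Matrix.toLin' (g : Matrix (Fin n) (Fin n) F)) = U₀ := by
          rintro S₀ U₀ D₀ hS₀ rfl rfl
          rw [← Submodule.map_comp, ← Matrix.toLin'_mul, ← Units.val_mul, inv_mul_cancel_right, Units.val_mul,
            Matrix.toLin'_mul, Submodule.map_comp]
          congr 1
          refine Submodule.eq_of_le_of_finrank_eq (hstd S₀ hS₀) ?_
          exact (Submodule.equivMapOfInjective _ (fun u v huv => by
            have := congrArg (fun w => ((L⁻¹ : GL (Fin n) F) : Matrix (Fin n) (Fin n) F) *ᵥ w) huv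
            simp only [Matrix.toLin'_apply, Matrix.mulVec_mulVec] at this
            rwa [show ((L⁻¹ : GL (Fin n) F) : Matrix (Fin n) (Fin n) F) * lift τ e A = 1 from L.inv_mul,
              Matrix.one_mulVec, Matrix.one_mulVec] at this) S₀).finrank_eq.symm
        intro i
        fin_cases i
        · exact hgen _ _ _ (Or.inl rfl) hPU hD0
        · exact hgen _ _ _ (Or.inr rfl) hPW hD1
      have hback : ∀ V : Submodule F (Fin n → F), V.map (Matrix.toLin' X) ≤ V →
          ∀ D₀ : Submodule F (Fin n → F), D₀.map (Matrix.toLin' (g : Matrix (Fin n) (Fin n) F)) = V →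
          D₀.map (Matrix.toLin' ((g⁻¹ * x * g : GL (Fin n) F) : Matrix (Fin n) (Fin n) F)) = D₀ := by
        intro V hV D₀ hD₀
        have hVeq : V.map (Matrix.toLin' X) = V := Submodule.eq_of_le_of_finrank_eq hV
          (Submodule.equivMapOfInjective _ (fun u v huv => by
            have := congrArg (fun w => ((x⁻¹ : GL (Fin n) F) : Matrix (Fin n) (Fin n) F) *ᵥ w) huv
            simp only [Matrix.toLin'_apply, Matrix.mulVec_mulVec] at this
            rwa [show ((x⁻¹ : GL (Fin n) F) : Matrix (Fin n) (Fin n) F) * X = 1 from x.inv_mul,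
              Matrix.one_mulVec, Matrix.one_mulVec] at this) V).finrank_eq.symm
        rw [Units.val_mul, Units.val_mul, mul_assoc, Matrix.toLin'_mul, Submodule.map_comp, Matrix.toLin'_mul,
          Submodule.map_comp, hD₀, hVeq, ← hD₀, ← Submodule.map_comp, ← Matrix.toLin'_mul, Units.inv_mul,
          Matrix.toLin'_one, Submodule.map_id]
      show (D i).map _ = D i
      fin_cases i
      · exact hback U hUx (D 0) (hinv 0)
      · exact hback W hWx (D 1) (hinv 1)
    -- square root of `z`
    have hzn : z * τ z = 1 := by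
      have h : (X * X)ᵀ * (X * X).map τ = 1 := by
        rw [Matrix.transpose_mul, Matrix.map_mul]
        calc _ = Xᵀ * (Xᵀ * X.map τ) * X.map τ := by simp only [mul_assoc]
          _ = 1 := by rw [hXU, mul_one, hXU]
      rw [← pow_two, hz, Matrix.transpose_smul, Matrix.transpose_one,
        show (z • (1 : Matrix (Fin n) (Fin n) F)).map τ = τ z • 1 by
          ext i j; simp [Matrix.one_apply, apply_ite τ],
        smul_mul_smul_comm, mul_one] at h
      simpa using congrFun (congrFun h ⟨0, by omega⟩) ⟨0, by omega⟩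
    have hz0 : z ≠ 0 := fun h0 => by rw [h0, zero_mul] at hzn; exact zero_ne_one hzn
    obtain ⟨c, hc⟩ : ∃ c : F, c * c = z := by
      have hchar : ringChar F ≠ 2 := fun h2 => h2F (by
        have := ringChar.Nat.cast_ringChar (R := F); rw [h2] at this; exact_mod_cast this)
      obtain ⟨c, hc⟩ := (FiniteField.isSquare_iff hchar hz0).2 (by
        obtain ⟨m, hm⟩ := hodd
        rw [hq, show q ^ 2 / 2 = (q + 1) * m by
          rw [hm, show (2 * m + 1) ^ 2 = 1 + 2 * ((2 * m + 1 + 1) * m) by ring, Nat.add_mul_div_left _ _ two_pos]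
          norm_num, pow_mul, pow_succ', ← hτ, hzn, one_pow])
      exact ⟨c, hc.symm⟩
    have hc0 : c ≠ 0 := fun h0 => hz0 (by rw [← hc, h0, mul_zero])
    have hXX : ∀ v : Fin n → F, X *ᵥ (X *ᵥ v) = (c * c) • v := fun v => by
      rw [Matrix.mulVec_mulVec, ← pow_two, hz, Matrix.smul_mulVec, Matrix.one_mulVec, hc]
    rcases mul_self_eq_one_iff.1 (show (c * τ c) * (c * τ c) = 1 by
      rw [mul_mul_mul_comm, ← map_mul, hc, hzn]) with hcn | hcn
    swap
    · -- the eigenspaces are totally singular
      let E : F → Submodule F (Fin n → F) := fun d => LinearMap.ker (Matrix.toLin' X - d • LinearMap.id)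
      have hE : ∀ d v, v ∈ E d ↔ X *ᵥ v = d • v := fun d v => by
        simp [E, sub_eq_zero, Matrix.toLin'_apply]
      have hts : ∀ d, d * τ d = -1 → Cfsg.Geo.IsTotallySingularFor (hermForm n F q) (E d) := by
        intro d hd u hu v hv
        have h := hherm u v
        rw [(hE d u).1 hu, (hE d v).1 hv, herm_eq hτ, herm_eq hτ, smul_dotProduct,
          show τ ∘ (d • v) = τ d • (τ ∘ v) from funext fun j => map_mul τ d (v j), dotProduct_smul, smul_smul, hd,
          neg_one_smul] at h
        rw [herm_eq hτ]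
        exact (mul_eq_zero.1 (show (2 : F) * (u ⬝ᵥ (τ ∘ v)) = 0 by linear_combination -h)).resolve_left h2F
      have hinvE : ∀ d, (E d).map (Matrix.toLin' X) ≤ E d := by
        rintro d _ ⟨v, hv, rfl⟩
        rw [hE, Matrix.toLin'_apply, (hE d v).1 hv, Matrix.mulVec_smul, (hE d v).1 hv]
      refine toStab (E c) (E (-c)) ⟨⟨?_, ?_⟩, hts c hcn, hts (-c) (by rw [map_neg, neg_mul_neg, hcn])⟩
        (hinvE _) (hinvE _)
      · rw [Submodule.disjoint_def]
        intro v h1 h2
        have := ((hE _ v).1 h1).symm.trans ((hE _ v).1 h2)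
        have h' : ((2 : F) * c) • v = 0 := by
          rw [mul_smul, two_smul]; nth_rewrite 1 [this]; rw [neg_smul, neg_add_cancel]
        exact (smul_eq_zero.1 h').resolve_left (mul_ne_zero h2F hc0)
      · rw [codisjoint_iff, eq_top_iff]
        intro v _
        refine Submodule.mem_sup.2 ⟨(2 * c)⁻¹ • (c • v + X *ᵥ v), ?_, (2 * c)⁻¹ • (c • v - X *ᵥ v), ?_, ?_⟩
        · rw [hE, Matrix.mulVec_smul, Matrix.mulVec_add, Matrix.mulVec_smul, hXX, smul_comm c (2 * c)⁻¹]
          congr 1
          module
        · rw [hE, Matrix.mulVec_smul, Matrix.mulVec_sub, Matrix.mulVec_smul, hXX, smul_comm (-c) (2 * c)⁻¹]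
          congr 1
          module
        · rw [← smul_add, show c • v + X *ᵥ v + (c • v - X *ᵥ v) = (2 * c) • v by module, smul_smul,
            inv_mul_cancel₀ (mul_ne_zero h2F hc0), one_smul]
    -- orthogonal eigenspaces of even dimension
    haveI : Fact (Nat.Prime 2) := ⟨Nat.prime_two⟩
    have hrF : ((2 : ℕ) : F) ≠ 0 := by exact_mod_cast h2F
    have h2q : 2 ∣ Fintype.card F - 1 := by
      rw [hq]
      obtain ⟨m, hm⟩ := hodd
      exact ⟨2 * m * m + 2 * m, by rw [hm, show (2 * m + 1) ^ 2 = 2 * (2 * m * m + 2 * m) + 1 by ring, Nat.add_sub_cancel]⟩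
    have hz2 : X ^ 2 = (c ^ 2) • 1 := by rw [hz, pow_two c, hc]
    obtain ⟨d, hchar, hd⟩ := DiagModel.exists_roots (r := 2) h2q hz2
    have hdc : ∀ i, d i = c ∨ d i = -c := fun i => sq_eq_sq_iff_eq_or_eq_neg.1 (hd i)
    set B := Finset.univ.filter fun i => d i = -c with hB
    have hcne : c ≠ -c := fun h0 => hc0 ((mul_eq_zero.1 (show (2 : F) * c = 0 by linear_combination h0)).resolve_left h2F)
    have hprod : ∀ (G : Type u_1) [CommMonoid G] (φ : F → G), ∏ i, φ (d i) = φ c ^ (n - B.card) * φ (-c) ^ B.card := by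
      intro G _ φ
      rw [← Finset.prod_filter_mul_prod_filter_not Finset.univ (fun i => d i = -c), ← hB,
        Finset.prod_congr rfl fun i hi => by rw [(Finset.mem_filter.1 hi).2], Finset.prod_const, mul_comm]
      congr 1
      rw [Finset.prod_congr rfl fun i hi => by rw [(hdc i).resolve_right (Finset.mem_filter.1 hi).2], Finset.prod_const,
        Finset.filter_not, ← hB, Finset.card_sdiff_of_subset (Finset.subset_univ _), Finset.card_univ, Fintype.card_fin]
    have hBn : B.card ≤ n := by simpa using Finset.card_le_univ B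
    have hev : Even B.card := by
      by_contra hbo
      rw [Nat.not_even_iff_odd] at hbo
      have hdet : X.det = ∏ i, d i := by
        rw [Matrix.det_eq_sign_charpoly_coeff, hchar, Fintype.card_fin, he.neg_one_pow, one_mul,
          Polynomial.coeff_zero_eq_eval_zero, Polynomial.eval_prod]
        simp only [Polynomial.eval_sub, Polynomial.eval_X, Polynomial.eval_C, zero_sub]
        rw [Finset.prod_neg, Finset.card_univ, Fintype.card_fin, he.neg_one_pow, one_mul]
      have hid := hprod F id; simp only [id_eq] at hid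
      rw [hid] at hdet
      rw [neg_pow, hbo.neg_one_pow, neg_one_mul, mul_neg, ← pow_add, Nat.sub_add_cancel hBn] at hdet
      have hcq : c ^ (q + 1) = 1 := by rw [pow_succ', ← hτ, hcn]
      set v := padicValNat 2 (q + 1) with hvv
      obtain ⟨s, hs⟩ : 2 ^ v ∣ q + 1 := pow_padicValNat_dvd
      have hso : Odd s := by
        refine Nat.not_even_iff_odd.1 fun hev => pow_succ_padicValNat_not_dvd (p := 2) (show q + 1 ≠ 0 by omega) ?_
        obtain ⟨m', hm'⟩ := hev.two_dvd
        exact ⟨m', hs.trans (by rw [hm', pow_succ, mul_assoc])⟩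
      obtain ⟨l, hl⟩ : 2 ^ v ∣ n := (pow_dvd_pow 2 hv).trans pow_padicValNat_dvd
      have h1 : (c ^ n) ^ s = 1 := by
        rw [← pow_mul, hl, show 2 ^ v * l * s = (q + 1) * l by rw [hs]; ring, pow_mul, hcq, one_pow]
      rw [show c ^ n = -1 by linear_combination hdet - hsl x (Subgroup.mem_inf.1 hx).2, hso.neg_one_pow] at h1
      exact h2F (by linear_combination -h1)
    obtain ⟨β, hβ⟩ := hev
    let d' : Fin n → F := fun j => Sum.elim (fun i : Fin k => if (i : ℕ) < β then -c else c)
      (fun i : Fin k => if (i : ℕ) < β then -c else c) (e.symm j)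
    have hd'c : ∀ j, d' j = c ∨ d' j = -c := fun j => by
      simp only [d']
      rcases e.symm j with i | i <;> simp only [Sum.elim_inl, Sum.elim_inr] <;> split_ifs <;> simp
    have hd'n : ∀ j, d' j * τ (d' j) = 1 := fun j => by
      rcases hd'c j with h | h <;> rw [h]
      · exact hcn
      · rw [map_neg, neg_mul_neg, hcn]
    have hβk : β ≤ k := by omega
    have hchar' : X.charpoly = ∏ j, (Polynomial.X - Polynomial.C (d' j)) := by
      rw [hchar, hprod (Polynomial F) (fun a => Polynomial.X - Polynomial.C a), ← e.prod_comp, Fintype.prod_sum_type]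
      simp only [d', Equiv.symm_apply_apply, Sum.elim_inl, Sum.elim_inr, apply_ite Polynomial.C,
        apply_ite (fun a : Polynomial F => Polynomial.X - a)]
      rw [Finset.prod_ite, Finset.prod_const, Finset.prod_const, Fin.card_filter_val_lt, Finset.filter_not,
        Finset.card_sdiff_of_subset (Finset.filter_subset _ _), Fin.card_filter_val_lt, Finset.card_univ,
        Fintype.card_fin, min_eq_right hβk, show n - B.card = (k - β) + (k - β) by omega, hβ, pow_add, pow_add]
      ring
    have hdet' : (diagonal d').det ≠ 0 := by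
      rw [det_diagonal]
      exact Finset.prod_ne_zero_iff.2 fun j _ h0 => by
        have := hd'n j; rw [h0, zero_mul] at this; exact zero_ne_one this
    let Δ : GL (Fin n) F := Matrix.GeneralLinearGroup.mkOfDetNeZero (diagonal d') hdet'
    have hΔU : Δ ∈ Cfsg.GU n F q := by
      rw [hmem]
      show (diagonal d')ᵀ * (diagonal d').map τ = 1
      rw [diagonal_transpose, diagonal_map (map_zero τ), diagonal_mul_diagonal, ← diagonal_one]
      exact congrArg _ (funext hd'n)
    obtain ⟨h, hh⟩ := isConj_iff.1 (DiagModel.isConj_diag (r := 2) hrF hz0 (x := x) (D := Δ) hz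
      (d := d') (fun j => by rcases hd'c j with e' | e' <;> simp [e', pow_two, hc]) rfl hchar')
    obtain ⟨u, hu, hux⟩ := CfsgLib.KnownB.UnitaryConj.exists_unitary_conjugator hτne hτ2 ((hmemA x).1 hxU)
      ((hmemA Δ).1 hΔU) (h := h) (by rw [← hh, inv_mul_cancel_right])
    have huU : u⁻¹ ∈ Cfsg.GU n F q := inv_mem ((hmemA u).2 hu)
    obtain ⟨μ, hμ⟩ := CfsgLib.Geometry.exists_norm_eq hτne hτ2 (c := (-1 : F)) (by simp)
    have hμ' : μ * τ μ = -1 := hμ
    let Wl : F → Submodule F (Fin n → F) := fun m =>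
      { carrier := {w | ∀ i, w (e (Sum.inr i)) = m * w (e (Sum.inl i))}
        add_mem' := fun ha hb i => by simp [ha i, hb i, mul_add]
        zero_mem' := fun i => by simp
        smul_mem' := fun s a ha i => by simp [ha i]; ring }
    have hμ0 : μ ≠ 0 := fun h0 => by rw [h0, zero_mul] at hμ'; exact neg_ne_zero.2 one_ne_zero hμ'.symm
    have hWts : ∀ m, m * τ m = -1 → Cfsg.Geo.IsTotallySingularFor (hermForm n F q) (Wl m) := by
      intro m hm a ha b hb
      rw [herm_eq hτ, dotProduct, ← e.sum_comp, Fintype.sum_sum_type, ← Finset.sum_add_distrib]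
      refine Finset.sum_eq_zero fun i _ => ?_
      simp only [Function.comp_apply, ha i, hb i, map_mul]
      linear_combination (a (e (Sum.inl i)) * τ (b (e (Sum.inl i)))) * hm
    have hWc : IsCompl (Wl μ) (Wl (-μ)) := by
      constructor
      · rw [Submodule.disjoint_def]
        intro w h1 h2
        have hl : ∀ i, w (e (Sum.inl i)) = 0 := fun i =>
          (mul_eq_zero.1 (show ((2 : F) * μ) * w (e (Sum.inl i)) = 0 by
            linear_combination (-1 : F) * h1 i + h2 i)).resolve_left (mul_ne_zero h2F hμ0)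
        funext j
        obtain ⟨j, rfl⟩ := e.surjective j
        rcases j with i | i
        · exact hl i
        · rw [h1 i, hl i, mul_zero]; rfl
      · rw [codisjoint_iff, eq_top_iff]
        intro w _
        let aP : Fin k → F := fun i => (μ * w (e (Sum.inl i)) + w (e (Sum.inr i))) / (2 * μ)
        let aM : Fin k → F := fun i => (μ * w (e (Sum.inl i)) - w (e (Sum.inr i))) / (2 * μ)
        refine Submodule.mem_sup.2 ⟨fun j => Sum.elim aP (fun i => μ * aP i) (e.symm j), fun i => by simp,
          fun j => Sum.elim aM (fun i => -μ * aM i) (e.symm j), fun i => by simp, ?_⟩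
        funext j
        obtain ⟨j, rfl⟩ := e.surjective j
        rcases j with i | i <;> simp [aP, aM] <;> field_simp <;> ring
    have hWinv : ∀ m, (Wl m).map (Matrix.toLin' (diagonal d')) ≤ Wl m := by
      rintro m _ ⟨w, hw, rfl⟩ i
      rw [Matrix.toLin'_apply, mulVec_diagonal, mulVec_diagonal, hw i]
      simp [d']
      split_ifs <;> ring
    set Ui := ((u⁻¹ : GL (Fin n) F) : Matrix (Fin n) (Fin n) F) with hUi
    have hxUi : X * Ui = Ui * diagonal d' := by
      have : x * u⁻¹ = u⁻¹ * Δ := by
        rw [mul_inv_eq_iff_eq_mul, mul_assoc, ← hux, inv_mul_cancel_left]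
      exact congrArg Units.val this
    have hmapW : ∀ m, ((Wl m).map (Matrix.toLin' Ui)).map (Matrix.toLin' X) ≤ (Wl m).map (Matrix.toLin' Ui) := by
      intro m
      rw [← Submodule.map_comp, ← Matrix.toLin'_mul, hxUi, Matrix.toLin'_mul, Submodule.map_comp]
      exact Submodule.map_mono (hWinv m)
    have hts : ∀ m, m * τ m = -1 → Cfsg.Geo.IsTotallySingularFor (hermForm n F q) ((Wl m).map (Matrix.toLin' Ui)) := by
      rintro m hm _ ⟨a, ha, rfl⟩ _ ⟨b, hb, rfl⟩
      rw [Matrix.toLin'_apply, Matrix.toLin'_apply]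
      exact (huU a b).trans (hWts m hm a ha b hb)
    have hinj : Function.Injective (Matrix.toLin' Ui) := fun a b hab => by
      have := congrArg (fun w => (u : Matrix (Fin n) (Fin n) F) *ᵥ w) hab
      simp only [Matrix.toLin'_apply, Matrix.mulVec_mulVec] at this
      rwa [show (u : Matrix (Fin n) (Fin n) F) * Ui = 1 from u.mul_inv, Matrix.one_mulVec, Matrix.one_mulVec] at this
    refine toStab ((Wl μ).map (Matrix.toLin' Ui)) ((Wl (-μ)).map (Matrix.toLin' Ui))
      ⟨⟨Submodule.disjoint_map hinj hWc.disjoint, ?_⟩, hts μ hμ', hts (-μ) (by rw [map_neg, neg_mul_neg, hμ'])⟩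
      (hmapW _) (hmapW _)
    rw [codisjoint_iff, ← Submodule.map_sup, hWc.sup_eq_top, Submodule.map_top, LinearMap.range_eq_top]
    exact LinearMap.surjective_of_injective hinj

end Cfsg.Agent.S5984
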