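import Cfsg.Statements.S5985
import Cfsg.Agent.Lib.OrthPrime.CharTwo

set_option autoImplicit false
open scoped MatrixGroups
open Cfsg

namespace Cfsg.Agent.S5985

/-- Elements of prime order of Ω⁺_n(q), q even, with no fixed nonsingular 1-space. Here `T = PΩ⁺_n(F)`, `n = 2d ≥ 8`, realised through `Ω⁺_n(q)`, the commutator subgroup of the isometry group of `Q = Σ xᵢyᵢ` over the field `F` with `q` elements; an element of `T` of prime order `r` is an element `x` of `Ω⁺_n(q)` with `x^r` scalar and `x` not scalar; `q` is even (so the centre is trivial). Let Ω be the set of 1-dimensional subspaces spanned by a vector `v` with `Q(v) ≠ 0`, and let `r` be a prime dividing their number. Then every element of `T` of order `r` fixes some nonsingular 1-space if and only if `r = 2` and `n ≡ 2 (mod 4)` (that is, `d` is odd). -/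
theorem result {F : Type*} [Field F] [Fintype F] {p : ℕ} [Fact p.Prime] [CharP F p] {q : ℕ} (hq : Fintype.card F = q)
    (hp : p = 2) (d : ℕ) (hd : 4 ≤ d) (r : ℕ) [Fact r.Prime]
    (hrΩ : r ∣ Nat.card {W : Submodule F (Fin d ⊕ Fin d → F) // Module.finrank F ↥W = 1 ∧ ∃ v ∈ W, Cfsg.quadFormPlus d F v ≠ 0}) :
    (∀ x : GL (Fin d ⊕ Fin d) F, x ∈ Cfsg.Geo.omegaGL (Cfsg.quadFormPlus d F) →
      (∃ z : F, ((x ^ r : GL (Fin d ⊕ Fin d) F) : Matrix (Fin d ⊕ Fin d) (Fin d ⊕ Fin d) F) = z • (1 : Matrix (Fin d ⊕ Fin d) (Fin d ⊕ Fin d) F)) →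
      (∀ z : F, (x : Matrix (Fin d ⊕ Fin d) (Fin d ⊕ Fin d) F) ≠ z • (1 : Matrix (Fin d ⊕ Fin d) (Fin d ⊕ Fin d) F)) →
      ∃ W : Submodule F (Fin d ⊕ Fin d → F), (Module.finrank F ↥W = 1 ∧ ∃ v ∈ W, Cfsg.quadFormPlus d F v ≠ 0) ∧ W.map (Matrix.toLin' (x : Matrix (Fin d ⊕ Fin d) (Fin d ⊕ Fin d) F)) ≤ W) ↔ (r = 2 ∧ Odd d) := by
  open CfsgLib.OrthPrime CfsgLib.Geometry CfsgLib.PrimeOrderSp in
  classical
  subst hq hp
  have h2 : (2 : F) = 0 := CharTwo.two_eq_zero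
  rw [← coe_matQuad_plus] at hrΩ ⊢
  set Q := matQuad (plusMat d F)
  have hQ : (QuadraticMap.polarBilin Q).Nondegenerate := nondegenerate_plus d
  have hsg : sgn Q ⊤ = 1 := sgn_plusForm d
  have hn : Fintype.card (Fin d ⊕ Fin d) = 2 * d := by simp; omega
  by_cases hr2 : r = 2
  · subst hr2
    have pos : ¬ (Even d ∧ sgn Q ⊤ = 1) → ∀ x : GL (Fin d ⊕ Fin d) F, x ∈ Cfsg.Geo.omegaGL ⇑Q →
        (∃ z : F, ((x ^ 2 : GL (Fin d ⊕ Fin d) F) : Matrix (Fin d ⊕ Fin d) (Fin d ⊕ Fin d) F) = z • (1 : Matrix (Fin d ⊕ Fin d) (Fin d ⊕ Fin d) F)) →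
        ∃ W : Submodule F ((Fin d ⊕ Fin d) → F), (Module.finrank F W = 1 ∧ ∃ v ∈ W, Q v ≠ 0) ∧
          W.map (Matrix.toLin' (x : Matrix (Fin d ⊕ Fin d) (Fin d ⊕ Fin d) F)) ≤ W := by
      intro hd' x hx hz
      obtain ⟨z, hz⟩ := hz
      have hff := two_scalar_sq hQ (by omega) h2 hx hz
      have hev := (two_mem_omega_iff hQ (by omega) h2 (omega_preserves hx) hff).1 ⟨x, hx, rfl⟩
      obtain ⟨v, hv, hQv⟩ := exists_fixed_nonsingular hQ h2 hn (omega_preserves hx) hff hev hd'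
      refine ⟨Submodule.span F {v}, ⟨finrank_span_singleton fun h => hQv (by rw [h, QuadraticMap.map_zero]),
        v, Submodule.mem_span_singleton_self v, hQv⟩, ?_⟩
      rw [Submodule.map_span, Set.image_singleton, hv]
    simp only [true_and]
    refine ⟨fun H => ?_, fun hodd x hx hz _ => pos (fun h => Nat.not_even_iff_odd.2 hodd h.1) x hx hz⟩
    by_contra hev
    rw [Nat.not_odd_iff_even] at hev
    obtain ⟨j, hj⟩ := hev
    obtain ⟨U, -, hU, hUd⟩ := exists_ts_dim (Q := Q) (D := ⊤) (nondeg_iff.1 fun u _ hu' => hQ.1 u fun v => hu' v trivial)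
      (a := d) (Or.inr ⟨by rw [finrank_top, Module.finrank_fintype_fun_eq_card, hn], plus_iff_sgn.2 hsg⟩)
    obtain ⟨x, hx, hx2, hns, hf, hrU, hrd⟩ := exists_two_ts hQ (by omega) (j := j) (by omega) hU (by omega)
    obtain ⟨W, ⟨hW1, v, hv, hQv⟩, hWi⟩ := H x hx ⟨1, by rw [hx2, one_smul]; rfl⟩ hns
    set f := Matrix.toLin' (x : Matrix (Fin d ⊕ Fin d) (Fin d ⊕ Fin d) F)
    have hv0 : v ≠ 0 := fun h => hQv (by rw [h, QuadraticMap.map_zero])
    have hW' : Submodule.span F {v} = W := Submodule.eq_of_le_of_finrank_le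
      ((Submodule.span_singleton_le_iff_mem _ _).2 hv) (by rw [hW1, finrank_span_singleton hv0])
    obtain ⟨c, hc⟩ := Submodule.mem_span_singleton.1 (hW'.symm ▸ hWi (Submodule.mem_map_of_mem hv) :
      f v ∈ Submodule.span F {v})
    have h2' := hf v
    rw [← hc, CfsgLib.Geometry.map_smul'] at h2'
    have hc1 : c = 1 := CharTwo.sq_injective (by
      show c ^ 2 = 1 ^ 2
      rw [one_pow, pow_two]
      exact (mul_eq_right₀ hQv).1 h2')
    rw [hc1, one_smul] at hc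
    have hvk : v ∈ LinearMap.ker (f - 1) := by
      rw [LinearMap.mem_ker, LinearMap.sub_apply, Module.End.one_apply, ← hc, sub_self]
    rw [ker_eq_perp_range hQ hf, Submodule.eq_of_le_of_finrank_le hrU (by omega),
      polarPerp_eq_self hQ (m := d) (by rw [Module.finrank_fintype_fun_eq_card, hn]) ⟨hUd, hU⟩] at hvk
    exact hQv (hU v hvk)
  simp only [hr2, false_and, iff_false]
  intro H
  obtain ⟨f, hf, hfr, hf1, hno⟩ := exists_no_fixed_point hQ hr2 (by omega) hrΩ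
  have hcrit := elusive_iff_scalar hQ (by omega) ((Fact.out : r.Prime).odd_of_ne_two hr2)
    (fun W => Module.finrank F W = 1 ∧ ∃ v ∈ W, Q v ≠ 0)
  obtain ⟨W, hW, hWi⟩ := hcrit.1 H f hf hfr hf1
  exact hno W hW hWi

end Cfsg.Agent.S5985
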