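import Cfsg.Statements.S5986
import Cfsg.Agent.Lib.OrthPrime.CharTwo

set_option autoImplicit false
open scoped MatrixGroups
open Cfsg

namespace Cfsg.Agent.S5986

/-- Elements of prime order of Ω⁻_n(q), q even, with no fixed nonsingular 1-space. Here `T = PΩ⁻_n(F)`, `n = 2d ≥ 8`, realised through `Ω⁻_n(q)`, the commutator subgroup of the isometry group of `Q = Σ_{i<d−1} xᵢyᵢ + z₁² + a z₁z₂ + b z₂²` with `z₁² + a z₁z₂ + b z₂²` anisotropic, over the field `F` with `q` elements; an element of `T` of prime order `r` is an element `x` of `Ω⁻_n(q)` with `x^r` scalar and `x` not scalar; `q` is even (so the centre is trivial). Let Ω be the set of 1-dimensional subspaces spanned by a vector `v` with `Q(v) ≠ 0`, and let `r` be a prime dividing their number. Then every element of `T` of order `r` fixes some nonsingular 1-space if and only if `r = 2`. -/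
theorem result {F : Type*} [Field F] [Fintype F] {p : ℕ} [Fact p.Prime] [CharP F p] {q : ℕ} (hq : Fintype.card F = q)
    (hp : p = 2) (d : ℕ) (hd : 4 ≤ d) (a b : F) (hab : ∀ x y : F, x ^ 2 + a * x * y + b * y ^ 2 = 0 → x = 0 ∧ y = 0) (r : ℕ) [Fact r.Prime]
    (hrΩ : r ∣ Nat.card {W : Submodule F ((Fin (d - 1) ⊕ Fin (d - 1)) ⊕ Fin 2 → F) // Module.finrank F ↥W = 1 ∧ ∃ v ∈ W, Cfsg.quadFormMinus (d - 1) F a b v ≠ 0}) :
    (∀ x : GL ((Fin (d - 1) ⊕ Fin (d - 1)) ⊕ Fin 2) F, x ∈ Cfsg.Geo.omegaGL (Cfsg.quadFormMinus (d - 1) F a b) →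
      (∃ z : F, ((x ^ r : GL ((Fin (d - 1) ⊕ Fin (d - 1)) ⊕ Fin 2) F) : Matrix ((Fin (d - 1) ⊕ Fin (d - 1)) ⊕ Fin 2) ((Fin (d - 1) ⊕ Fin (d - 1)) ⊕ Fin 2) F) = z • (1 : Matrix ((Fin (d - 1) ⊕ Fin (d - 1)) ⊕ Fin 2) ((Fin (d - 1) ⊕ Fin (d - 1)) ⊕ Fin 2) F)) →
      (∀ z : F, (x : Matrix ((Fin (d - 1) ⊕ Fin (d - 1)) ⊕ Fin 2) ((Fin (d - 1) ⊕ Fin (d - 1)) ⊕ Fin 2) F) ≠ z • (1 : Matrix ((Fin (d - 1) ⊕ Fin (d - 1)) ⊕ Fin 2) ((Fin (d - 1) ⊕ Fin (d - 1)) ⊕ Fin 2) F)) →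
      ∃ W : Submodule F ((Fin (d - 1) ⊕ Fin (d - 1)) ⊕ Fin 2 → F), (Module.finrank F ↥W = 1 ∧ ∃ v ∈ W, Cfsg.quadFormMinus (d - 1) F a b v ≠ 0) ∧ W.map (Matrix.toLin' (x : Matrix ((Fin (d - 1) ⊕ Fin (d - 1)) ⊕ Fin 2) ((Fin (d - 1) ⊕ Fin (d - 1)) ⊕ Fin 2) F)) ≤ W) ↔ r = 2 := by
  open CfsgLib.OrthPrime CfsgLib.Geometry CfsgLib.PrimeOrderSp in
  classical
  subst hq hp
  have h2 : (2 : F) = 0 := CharTwo.two_eq_zero
  have hab' : ∀ z₁ z₂ : F, z₁ ^ 2 + a * z₁ * z₂ + b * z₂ ^ 2 = 0 → z₁ = 0 ∧ z₂ = 0 := hab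
  rw [← coe_matQuad_minus] at hrΩ ⊢
  set Q := matQuad (minusMat (d - 1) F a b)
  have hQ : (QuadraticMap.polarBilin Q).Nondegenerate := nondegenerate_minus (d - 1) hab'
  have hsg : sgn Q ⊤ = -1 := sgn_minusForm (d - 1) hab'
  have hn : Fintype.card ((Fin (d - 1) ⊕ Fin (d - 1)) ⊕ Fin 2) = 2 * d := by simp; omega
  by_cases hr2 : r = 2
  · subst hr2
    have pos : ¬ (Even d ∧ sgn Q ⊤ = 1) → ∀ x : GL ((Fin (d - 1) ⊕ Fin (d - 1)) ⊕ Fin 2) F, x ∈ Cfsg.Geo.omegaGL ⇑Q →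
        (∃ z : F, ((x ^ 2 : GL ((Fin (d - 1) ⊕ Fin (d - 1)) ⊕ Fin 2) F) : Matrix ((Fin (d - 1) ⊕ Fin (d - 1)) ⊕ Fin 2) ((Fin (d - 1) ⊕ Fin (d - 1)) ⊕ Fin 2) F) = z • (1 : Matrix ((Fin (d - 1) ⊕ Fin (d - 1)) ⊕ Fin 2) ((Fin (d - 1) ⊕ Fin (d - 1)) ⊕ Fin 2) F)) →
        ∃ W : Submodule F (((Fin (d - 1) ⊕ Fin (d - 1)) ⊕ Fin 2) → F), (Module.finrank F W = 1 ∧ ∃ v ∈ W, Q v ≠ 0) ∧
          W.map (Matrix.toLin' (x : Matrix ((Fin (d - 1) ⊕ Fin (d - 1)) ⊕ Fin 2) ((Fin (d - 1) ⊕ Fin (d - 1)) ⊕ Fin 2) F)) ≤ W := by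
      intro hd' x hx hz
      obtain ⟨z, hz⟩ := hz
      have hff := two_scalar_sq hQ (by omega) h2 hx hz
      have hev := (two_mem_omega_iff hQ (by omega) h2 (omega_preserves hx) hff).1 ⟨x, hx, rfl⟩
      obtain ⟨v, hv, hQv⟩ := exists_fixed_nonsingular hQ h2 hn (omega_preserves hx) hff hev hd'
      refine ⟨Submodule.span F {v}, ⟨finrank_span_singleton fun h => hQv (by rw [h, QuadraticMap.map_zero]),
        v, Submodule.mem_span_singleton_self v, hQv⟩, ?_⟩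
      rw [Submodule.map_span, Set.image_singleton, hv]
    exact iff_of_true (fun x hx hz _ => pos (fun h => by rw [hsg] at h; norm_num at h) x hx hz) rfl
  simp only [hr2, iff_false]
  intro H
  obtain ⟨f, hf, hfr, hf1, hno⟩ := exists_no_fixed_point hQ hr2 (by omega) hrΩ
  have hcrit := elusive_iff_scalar hQ (by omega) ((Fact.out : r.Prime).odd_of_ne_two hr2)
    (fun W => Module.finrank F W = 1 ∧ ∃ v ∈ W, Q v ≠ 0)
  obtain ⟨W, hW, hWi⟩ := hcrit.1 H f hf hfr hf1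
  exact hno W hW hWi

end Cfsg.Agent.S5986
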