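import Cfsg.Statements.S5988
import Cfsg.Agent.Lib.OrthPrime.NDPlus

set_option autoImplicit false
open scoped MatrixGroups
open Cfsg

namespace Cfsg.Agent.S5988

/-- Elements of prime order of PΩ⁺_n(q) with no fixed elliptic `m`-space. Here `T = PΩ⁺_n(F)`, `n = 2d ≥ 8`, realised through `Ω⁺_n(q)`, the commutator subgroup of the isometry group of `Q = Σ xᵢyᵢ` over the field `F` with `q` elements; an element of `T` of prime order `r` is an element `x` of `Ω⁺_n(q)` with `x^r` scalar and `x` not scalar; a nondegenerate `m`-space (even `m`) is a subspace on which the polar form of `Q` is nondegenerate; it is hyperbolic if it contains an `m/2`-dimensional subspace on which `Q` vanishes, elliptic otherwise. Let `m` be even with `2 ≤ m < n/2` and let `r` be a prime dividing the number of elliptic `m`-spaces; for `r ≠ p` let `i` be the multiplicative order of `q` modulo `r`, `c = i` for `i` even and `c = 2i` for `i` odd, and write `k = n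 mod c`, `ℓ = m mod i`, `ℓ' = m mod c`, `n' = ⌊n/i⌋`, `m' = ⌊m/i⌋`, `t = (r−1)/i`. Then every element of `T` of order `r` fixes some elliptic `m`-space if and only if one of: (i) `r = 2 ≠ p` and either `n ≡ 0 (mod 4)`, `q ≡ 3 (mod 4)` and `m ≡ 2 (mod 4)`, or `n ≡ 2 (mod 4)` and `q ≢ 1 (mod 8)`; (ii) `r ≠ p` odd, `i` odd, `c ≤ m` and `k > ℓ' > 0`; (iii) `r ≠ p` odd, `i` even, and either `k = 0` and (`n/i` odd, or `ℓ' = 0` and `m/i` odd), or `i ≤ m` and (`k > ℓ' > 0`, or `k = ℓ' > 0` and `(n + m − 2k)/i` odd, or `k > ℓ' = 0` and `m/i` odd). (For `r = p` there is always an element of order `p` fixing no elliptic `m`-space.) -/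
theorem result {F : Type*} [Field F] [Fintype F] {p : ℕ} [Fact p.Prime] [CharP F p] {q : ℕ} (hq : Fintype.card F = q)
    (d m : ℕ) (hd : 4 ≤ d) (hm : 2 ≤ m) (hme : Even m) (hmd : m < d)
    (r : ℕ) [Fact r.Prime]
    (hrΩ : r ∣ Nat.card {W : Submodule F (Fin d ⊕ Fin d → F) // Module.finrank F ↥W = m ∧ Cfsg.Geo.IsNondegenerateOn (QuadraticMap.polar (Cfsg.quadFormPlus d F)) W ∧ ¬ Cfsg.Geo.IsPlusTypeOn (Cfsg.quadFormPlus d F) W})
    (i c : ℕ) (hi : i = orderOf (q : ZMod r)) (hc : c = if Even i then i else 2 * i) :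
    (∀ x : GL (Fin d ⊕ Fin d) F, x ∈ Cfsg.Geo.omegaGL (Cfsg.quadFormPlus d F) →
      (∃ z : F, ((x ^ r : GL (Fin d ⊕ Fin d) F) : Matrix (Fin d ⊕ Fin d) (Fin d ⊕ Fin d) F) = z • (1 : Matrix (Fin d ⊕ Fin d) (Fin d ⊕ Fin d) F)) →
      (∀ z : F, (x : Matrix (Fin d ⊕ Fin d) (Fin d ⊕ Fin d) F) ≠ z • (1 : Matrix (Fin d ⊕ Fin d) (Fin d ⊕ Fin d) F)) →
      ∃ W : Submodule F (Fin d ⊕ Fin d → F), (Module.finrank F ↥W = m ∧ Cfsg.Geo.IsNondegenerateOn (QuadraticMap.polar (Cfsg.quadFormPlus d F)) W ∧ ¬ Cfsg.Geo.IsPlusTypeOn (Cfsg.quadFormPlus d F) W) ∧ W.map (Matrix.toLin' (x : Matrix (Fin d ⊕ Fin d) (Fin d ⊕ Fin d) F)) ≤ W) ↔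
    ((r = 2 ∧ p ≠ 2 ∧ ((Even d ∧ q % 4 = 3 ∧ m % 4 = 2) ∨ (Odd d ∧ q % 8 ≠ 1))) ∨
     (r ≠ p ∧ 2 < r ∧ Odd i ∧ c ≤ m ∧ 0 < m % c ∧ m % c < (2 * d) % c) ∨
     (r ≠ p ∧ 2 < r ∧ Even i ∧
       (((2 * d) % c = 0 ∧ (Odd ((2 * d) / i) ∨ (m % c = 0 ∧ Odd (m / i)))) ∨
        (i ≤ m ∧ ((0 < m % c ∧ m % c < (2 * d) % c) ∨
                  (0 < m % c ∧ m % c = (2 * d) % c ∧ Odd ((2 * d + m - 2 * ((2 * d) % c)) / i)) ∨
                  (m % c = 0 ∧ 0 < (2 * d) % c ∧ Odd (m / i))))))) := by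
  open CfsgLib.OrthPrime CfsgLib.Geometry CfsgLib.PrimeOrderSp in
  classical
  subst hq
  rw [← coe_matQuad_plus] at hrΩ ⊢
  set Q := matQuad (plusMat d F)
  have hQ : (QuadraticMap.polarBilin Q).Nondegenerate := nondegenerate_plus d
  have hsg : sgn Q ⊤ = 1 := sgn_plusForm d
  have hn : Fintype.card (Fin d ⊕ Fin d) = 2 * d := by simp; omega
  have hfr : Module.finrank F ((Fin d ⊕ Fin d) → F) = 2 * d := by
    rw [Module.finrank_fintype_fun_eq_card, hn]
  simp only [nondegOn_iff, not_plusTypeOn_iff] at hrΩ ⊢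
  have hsS : (-1 : ℤ) = 1 ∨ (-1 : ℤ) = -1 := Or.inr rfl
  obtain ⟨W₀, hW₀n, hW₀d, hW₀s, horb⟩ := exists_class (Q := Q) hQ hsS hme (by omega) (by omega)
  by_cases hrp : r = p
  · subst hrp
    obtain ⟨f, hf, hfp, hf1, hev, hno⟩ := exists_p_no_elliptic (p := r) hQ (by omega) hfr hsg
    refine iff_of_false (fun H => ?_) (by simp only [ne_eq, not_true_eq_false, false_and, or_false]; omega)
    have hex : ∃ W : Submodule F (Fin d ⊕ Fin d → F), (Module.finrank F W = m ∧ W ⊓ polarPerp Q W = ⊥ ∧ sgn Q W = -1) ∧ Inv f W := by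
      by_cases hr2 : r = 2
      · subst hr2
        exact two_counter hQ (by omega) hf hfp hf1 hev H
      · exact (elusive_iff_scalar hQ (by omega) ((Fact.out : r.Prime).odd_of_ne_two hr2) _).1 H f hf hfp hf1
    obtain ⟨W, ⟨hW1, hW2, hW3⟩, hWi⟩ := hex
    rw [sgn_plus (hno W hWi hW2 (hW1.symm ▸ hme)).1] at hW3
    norm_num at hW3
  have hr' : (r : F) ≠ 0 := natCast_ne_zero_of_ne hrp
  by_cases hr2 : r = 2
  · subst hr2
    have h2 : (2 : F) ≠ 0 := by exact_mod_cast hr'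
    have key := nd_two hQ h2 hn (by omega) hW₀n (by omega) _ horb
    simp only [and_assoc] at key ⊢
    rw [key, hsg]
    have hp2 : p ≠ 2 := Ne.symm hrp
    simp only [lt_irrefl, false_and, and_false, or_false, false_or, true_and, hp2, ne_eq, not_false_eq_true, hW₀d, hW₀s,
      hme]
    rw [dSgn, dSgn]
    have hq2 := odd_card_of_two_ne h2
    simp only [Nat.odd_iff, Nat.even_iff] at *
    split_ifs <;> norm_num <;> omega
  have hi' : orderOf ((Fintype.card F : ℕ) : ZMod r) = i := hi.symm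
  have hrodd := (Fact.out : r.Prime).odd_of_ne_two hr2
  have hr3 : 2 < r := lt_of_le_of_ne (Fact.out : r.Prime).two_le (Ne.symm hr2)
  have hcrit := elusive_iff_scalar hQ (by omega) hrodd
    (fun W => Module.finrank F W = m ∧ W ⊓ polarPerp Q W = ⊥ ∧ sgn Q W = -1)
  simp only [and_assoc] at hcrit ⊢
  rw [hcrit]
  obtain ⟨hA, hB⟩ := nd_elusive hQ hr' hr2 hi' hme (by omega) (by omega) hsS hrΩ
  rw [hfr, hsg] at hA hB
  have hipos : 0 < i := hi' ▸ orderOf_card_pos (F := F) hr'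
  refine (Iff.intro (fun H => hA H) (fun h => hB h.2)).trans ?_
  have hwlog : NDEvenCrit (2 * d) 1 i m (-1) → unit i * i ≤ m := fun h => (hA (hB h)).1
  simp only [ne_eq, hrp, not_false_eq_true, hr3, true_and, hr2, false_and, false_or]
  refine (Iff.intro (fun h => h.2) fun h => ⟨hwlog h, h⟩).trans ?_
  unfold NDEvenCrit at hwlog ⊢
  rcases Nat.even_or_odd i with hev | hiodd
  · rw [if_pos hev] at hc
    subst c
    simp only [unit_even hev, one_mul, mul_one, ne_comm (a := (1 : ℤ)), one_mul, eq_comm (a := (-1 : ℤ)), ne_eq, neg_one_pow_eq_one', neg_one_pow_eq_neg_one'] at hwlog ⊢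
    simp only [hev, Nat.not_odd_iff_even.2 hev, false_and, false_or, true_and]
    have hdiv := fun h : m % i = (2 * d) % i => div_sum (n := 2 * d) (m := m) hipos h
    by_cases hlk : m % i = (2 * d) % i
    · have hdiv' := hdiv hlk
      simp only [Nat.odd_iff, Nat.even_iff] at *
      omega
    · simp only [Nat.odd_iff, Nat.even_iff] at *
      omega
  · rw [if_neg (Nat.not_even_iff_odd.2 hiodd)] at hc
    subst c
    simp only [pow_unit_odd hiodd, ne_eq] at hwlog ⊢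
    simp only [unit_odd hiodd] at hwlog ⊢
    simp only [hiodd, Nat.not_even_iff_odd.2 hiodd, false_and, or_false, true_and]
    norm_num at hwlog ⊢
    omega

end Cfsg.Agent.S5988
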