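import Cfsg.Statements.S5990
import Cfsg.Agent.Lib.OrthPrime.NDPlus

set_option autoImplicit false
open scoped MatrixGroups
open Cfsg

namespace Cfsg.Agent.S5990

/-- Elements of prime order of PΩ⁻_n(q) with no fixed elliptic `m`-space. Here `T = PΩ⁻_n(F)`, `n = 2d ≥ 8`, realised through `Ω⁻_n(q)`, the commutator subgroup of the isometry group of `Q = Σ_{i<d−1} xᵢyᵢ + z₁² + a z₁z₂ + b z₂²` with `z₁² + a z₁z₂ + b z₂²` anisotropic, over the field `F` with `q` elements; an element of `T` of prime order `r` is an element `x` of `Ω⁻_n(q)` with `x^r` scalar and `x` not scalar; a nondegenerate `m`-space (even `m`) is a subspace on which the polar form of `Q` is nondegenerate; it is hyperbolic if it contains an `m/2`-dimensional subspace on which `Q` vanishes, elliptic otherwise. Let `m` be even with `2 ≤ m ≤ n − 2` (no restriction `m < n/2`: fixing an elliptic `m`-space is the same as fixing its hyperbolic orthogonal complement)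 and let `r` be a prime dividing the number of elliptic `m`-spaces, with `r = 2` or `r ≠ p`; for `r ≠ p` let `i` be the multiplicative order of `q` modulo `r`, `c = i` for `i` even and `c = 2i` for `i` odd, and write `k = n mod c`, `ℓ = m mod i`, `ℓ' = m mod c`, `n' = ⌊n/i⌋`, `m' = ⌊m/i⌋`, `t = (r−1)/i`. Then every element of `T` of order `r` fixes some elliptic `m`-space if and only if one of: (i) `r = p = 2` and (`n ≡ 0 (mod 4)` or `m ≡ 2 (mod 4)`); (ii) `r = 2 ≠ p` and (`n ≡ 0 (mod 4)`, or `q ≢ 7 (mod 8)`, or `m ≡ 2 (mod 4)`); (iii) `r ≠ p` odd, `i` odd, and `k = 0` or (`c ≤ m` and `k ≥ ℓ' > 0`); (iv) `r ≠ p` odd, `i` even, and either `k = 0` and (`n/i` even, or `ℓ' = 0` and `m/i` odd), or `k > 0`, `i ≤ m` and (`k > ℓ' > 0`, or `ℓ' = 0` and `m/i` odd, or `k = ℓ'` and `(n + m − 2k)/i` even). (Odd `r = p` is not covered by this statement.) -/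
theorem result {F : Type*} [Field F] [Fintype F] {p : ℕ} [Fact p.Prime] [CharP F p] {q : ℕ} (hq : Fintype.card F = q)
    (d m : ℕ) (hd : 4 ≤ d) (hm : 2 ≤ m) (hme : Even m) (hmn : m + 2 ≤ 2 * d) (a b : F) (hab : ∀ x y : F, x ^ 2 + a * x * y + b * y ^ 2 = 0 → x = 0 ∧ y = 0)
    (r : ℕ) [Fact r.Prime] (hr : r = 2 ∨ r ≠ p)
    (hrΩ : r ∣ Nat.card {W : Submodule F ((Fin (d - 1) ⊕ Fin (d - 1)) ⊕ Fin 2 → F) // Module.finrank F ↥W = m ∧ Cfsg.Geo.IsNondegenerateOn (QuadraticMap.polar (Cfsg.quadFormMinus (d - 1) F a b)) W ∧ ¬ Cfsg.Geo.IsPlusTypeOn (Cfsg.quadFormMinus (d - 1) F a b) W})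
    (i c : ℕ) (hi : i = orderOf (q : ZMod r)) (hc : c = if Even i then i else 2 * i) :
    (∀ x : GL ((Fin (d - 1) ⊕ Fin (d - 1)) ⊕ Fin 2) F, x ∈ Cfsg.Geo.omegaGL (Cfsg.quadFormMinus (d - 1) F a b) →
      (∃ z : F, ((x ^ r : GL ((Fin (d - 1) ⊕ Fin (d - 1)) ⊕ Fin 2) F) : Matrix ((Fin (d - 1) ⊕ Fin (d - 1)) ⊕ Fin 2) ((Fin (d - 1) ⊕ Fin (d - 1)) ⊕ Fin 2) F) = z • (1 : Matrix ((Fin (d - 1) ⊕ Fin (d - 1)) ⊕ Fin 2) ((Fin (d - 1) ⊕ Fin (d - 1)) ⊕ Fin 2) F)) →
      (∀ z : F, (x : Matrix ((Fin (d - 1) ⊕ Fin (d - 1)) ⊕ Fin 2) ((Fin (d - 1) ⊕ Fin (d - 1)) ⊕ Fin 2) F) ≠ z • (1 : Matrix ((Fin (d - 1) ⊕ Fin (d - 1)) ⊕ Fin 2) ((Fin (d - 1) ⊕ Fin (d - 1)) ⊕ Fin 2) F)) →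
      ∃ W : Submodule F ((Fin (d - 1) ⊕ Fin (d - 1)) ⊕ Fin 2 → F), (Module.finrank F ↥W = m ∧ Cfsg.Geo.IsNondegenerateOn (QuadraticMap.polar (Cfsg.quadFormMinus (d - 1) F a b)) W ∧ ¬ Cfsg.Geo.IsPlusTypeOn (Cfsg.quadFormMinus (d - 1) F a b) W) ∧ W.map (Matrix.toLin' (x : Matrix ((Fin (d - 1) ⊕ Fin (d - 1)) ⊕ Fin 2) ((Fin (d - 1) ⊕ Fin (d - 1)) ⊕ Fin 2) F)) ≤ W) ↔
    ((r = 2 ∧ p = 2 ∧ (Even d ∨ m % 4 = 2)) ∨
     (r = 2 ∧ p ≠ 2 ∧ (Even d ∨ q % 8 ≠ 7 ∨ m % 4 = 2)) ∨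
     (r ≠ p ∧ 2 < r ∧ Odd i ∧ ((2 * d) % c = 0 ∨ (c ≤ m ∧ 0 < m % c ∧ m % c ≤ (2 * d) % c))) ∨
     (r ≠ p ∧ 2 < r ∧ Even i ∧
       (((2 * d) % c = 0 ∧ (Even ((2 * d) / i) ∨ (m % c = 0 ∧ Odd (m / i)))) ∨
        (0 < (2 * d) % c ∧ i ≤ m ∧ ((0 < m % c ∧ m % c < (2 * d) % c) ∨ (m % c = 0 ∧ Odd (m / i)) ∨
                                    (m % c = (2 * d) % c ∧ Even ((2 * d + m - 2 * ((2 * d) % c)) / i))))))) := by
  open CfsgLib.OrthPrime CfsgLib.Geometry CfsgLib.PrimeOrderSp in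
  classical
  subst hq
  have hab' : ∀ z₁ z₂ : F, z₁ ^ 2 + a * z₁ * z₂ + b * z₂ ^ 2 = 0 → z₁ = 0 ∧ z₂ = 0 := hab
  rw [← coe_matQuad_minus] at hrΩ ⊢
  set Q := matQuad (minusMat (d - 1) F a b)
  have hQ : (QuadraticMap.polarBilin Q).Nondegenerate := nondegenerate_minus (d - 1) hab'
  have hsg : sgn Q ⊤ = (-1) := sgn_minusForm (d - 1) hab'
  have hn : Fintype.card ((Fin (d - 1) ⊕ Fin (d - 1)) ⊕ Fin 2) = 2 * d := by simp; omega
  have hfr : Module.finrank F (((Fin (d - 1) ⊕ Fin (d - 1)) ⊕ Fin 2) → F) = 2 * d := by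
    rw [Module.finrank_fintype_fun_eq_card, hn]
  simp only [nondegOn_iff, not_plusTypeOn_iff] at hrΩ ⊢
  have hsS : (-1 : ℤ) = 1 ∨ (-1 : ℤ) = -1 := Or.inr rfl
  obtain ⟨W₀, hW₀n, hW₀d, hW₀s, horb⟩ := exists_class (Q := Q) hQ hsS hme (by omega) (by omega)
  by_cases hrp : r = p
  · subst hrp
    obtain rfl : r = 2 := hr.resolve_right fun h => h rfl
    simp only [true_and, ne_eq, not_true_eq_false, false_and, or_false]
    constructor
    · intro H
      by_contra hc'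
      push Not at hc'
      obtain ⟨f, hf, hff, hf1, hev, hno⟩ := exists_two_no_elliptic hQ (by omega) (Nat.not_even_iff_odd.1 hc'.1) hfr
      obtain ⟨W, ⟨hW1, hW2, hW3⟩, hWi⟩ := two_counter hQ (by omega) hf hff hf1 hev
        (P := fun W => Module.finrank F W = m ∧ W ⊓ polarPerp Q W = ⊥ ∧ sgn Q W = -1) H
      rw [sgn_plus (hno W hWi hW2 (by rw [Nat.even_iff] at hme; omega))] at hW3
      norm_num at hW3
    · intro hcase x hx hz _
      obtain ⟨h, hh⟩ := id hme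
      obtain ⟨W, ⟨h1, h2, h3⟩, hWi⟩ := two_fix_nd (s := -1) (h := h) hQ (by omega) hn (by omega) (by omega) hsS (fun k hk hkd hks => by
        obtain ⟨j, hj⟩ := hk
        have hklt : k < d := lt_of_le_of_ne hkd fun e => by rw [hks e] at hsg; norm_num at hsg
        rw [Nat.even_iff] at hcase
        rcases Nat.even_or_odd h with hhe | hho
        · obtain ⟨e, he⟩ := hhe
          exact ⟨min (h - 2) k, h - min (h - 2) k, by rw [Nat.even_iff]; omega, by omega, fun h0 => by omega,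
            by rw [hsg]; simp only [and_true]; omega, by omega⟩
        · rw [Nat.odd_iff] at hho
          exact ⟨min (h - 1) k, h - min (h - 1) k, by rw [Nat.even_iff]; omega, by omega, fun h0 => by omega,
            by rw [hsg]; simp only [and_true]; omega, by omega⟩) x hx hz
      exact ⟨W, ⟨by omega, h2, h3⟩, hWi⟩
  have hr' : (r : F) ≠ 0 := natCast_ne_zero_of_ne hrp
  by_cases hr2 : r = 2
  · subst hr2
    have h2 : (2 : F) ≠ 0 := by exact_mod_cast hr'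
    have key := nd_two hQ h2 hn (by omega) hW₀n (by omega) _ horb
    simp only [and_assoc] at key ⊢
    rw [key, hsg]
    have hp2 : p ≠ 2 := Ne.symm hrp
    simp only [lt_irrefl, false_and, and_false, or_false, false_or, true_and, hp2, ne_eq, not_false_eq_true, hW₀d, hW₀s,
      hme]
    rw [dSgn, dSgn]
    have hq2 := odd_card_of_two_ne h2
    simp only [Nat.odd_iff, Nat.even_iff] at *
    split_ifs <;> norm_num <;> omega
  have hi' : orderOf ((Fintype.card F : ℕ) : ZMod r) = i := hi.symm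
  have hrodd := (Fact.out : r.Prime).odd_of_ne_two hr2
  have hr3 : 2 < r := lt_of_le_of_ne (Fact.out : r.Prime).two_le (Ne.symm hr2)
  have hcrit := elusive_iff_scalar hQ (by omega) hrodd
    (fun W => Module.finrank F W = m ∧ W ⊓ polarPerp Q W = ⊥ ∧ sgn Q W = -1)
  simp only [and_assoc] at hcrit ⊢
  rw [hcrit]
  obtain ⟨hA, hB⟩ := nd_elusive hQ hr' hr2 hi' hme (by omega) (by omega) hsS hrΩ
  rw [hfr, hsg] at hA hB
  have hipos : 0 < i := hi' ▸ orderOf_card_pos (F := F) hr'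
  refine (Iff.intro (fun H => hA H) (fun h => hB h.2)).trans ?_
  have hwlog : NDEvenCrit (2 * d) (-1) i m (-1) → unit i * i ≤ m := fun h => (hA (hB h)).1
  simp only [ne_eq, hrp, not_false_eq_true, hr3, true_and, hr2, false_and, false_or]
  refine (Iff.intro (fun h => h.2) fun h => ⟨hwlog h, h⟩).trans ?_
  unfold NDEvenCrit at hwlog ⊢
  rcases Nat.even_or_odd i with hev | hiodd
  · rw [if_pos hev] at hc
    subst c
    simp only [unit_even hev, one_mul, mul_one, neg_one_mul, ne_eq, neg_inj, eq_comm (a := (-1 : ℤ)), eq_comm (a := (1 : ℤ)), neg_one_pow_eq_one', neg_one_pow_eq_neg_one'] at hwlog ⊢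
    simp only [hev, Nat.not_odd_iff_even.2 hev, false_and, false_or, true_and]
    have hdiv := fun h : m % i = (2 * d) % i => div_sum (n := 2 * d) (m := m) hipos h
    by_cases hlk : m % i = (2 * d) % i
    · have hdiv' := hdiv hlk
      simp only [Nat.odd_iff, Nat.even_iff] at *
      omega
    · simp only [Nat.odd_iff, Nat.even_iff] at *
      omega
  · rw [if_neg (Nat.not_even_iff_odd.2 hiodd)] at hc
    subst c
    simp only [pow_unit_odd hiodd, ne_eq] at hwlog ⊢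
    simp only [unit_odd hiodd] at hwlog ⊢
    simp only [hiodd, Nat.not_even_iff_odd.2 hiodd, false_and, or_false, true_and]
    norm_num at hwlog ⊢
    omega

end Cfsg.Agent.S5990
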