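import Cfsg.Statements.S5991
import Cfsg.Agent.Lib.OrthPrime.UnipClass

set_option autoImplicit false
open scoped MatrixGroups
open Cfsg

namespace Cfsg.Agent.S5991

/-- Elements of prime order of PΩ⁻_n(q), q odd, with no fixed nondegenerate `m`-space of odd dimension. Here `T = PΩ⁻_n(F)`, `n = 2d ≥ 8`, realised through `Ω⁻_n(q)`, the commutator subgroup of the isometry group of `Q = Σ_{i<d−1} xᵢyᵢ + z₁² + a z₁z₂ + b z₂²` with `z₁² + a z₁z₂ + b z₂²` anisotropic, over the field `F` with `q` elements; an element of `T` of prime order `r` is an element `x` of `Ω⁻_n(q)` with `x^r` scalar and `x` not scalar; `q` and `m` are odd, `1 ≤ m < n/2`. The nondegenerate `m`-spaces fall into two isometry classes, each an orbit of `T`, with equivalent actions; fix one such space `W₀` and let Ω be the set of nondegenerate `m`-spaces isometric to `W₀`. Let `r` be a prime dividing the size of Ω; for `r ≠ p` let `i` be the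 multiplicative order of `q` modulo `r`, `c = i` for `i` even and `c = 2i` for `i` odd, and write `k = n mod c`, `ℓ = m mod i`, `ℓ' = m mod c`, `n' = ⌊n/i⌋`, `m' = ⌊m/i⌋`, `t = (r−1)/i`. Then every element of `T` of order `r` fixes a member of Ω if and only if one of: (i) `r = 2` and (`n ≡ 0 (mod 4)` or `q ≢ 7 (mod 8)`); (ii) `r ≠ p` odd, `i` odd, and `k = 0` or (`c ≤ m` and `k > ℓ' > 0`); (iii) `r ≠ p` odd, `i` even, and either `k = 0` and `n/i` even, or `k > 0`, `i ≤ m` and `k > ℓ' > 0`. (For `r = p` there is always an element of order `p` fixing no member of Ω.) -/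
theorem result {F : Type*} [Field F] [Fintype F] {p : ℕ} [Fact p.Prime] [CharP F p] {q : ℕ} (hq : Fintype.card F = q)
    (hodd : Odd q) (d m : ℕ) (hd : 4 ≤ d) (hm : Odd m) (hmd : m < d) (a b : F) (hab : ∀ x y : F, x ^ 2 + a * x * y + b * y ^ 2 = 0 → x = 0 ∧ y = 0)
    (W₀ : Submodule F ((Fin (d - 1) ⊕ Fin (d - 1)) ⊕ Fin 2 → F)) (hW₀ : Module.finrank F ↥W₀ = m ∧ Cfsg.Geo.IsNondegenerateOn (QuadraticMap.polar (Cfsg.quadFormMinus (d - 1) F a b)) W₀)
    (r : ℕ) [Fact r.Prime]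
    (hrΩ : r ∣ Nat.card {W : Submodule F ((Fin (d - 1) ⊕ Fin (d - 1)) ⊕ Fin 2 → F) // Module.finrank F ↥W = m ∧ Cfsg.Geo.IsNondegenerateOn (QuadraticMap.polar (Cfsg.quadFormMinus (d - 1) F a b)) W ∧ Cfsg.Geo.AreIsometricFor (Cfsg.quadFormMinus (d - 1) F a b) W W₀})
    (i c : ℕ) (hi : i = orderOf (q : ZMod r)) (hc : c = if Even i then i else 2 * i) :
    (∀ x : GL ((Fin (d - 1) ⊕ Fin (d - 1)) ⊕ Fin 2) F, x ∈ Cfsg.Geo.omegaGL (Cfsg.quadFormMinus (d - 1) F a b) →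
      (∃ z : F, ((x ^ r : GL ((Fin (d - 1) ⊕ Fin (d - 1)) ⊕ Fin 2) F) : Matrix ((Fin (d - 1) ⊕ Fin (d - 1)) ⊕ Fin 2) ((Fin (d - 1) ⊕ Fin (d - 1)) ⊕ Fin 2) F) = z • (1 : Matrix ((Fin (d - 1) ⊕ Fin (d - 1)) ⊕ Fin 2) ((Fin (d - 1) ⊕ Fin (d - 1)) ⊕ Fin 2) F)) →
      (∀ z : F, (x : Matrix ((Fin (d - 1) ⊕ Fin (d - 1)) ⊕ Fin 2) ((Fin (d - 1) ⊕ Fin (d - 1)) ⊕ Fin 2) F) ≠ z • (1 : Matrix ((Fin (d - 1) ⊕ Fin (d - 1)) ⊕ Fin 2) ((Fin (d - 1) ⊕ Fin (d - 1)) ⊕ Fin 2) F)) →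
      ∃ W : Submodule F ((Fin (d - 1) ⊕ Fin (d - 1)) ⊕ Fin 2 → F), (Module.finrank F ↥W = m ∧ Cfsg.Geo.IsNondegenerateOn (QuadraticMap.polar (Cfsg.quadFormMinus (d - 1) F a b)) W ∧ Cfsg.Geo.AreIsometricFor (Cfsg.quadFormMinus (d - 1) F a b) W W₀) ∧ W.map (Matrix.toLin' (x : Matrix ((Fin (d - 1) ⊕ Fin (d - 1)) ⊕ Fin 2) ((Fin (d - 1) ⊕ Fin (d - 1)) ⊕ Fin 2) F)) ≤ W) ↔
    ((r = 2 ∧ (Even d ∨ q % 8 ≠ 7)) ∨
     (r ≠ p ∧ 2 < r ∧ Odd i ∧ ((2 * d) % c = 0 ∨ (c ≤ m ∧ 0 < m % c ∧ m % c < (2 * d) % c))) ∨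
     (r ≠ p ∧ 2 < r ∧ Even i ∧ (((2 * d) % c = 0 ∧ Even ((2 * d) / i)) ∨ (0 < (2 * d) % c ∧ i ≤ m ∧ 0 < m % c ∧ m % c < (2 * d) % c)))) := by
  open CfsgLib.OrthPrime CfsgLib.Geometry CfsgLib.PrimeOrderSp in
  classical
  subst hq
  have h2 : (2 : F) ≠ 0 := two_ne_zero_of_odd_card rfl hodd
  have hab' : ∀ z₁ z₂ : F, z₁ ^ 2 + a * z₁ * z₂ + b * z₂ ^ 2 = 0 → z₁ = 0 ∧ z₂ = 0 := hab
  rw [← coe_matQuad_minus] at hrΩ hW₀ ⊢
  set Q := matQuad (minusMat (d - 1) F a b)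
  have hQ : (QuadraticMap.polarBilin Q).Nondegenerate := nondegenerate_minus (d - 1) hab'
  have hsg : sgn Q ⊤ = -1 := sgn_minusForm (d - 1) hab'
  have hn : Fintype.card ((Fin (d - 1) ⊕ Fin (d - 1)) ⊕ Fin 2) = 2 * d := by simp; omega
  have hfr : Module.finrank F (((Fin (d - 1) ⊕ Fin (d - 1)) ⊕ Fin 2) → F) = 2 * d := by
    rw [Module.finrank_fintype_fun_eq_card, hn]
  simp only [nondegOn_iff, Cfsg.Geo.AreIsometricFor] at hrΩ hW₀ ⊢
  obtain ⟨hW₀d, hW₀n⟩ := hW₀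
  have horb : ∀ W : Submodule F (((Fin (d - 1) ⊕ Fin (d - 1)) ⊕ Fin 2) → F), (Module.finrank F W = m ∧ W ⊓ polarPerp Q W = ⊥ ∧
      ∃ e : W ≃ₗ[F] W₀, ∀ w : W, Q (e w : ((Fin (d - 1) ⊕ Fin (d - 1)) ⊕ Fin 2) → F) = Q (w : ((Fin (d - 1) ⊕ Fin (d - 1)) ⊕ Fin 2) → F)) ↔ InOrbit Q W₀ W := fun W =>
    ⟨fun ⟨_, _, h⟩ => InOrbit.symm h, fun h => ⟨h.finrank_eq.trans hW₀d, h.nondeg hW₀n, h.symm⟩⟩
  by_cases hrp : r = p
  · subst hrp
    have hp2 : r ≠ 2 := fun h => by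
      subst h
      exact h2 (by simpa using CharP.cast_eq_zero F 2)
    simp only [hp2, ne_eq, not_true_eq_false, false_and, false_or, iff_false]
    intro H
    have hcrit := elusive_iff_scalar hQ (by omega) ((Fact.out : r.Prime).odd_of_ne_two hp2)
      (fun W => Module.finrank F W = m ∧ W ⊓ polarPerp Q W = ⊥ ∧
        ∃ e : W ≃ₗ[F] W₀, ∀ w : W, Q (e w : ((Fin (d - 1) ⊕ Fin (d - 1)) ⊕ Fin 2) → F) = Q (w : ((Fin (d - 1) ⊕ Fin (d - 1)) ⊕ Fin 2) → F))
    simp only [and_assoc] at hcrit H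
    rcases Nat.even_or_odd d with hde | hdo
    · obtain ⟨o, ho⟩ := id hm
      obtain ⟨f, hf, hfp, hf1, hno⟩ := exists_p_class (p := r) hQ h2 (by omega) hde hfr hW₀n (hW₀d.trans ho)
      obtain ⟨W, h1, hW, he, hi'⟩ := hcrit.1 H f hf hfp hf1
      exact hno W (InOrbit.symm he) hi'
    · obtain ⟨f, hf, hfp, hf1, hno⟩ := exists_p_half_odd (p := r) hQ h2 (by omega) hdo hfr hm
      obtain ⟨W, h1, hW, -, hi'⟩ := hcrit.1 H f hf hfp hf1
      exact hno W hi' hW h1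
  have hr : (r : F) ≠ 0 := natCast_ne_zero_of_ne hrp
  by_cases hr2 : r = 2
  · subst hr2
    have key := nd_two hQ h2 hn (by omega) hW₀n (by omega) _ horb
    simp only [and_assoc] at key ⊢
    rw [key, hsg]
    simp only [lt_irrefl, false_and, and_false, or_false, true_and, hW₀d, Nat.not_even_iff_odd.2 hm]
    rw [dSgn]
    simp only [Nat.even_iff]
    have hq2 : Fintype.card F % 2 = 1 := Nat.odd_iff.1 hodd
    split_ifs with h4 <;> norm_num <;> omega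
  have hi' : orderOf ((Fintype.card F : ℕ) : ZMod r) = i := hi.symm
  have hrodd := (Fact.out : r.Prime).odd_of_ne_two hr2
  have hr3 : 2 < r := lt_of_le_of_ne (Fact.out : r.Prime).two_le (Ne.symm hr2)
  have hcrit := elusive_iff_scalar hQ (by omega) hrodd
    (fun W => Module.finrank F W = m ∧ W ⊓ polarPerp Q W = ⊥ ∧
      ∃ e : W ≃ₗ[F] W₀, ∀ w : W, Q (e w : ((Fin (d - 1) ⊕ Fin (d - 1)) ⊕ Fin 2) → F) = Q (w : ((Fin (d - 1) ⊕ Fin (d - 1)) ⊕ Fin 2) → F))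
  simp only [and_assoc] at hcrit ⊢
  rw [hcrit]
  obtain ⟨hA, hB⟩ := nd_odd_elusive hQ h2 (hfr ▸ even_two_mul d) hr hr2 hi' hm (by omega) hW₀n hW₀d hrΩ
  rw [hfr, hsg] at hA hB
  have hipos : 0 < i := hi' ▸ orderOf_card_pos (F := F) hr
  refine (Iff.intro (fun H => hA H) (fun h => hB h.2)).trans ?_
  simp only [ne_eq, hrp, not_false_eq_true, hr3, true_and, hr2, false_and, false_or]
  refine ⟨fun ⟨hle, hc'⟩ => ?_, fun h => ?_⟩
  all_goals unfold NDOddCrit at *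
  · rcases Nat.even_or_odd i with hev | hiodd
    · rw [if_pos hev] at hc
      subst c
      simp only [unit_even hev, one_mul, mul_one, ne_eq, eq_comm (a := (-1 : ℤ)), neg_one_pow_eq_neg_one', Nat.not_odd_iff_even] at hle hc'
      refine Or.inr ⟨hev, ?_⟩
      rcases hc' with h | h
      · exact Or.inl h
      · refine Or.inr ⟨by omega, by omega, ?_, h⟩
        obtain ⟨j, hj⟩ := hev
        have h2i : 2 ∣ i := ⟨j, by omega⟩
        have := Nat.mod_mod_of_dvd m h2i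
        rw [Nat.odd_iff] at hm
        omega
    · rw [if_neg (Nat.not_even_iff_odd.2 hiodd)] at hc
      subst c
      simp only [pow_unit_odd hiodd] at hc'
      simp only [unit_odd hiodd] at hle hc'
      refine Or.inl ⟨hiodd, ?_⟩
      have := Nat.mod_mod_of_dvd m (dvd_mul_right 2 i)
      rw [Nat.odd_iff] at hm
      rcases hc' with ⟨h, he⟩ | h
      · exact Or.inl h
      · exact Or.inr ⟨hle, by omega, h⟩
  · rcases h with ⟨hiodd, h⟩ | ⟨hev, h⟩
    · rw [if_neg (Nat.not_even_iff_odd.2 hiodd)] at hc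
      subst c
      simp only [pow_unit_odd hiodd]
      simp only [unit_odd hiodd]
      refine ⟨?_, h.imp (fun h => ⟨h, by norm_num⟩) fun h => h.2.2⟩
      rcases h with h | h
      · have hno := hA (hB (Or.inl ⟨by rw [unit_odd hiodd]; exact h, by rw [pow_unit_odd hiodd]; norm_num⟩))
        simp only [unit_odd hiodd] at hno
        exact hno.1
      · exact h.1
    · rw [if_pos hev] at hc
      subst c
      simp only [unit_even hev, one_mul, mul_one, ne_eq, eq_comm (a := (-1 : ℤ)), neg_one_pow_eq_neg_one', Nat.not_odd_iff_even]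
      have hM1 : m < 2 * d := by omega
      refine ⟨?_, ?_⟩
      · rcases h with h | h
        · by_contra hlt
          have hno := hA (hB (Or.inl (by
            simp only [unit_even hev, one_mul, mul_one, ne_eq, eq_comm (a := (-1 : ℤ)), neg_one_pow_eq_neg_one', Nat.not_odd_iff_even]; exact h)))
          simp only [unit_even hev, one_mul] at hno
          omega
        · omega
      · rcases h with h | h
        · exact Or.inl h
        · exact Or.inr h.2.2.2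

end Cfsg.Agent.S5991
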