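import Cfsg.Statements.S5992
import Cfsg.Agent.Lib.OrthPrime.NDGlue

set_option autoImplicit false
open scoped MatrixGroups
open Cfsg

namespace Cfsg.Agent.S5992

/-- Elements of prime order r ≠ p of Ω_n(q), nq odd, with no fixed hyperbolic `m`-space. Here `T = Ω_n(F)`, `n = 2d+1 ≥ 7`, `q` odd, realised as the commutator subgroup of the isometry group of `Q = x₀² + Σ xᵢyᵢ` over the field `F` with `q` elements (trivial centre, so its elements of prime order `r` are used directly); a nondegenerate `m`-space (even `m`) is a subspace on which the polar form of `Q` is nondegenerate; it is hyperbolic if it contains an `m/2`-dimensional subspace on which `Q` vanishes, elliptic otherwise. Let `m` be even with `2 ≤ m ≤ n − 1` (no restriction `m < n/2`) and let `r ≠ p` be a prime dividing the number of hyperbolic `m`-spaces; for `r ≠ p` let `i` be the multiplicative order of `q` modulo `r`, `c = i` for `i` even and `c = 2i` for `i` odd, and write `k = n mod c`,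 `ℓ' = m mod c`. Then every element of `T` of order `r` fixes some hyperbolic `m`-space if and only if `r = 2`, or `r` is odd and one of: (i) `i` odd, `c ≤ m` and either `k > ℓ' > 0` or `ℓ' = 0`; (ii) `i` even, `i ≤ m`, `k > ℓ'`, and `m/i` even whenever `ℓ' = 0`. (`r = p` is not covered by this statement.) -/
theorem result {F : Type*} [Field F] [Fintype F] {p : ℕ} [Fact p.Prime] [CharP F p] {q : ℕ} (hq : Fintype.card F = q) (hqodd : Odd q)
    (d m : ℕ) (hd : 3 ≤ d) (hm : 2 ≤ m) (hme : Even m) (hmn : m ≤ 2 * d)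
    (r : ℕ) [Fact r.Prime] (hrp : r ≠ p)
    (hrΩ : r ∣ Nat.card {W : Submodule F (Unit ⊕ (Fin d ⊕ Fin d) → F) // Module.finrank F ↥W = m ∧ Cfsg.Geo.IsNondegenerateOn (QuadraticMap.polar (Cfsg.quadFormOdd d F)) W ∧ Cfsg.Geo.IsPlusTypeOn (Cfsg.quadFormOdd d F) W})
    (i c : ℕ) (hi : i = orderOf (q : ZMod r)) (hc : c = if Even i then i else 2 * i) :
    (∀ x : GL (Unit ⊕ (Fin d ⊕ Fin d)) F, x ∈ Cfsg.Geo.omegaGL (Cfsg.quadFormOdd d F) → orderOf x = r →
      ∃ W : Submodule F (Unit ⊕ (Fin d ⊕ Fin d) → F), (Module.finrank F ↥W = m ∧ Cfsg.Geo.IsNondegenerateOn (QuadraticMap.polar (Cfsg.quadFormOdd d F)) W ∧ Cfsg.Geo.IsPlusTypeOn (Cfsg.quadFormOdd d F) W) ∧ W.map (Matrix.toLin' (x : Matrix (Unit ⊕ (Fin d ⊕ Fin d)) (Unit ⊕ (Fin d ⊕ Fin d)) F)) ≤ W) ↔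
    (r = 2 ∨
     (2 < r ∧ Odd i ∧ c ≤ m ∧ (m % c = 0 ∨ (0 < m % c ∧ m % c < (2 * d + 1) % c))) ∨
     (2 < r ∧ Even i ∧ i ≤ m ∧ m % c < (2 * d + 1) % c ∧ (0 < m % c ∨ Even (m / i)))) := by
  open CfsgLib.OrthPrime CfsgLib.Geometry CfsgLib.PrimeOrderSp in
  classical
  subst hq
  have h2 : (2 : F) ≠ 0 := two_ne_zero_of_odd_card rfl hqodd
  rw [← coe_matQuad_odd] at hrΩ ⊢
  set Q := matQuad (oddMat d F)
  have hQ : (QuadraticMap.polarBilin Q).Nondegenerate := nondeg_odd h2 d
  have hn : Fintype.card (Unit ⊕ (Fin d ⊕ Fin d)) = 2 * d + 1 := by simp; omega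
  have hfr : Module.finrank F (Unit ⊕ (Fin d ⊕ Fin d) → F) = 2 * d + 1 := by
    rw [Module.finrank_fintype_fun_eq_card, hn]
  simp only [nondegOn_iff, plusTypeOn_iff] at hrΩ ⊢
  have hsS : (1 : ℤ) = 1 ∨ (1 : ℤ) = -1 := Or.inl rfl
  have hr : (r : F) ≠ 0 := natCast_ne_zero_of_ne hrp
  by_cases hr2 : r = 2
  · subst hr2
    refine iff_of_true (fun x hx hx2 => ?_) (Or.inl rfl)
    have hf := omega_preserves hx
    set f := Matrix.toLin' (x : Matrix (Unit ⊕ (Fin d ⊕ Fin d)) (Unit ⊕ (Fin d ⊕ Fin d)) F) with hfdef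
    have hff : f ^ 2 = 1 := by
      rw [hfdef, ← toLin'_pow, ← hx2, pow_orderOf_eq_one, Units.val_one, Matrix.toLin'_one, Module.End.one_eq_id]
    obtain ⟨W₀, hW₀, hW₀d, -, horb⟩ := exists_class (Q := Q) hQ hsS hme (by omega) (by omega)
    obtain ⟨W, hW, hWi⟩ := invol_fix_class hQ h2 hf hff (by omega) hW₀ (by omega)
    exact ⟨W, (horb W).2 hW, Submodule.map_le_iff_le_comap.2 fun v hv => hWi v hv⟩
  have hi' : orderOf ((Fintype.card F : ℕ) : ZMod r) = i := hi.symm
  have hrodd := (Fact.out : r.Prime).odd_of_ne_two hr2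
  have hr3 : 2 < r := lt_of_le_of_ne (Fact.out : r.Prime).two_le (Ne.symm hr2)
  have hcrit := elusive_iff_order hQ (by omega) hrodd
    (fun W => Module.finrank F W = m ∧ W ⊓ polarPerp Q W = ⊥ ∧ sgn Q W = 1)
  simp only [and_assoc] at hcrit ⊢
  rw [hcrit]
  obtain ⟨hA, hB⟩ := nd_elusive hQ hr hr2 hi' hme (by omega) (by omega) hsS hrΩ
  rw [hfr] at hA hB
  have hipos : 0 < i := hi' ▸ orderOf_card_pos (F := F) hr
  refine (Iff.intro (fun H => hA H) (fun h => hB h.2)).trans ?_
  simp only [ne_eq, hrp, not_false_eq_true, hr3, true_and, hr2, false_or]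
  unfold NDEvenCrit
  rcases Nat.even_or_odd i with hev | hodd
  · rw [if_pos hev] at hc
    subst c
    simp only [unit_even hev, one_mul, mul_one, hev, Nat.not_odd_iff_even.2 hev, false_and, false_or, true_and,
      eq_comm (a := (1 : ℤ)), neg_one_pow_eq_one']
    have hkodd : Odd ((2 * d + 1) % i) := by
      obtain ⟨j, hj⟩ := hev
      rw [Nat.odd_iff, Nat.mod_mod_of_dvd _ (show 2 ∣ i from ⟨j, by omega⟩)]
      omega
    have hleven : Even (m % i) := by
      obtain ⟨j, hj⟩ := hev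
      rw [Nat.even_iff, Nat.mod_mod_of_dvd _ (show 2 ∣ i from ⟨j, by omega⟩)]
      rw [Nat.even_iff] at hme
      omega
    simp only [Nat.odd_iff, Nat.even_iff] at *
    omega
  · rw [if_neg (Nat.not_even_iff_odd.2 hodd)] at hc
    subst c
    simp only [pow_unit_odd hodd]
    simp only [unit_odd hodd, hodd, Nat.not_even_iff_odd.2 hodd, false_and, or_false, true_and]
    have h2i : 2 ∣ 2 * i := dvd_mul_right 2 i
    have hkodd : Odd ((2 * d + 1) % (2 * i)) := by
      rw [Nat.odd_iff, Nat.mod_mod_of_dvd _ h2i]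
      omega
    have hleven : Even (m % (2 * i)) := by
      rw [Nat.even_iff, Nat.mod_mod_of_dvd _ h2i]
      rw [Nat.even_iff] at hme
      omega
    simp only [Nat.odd_iff, Nat.even_iff] at hkodd hleven
    simp only [mul_one, and_true]
    omega

end Cfsg.Agent.S5992
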