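import Cfsg.Statements.S5994
import Cfsg.Agent.Lib.OrthPrime.PartType
import Cfsg.Agent.Lib.OrthPrime.NDPlus

set_option autoImplicit false
open scoped MatrixGroups
open Cfsg

namespace Cfsg.Agent.S5994

/-- A necessary condition for every element of order p of PΩ⁻_n(q), q odd, to fix an elliptic `m`-space. Here `T = PΩ⁻_n(F)`, `n = 2d ≥ 8`, realised through `Ω⁻_n(q)`, the commutator subgroup of the isometry group of `Q = Σ_{i<d−1} xᵢyᵢ + z₁² + a z₁z₂ + b z₂²` with `z₁² + a z₁z₂ + b z₂²` anisotropic, over the field `F` with `q` elements; an element of `T` of prime order `r` is an element `x` of `Ω⁻_n(q)` with `x^r` scalar and `x` not scalar; `q` is odd; a nondegenerate `m`-space (even `m`) is a subspace on which the polar form of `Q` is nondegenerate; it is hyperbolic if it contains an `m/2`-dimensional subspace on which `Q` vanishes, elliptic otherwise. Let `m` be even with `2 ≤ m ≤ n − 2` and suppose `p` divides the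 number of elliptic `m`-spaces. If every element of `T` of order `p` fixes some elliptic `m`-space, then `n ≡ m (mod 4)` and every partition of `n` into parts of size at most `p` in which every even part has even multiplicity contains (as a sub-multiset) a partition of `m` in which every even part has even multiplicity. -/
theorem result {F : Type*} [Field F] [Fintype F] {p : ℕ} [Fact p.Prime] [CharP F p] {q : ℕ} (hq : Fintype.card F = q) (hqodd : Odd q)
    (d m : ℕ) (hd : 4 ≤ d) (hm : 2 ≤ m) (hme : Even m) (hmn : m + 2 ≤ 2 * d) (a b : F) (hab : ∀ x y : F, x ^ 2 + a * x * y + b * y ^ 2 = 0 → x = 0 ∧ y = 0)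
    (hpΩ : p ∣ Nat.card {W : Submodule F ((Fin (d - 1) ⊕ Fin (d - 1)) ⊕ Fin 2 → F) // Module.finrank F ↥W = m ∧ Cfsg.Geo.IsNondegenerateOn (QuadraticMap.polar (Cfsg.quadFormMinus (d - 1) F a b)) W ∧ ¬ Cfsg.Geo.IsPlusTypeOn (Cfsg.quadFormMinus (d - 1) F a b) W}) :
    (∀ x : GL ((Fin (d - 1) ⊕ Fin (d - 1)) ⊕ Fin 2) F, x ∈ Cfsg.Geo.omegaGL (Cfsg.quadFormMinus (d - 1) F a b) →
      (∃ z : F, ((x ^ p : GL ((Fin (d - 1) ⊕ Fin (d - 1)) ⊕ Fin 2) F) : Matrix ((Fin (d - 1) ⊕ Fin (d - 1)) ⊕ Fin 2) ((Fin (d - 1) ⊕ Fin (d - 1)) ⊕ Fin 2) F) = z • (1 : Matrix ((Fin (d - 1) ⊕ Fin (d - 1)) ⊕ Fin 2) ((Fin (d - 1) ⊕ Fin (d - 1)) ⊕ Fin 2) F)) →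
      (∀ z : F, (x : Matrix ((Fin (d - 1) ⊕ Fin (d - 1)) ⊕ Fin 2) ((Fin (d - 1) ⊕ Fin (d - 1)) ⊕ Fin 2) F) ≠ z • (1 : Matrix ((Fin (d - 1) ⊕ Fin (d - 1)) ⊕ Fin 2) ((Fin (d - 1) ⊕ Fin (d - 1)) ⊕ Fin 2) F)) →
      ∃ W : Submodule F ((Fin (d - 1) ⊕ Fin (d - 1)) ⊕ Fin 2 → F), (Module.finrank F ↥W = m ∧ Cfsg.Geo.IsNondegenerateOn (QuadraticMap.polar (Cfsg.quadFormMinus (d - 1) F a b)) W ∧ ¬ Cfsg.Geo.IsPlusTypeOn (Cfsg.quadFormMinus (d - 1) F a b) W) ∧ W.map (Matrix.toLin' (x : Matrix ((Fin (d - 1) ⊕ Fin (d - 1)) ⊕ Fin 2) ((Fin (d - 1) ⊕ Fin (d - 1)) ⊕ Fin 2) F)) ≤ W) →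
    ((2 * d) % 4 = m % 4 ∧ (∀ μ : Multiset ℕ, (∀ e ∈ μ, 0 < e ∧ e ≤ p) → (∀ e : ℕ, Even e → Even (μ.count e)) → μ.sum = 2 * d →
        ∃ ν : Multiset ℕ, ν ≤ μ ∧ ν.sum = m ∧ ∀ e : ℕ, Even e → Even (ν.count e))) := by
  open CfsgLib.OrthPrime CfsgLib.Geometry CfsgLib.PrimeOrderSp in
  classical
  subst hq
  have h2 : (2 : F) ≠ 0 := two_ne_zero_of_odd_card rfl hqodd
  rw [← coe_matQuad_minus]
  set Q := matQuad (minusMat (d - 1) F a b)
  have hQ : (QuadraticMap.polarBilin Q).Nondegenerate := nondegenerate_minus (d - 1) hab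
  have hn : Fintype.card ((Fin (d - 1) ⊕ Fin (d - 1)) ⊕ Fin 2) = 2 * d := by simp; omega
  simp only [nondegOn_iff, not_plusTypeOn_iff]
  have hpodd : Odd p := (Fact.out : p.Prime).odd_of_ne_two fun h => by
    subst h
    exact h2 (by simpa using CharP.cast_eq_zero F 2)
  intro hE
  have H := (elusive_iff_scalar hQ (by omega) hpodd _).1 hE
  refine ⟨?_, fun μ h1 h2' h3 => partition_necessary hQ h2 hme (by omega)
    (fun f hf hfp hf1 => by
      obtain ⟨W, ⟨w1, w2, -⟩, wi⟩ := H f hf hfp hf1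
      exact ⟨W, w1, w2, wi⟩) μ h1 h2' (h3.trans hn.symm)⟩
  rcases Nat.even_or_odd d with hdev | hdodd
  · obtain ⟨ν, hν, hνs, hνe⟩ := partition_necessary (p := p) hQ h2 hme (by omega)
      (fun f hf hfp hf1 => by
        obtain ⟨W, ⟨w1, w2, -⟩, wi⟩ := H f hf hfp hf1
        exact ⟨W, w1, w2, wi⟩) (Multiset.replicate d 2)
      (fun e he => by
        obtain rfl := Multiset.eq_of_mem_replicate he
        exact ⟨by norm_num, (Fact.out : p.Prime).two_le⟩)
      (fun e _ => by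
        rw [Multiset.count_replicate]
        split_ifs
        · exact hdev
        · exact Even.zero)
      (by simp; omega)
    have h4 := four_dvd_of_sub_twos hν hνe
    rw [Nat.even_iff] at hdev
    omega
  · by_contra hne
    rw [Nat.even_iff] at hme
    rw [Nat.odd_iff] at hdodd
    obtain ⟨f, hf, hfp, hf1, hno⟩ := exists_p_no_elliptic_four (p := p) hQ (d := d) (by omega) (Nat.odd_iff.2 hdodd)
      (by rw [Module.finrank_fintype_fun_eq_card, hn])
    obtain ⟨W, ⟨w1, w2, w3⟩, wi⟩ := H f hf hfp hf1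
    rw [plus_iff_sgn.1 (hno W wi w2 (by omega))] at w3
    norm_num at w3

end Cfsg.Agent.S5994
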