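import Cfsg.Statements.S5995
import Cfsg.Agent.Lib.OrthPrime.PartType
import Cfsg.Agent.Lib.OrthPrime.NDPlus

set_option autoImplicit false
open scoped MatrixGroups
open Cfsg

namespace Cfsg.Agent.S5995

/-- A necessary condition for every element of order p of Ω_n(q), nq odd, to fix a hyperbolic `m`-space. Here `T = Ω_n(F)`, `n = 2d+1 ≥ 7`, `q` odd, realised as the commutator subgroup of the isometry group of `Q = x₀² + Σ xᵢyᵢ` over the field `F` with `q` elements (trivial centre, so its elements of prime order `r` are used directly); a nondegenerate `m`-space (even `m`) is a subspace on which the polar form of `Q` is nondegenerate; it is hyperbolic if it contains an `m/2`-dimensional subspace on which `Q` vanishes, elliptic otherwise. Let `m` be even with `2 ≤ m ≤ n − 1` and suppose `p` divides the number of hyperbolic `m`-spaces. If every element of `T` of order `p` fixes some hyperbolic `m`-space, then `m ≡ 0 (mod 4)` and every partition of `n` into parts of size at most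 `p` in which every even part has even multiplicity contains (as a sub-multiset) a partition of `m` in which every even part has even multiplicity. -/
theorem result {F : Type*} [Field F] [Fintype F] {p : ℕ} [Fact p.Prime] [CharP F p] {q : ℕ} (hq : Fintype.card F = q) (hqodd : Odd q)
    (d m : ℕ) (hd : 3 ≤ d) (hm : 2 ≤ m) (hme : Even m) (hmn : m ≤ 2 * d)
    (hpΩ : p ∣ Nat.card {W : Submodule F (Unit ⊕ (Fin d ⊕ Fin d) → F) // Module.finrank F ↥W = m ∧ Cfsg.Geo.IsNondegenerateOn (QuadraticMap.polar (Cfsg.quadFormOdd d F)) W ∧ Cfsg.Geo.IsPlusTypeOn (Cfsg.quadFormOdd d F) W}) :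
    (∀ x : GL (Unit ⊕ (Fin d ⊕ Fin d)) F, x ∈ Cfsg.Geo.omegaGL (Cfsg.quadFormOdd d F) → orderOf x = p →
      ∃ W : Submodule F (Unit ⊕ (Fin d ⊕ Fin d) → F), (Module.finrank F ↥W = m ∧ Cfsg.Geo.IsNondegenerateOn (QuadraticMap.polar (Cfsg.quadFormOdd d F)) W ∧ Cfsg.Geo.IsPlusTypeOn (Cfsg.quadFormOdd d F) W) ∧ W.map (Matrix.toLin' (x : Matrix (Unit ⊕ (Fin d ⊕ Fin d)) (Unit ⊕ (Fin d ⊕ Fin d)) F)) ≤ W) →
    (m % 4 = 0 ∧ (∀ μ : Multiset ℕ, (∀ e ∈ μ, 0 < e ∧ e ≤ p) → (∀ e : ℕ, Even e → Even (μ.count e)) → μ.sum = 2 * d + 1 →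
        ∃ ν : Multiset ℕ, ν ≤ μ ∧ ν.sum = m ∧ ∀ e : ℕ, Even e → Even (ν.count e))) := by
  open CfsgLib.OrthPrime CfsgLib.Geometry CfsgLib.PrimeOrderSp in
  classical
  subst hq
  have h2 : (2 : F) ≠ 0 := two_ne_zero_of_odd_card rfl hqodd
  rw [← coe_matQuad_odd]
  set Q := matQuad (oddMat d F)
  have hQ : (QuadraticMap.polarBilin Q).Nondegenerate := nondeg_odd h2 d
  have hn : Fintype.card (Unit ⊕ (Fin d ⊕ Fin d)) = 2 * d + 1 := by simp; omega
  simp only [nondegOn_iff, plusTypeOn_iff]
  have hpodd : Odd p := (Fact.out : p.Prime).odd_of_ne_two fun h => by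
    subst h
    exact h2 (by simpa using CharP.cast_eq_zero F 2)
  intro hE
  have H := (elusive_iff_order hQ (by omega) hpodd _).1 hE
  have key := fun μ h1 h2' h3 => partition_necessary (p := p) hQ h2 hme (by omega)
    (fun f hf hfp hf1 => by
      obtain ⟨W, ⟨w1, w2, -⟩, wi⟩ := H f hf hfp hf1
      exact ⟨W, w1, w2, wi⟩) μ h1 h2' h3
  refine ⟨?_, fun μ h1 h2' h3 => key μ h1 h2' (h3.trans hn.symm)⟩
  have hp3 : 3 ≤ p := (Fact.out : p.Prime).two_le.lt_of_ne fun h => by
    rw [← h] at hpodd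
    exact absurd hpodd (by decide)
  obtain ⟨x, k, hx, hxp, hk, hxk⟩ : ∃ x k : ℕ, Odd x ∧ x ≤ p ∧ Even k ∧ x + 2 * k = 2 * d + 1 := by
    rcases Nat.even_or_odd d with h | h
    · exact ⟨1, d, odd_one, by omega, h, by omega⟩
    · exact ⟨3, d - 1, by decide, hp3, by rw [Nat.odd_iff] at h; rw [Nat.even_iff]; omega, by omega⟩
  obtain ⟨ν, hν, hνs, hνe⟩ := key (x ::ₘ Multiset.replicate k 2)
    (fun e he => by
      rcases Multiset.mem_cons.1 he with rfl | he
      · exact ⟨hx.pos, hxp⟩
      · obtain rfl := Multiset.eq_of_mem_replicate he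
        exact ⟨by norm_num, by omega⟩)
    (fun e he => by
      rw [Multiset.count_cons_of_ne (show e ≠ x from fun h => Nat.not_even_iff_odd.2 hx (h ▸ he)), Multiset.count_replicate]
      split_ifs
      · exact hk
      · exact Even.zero)
    (by simp; omega)
  have h4 := four_dvd_of_sub_odd hx hν hνe (hνs ▸ hme)
  omega

end Cfsg.Agent.S5995
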