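import Cfsg.Statements.S5997
import Cfsg.Agent.Lib.ThreeTransp.QuatTwo

set_option autoImplicit false
open scoped MatrixGroups
open Cfsg

namespace Cfsg.Agent.S5997

open CfsgLib.ThreeTransp.QuatTwo

/-- Elements of prime order of PSL_2(p) and the normalizer of a quaternion subgroup. Here `T = PSL_2(F)` for the field `F` with `p` elements, `p ≥ 5` prime; `R` is a subgroup of GL_2(F) isomorphic to the quaternion group of order 8 (an absolutely irreducible 2-group of symplectic type), and `H` is the subgroup of matrices of determinant 1 normalizing `R` — a subgroup of type 2^{1+2}.O₂⁻(2), isomorphic modulo scalars to A₄ or S₄ (maximality is not assumed). Ω is the set of cosets of `H` in `T`, so an element of `T` of prime order `r` (a matrix `x` of determinant 1 with `x^r` scalar, `x` not scalar) fixes a point of Ω exactly when some conjugate of `x` by a matrix of determinant 1 normalizes `R`. Let `r` be a prime dividing the index of `H`. Then every element of `T` of order `r` fixes a point of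 Ω if and only if `r = 2` or `r = 3`. -/
theorem result {F : Type*} [Field F] [Fintype F] {p : ℕ} [Fact p.Prime] [CharP F p] (hF : Fintype.card F = p) (hp : 5 ≤ p)
    (R : Subgroup (GL (Fin 2) F)) (hR : Nonempty (↥R ≃* QuaternionGroup 2))
    (r : ℕ) [Fact r.Prime]
    (hΩ : r ∣ (Cfsg.Geo.subgroupNormalizer R).relIndex (Cfsg.Geo.specialLinear (Fin 2) F)) :
    (∀ x ∈ Cfsg.Geo.specialLinear (Fin 2) F, (∃ z : F, ((x ^ r : GL (Fin 2) F) : Matrix (Fin 2) (Fin 2) F) = z • (1 : Matrix (Fin 2) (Fin 2) F)) →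
      (∀ z : F, (x : Matrix (Fin 2) (Fin 2) F) ≠ z • (1 : Matrix (Fin 2) (Fin 2) F)) →
      ∃ g ∈ Cfsg.Geo.specialLinear (Fin 2) F, g⁻¹ * x * g ∈ Cfsg.Geo.subgroupNormalizer R) ↔ (r = 2 ∨ r = 3) := by
  classical
  have hr : r.Prime := Fact.out
  have hpp : p.Prime := Fact.out
  have hne : ∀ k : ℕ, 0 < k → k < p → (k : F) ≠ 0 := fun k h0 hk h =>
    absurd (Nat.le_of_dvd h0 ((CharP.cast_eq_zero_iff F p k).1 h)) (by omega)
  have h2 : (2 : F) ≠ 0 := by simpa using hne 2 (by norm_num) (by omega)
  have h3 : (3 : F) ≠ 0 := by simpa using hne 3 (by norm_num) (by omega)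
  have hodd : Fintype.card F % 2 = 1 := by rw [hF]; exact (hpp.eq_two_or_odd).resolve_left (by omega)
  obtain ⟨e⟩ := hR
  let toG : QuaternionGroup 2 →* GL (Fin 2) F := R.subtype.comp e.symm.toMonoidHom
  have htoG : ∀ g, toG g ∈ R := fun g => (e.symm g).2
  have hinj : Function.Injective toG := Subtype.val_injective.comp e.symm.injective
  obtain ⟨I, hI⟩ : ∃ I, I = toG (QuaternionGroup.a 1) := ⟨_, rfl⟩
  obtain ⟨J, hJ⟩ : ∃ J, J = toG (QuaternionGroup.xa 0) := ⟨_, rfl⟩
  obtain ⟨C, hC⟩ : ∃ C, C = toG (QuaternionGroup.a 2) := ⟨_, rfl⟩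
  have hnc : ¬ Commute I J := by
    rw [hI, hJ]; intro h
    have h' := hinj (show toG (QuaternionGroup.a 1 * QuaternionGroup.xa 0) = toG (QuaternionGroup.xa 0 * QuaternionGroup.a 1) by
      simpa only [map_mul] using h.eq)
    revert h'; decide
  have nI : ∀ z : F, (I : Matrix (Fin 2) (Fin 2) F) ≠ z • (1 : Matrix (Fin 2) (Fin 2) F) := fun z h =>
    hnc (Units.ext (by simp [Units.val_mul, h]))
  have nJ : ∀ z : F, (J : Matrix (Fin 2) (Fin 2) F) ≠ z • (1 : Matrix (Fin 2) (Fin 2) F) := fun z h =>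
    hnc (Units.ext (by simp [Units.val_mul, h]))
  -- the central involution is minus one
  have hCv : (C : Matrix (Fin 2) (Fin 2) F) = -1 := by
    have hC2 : (C : Matrix (Fin 2) (Fin 2) F) * C = 1 := by
      rw [← Units.val_mul, hC, ← map_mul, show QuaternionGroup.a (2 : ZMod (2 * 2)) * QuaternionGroup.a 2 = 1 by decide,
        map_one, Units.val_one]
    have hCI : Commute C I := by
      rw [hC, hI]
      exact Commute.map (show QuaternionGroup.a (2 : ZMod (2 * 2)) * QuaternionGroup.a 1 =
        QuaternionGroup.a 1 * QuaternionGroup.a 2 by decide) toG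
    have hCJ : Commute C J := by
      rw [hC, hJ]
      exact Commute.map (show QuaternionGroup.a (2 : ZMod (2 * 2)) * QuaternionGroup.xa 0 =
        QuaternionGroup.xa 0 * QuaternionGroup.a 2 by decide) toG
    obtain ⟨z, hz⟩ : ∃ z : F, (C : Matrix (Fin 2) (Fin 2) F) = z • (1 : Matrix (Fin 2) (Fin 2) F) := by
      by_contra h
      push Not at h
      refine hnc (Units.ext ?_)
      simp only [Units.val_mul]
      exact commutant h (by simpa using congrArg Units.val hCI.eq) (by simpa using congrArg Units.val hCJ.eq)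
    rw [hz] at hC2
    have hz2 : z * z = 1 := by
      have := congrFun (congrFun hC2 0) 0
      simpa using this
    rcases mul_self_eq_one_iff.1 hz2 with h | h
    · exfalso
      rw [h, one_smul] at hz
      have : C = 1 := Units.ext hz
      rw [hC, ← map_one toG] at this
      exact absurd (hinj this) (by decide)
    · rw [hz, h, neg_smul, one_smul]
  have hI2 : (I : Matrix (Fin 2) (Fin 2) F) * I = -1 := by
    rw [← Units.val_mul, hI, ← map_mul,
      show QuaternionGroup.a (1 : ZMod (2 * 2)) * QuaternionGroup.a 1 = QuaternionGroup.a 2 by decide, ← hC, hCv]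
  have hJ2 : (J : Matrix (Fin 2) (Fin 2) F) * J = -1 := by
    rw [← Units.val_mul, hJ, ← map_mul,
      show QuaternionGroup.xa (0 : ZMod (2 * 2)) * QuaternionGroup.xa 0 = QuaternionGroup.a 2 by decide, ← hC, hCv]
  have hJI : (J : Matrix (Fin 2) (Fin 2) F) * I = -((I : Matrix (Fin 2) (Fin 2) F) * J) := by
    rw [← Units.val_mul, ← Units.val_mul, show J * I = C * (I * J) by
      rw [hI, hJ, hC, ← map_mul, ← map_mul, ← map_mul]; exact congrArg toG (by decide),
      Units.val_mul, hCv, neg_one_mul]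
  have hCR : ∃ u : GL (Fin 2) F, u ∈ R ∧ (u : Matrix (Fin 2) (Fin 2) F) = -1 := ⟨C, hC ▸ htoG _, hCv⟩
  -- trace and determinant
  have htd : ∀ u : GL (Fin 2) F, (∀ z : F, (u : Matrix (Fin 2) (Fin 2) F) ≠ z • (1 : Matrix (Fin 2) (Fin 2) F)) →
      ∀ a b : F, (u : Matrix (Fin 2) (Fin 2) F) * u = a • (u : Matrix (Fin 2) (Fin 2) F) - b • (1 : Matrix (Fin 2) (Fin 2) F) →
      (u : Matrix (Fin 2) (Fin 2) F).trace = a ∧ (u : Matrix (Fin 2) (Fin 2) F).det = b := by
    intro u hu a b h
    rw [cayley] at h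
    set T := (u : Matrix (Fin 2) (Fin 2) F).trace
    set d := (u : Matrix (Fin 2) (Fin 2) F).det
    have h' : (T - a) • (u : Matrix (Fin 2) (Fin 2) F) = (d - b) • (1 : Matrix (Fin 2) (Fin 2) F) := by
      rw [sub_smul, sub_smul]
      linear_combination (norm := abel) h
    have ha := scalar_of_smul hu h'
    rw [ha, zero_smul] at h'
    refine ⟨sub_eq_zero.1 ha, sub_eq_zero.1 ?_⟩
    simpa using (congrFun (congrFun h' 0) 0).symm
  obtain ⟨tI, dI⟩ := htd I nI 0 1 (by rw [hI2, zero_smul, one_smul, zero_sub])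
  obtain ⟨tJ, dJ⟩ := htd J nJ 0 1 (by rw [hJ2, zero_smul, one_smul, zero_sub])
  -- the element of order three
  let w : Matrix (Fin 2) (Fin 2) F := (2 : F)⁻¹ •
    (-1 + (I : Matrix (Fin 2) (Fin 2) F) + J + (I : Matrix (Fin 2) (Fin 2) F) * J)
  have eII : ∀ X : Matrix (Fin 2) (Fin 2) F, (I : Matrix (Fin 2) (Fin 2) F) * ((I : Matrix (Fin 2) (Fin 2) F) * X) = -X := fun X => by
    rw [← mul_assoc, hI2, neg_one_mul]
  have eJJ : ∀ X : Matrix (Fin 2) (Fin 2) F, (J : Matrix (Fin 2) (Fin 2) F) * ((J : Matrix (Fin 2) (Fin 2) F) * X) = -X := fun X => by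
    rw [← mul_assoc, hJ2, neg_one_mul]
  have eJI : ∀ X : Matrix (Fin 2) (Fin 2) F, (J : Matrix (Fin 2) (Fin 2) F) * ((I : Matrix (Fin 2) (Fin 2) F) * X) =
      -((I : Matrix (Fin 2) (Fin 2) F) * ((J : Matrix (Fin 2) (Fin 2) F) * X)) := fun X => by
    rw [← mul_assoc, hJI, neg_mul, mul_assoc]
  have hww : w * w = (-1 : F) • w - (1 : F) • (1 : Matrix (Fin 2) (Fin 2) F) := by
    simp only [w, smul_mul_assoc, mul_smul_comm, smul_smul, add_mul, mul_add, neg_mul, mul_neg, one_mul,
      mul_one, mul_assoc, hI2, hJ2, hJI, eII, eJJ, eJI, neg_neg]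
    match_scalars <;> field_simp <;> ring
  have hwI : w * (I : Matrix (Fin 2) (Fin 2) F) = ((I : Matrix (Fin 2) (Fin 2) F) * J) * w := by
    simp only [w, smul_mul_assoc, mul_smul_comm, add_mul, mul_add, neg_mul, mul_neg, one_mul,
      mul_one, mul_assoc, hI2, hJ2, hJI, eII, eJJ, eJI, neg_neg]
    module
  have hwJ : w * (J : Matrix (Fin 2) (Fin 2) F) = (I : Matrix (Fin 2) (Fin 2) F) * w := by
    simp only [w, smul_mul_assoc, mul_smul_comm, add_mul, mul_add, neg_mul, mul_neg, one_mul,
      mul_one, mul_assoc, hI2, hJ2, hJI, eII, eJJ, eJI, neg_neg]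
    module
  have hwinv : ∀ v : Matrix (Fin 2) (Fin 2) F, v * v = (-1 : F) • v - (1 : F) • 1 →
      v * ((-1 : F) • v - (1 : F) • 1) = 1 ∧ ((-1 : F) • v - (1 : F) • 1) * v = 1 := fun v hv => by
    refine ⟨?_, ?_⟩
    · rw [mul_sub, mul_smul_comm, mul_smul_comm, mul_one, hv]; module
    · rw [sub_mul, smul_mul_assoc, smul_mul_assoc, one_mul, hv]; module
  let W : GL (Fin 2) F := ⟨w, (-1 : F) • w - (1 : F) • (1 : Matrix (Fin 2) (Fin 2) F),
    (hwinv w hww).1, (hwinv w hww).2⟩
  have nW : ∀ z : F, (W : Matrix (Fin 2) (Fin 2) F) ≠ z • (1 : Matrix (Fin 2) (Fin 2) F) := by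
    intro z h
    have h' : W * J = J * W := Units.ext (by simp [Units.val_mul, h])
    have h'' : W * J = I * W := Units.ext (by simp only [Units.val_mul]; exact hwJ)
    exact hnc (by rw [show I = J from mul_right_cancel (h''.symm.trans h')])
  obtain ⟨tW, dW⟩ := htd W nW (-1) 1 hww
  -- the normaliser
  have hgen : ∀ u ∈ R, ∃ i : ZMod (2 * 2), u = toG (QuaternionGroup.a 1) ^ i.val ∨
      u = toG (QuaternionGroup.xa 0) * toG (QuaternionGroup.a 1) ^ i.val := by
    intro u hu
    have hu' : u = toG (e ⟨u, hu⟩) := by simp [toG]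
    have hdec : ∀ g : QuaternionGroup 2, ∃ i : ZMod (2 * 2), g = QuaternionGroup.a 1 ^ i.val ∨
        g = QuaternionGroup.xa 0 * QuaternionGroup.a 1 ^ i.val := by
      rintro (i | i)
      · exact ⟨i, Or.inl (by rw [QuaternionGroup.a_one_pow, ZMod.natCast_zmod_val])⟩
      · exact ⟨i, Or.inr (by rw [QuaternionGroup.a_one_pow, ZMod.natCast_zmod_val, QuaternionGroup.xa_mul_a,
          zero_add])⟩
    obtain ⟨i, h | h⟩ := hdec (e ⟨u, hu⟩)
    · exact ⟨i, Or.inl (by rw [hu', h, map_pow])⟩
    · exact ⟨i, Or.inr (by rw [hu', h, map_mul, map_pow])⟩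
  have hIR : I ∈ R := hI ▸ htoG _
  have hJR : J ∈ R := hJ ▸ htoG _
  have hRsl : R ≤ Cfsg.Geo.specialLinear (Fin 2) F := by
    intro u hu
    have hsl : ∀ v : GL (Fin 2) F, (v : Matrix (Fin 2) (Fin 2) F).det = 1 → v ∈ Cfsg.Geo.specialLinear (Fin 2) F :=
      fun v hv => Units.ext hv
    obtain ⟨i, h | h⟩ := hgen u hu <;> rw [h, ← hI]
    · exact pow_mem (hsl I dI) _
    · rw [← hJ]; exact mul_mem (hsl J dJ) (pow_mem (hsl I dI) _)
  have hWn : W ∈ Cfsg.Geo.subgroupNormalizer R := by
    have hle : R.map (MulAut.conj W).toMonoidHom ≤ R := by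
      rintro _ ⟨u, hu, rfl⟩
      have e1 : MulAut.conj W I = I * J := by
        rw [MulAut.conj_apply, mul_inv_eq_iff_eq_mul]
        exact Units.ext (by simp only [Units.val_mul]; exact hwI)
      have e2 : MulAut.conj W J = I := by
        rw [MulAut.conj_apply, mul_inv_eq_iff_eq_mul]
        exact Units.ext (by simp only [Units.val_mul]; exact hwJ)
      show MulAut.conj W u ∈ R
      obtain ⟨i, h | h⟩ := hgen u hu <;> rw [h, ← hI]
      · rw [map_pow, e1]; exact pow_mem (mul_mem hIR hJR) _
      · rw [← hJ, map_mul, map_pow, e1, e2]; exact mul_mem hIR (pow_mem (mul_mem hIR hJR) _)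
    have heq := Subgroup.eq_of_le_of_card_ge hle
      (le_of_eq (Subgroup.card_map_of_injective (MulAut.conj W).injective).symm)
    show W ∈ Subgroup.normalizer (R : Set (GL (Fin 2) F))
    rw [Subgroup.mem_normalizer_iff]
    intro u
    refine ⟨fun hu => heq ▸ ⟨u, hu, rfl⟩, fun hu => ?_⟩
    rw [← heq] at hu
    obtain ⟨v, hv, hvu⟩ := hu
    exact (MulAut.conj W).injective hvu ▸ hv
  have hsl1 : ∀ v : GL (Fin 2) F, v ∈ Cfsg.Geo.specialLinear (Fin 2) F →
      (v : Matrix (Fin 2) (Fin 2) F).det = 1 := fun v hv => congrArg Units.val hv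
  constructor
  · intro h
    by_contra hr23
    push Not at hr23
    have hr5 : 5 ≤ r := by
      have := hr.two_le
      rcases Nat.lt_or_ge r 5 with h' | h'
      · interval_cases r
        · exact absurd rfl hr23.1
        · exact absurd rfl hr23.2
        · exact absurd hr (by norm_num)
      · exact h'
    have hdiv : r ∣ Nat.card (Cfsg.Geo.specialLinear (Fin 2) F) :=
      hΩ.trans (Subgroup.index_dvd_card _)
    obtain ⟨x, hx⟩ := exists_prime_orderOf_dvd_card' r hdiv
    rw [← Subgroup.orderOf_coe] at hx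
    obtain ⟨g, hg, hn⟩ := h x x.2 ⟨1, by rw [← hx, pow_orderOf_eq_one, Units.val_one, one_smul]⟩ (fun z hz => by
      have hd := hsl1 x x.2
      rw [hz, Matrix.det_smul, Matrix.det_one, mul_one, Fintype.card_fin] at hd
      have : (x : GL (Fin 2) F) ^ 2 = 1 := Units.ext (by
        rw [Units.val_pow_eq_pow_val, hz, smul_pow, one_pow, Units.val_one, hd, one_smul])
      have := Nat.le_of_dvd (by norm_num) (hx ▸ orderOf_dvd_of_pow_eq_one this)
      omega)
    set y := g⁻¹ * (x : GL (Fin 2) F) * g with hy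
    have hyr : orderOf y = r := by
      rw [← hx, hy]
      have := (MulAut.conj g⁻¹).orderOf_eq (x : GL (Fin 2) F)
      rwa [MulAut.conj_apply, inv_inv] at this
    -- the conjugation action on `R`
    let f : Function.End R := fun u => ⟨y * u * y⁻¹, (Subgroup.mem_normalizer_iff.1 hn u).1 u.2⟩
    have hfk : ∀ (k : ℕ) (u : R), ((f^[k] u : R) : GL (Fin 2) F) = y ^ k * u * (y ^ k)⁻¹ := by
      intro k
      induction k with
      | zero =>
        intro u
        show ((u : R) : GL (Fin 2) F) = y ^ 0 * u * (y ^ 0)⁻¹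
        simp
      | succ k ih =>
        intro u
        rw [Function.iterate_succ_apply', pow_succ']
        show y * ((f^[k] u : R) : GL (Fin 2) F) * y⁻¹ = _
        rw [ih]; group
    have hfr : f ^ r ^ 1 = 1 := by
      rw [pow_one]
      funext u
      refine Subtype.ext ?_
      have hit : ∀ k : ℕ, (f ^ k : Function.End R) = f^[k] := by
        intro k
        induction k with
        | zero => rfl
        | succ k ih => rw [pow_succ', Function.iterate_succ', ih]; rfl
      rw [hit, hfk, ← hyr, pow_orderOf_eq_one]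
      show _ = ((u : R) : GL (Fin 2) F)
      simp
    haveI : Fintype R := Fintype.ofFinite R
    have hmod := Equiv.Perm.card_fixedPoints_modEq (p := r) hfr
    set S := (Subgroup.centralizer {y}).subgroupOf R with hS
    have hfix : Function.fixedPoints f = (S : Set R) := by
      ext u
      rw [Function.mem_fixedPoints, Function.IsFixedPt, SetLike.mem_coe, hS, Subgroup.mem_subgroupOf,
        Subgroup.mem_centralizer_singleton_iff, Subtype.ext_iff]
      show y * u * y⁻¹ = u ↔ _
      rw [mul_inv_eq_iff_eq_mul]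
      exact eq_comm
    have hcardR : Nat.card R = 8 := by
      rw [Nat.card_congr e.toEquiv, Nat.card_eq_fintype_card, QuaternionGroup.card]
    rw [← Nat.card_eq_fintype_card, ← Nat.card_eq_fintype_card, hcardR, Nat.card_congr (Equiv.setCongr hfix)] at hmod
    replace hmod : 8 ≡ Nat.card S [MOD r] := hmod
    have hSdvd : Nat.card S ∣ 2 ^ 3 := by
      have := Subgroup.card_subgroup_dvd_card S
      rwa [hcardR] at this
    have hS2 : 2 ≤ Nat.card S := by
      obtain ⟨u, huR, hu⟩ := hCR
      refine Finite.one_lt_card_iff_nontrivial.2 ⟨⟨⟨u, huR⟩, ?_⟩, 1, fun he => ?_⟩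
      · rw [hS, Subgroup.mem_subgroupOf, Subgroup.mem_centralizer_singleton_iff]
        exact Units.ext (by simp [Units.val_mul, hu])
      · have : u = 1 := congrArg (fun v : S => ((v : R) : GL (Fin 2) F)) he
        rw [this, Units.val_one] at hu
        have := congrFun (congrFun hu 0) 0
        simp only [Matrix.one_apply_eq, Matrix.neg_apply] at this
        exact h2 (by linear_combination this)
    have hS8 : Nat.card S = 8 := by
      obtain ⟨k, hk, hk'⟩ := (Nat.dvd_prime_pow Nat.prime_two).1 hSdvd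
      have hm := (Nat.modEq_iff_dvd' (by rw [hk']; calc 2 ^ k ≤ 2 ^ 3 := Nat.pow_le_pow_right (by norm_num) hk
        _ = 8 := rfl)).1 hmod.symm
      interval_cases k
      · omega
      · rw [hk'] at hm
        have := Nat.le_of_dvd (by norm_num) hm
        interval_cases r <;> simp_all (config := {decide := true})
      · rw [hk'] at hm
        have := Nat.le_of_dvd (by norm_num) hm
        omega
      · simpa using hk'
    have hStop : S = ⊤ := Subgroup.eq_top_of_card_eq S (by rw [hS8, hcardR])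
    have hcom : ∀ u ∈ R, (y : Matrix (Fin 2) (Fin 2) F) * u = (u : Matrix (Fin 2) (Fin 2) F) * y := by
      intro u hu
      have := (hStop ▸ Subgroup.mem_top (⟨u, hu⟩ : R) : (⟨u, hu⟩ : R) ∈ S)
      rw [hS, Subgroup.mem_subgroupOf, Subgroup.mem_centralizer_singleton_iff] at this
      exact (by simpa using (congrArg Units.val this).symm)
    by_cases hys : ∃ z : F, (y : Matrix (Fin 2) (Fin 2) F) = z • (1 : Matrix (Fin 2) (Fin 2) F)
    · obtain ⟨z, hz⟩ := hys
      have hd := hsl1 y (mul_mem (mul_mem (inv_mem hg) x.2) hg)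
      rw [hz, Matrix.det_smul, Matrix.det_one, mul_one, Fintype.card_fin] at hd
      have : y ^ 2 = 1 := Units.ext (by
        rw [Units.val_pow_eq_pow_val, hz, smul_pow, one_pow, Units.val_one, hd, one_smul])
      have := Nat.le_of_dvd (by norm_num) (hyr ▸ orderOf_dvd_of_pow_eq_one this)
      omega
    · push Not at hys
      exact hnc (Units.ext (by simp only [Units.val_mul]; exact commutant hys (hcom I hIR) (hcom J hJR)))
  · intro hr23 x hx ⟨z, hz⟩ hns
    have dx := hsl1 x hx
    set X := (x : Matrix (Fin 2) (Fin 2) F) with hX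
    set t := X.trace with ht
    have hch : X * X = t • X - (1 : F) • (1 : Matrix (Fin 2) (Fin 2) F) := by rw [cayley, dx]
    rw [Units.val_pow_eq_pow_val, ← hX] at hz
    rcases hr23 with rfl | rfl
    · have ht0 : t = 0 := by
        refine scalar_of_smul hns (b := z + 1) ?_
        rw [add_smul, ← hz, pow_two, hch, one_smul]
        abel
      obtain ⟨g, hg, hgx⟩ := conj_of_trace hodd h2 dx dI hns nI (ht0.trans tI.symm) (by
        rw [← ht, ht0, show (4 : F) = 2 * 2 by norm_num]
        simpa using (mul_ne_zero h2 h2).symm)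
      exact ⟨g, hg, hgx ▸ Subgroup.le_normalizer hIR⟩
    · have ht1 : t * t - 1 = 0 := by
        refine scalar_of_smul hns (b := z + t) ?_
        rw [add_smul, ← hz, pow_succ, pow_two, hch, sub_mul, smul_mul_assoc, hch, one_smul, one_mul]
        module
      have ht4 : X.trace ^ 2 ≠ 4 := fun h => h3 (by rw [← ht] at h; linear_combination -h + ht1)
      rcases mul_self_eq_one_iff.1 (sub_eq_zero.1 ht1) with h1 | h1
      · obtain ⟨u, huR, hu⟩ := hCR
        have hv : ((u * W : GL (Fin 2) F) : Matrix (Fin 2) (Fin 2) F) = -(W : Matrix (Fin 2) (Fin 2) F) := by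
          rw [Units.val_mul, hu, neg_one_mul]
        obtain ⟨g, hg, hgx⟩ := conj_of_trace hodd h2 (y := u * W) dx (by
            rw [hv, Matrix.det_neg, dW, Fintype.card_fin]; norm_num)
          hns (fun c hc => nW (-c) (by rw [neg_smul, ← hc, hv, neg_neg]))
          (by rw [hv, Matrix.trace_neg, tW, neg_neg, ← ht, h1]) ht4
        exact ⟨g, hg, hgx ▸ mul_mem (Subgroup.le_normalizer huR) hWn⟩
      · obtain ⟨g, hg, hgx⟩ := conj_of_trace hodd h2 dx dW hns nW (by rw [tW, ← ht, h1]) ht4
        exact ⟨g, hg, hgx ▸ hWn⟩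

end Cfsg.Agent.S5997
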