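import Cfsg.Statements.S5998
import Cfsg.Agent.Lib.ThreeTransp.HeisThree
import Cfsg.Agent.Lib.Classical.Order

set_option autoImplicit false
set_option maxHeartbeats 1000000
open scoped MatrixGroups
open Cfsg

namespace Cfsg.Agent.S5998

/-- Elements of prime order of PSL_3(p), p ≡ 1 (mod 3), and the normalizer of an extraspecial subgroup of order 27. Here `T = PSL_3(F)` for the field `F` with `p` elements, `p` a prime with `p ≡ 1 (mod 3)`; `R` is a non-abelian subgroup of GL_3(F) of order 27 and exponent 3 (an extraspecial group 3^{1+2}, acting absolutely irreducibly), and `H` is the subgroup of matrices of determinant 1 normalizing `R` — a subgroup of type 3^{1+2}.Sp₂(3) (maximality is not assumed). Ω is the set of cosets of `H` in `T`, so an element of `T` of prime order `r` (a matrix `x` of determinant 1 with `x^r` scalar, `x` not scalar) fixes a point of Ω exactly when some conjugate of `x` by a matrix of determinant 1 normalizes `R`. Let `r` be a prime dividing the index of `H`. Then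 every element of `T` of order `r` fixes a point of Ω if and only if `r = 2`, or `r = 3` and `p ≡ 1 (mod 9)`. -/
theorem result {F : Type*} [Field F] [Fintype F] {p : ℕ} [Fact p.Prime] [CharP F p] (hF : Fintype.card F = p) (hp3 : p % 3 = 1)
    (R : Subgroup (GL (Fin 3) F)) (hR : Nat.card R = 27) (hRe : Monoid.exponent R = 3) (hRna : ¬ IsMulCommutative R)
    (r : ℕ) [Fact r.Prime]
    (hΩ : r ∣ (Cfsg.Geo.subgroupNormalizer R).relIndex (Cfsg.Geo.specialLinear (Fin 3) F)) :
    (∀ x ∈ Cfsg.Geo.specialLinear (Fin 3) F, (∃ z : F, ((x ^ r : GL (Fin 3) F) : Matrix (Fin 3) (Fin 3) F) = z • (1 : Matrix (Fin 3) (Fin 3) F)) →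
      (∀ z : F, (x : Matrix (Fin 3) (Fin 3) F) ≠ z • (1 : Matrix (Fin 3) (Fin 3) F)) →
      ∃ g ∈ Cfsg.Geo.specialLinear (Fin 3) F, g⁻¹ * x * g ∈ Cfsg.Geo.subgroupNormalizer R) ↔ (r = 2 ∨ (r = 3 ∧ p % 9 = 1)) := by
  open Matrix CfsgLib.ThreeTransp CfsgLib.ThreeTransp.HeisThree in
  classical
  have hr : r.Prime := Fact.out
  have hpp : p.Prime := Fact.out
  have hp7 : 7 ≤ p := by
    by_contra h
    push Not at h
    have := hpp.two_le
    interval_cases p <;> first | omega | exact absurd hpp (by norm_num)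
  have hne : ∀ k : ℕ, 0 < k → k < p → (k : F) ≠ 0 := fun k h0 hk h =>
    absurd (Nat.le_of_dvd h0 ((CharP.cast_eq_zero_iff F p k).1 h)) (by omega)
  have h2 : (2 : F) ≠ 0 := by simpa using hne 2 (by norm_num) (by omega)
  have h3 : (3 : F) ≠ 0 := by simpa using hne 3 (by norm_num) (by omega)
  have hsl : ∀ v : GL (Fin 3) F, v ∈ Cfsg.Geo.specialLinear (Fin 3) F →
      (v : Matrix (Fin 3) (Fin 3) F).det = 1 := fun v hv => congrArg Units.val hv
  have hsl' : ∀ v : GL (Fin 3) F, (v : Matrix (Fin 3) (Fin 3) F).det = 1 →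
      v ∈ Cfsg.Geo.specialLinear (Fin 3) F := fun v hv => Units.ext hv
  -- the structure of `R`
  haveI : Fact (Nat.Prime 3) := ⟨Nat.prime_three⟩
  have hcube : ∀ a ∈ R, a * (a * a) = 1 := fun a ha => by
    have := Monoid.pow_exponent_eq_one (⟨a, ha⟩ : R)
    rw [hRe] at this
    have h : a ^ 3 = 1 := congrArg Subtype.val this
    rwa [pow_succ', pow_two] at h
  have hPG : IsPGroup 3 R := IsPGroup.of_card (n := 3) (by rw [hR]; rfl)
  have hquot : ∀ a b : R, a * b * a⁻¹ * b⁻¹ ∈ Subgroup.center R := by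
    haveI : Nontrivial R := by
      rw [← Finite.one_lt_card_iff_nontrivial, hR]; norm_num
    have hmul := Subgroup.card_eq_card_quotient_mul_card_subgroup (Subgroup.center R)
    rw [hR] at hmul
    have hz : 1 < Nat.card (Subgroup.center R) := by
      haveI := hPG.center_nontrivial
      exact Finite.one_lt_card
    obtain ⟨k, hk, hk'⟩ := (Nat.dvd_prime_pow Nat.prime_three (m := 3)).1
      (show Nat.card (Subgroup.center R) ∣ 3 ^ 3 from ⟨_, by rw [mul_comm] at hmul; simpa using hmul⟩)
    have hcomm : ∀ x y : R ⧸ Subgroup.center R, x * y = y * x := by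
      rcases (show k = 1 ∨ 2 ≤ k by rcases k with _ | _ | k <;> first | simp at hk' ; omega | omega) with rfl | h
      · exact (IsPGroup.commGroupOfCardEqPrimeSq (p := 3) (by rw [hk'] at hmul; omega)).mul_comm
      · intro x y
        have hcard : Nat.card (R ⧸ Subgroup.center R) ∣ 3 := by
          rw [hk'] at hmul
          interval_cases k
          · exact ⟨1, by omega⟩
          · exact ⟨3, by omega⟩
        haveI : IsCyclic (R ⧸ Subgroup.center R) := by
          rcases (Nat.dvd_prime Nat.prime_three).1 hcard with h1 | h1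
          · haveI : Subsingleton (R ⧸ Subgroup.center R) := (Nat.card_eq_one_iff_unique.1 h1).1
            exact isCyclic_of_subsingleton
          · exact isCyclic_of_prime_card h1
        exact IsCyclic.commGroup.mul_comm x y
    intro a b
    rw [← QuotientGroup.eq_one_iff, ← QuotientGroup.mk'_apply, map_mul, map_mul, map_mul, map_inv, map_inv,
      hcomm (QuotientGroup.mk' _ a) (QuotientGroup.mk' _ b)]
    group
  obtain ⟨A, hA, B, hB, hAB⟩ : ∃ A ∈ R, ∃ B ∈ R, A * B ≠ B * A := by
    by_contra h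
    push Not at h
    exact hRna ⟨⟨fun a b => Subtype.ext (h a a.2 b b.2)⟩⟩
  obtain ⟨Z, hZ⟩ : ∃ Z, Z = A * B * A⁻¹ * B⁻¹ := ⟨_, rfl⟩
  have hZR : Z ∈ R := by
    rw [hZ]
    exact mul_mem (mul_mem (mul_mem hA hB) (inv_mem hA)) (inv_mem hB)
  have hZc : ∀ u ∈ R, Z * u = u * Z := fun u hu => by
    have := Subgroup.mem_center_iff.1 (hquot ⟨A, hA⟩ ⟨B, hB⟩) ⟨u, hu⟩
    rw [hZ]
    exact (congrArg Subtype.val this).symm
  have hABZ : A * B = Z * (B * A) := by rw [hZ]; group
  have hcubeM : ∀ a ∈ R, (a : Matrix (Fin 3) (Fin 3) F) * ((a : Matrix (Fin 3) (Fin 3) F) * a) = 1 := fun a ha => by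
    rw [← Units.val_mul, ← Units.val_mul, hcube a ha, Units.val_one]
  have hdZ : (Z : Matrix (Fin 3) (Fin 3) F).det = 1 := by
    have : Matrix.GeneralLinearGroup.det Z = 1 := by
      rw [hZ, map_mul, map_mul, map_mul, map_inv, map_inv, mul_comm (Matrix.GeneralLinearGroup.det A)]
      group
    exact congrArg Units.val this
  obtain ⟨ω, hω3, hω1, hZω⟩ : ∃ ω : F, ω ^ 3 = 1 ∧ ω ≠ 1 ∧ (Z : Matrix (Fin 3) (Fin 3) F) = ω • 1 := by
    rcases regular_or h3 (hcubeM Z hZR) with hreg | ⟨c, d, Q, hQ, hc, hd, hQd⟩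
    · exfalso
      obtain ⟨Q, hQ, hQc, -⟩ := CubicCyclic.exists_regular_basis h3 (hcubeM Z hZR) hreg
      have hu : IsUnit Q.det := isUnit_iff_ne_zero.2 hQ
      have htr : ∀ u ∈ R, Q⁻¹ * (u : Matrix (Fin 3) (Fin 3) F) * Q * CubicCyclic.comp 1 =
          CubicCyclic.comp 1 * (Q⁻¹ * (u : Matrix (Fin 3) (Fin 3) F) * Q) := fun u hu' => by
        have hzu : (Z : Matrix (Fin 3) (Fin 3) F) * u = (u : Matrix (Fin 3) (Fin 3) F) * Z := by
          rw [← Units.val_mul, hZc u hu', Units.val_mul]
        calc Q⁻¹ * (u : Matrix (Fin 3) (Fin 3) F) * Q * CubicCyclic.comp 1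
            = Q⁻¹ * ((u : Matrix (Fin 3) (Fin 3) F) * (Z : Matrix (Fin 3) (Fin 3) F)) * Q := by rw [mul_assoc _ Q, ← hQc]; simp only [mul_assoc]
          _ = Q⁻¹ * (Z : Matrix (Fin 3) (Fin 3) F) * Q * (Q⁻¹ * (u : Matrix (Fin 3) (Fin 3) F) * Q) := by
              rw [← hzu]; simp only [mul_assoc, mul_nonsing_inv_cancel_left _ _ hu]
          _ = _ := by
              rw [mul_assoc Q⁻¹ (Z : Matrix (Fin 3) (Fin 3) F) Q, hQc, ← mul_assoc Q⁻¹ Q, nonsing_inv_mul _ hu, one_mul]
      have h := commute_comp (htr A hA) (htr B hB)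
      have h' := congrArg (fun M => Q * M * Q⁻¹) h
      simp only [mul_assoc, mul_nonsing_inv_cancel_left _ _ hu, mul_nonsing_inv _ hu, mul_one] at h'
      exact hAB (Units.ext (by rw [Units.val_mul, Units.val_mul]; exact h'))
    · have hu : IsUnit Q.det := isUnit_iff_ne_zero.2 hQ
      have hcd : c * c * d = 1 := by
        have h := congrArg Matrix.det hQd
        rw [det_mul, det_mul, hdZ, one_mul, det_diagonal, Fin.prod_univ_three] at h
        exact mul_left_cancel₀ hQ (by simpa using h.symm)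
      have hdc : d = c := by linear_combination c * hcd - d * hc
      refine ⟨c, hc, ?_, ?_⟩
      · rintro rfl
        refine hAB ?_
        rw [hABZ, show Z = 1 from Units.ext ?_, one_mul]
        rw [Units.val_one]
        calc (Z : Matrix (Fin 3) (Fin 3) F) = Z * Q * Q⁻¹ := by rw [mul_assoc, mul_nonsing_inv _ hu, mul_one]
          _ = 1 := by
            rw [hQd, hdc, show diagonal ![(1 : F), 1, 1] = 1 by rw [← diagonal_one]; congr 1; funext i; fin_cases i <;> rfl,
              mul_one, mul_nonsing_inv _ hu]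
      · calc (Z : Matrix (Fin 3) (Fin 3) F) = Z * Q * Q⁻¹ := by rw [mul_assoc, mul_nonsing_inv _ hu, mul_one]
          _ = c • 1 := by
            rw [hQd, hdc, show diagonal ![c, c, c] = c • (1 : Matrix (Fin 3) (Fin 3) F) by
              rw [← diagonal_one, ← diagonal_smul]; congr 1; funext i; fin_cases i <;> simp,
              mul_smul_comm, mul_one, smul_mul_assoc, mul_nonsing_inv _ hu]
  have hsum : 1 + ω + ω ^ 2 = 0 := by
    have : (ω - 1) * (1 + ω + ω ^ 2) = 0 := by linear_combination hω3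
    exact (mul_eq_zero.1 this).resolve_left (sub_ne_zero.2 hω1)
  have hω0 : ω ≠ 0 := fun h => by rw [h, zero_pow (by norm_num)] at hω3; exact zero_ne_one hω3
  have hω2 : ω ^ 2 ≠ 1 := fun h => hω1 (by linear_combination hω3 - ω * h)
  have hroots : ∀ e : F, e ^ 3 = 1 → e = 1 ∨ e = ω ∨ e = ω ^ 2 := fun e he => by
    have : (e - 1) * ((e - ω) * (e - ω ^ 2)) = 0 := by
      linear_combination he + (-e ^ 2 + e) * hsum - (1 - e) * hω3 + (ω ^ 3 - 1) * 0
    rcases mul_eq_zero.1 this with h | h
    · exact Or.inl (sub_eq_zero.1 h)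
    · rcases mul_eq_zero.1 h with h | h
      · exact Or.inr (Or.inl (sub_eq_zero.1 h))
      · exact Or.inr (Or.inr (sub_eq_zero.1 h))
  set Am := (A : Matrix (Fin 3) (Fin 3) F) with hAm
  set Bm := (B : Matrix (Fin 3) (Fin 3) F) with hBm
  have hAB' : ∀ v, Am *ᵥ (Bm *ᵥ v) = ω • (Bm *ᵥ (Am *ᵥ v)) := fun v => by
    rw [mulVec_mulVec, mulVec_mulVec, hAm, hBm, ← Units.val_mul, hABZ, Units.val_mul, hZω, Units.val_mul, smul_mul_assoc,
      one_mul, smul_mulVec]
  obtain ⟨v, hv0, hv⟩ : ∃ v, v ≠ 0 ∧ Am *ᵥ v = v := by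
    obtain ⟨u, a, hu, ha, ha3⟩ : ∃ (u : Fin 3 → F) (a : F), u ≠ 0 ∧ Am *ᵥ u = a • u ∧ a ^ 3 = 1 := by
      let w : Fin 3 → F := Pi.single 0 1
      have h3' : Am *ᵥ (Am *ᵥ (Am *ᵥ w)) = w := by
        rw [mulVec_mulVec, mulVec_mulVec, mul_assoc, hcubeM A hA, one_mulVec]
      let proj : F → (Fin 3 → F) := fun a => w + a ^ 2 • (Am *ᵥ w) + a • (Am *ᵥ (Am *ᵥ w))
      have heig : ∀ a : F, a ^ 3 = 1 → Am *ᵥ proj a = a • proj a := fun a ha => by
        simp only [proj, mulVec_add, mulVec_smul, h3', smul_add, smul_smul]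
        rw [show a * a ^ 2 = 1 by linear_combination ha, one_smul, ← pow_two]
        abel
      by_cases h1 : proj 1 ≠ 0
      · exact ⟨_, 1, h1, heig 1 (one_pow 3), one_pow 3⟩
      by_cases h2' : proj ω ≠ 0
      · exact ⟨_, ω, h2', heig ω hω3, hω3⟩
      push Not at h1 h2'
      refine ⟨proj (ω ^ 2), ω ^ 2, fun h0 => ?_, heig _ (by rw [← pow_mul, mul_comm, pow_mul, hω3, one_pow]),
        by rw [← pow_mul, mul_comm, pow_mul, hω3, one_pow]⟩
      have hsum' : (3 : F) • w = 0 := by
        have : proj 1 + proj ω + proj (ω ^ 2) = 0 := by rw [h1, h2', h0]; simp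
        rw [← this]
        simp only [proj]
        match_scalars
        · ring
        · linear_combination -hsum - ω * hω3
        · linear_combination -hsum
      simpa [w, h3] using congrFun hsum' 0
    have hshift : ∀ (a : F) (u : Fin 3 → F), Am *ᵥ u = a • u → Am *ᵥ (Bm *ᵥ u) = (ω * a) • (Bm *ᵥ u) := fun a u h => by
      rw [hAB', h, mulVec_smul, smul_smul]
    have hB0 : ∀ u : Fin 3 → F, u ≠ 0 → Bm *ᵥ u ≠ 0 := fun u hu' h => hu' (by
      rw [← one_mulVec u, ← hcubeM B hB, ← mulVec_mulVec, ← mulVec_mulVec, h, mulVec_zero, mulVec_zero])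
    rcases hroots a ha3 with rfl | rfl | rfl
    · exact ⟨u, hu, by rw [ha, one_smul]⟩
    · refine ⟨Bm *ᵥ (Bm *ᵥ u), hB0 _ (hB0 _ hu), ?_⟩
      rw [hshift _ _ (hshift _ _ ha), show a * (a * a) = 1 by linear_combination hω3, one_smul]
    · refine ⟨Bm *ᵥ u, hB0 _ hu, ?_⟩
      rw [hshift _ _ ha, show ω * ω ^ 2 = 1 by linear_combination hω3, one_smul]
  have hv1 : Am *ᵥ (Bm *ᵥ v) = ω • (Bm *ᵥ v) := by rw [hAB', hv]
  have hv2 : Am *ᵥ (Bm *ᵥ (Bm *ᵥ v)) = ω ^ 2 • (Bm *ᵥ (Bm *ᵥ v)) := by
    rw [hAB', hv1, mulVec_smul, smul_smul, pow_two]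
  have hB3 : Bm *ᵥ (Bm *ᵥ (Bm *ᵥ v)) = v := by
    rw [mulVec_mulVec, mulVec_mulVec, mul_assoc, hcubeM B hB, one_mulVec]
  have hli : LinearIndependent F ![v, Bm *ᵥ v, Bm *ᵥ (Bm *ᵥ v)] := by
    refine Module.End.eigenvectors_linearIndependent' (Matrix.toLin' Am) ![1, ω, ω ^ 2] ?_ _ ?_
    · intro i j h
      fin_cases i <;> fin_cases j <;> simp at h ⊢ <;>
        first
        | exact absurd h hω1 | exact absurd h.symm hω1 | exact absurd h hω2 | exact absurd h.symm hω2
        | (exfalso; rcases h with e | e; exact hω1 e; exact hω2 (by rw [e]; ring))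
        | (exfalso; apply hω1; apply mul_left_cancel₀ hω0; linear_combination h)
        | (exfalso; apply hω1; apply mul_left_cancel₀ hω0; linear_combination -h)
    · intro i
      have hne : ![v, Bm *ᵥ v, Bm *ᵥ (Bm *ᵥ v)] i ≠ 0 := by
        fin_cases i
        · exact hv0
        · intro h; exact hv0 (by rw [← hB3, show Bm *ᵥ v = 0 from h, mulVec_zero, mulVec_zero])
        · intro h; exact hv0 (by rw [← hB3, show Bm *ᵥ (Bm *ᵥ v) = 0 from h, mulVec_zero])
      refine ⟨Module.End.mem_eigenspace_iff.2 ?_, hne⟩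
      rw [Matrix.toLin'_apply]
      fin_cases i
      · simpa using hv
      · simpa using hv1
      · simpa using hv2
  let Q : Matrix (Fin 3) (Fin 3) F := Matrix.of fun i j => ![v, Bm *ᵥ v, Bm *ᵥ (Bm *ᵥ v)] j i
  have hQ : Q.det ≠ 0 :=
    ((Matrix.isUnit_iff_isUnit_det Q).1 (Matrix.linearIndependent_cols_iff_isUnit.1 hli)).ne_zero
  have hu : IsUnit Q.det := isUnit_iff_ne_zero.2 hQ
  let D : Matrix (Fin 3) (Fin 3) F := diagonal ![1, ω, ω ^ 2]
  have hAQ : Am * Q = Q * D := by
    ext i j
    show (Am *ᵥ ![v, Bm *ᵥ v, Bm *ᵥ (Bm *ᵥ v)] j) i = _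
    rw [mul_diagonal]
    fin_cases j <;> simp only [Matrix.cons_val_zero, Matrix.cons_val_one, Matrix.cons_val_two, Matrix.head_cons,
      Matrix.tail_cons, Fin.mk_zero, Fin.mk_one, Fin.reduceFinMk, hv, hv1, hv2]
    all_goals simp [Q, mul_comm]
  have hBQ : Bm * Q = Q * CubicCyclic.comp 1 := by
    ext i j
    show (Bm *ᵥ ![v, Bm *ᵥ v, Bm *ᵥ (Bm *ᵥ v)] j) i = _
    rw [Matrix.mul_apply, Fin.sum_univ_three]
    fin_cases j <;> simp only [Matrix.cons_val_zero, Matrix.cons_val_one, Matrix.cons_val_two, Matrix.head_cons,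
      Matrix.tail_cons, Fin.mk_zero, Fin.mk_one, Fin.reduceFinMk, hB3]
    all_goals simp [Q, CubicCyclic.comp]
  have hgen : Subgroup.closure {A, B} = R := by
    have hle : Subgroup.closure {A, B} ≤ R := (Subgroup.closure_le R).2 (by rintro x (rfl | rfl) <;> assumption)
    refine Subgroup.eq_of_le_of_card_ge hle ?_
    have hd := Subgroup.card_dvd_of_le hle
    rw [hR] at hd ⊢
    obtain ⟨k, hk, hk'⟩ := (Nat.dvd_prime_pow Nat.prime_three (m := 3)).1 hd
    by_contra hlt
    rw [hk'] at hlt
    have hk3 : k ≤ 2 := by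
      by_contra h
      exact hlt (by rw [show k = 3 by omega]; norm_num)
    set H := Subgroup.closure {A, B}
    have hcm : ∀ x y : H, x * y = y * x := by
      interval_cases k
      · haveI : Subsingleton H := (Nat.card_eq_one_iff_unique.1 (by simpa using hk')).1
        exact fun x y => Subsingleton.elim _ _
      · haveI : IsCyclic H := isCyclic_of_prime_card (p := 3) (by simpa using hk')
        exact IsCyclic.commGroup.mul_comm
      · exact (IsPGroup.commGroupOfCardEqPrimeSq (p := 3) hk').mul_comm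
    exact hAB (congrArg Subtype.val (hcm ⟨A, Subgroup.subset_closure (Or.inl rfl)⟩ ⟨B, Subgroup.subset_closure (Or.inr rfl)⟩))
  have hdA : Am.det = 1 := by
    have h := congrArg Matrix.det hAQ
    rw [det_mul, det_mul, det_diagonal, Fin.prod_univ_three] at h
    exact mul_right_cancel₀ hQ (by rw [h]; simp; linear_combination Q.det * hω3)
  have hdB : Bm.det = 1 := by
    have h := congrArg Matrix.det hBQ
    rw [det_mul, det_mul] at h
    exact mul_right_cancel₀ hQ (by rw [h]; simp [CubicCyclic.comp, Matrix.det_fin_three])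
  have hRsl : R ≤ Cfsg.Geo.specialLinear (Fin 3) F := by
    rw [← hgen, Subgroup.closure_le]
    rintro x (rfl | rfl)
    · exact hsl' _ hdA
    · exact hsl' _ hdB
  -- conjugation into the normaliser
  have fin : ∀ (x : GL (Fin 3) F) (P y : Matrix (Fin 3) (Fin 3) F), P.det = 1 →
      (x : Matrix (Fin 3) (Fin 3) F) * P = P * y →
      (∃ a ∈ R, y * Am = (a : Matrix (Fin 3) (Fin 3) F) * y) → (∃ b ∈ R, y * Bm = (b : Matrix (Fin 3) (Fin 3) F) * y) →
      ∃ g ∈ Cfsg.Geo.specialLinear (Fin 3) F, g⁻¹ * x * g ∈ Cfsg.Geo.subgroupNormalizer R := by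
    intro x P y hP hxP ⟨a, ha, hya⟩ ⟨b, hb, hyb⟩
    let g := Matrix.GeneralLinearGroup.mkOfDetNeZero P (by rw [hP]; exact one_ne_zero)
    refine ⟨g, hsl' _ hP, ?_⟩
    set Y := g⁻¹ * x * g with hY
    have hYy : (Y : Matrix (Fin 3) (Fin 3) F) = y := by
      rw [hY, mul_assoc, Units.val_mul, Units.val_mul, show (g : Matrix (Fin 3) (Fin 3) F) = P from rfl, hxP,
        ← show (g : Matrix (Fin 3) (Fin 3) F) = P from rfl, Units.inv_mul_cancel_left]
    have e1 : MulAut.conj Y A = a := by
      rw [MulAut.conj_apply, mul_inv_eq_iff_eq_mul]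
      exact Units.ext (show (Y : Matrix (Fin 3) (Fin 3) F) * A = (a : Matrix (Fin 3) (Fin 3) F) * Y by rw [hYy]; exact hya)
    have e2 : MulAut.conj Y B = b := by
      rw [MulAut.conj_apply, mul_inv_eq_iff_eq_mul]
      exact Units.ext (show (Y : Matrix (Fin 3) (Fin 3) F) * B = (b : Matrix (Fin 3) (Fin 3) F) * Y by rw [hYy]; exact hyb)
    have hle : R.map (MulAut.conj Y).toMonoidHom ≤ R := by
      conv_lhs => rw [← hgen, MonoidHom.map_closure]
      rw [Subgroup.closure_le]
      rintro _ ⟨u, hu' | hu', rfl⟩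
      · rw [hu']; show MulAut.conj Y A ∈ R; rw [e1]; exact ha
      · rw [Set.mem_singleton_iff.1 hu']; show MulAut.conj Y B ∈ R; rw [e2]; exact hb
    have heq := Subgroup.eq_of_le_of_card_ge hle
      (le_of_eq (Subgroup.card_map_of_injective (MulAut.conj Y).injective).symm)
    show Y ∈ Subgroup.normalizer (R : Set (GL (Fin 3) F))
    rw [Subgroup.mem_normalizer_iff]
    intro u
    refine ⟨fun hu' => heq ▸ ⟨u, hu', rfl⟩, fun hu' => ?_⟩
    rw [← heq] at hu'
    obtain ⟨w, hw, hwu⟩ := hu'
    exact (MulAut.conj Y).injective hwu ▸ hw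
  have htr : ∀ M M' N u : Matrix (Fin 3) (Fin 3) F, u * Q = Q * M' → M * N = M' * M →
      ∀ a : Matrix (Fin 3) (Fin 3) F, a * Q = Q * N → Q * M * Q⁻¹ * a = u * (Q * M * Q⁻¹) := by
    intro M M' N u hu' hMN a ha
    calc Q * M * Q⁻¹ * a = Q * M * (Q⁻¹ * (a * Q)) * Q⁻¹ := by
          simp only [mul_assoc, mul_nonsing_inv _ hu, mul_one]
      _ = Q * (M * N) * Q⁻¹ := by rw [ha, nonsing_inv_mul_cancel_left _ _ hu]; simp only [mul_assoc]
      _ = u * (Q * M * Q⁻¹) := by rw [hMN, ← mul_assoc, ← hu']; simp only [mul_assoc]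
  have hcardS : Nat.card (Cfsg.Geo.specialLinear (Fin 3) F) = p ^ 3 * ((p ^ 2 - 1) * (p ^ 3 - 1)) := by
    rw [show Nat.card (Cfsg.Geo.specialLinear (Fin 3) F) = Nat.card (Matrix.SpecialLinearGroup (Fin 3) F) from
      CfsgLib.Classical.card_det_ker, CfsgLib.Classical.card_SL_fin', Nat.card_eq_fintype_card, hF]
    simp [Finset.prod_range_succ]
  have hidx : r * 27 ∣ Nat.card (Cfsg.Geo.specialLinear (Fin 3) F) := by
    have h1 : 27 ∣ Nat.card ((Cfsg.Geo.subgroupNormalizer R).subgroupOf (Cfsg.Geo.specialLinear (Fin 3) F)) := by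
      rw [← hR, ← Nat.card_congr (Subgroup.subgroupOfEquivOfLe hRsl).toEquiv]
      exact Subgroup.card_dvd_of_le (fun u hu' => Subgroup.le_normalizer hu')
    rw [← Subgroup.index_mul_card ((Cfsg.Geo.subgroupNormalizer R).subgroupOf (Cfsg.Geo.specialLinear (Fin 3) F))]
    exact mul_dvd_mul hΩ h1
  constructor
  · intro h
    by_contra hcon
    push Not at hcon
    obtain ⟨hr2, hr3⟩ := hcon
    by_cases hr3' : r = 3
    · have hp9 := hr3 hr3'
      subst hr3'
      rw [hcardS] at hidx
      obtain ⟨u, hu1⟩ : ∃ u, p = 3 * u + 1 := ⟨p / 3, by omega⟩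
      have e1 : p ^ 2 - 1 = 3 * u * (3 * u + 2) := by
        rw [hu1, show (3 * u + 1) ^ 2 = 3 * u * (3 * u + 2) + 1 by ring, Nat.add_sub_cancel]
      have e2 : p ^ 3 - 1 = 9 * (u * (3 * u * u + 3 * u + 1)) := by
        rw [hu1, show (3 * u + 1) ^ 3 = 9 * (u * (3 * u * u + 3 * u + 1)) + 1 by ring, Nat.add_sub_cancel]
      rw [e1, e2, show p ^ 3 * (3 * u * (3 * u + 2) * (9 * (u * (3 * u * u + 3 * u + 1)))) =
        27 * (p ^ 3 * u * (3 * u + 2) * u * (3 * u * u + 3 * u + 1)) by ring, mul_comm 3 27] at hidx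
      have h' := Nat.dvd_of_mul_dvd_mul_left (by norm_num) hidx
      have hu3 : ¬ 3 ∣ u := by omega
      rcases Nat.prime_three.dvd_mul.1 h' with h' | h'
      · rcases Nat.prime_three.dvd_mul.1 h' with h' | h'
        · rcases Nat.prime_three.dvd_mul.1 h' with h' | h'
          · rcases Nat.prime_three.dvd_mul.1 h' with h' | h'
            · have := (Nat.prime_dvd_prime_iff_eq Nat.prime_three hpp).1 (Nat.prime_three.dvd_of_dvd_pow h')
              omega
            · exact hu3 h'
          · omega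
        · exact hu3 h'
      · rw [show 3 * u * u + 3 * u + 1 = 3 * (u * u + u) + 1 by ring] at h'
        omega
    have hr5 : 5 ≤ r := by
      have := hr.two_le
      by_contra h'
      interval_cases r <;> first | omega | exact absurd hr (by norm_num)
    obtain ⟨x, hx⟩ := exists_prime_orderOf_dvd_card' r ((dvd_mul_right r 27).trans hidx)
    rw [← Subgroup.orderOf_coe] at hx
    have hscal : ∀ y : GL (Fin 3) F, y ∈ Cfsg.Geo.specialLinear (Fin 3) F → orderOf y = r →
        ∀ z : F, (y : Matrix (Fin 3) (Fin 3) F) ≠ z • 1 := by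
      intro y hy hyr z hz
      have hd := hsl y hy
      rw [hz, det_smul, det_one, mul_one, Fintype.card_fin] at hd
      have : y ^ 3 = 1 := Units.ext (by
        rw [Units.val_pow_eq_pow_val, hz, smul_pow, one_pow, Units.val_one, hd, one_smul])
      have := Nat.le_of_dvd (by norm_num) (hyr ▸ orderOf_dvd_of_pow_eq_one this)
      omega
    obtain ⟨g, hg, hn⟩ := h x x.2 ⟨1, by rw [← hx, pow_orderOf_eq_one, Units.val_one, one_smul]⟩ (hscal x x.2 hx)
    set y := g⁻¹ * (x : GL (Fin 3) F) * g with hy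
    have hyr : orderOf y = r := by
      rw [← hx, hy]
      have := (MulAut.conj g⁻¹).orderOf_eq (x : GL (Fin 3) F)
      rwa [MulAut.conj_apply, inv_inv] at this
    let f : Function.End R := fun u => ⟨y * u * y⁻¹, (Subgroup.mem_normalizer_iff.1 hn u).1 u.2⟩
    have hfk : ∀ (k : ℕ) (u : R), ((f^[k] u : R) : GL (Fin 3) F) = y ^ k * u * (y ^ k)⁻¹ := by
      intro k
      induction k with
      | zero =>
        intro u
        show ((u : R) : GL (Fin 3) F) = y ^ 0 * u * (y ^ 0)⁻¹
        simp
      | succ k ih =>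
        intro u
        rw [Function.iterate_succ_apply', pow_succ']
        show y * ((f^[k] u : R) : GL (Fin 3) F) * y⁻¹ = _
        rw [ih]; group
    have hfr : f ^ r ^ 1 = 1 := by
      rw [pow_one]
      funext u
      refine Subtype.ext ?_
      have hit : ∀ k : ℕ, (f ^ k : Function.End R) = f^[k] := by
        intro k
        induction k with
        | zero => rfl
        | succ k ih => rw [pow_succ', Function.iterate_succ', ih]; rfl
      rw [hit, hfk, ← hyr, pow_orderOf_eq_one]
      show _ = ((u : R) : GL (Fin 3) F)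
      simp
    haveI : Fintype R := Fintype.ofFinite R
    have hmod := Equiv.Perm.card_fixedPoints_modEq (p := r) hfr
    set S := (Subgroup.centralizer {y}).subgroupOf R with hS
    have hfix : Function.fixedPoints f = (S : Set R) := by
      ext u
      rw [Function.mem_fixedPoints, Function.IsFixedPt, SetLike.mem_coe, hS, Subgroup.mem_subgroupOf,
        Subgroup.mem_centralizer_singleton_iff, Subtype.ext_iff]
      show y * u * y⁻¹ = u ↔ _
      rw [mul_inv_eq_iff_eq_mul]
      exact eq_comm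
    rw [← Nat.card_eq_fintype_card, ← Nat.card_eq_fintype_card, hR, Nat.card_congr (Equiv.setCongr hfix)] at hmod
    replace hmod : 27 ≡ Nat.card S [MOD r] := hmod
    have hSdvd : Nat.card S ∣ 3 ^ 3 := by
      have := Subgroup.card_subgroup_dvd_card S
      rwa [hR] at this
    have hS2 : 2 ≤ Nat.card S := by
      refine Finite.one_lt_card_iff_nontrivial.2 ⟨⟨⟨Z, hZR⟩, ?_⟩, 1, fun he => ?_⟩
      · rw [hS, Subgroup.mem_subgroupOf, Subgroup.mem_centralizer_singleton_iff]
        exact Units.ext (by simp [Units.val_mul, hZω])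
      · have h1 : Z = 1 := congrArg (fun v : S => ((v : R) : GL (Fin 3) F)) he
        rw [h1, Units.val_one] at hZω
        have := congrFun (congrFun hZω 0) 0
        simp only [Matrix.one_apply_eq, Matrix.smul_apply, smul_eq_mul, mul_one] at this
        exact hω1 this.symm
    have hS27 : Nat.card S = 27 := by
      obtain ⟨k, hk, hk'⟩ := (Nat.dvd_prime_pow Nat.prime_three).1 hSdvd
      have hm := (Nat.modEq_iff_dvd' (by rw [hk']; calc 3 ^ k ≤ 3 ^ 3 := Nat.pow_le_pow_right (by norm_num) hk
        _ = 27 := rfl)).1 hmod.symm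
      interval_cases k
      · omega
      · rw [hk'] at hm
        norm_num at hm
        rw [show (24 : ℕ) = 2 ^ 3 * 3 by norm_num] at hm
        rcases hr.dvd_mul.1 hm with h' | h'
        · have := Nat.le_of_dvd (by norm_num) (hr.dvd_of_dvd_pow h'); omega
        · have := Nat.le_of_dvd (by norm_num) h'; omega
      · rw [hk'] at hm
        norm_num at hm
        rw [show (18 : ℕ) = 3 ^ 2 * 2 by norm_num] at hm
        rcases hr.dvd_mul.1 hm with h' | h'
        · have := Nat.le_of_dvd (by norm_num) (hr.dvd_of_dvd_pow h'); omega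
        · have := Nat.le_of_dvd (by norm_num) h'; omega
      · simpa using hk'
    have hStop : S = ⊤ := Subgroup.eq_top_of_card_eq S (by rw [hS27, hR])
    have hcom : ∀ u ∈ R, (y : Matrix (Fin 3) (Fin 3) F) * u = (u : Matrix (Fin 3) (Fin 3) F) * y := by
      intro u hu'
      have := (hStop ▸ Subgroup.mem_top (⟨u, hu'⟩ : R) : (⟨u, hu'⟩ : R) ∈ S)
      rw [hS, Subgroup.mem_subgroupOf, Subgroup.mem_centralizer_singleton_iff] at this
      exact (by simpa using (congrArg Units.val this).symm)
    set T := Q⁻¹ * (y : Matrix (Fin 3) (Fin 3) F) * Q with hT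
    have hTN : ∀ (u : Matrix (Fin 3) (Fin 3) F) N, u * Q = Q * N →
        (y : Matrix (Fin 3) (Fin 3) F) * u = u * y → T * N = N * T := by
      intro u N huN hyu
      calc T * N = Q⁻¹ * (y : Matrix (Fin 3) (Fin 3) F) * (Q * N) := by rw [hT]; simp only [mul_assoc]
        _ = Q⁻¹ * ((y : Matrix (Fin 3) (Fin 3) F) * u) * Q := by rw [← huN]; simp only [mul_assoc]
        _ = Q⁻¹ * u * Q * T := by
            rw [hyu, hT]; simp only [mul_assoc, mul_nonsing_inv_cancel_left _ _ hu]
        _ = N * T := by rw [mul_assoc Q⁻¹, huN, nonsing_inv_mul_cancel_left _ _ hu]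
    have hTD := hTN Am D hAQ (hcom A hA)
    have hTC := hTN Bm _ hBQ (hcom B hB)
    have hoff : ∀ i j, i ≠ j → T i j = 0 := fun i j hij => by
      have := congrFun (congrFun hTD i) j
      rw [mul_diagonal, diagonal_mul] at this
      have hne : ![(1 : F), ω, ω ^ 2] j - ![(1 : F), ω, ω ^ 2] i ≠ 0 := sub_ne_zero.2 fun h => hij (by
        fin_cases i <;> fin_cases j <;> simp at h ⊢ <;>
          first
          | exact absurd h hω1 | exact absurd h.symm hω1 | exact absurd h hω2 | exact absurd h.symm hω2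
          | (exfalso; rcases h with e | e; exact hω1 e; exact hω2 (by rw [e]; ring))
          | (exfalso; apply hω1; apply mul_left_cancel₀ hω0; linear_combination h)
          | (exfalso; apply hω1; apply mul_left_cancel₀ hω0; linear_combination -h))
      exact (mul_eq_zero.1 (show (![(1 : F), ω, ω ^ 2] j - ![(1 : F), ω, ω ^ 2] i) * T i j = 0 by
        linear_combination this)).resolve_left hne
    have e10 := congrFun (congrFun hTC 1) 0
    have e21 := congrFun (congrFun hTC 2) 1
    simp [CubicCyclic.comp, Matrix.mul_apply, Fin.sum_univ_three] at e10 e21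
    refine hscal y (mul_mem (mul_mem (inv_mem hg) x.2) hg) hyr (T 0 0) ?_
    have hTs : T = T 0 0 • 1 := by
      ext i j
      by_cases hij : i = j
      · subst hij; fin_cases i <;> simp [Matrix.one_apply, e10, e21]
      · simp [Matrix.one_apply, hij, hoff i j hij]
    calc (y : Matrix (Fin 3) (Fin 3) F) = Q * T * Q⁻¹ := by
          simp [hT, mul_assoc, mul_nonsing_inv_cancel_left _ _ hu, mul_nonsing_inv _ hu]
      _ = T 0 0 • 1 := by rw [hTs, mul_smul_comm, mul_one, smul_mul_assoc, mul_nonsing_inv _ hu]; simp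
  · intro hr23 x hx ⟨z, hz⟩ hns
    have dx := hsl x hx
    set X := (x : Matrix (Fin 3) (Fin 3) F) with hX
    rw [Units.val_pow_eq_pow_val, ← hX] at hz
    have hz3 : z ^ 3 = 1 := by
      have h := congrArg Matrix.det hz
      rw [det_pow, dx, one_pow, det_smul, det_one, mul_one, Fintype.card_fin] at h
      exact h.symm
    rcases hr23 with rfl | ⟨rfl, -⟩
    · -- involutions
      have hz0 : z ≠ 0 := fun h => by rw [h, zero_pow (by norm_num)] at hz3; exact zero_ne_one hz3
      have hs : z ^ 2 * z ^ 2 = z := by linear_combination z * hz3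
      set J := z • X with hJ
      have hJ2 : J * J = 1 := by
        rw [hJ, smul_mul_smul_comm, ← pow_two X, hz, smul_smul, show z * z * z = 1 by linear_combination hz3, one_smul]
      have hXJ : X = z ^ 2 • J := by rw [hJ, smul_smul, show z ^ 2 * z = 1 by linear_combination hz3, one_smul]
      obtain ⟨Qx, hQx, hQxJ⟩ := involution_form h2 hJ2 (by rw [hJ, det_smul, dx, Fintype.card_fin, mul_one, hz3])
        (fun c hc => hns (z ^ 2 * c) (by rw [hXJ, hc, smul_smul]))
      let T : Matrix (Fin 3) (Fin 3) F := !![-1, 0, 0; 0, 0, -1; 0, -1, 0]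
      obtain ⟨Qt, hQt, hQtT⟩ := involution_form h2 (J := T)
        (by ext i j; fin_cases i <;> fin_cases j <;> simp [T, Matrix.mul_apply, Fin.sum_univ_three, Matrix.one_apply])
        (by simp [T, Matrix.det_fin_three])
        (fun c h => by
          have := congrFun (congrFun h 1) 2
          simp [T, Matrix.one_apply] at this)
      have hy : (Q * T * Q⁻¹) * (Q * Qt) = (Q * Qt) * diagonal ![1, -1, -1] := by
        rw [mul_assoc (Q * T), nonsing_inv_mul_cancel_left _ _ hu, mul_assoc Q T, hQtT, ← mul_assoc]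
      obtain ⟨P, hP, hPJ⟩ := exists_conj_diag _ hQx (by rw [det_mul]; exact mul_ne_zero hQ hQt) hQxJ hy
      refine fin x P (z ^ 2 • (Q * T * Q⁻¹)) hP (by rw [← hX, hXJ, smul_mul_assoc, hPJ, mul_smul_comm])
        ⟨A * A, mul_mem hA hA, ?_⟩ ⟨B * B, mul_mem hB hB, ?_⟩
      · rw [smul_mul_assoc, mul_smul_comm, Units.val_mul]
        congr 1
        refine htr T (D * D) D _ ?_ ?_ _ hAQ
        · rw [← hAm, mul_assoc, hAQ, ← mul_assoc, hAQ, mul_assoc]
        · ext i j
          fin_cases i <;> fin_cases j <;> simp [T, D, diagonal_mul_diagonal, mul_diagonal, diagonal_mul] <;>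
            first | ring1 | linear_combination hω3 | linear_combination -hω3 | linear_combination ω * hω3 | linear_combination -ω * hω3 | linear_combination -ω ^ 2 * hω3
      · rw [smul_mul_assoc, mul_smul_comm, Units.val_mul]
        congr 1
        refine htr T (CubicCyclic.comp 1 * CubicCyclic.comp 1) (CubicCyclic.comp 1) _ ?_ ?_ _ hBQ
        · rw [← hBm, mul_assoc, hBQ, ← mul_assoc, hBQ, mul_assoc]
        · ext i j
          fin_cases i <;> fin_cases j <;> simp [T, CubicCyclic.comp, Matrix.mul_apply, Fin.sum_univ_three]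
    · -- elements of order three
      rw [pow_succ', pow_two] at hz
      obtain ⟨μ, hμ⟩ : ∃ μ : F, μ ^ 3 = z := by
        by_contra h
        push Not at h
        have h1 := CubicCyclic.det_of_noncube hz h
        rw [dx] at h1
        exact h 1 (by rw [one_pow]; exact h1)
      have hμ0 : μ ≠ 0 := fun h => by
        rw [h, zero_pow (by norm_num)] at hμ
        rw [← hμ, zero_pow (by norm_num)] at hz3; exact zero_ne_one hz3
      set Y := μ⁻¹ • X with hY
      have hY3 : Y * (Y * Y) = 1 := by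
        rw [hY, smul_mul_smul_comm, smul_mul_smul_comm, hz, smul_smul, ← hμ]
        convert one_smul F (1 : Matrix (Fin 3) (Fin 3) F) using 2
        field_simp
      have hXY : X = μ • Y := by rw [hY, smul_smul, mul_inv_cancel₀ hμ0, one_smul]
      rcases regular_or h3 hY3 with hreg | ⟨c, d, Qx, hQx, hc, hd, hQxY⟩
      · obtain ⟨Qx, hQx, hQxY, -⟩ := CubicCyclic.exists_regular_basis h3 hY3 hreg
        obtain ⟨P, hP, hPX⟩ := CubicCyclic.exists_conj h3 (μ := μ) (x := X) (y := μ • Bm) hQx hQ
          (by rw [hXY, smul_mul_assoc, hQxY, mul_smul_comm]) (by rw [smul_mul_assoc, hBQ, mul_smul_comm])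
        refine fin x P _ hP hPX ⟨Z * Z * A, mul_mem (mul_mem hZR hZR) hA, ?_⟩ ⟨B, hB, by rw [smul_mul_assoc, mul_smul_comm]⟩
        have hBA : Bm * Am = ω ^ 2 • (Am * Bm) := by
          rw [hAm, hBm, ← Units.val_mul A B, hABZ, Units.val_mul, hZω, smul_mul_assoc, one_mul, smul_smul,
            show ω ^ 2 * ω = 1 by linear_combination hω3, one_smul, Units.val_mul]
        rw [smul_mul_assoc, hBA, Units.val_mul, Units.val_mul, hZω, smul_mul_smul_comm, one_mul, smul_mul_assoc, one_mul,
          smul_mul_assoc, mul_smul_comm, ← hAm, ← pow_two, smul_comm]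
      · have hc0 : c ≠ 0 := fun h => by rw [h, zero_pow (by norm_num)] at hc; exact zero_ne_one hc
        set e := d / c with he
        have hdc : d = c * e := by rw [he]; field_simp
        have hXd : X * Qx = Qx * ((μ * c) • diagonal ![1, 1, e]) := by
          rw [hXY, smul_mul_assoc, hQxY, ← smul_smul, mul_smul_comm μ]
          congr 2
          rw [← diagonal_smul]
          congr 1
          funext i; fin_cases i <;> simp [hdc]
        rcases hroots e (by rw [he, div_pow, hc, hd, div_one]) with he1 | he1 | he1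
        · refine absurd ?_ (hns (μ * c))
          have hu' : IsUnit Qx.det := isUnit_iff_ne_zero.2 hQx
          calc X = X * Qx * Qx⁻¹ := by rw [mul_assoc, mul_nonsing_inv _ hu', mul_one]
            _ = (μ * c) • 1 := by
              rw [hXd, he1, show diagonal ![(1 : F), 1, 1] = 1 by rw [← diagonal_one]; congr 1; funext i; fin_cases i <;> rfl,
                mul_smul_comm, mul_one, smul_mul_assoc, mul_nonsing_inv _ hu']
        all_goals
          set E : Matrix (Fin 3) (Fin 3) F := diagonal ![1, 1, e] with hE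
          have hyE : (μ * c) • (Q * E * Q⁻¹) * Q = Q * ((μ * c) • E) := by
            rw [smul_mul_assoc, mul_assoc, nonsing_inv_mul _ hu, mul_one, mul_smul_comm]
          have hdiag : (μ * c) • E = diagonal ((μ * c) • ![1, 1, e]) := by rw [hE, ← diagonal_smul]
          obtain ⟨P, hP, hPX⟩ := exists_conj_diag ((μ * c) • ![1, 1, e]) hQx hQ
            (by rw [← hdiag]; exact hXd) (by rw [← hdiag]; exact hyE)
          refine fin x P _ hP hPX ⟨A, hA, ?_⟩ ?_
          · rw [smul_mul_assoc, mul_smul_comm]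
            congr 1
            exact htr E D D Am hAQ (by simp [E, D, diagonal_mul_diagonal, mul_comm]) Am hAQ
        · refine ⟨Z * Z * (A * B), mul_mem (mul_mem hZR hZR) (mul_mem hA hB), ?_⟩
          rw [smul_mul_assoc, mul_smul_comm]
          congr 1
          refine htr E ((ω ^ 2) • (D * CubicCyclic.comp 1)) (CubicCyclic.comp 1) _ ?_ ?_ Bm hBQ
          · rw [Units.val_mul, Units.val_mul, Units.val_mul, hZω, ← hAm, ← hBm, smul_mul_smul_comm, one_mul, ← pow_two,
              smul_mul_assoc, one_mul, smul_mul_assoc, mul_assoc Am, hBQ, ← mul_assoc, hAQ, mul_assoc, mul_smul_comm]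
          · ext i j
            fin_cases i <;> fin_cases j <;> simp [E, D, he1, CubicCyclic.comp, mul_diagonal, diagonal_mul] <;>
              first | ring1 | linear_combination hω3 | linear_combination -hω3 | linear_combination ω * hω3 | linear_combination -ω * hω3 | linear_combination -ω ^ 2 * hω3
        · refine ⟨Z * (A * A * B), mul_mem hZR (mul_mem (mul_mem hA hA) hB), ?_⟩
          rw [smul_mul_assoc, mul_smul_comm]
          congr 1
          refine htr E (ω • (D * D * CubicCyclic.comp 1)) (CubicCyclic.comp 1) _ ?_ ?_ Bm hBQ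
          · rw [Units.val_mul, Units.val_mul, Units.val_mul, hZω, ← hAm, ← hBm,
              smul_mul_assoc, one_mul, smul_mul_assoc, mul_assoc (Am * Am), hBQ, ← mul_assoc, mul_assoc Am, hAQ,
              ← mul_assoc Am, hAQ, mul_smul_comm]
            simp only [mul_assoc]
          · ext i j
            fin_cases i <;> fin_cases j <;> simp [E, D, he1, CubicCyclic.comp, mul_diagonal, diagonal_mul] <;>
              first | ring1 | linear_combination hω3 | linear_combination -hω3 | linear_combination ω * hω3 | linear_combination -ω * hω3 | linear_combination -ω ^ 2 * hω3 | linear_combination ω ^ 2 * hω3 | linear_combination -ω ^ 2 * hω3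


end Cfsg.Agent.S5998
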