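import Cfsg.Statements.S5999
import Cfsg.Agent.Lib.ThreeTransp.HeisThree
import Cfsg.Agent.Lib.KnownB.UnitaryConj
import Cfsg.Agent.Lib.LinearGroups.SU3Involutions

set_option autoImplicit false
set_option maxHeartbeats 2000000
open scoped MatrixGroups
open Cfsg

namespace Cfsg.Agent.S5999

/-- Elements of prime order of PSU_3(p), p ≡ 2 (mod 3), and the normalizer of an extraspecial subgroup of order 27. Here `T = PSU_3(p)` for a prime `p ≥ 5` with `p ≡ 2 (mod 3)`, realised through `SU_3(p)`, the matrices of determinant 1 over the field `F` with `p²` elements preserving the hermitian form `Σ uᵢvᵢ^p`; `R` is a non-abelian subgroup of order 27 and exponent 3 of the full unitary group of that form (an extraspecial group 3^{1+2}, acting absolutely irreducibly), and `H` is the subgroup of `SU_3(p)` normalizing `R` — a subgroup of type 3^{1+2}.Sp₂(3) (maximality is not assumed). Ω is the set of cosets of `H`, so an element of `T` of prime order `r` (`x ∈ SU_3(p)` with `x^r` scalar,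 `x` not scalar) fixes a point of Ω exactly when some `SU_3(p)`-conjugate of `x` normalizes `R`. Let `r` be a prime dividing the index of `H`. Then every element of `T` of order `r` fixes a point of Ω if and only if `r = 2`, or `r = 3` and `p ≡ 8 (mod 9)`. -/
theorem result {F : Type*} [Field F] [Fintype F] {p : ℕ} [Fact p.Prime] [CharP F p] (hF : Fintype.card F = p ^ 2) (hp : 5 ≤ p) (hp3 : p % 3 = 2)
    (R : Subgroup (GL (Fin 3) F)) (hRU : R ≤ Cfsg.GU 3 F p) (hR : Nat.card R = 27) (hRe : Monoid.exponent R = 3) (hRna : ¬ IsMulCommutative R)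
    (r : ℕ) [Fact r.Prime]
    (hΩ : r ∣ (Cfsg.Geo.subgroupNormalizer R).relIndex (Cfsg.GU 3 F p ⊓ Cfsg.Geo.specialLinear (Fin 3) F)) :
    (∀ x ∈ Cfsg.GU 3 F p ⊓ Cfsg.Geo.specialLinear (Fin 3) F, (∃ z : F, ((x ^ r : GL (Fin 3) F) : Matrix (Fin 3) (Fin 3) F) = z • (1 : Matrix (Fin 3) (Fin 3) F)) →
      (∀ z : F, (x : Matrix (Fin 3) (Fin 3) F) ≠ z • (1 : Matrix (Fin 3) (Fin 3) F)) →
      ∃ g ∈ Cfsg.GU 3 F p ⊓ Cfsg.Geo.specialLinear (Fin 3) F, g⁻¹ * x * g ∈ Cfsg.Geo.subgroupNormalizer R) ↔ (r = 2 ∨ (r = 3 ∧ p % 9 = 8)) := by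
  open Matrix CfsgLib.ThreeTransp CfsgLib.ThreeTransp.HeisThree CfsgLib.KnownB.UnitaryConj in
  classical
  have hr : r.Prime := Fact.out
  have hpp : p.Prime := Fact.out
  obtain ⟨σ, hσ, hσ1, hσ2⟩ := CfsgLib.Classical.exists_frob (q := p) (F := F) (by rw [Nat.card_eq_fintype_card, hF])
  have hI := isInvol_adj (n := 3) hσ2
  have hGU : ∀ v : GL (Fin 3) F, v ∈ Cfsg.GU 3 F p ↔ adj σ (v : Matrix (Fin 3) (Fin 3) F) * v = 1 :=
    fun v => mem_GU_iff_adj hσ2 hσ v
  have hnorm : ∀ c : F, c ^ (p + 1) = 1 → σ c * c = 1 := fun c hc => by rw [hσ, ← pow_succ]; exact hc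
  have hcube1 : ∀ c : F, c ^ 3 = 1 → σ c * c = 1 := fun c hc => hnorm c (by
    obtain ⟨k, hk⟩ : 3 ∣ p + 1 := by omega
    rw [hk, pow_mul, hc, one_pow])
  have hdiagU : ∀ d : Fin 3 → F, (∀ i, σ (d i) * d i = 1) → adj σ (diagonal d) * diagonal d = 1 := fun d hd => by
    rw [adj, diagonal_map (map_zero σ), diagonal_transpose, diagonal_mul_diagonal, ← diagonal_one]
    exact congrArg _ (funext hd)
  have hdetU : ∀ M : Matrix (Fin 3) (Fin 3) F, adj σ M * M = 1 → σ M.det * M.det = 1 := fun M hM => by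
    have h := congrArg Matrix.det hM
    rwa [det_mul, adj, det_transpose, ← RingHom.mapMatrix_apply, ← RingHom.map_det, det_one] at h
  have hne : ∀ k : ℕ, 0 < k → k < p → (k : F) ≠ 0 := fun k h0 hk h =>
    absurd (Nat.le_of_dvd h0 ((CharP.cast_eq_zero_iff F p k).1 h)) (by omega)
  have h2 : (2 : F) ≠ 0 := by simpa using hne 2 (by norm_num) (by omega)
  have h3 : (3 : F) ≠ 0 := by simpa using hne 3 (by norm_num) (by omega)
  have hsl : ∀ v : GL (Fin 3) F, v ∈ Cfsg.Geo.specialLinear (Fin 3) F →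
      (v : Matrix (Fin 3) (Fin 3) F).det = 1 := fun v hv => congrArg Units.val hv
  have hsl' : ∀ v : GL (Fin 3) F, (v : Matrix (Fin 3) (Fin 3) F).det = 1 →
      v ∈ Cfsg.Geo.specialLinear (Fin 3) F := fun v hv => Units.ext hv
  -- the structure of `R`
  haveI : Fact (Nat.Prime 3) := ⟨Nat.prime_three⟩
  have hcube : ∀ a ∈ R, a * (a * a) = 1 := fun a ha => by
    have := Monoid.pow_exponent_eq_one (⟨a, ha⟩ : R)
    rw [hRe] at this
    have h : a ^ 3 = 1 := congrArg Subtype.val this
    rwa [pow_succ', pow_two] at h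
  have hPG : IsPGroup 3 R := IsPGroup.of_card (n := 3) (by rw [hR]; rfl)
  have hquot : ∀ a b : R, a * b * a⁻¹ * b⁻¹ ∈ Subgroup.center R := by
    haveI : Nontrivial R := by
      rw [← Finite.one_lt_card_iff_nontrivial, hR]; norm_num
    have hmul := Subgroup.card_eq_card_quotient_mul_card_subgroup (Subgroup.center R)
    rw [hR] at hmul
    have hz : 1 < Nat.card (Subgroup.center R) := by
      haveI := hPG.center_nontrivial
      exact Finite.one_lt_card
    obtain ⟨k, hk, hk'⟩ := (Nat.dvd_prime_pow Nat.prime_three (m := 3)).1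
      (show Nat.card (Subgroup.center R) ∣ 3 ^ 3 from ⟨_, by rw [mul_comm] at hmul; simpa using hmul⟩)
    have hcomm : ∀ x y : R ⧸ Subgroup.center R, x * y = y * x := by
      rcases (show k = 1 ∨ 2 ≤ k by rcases k with _ | _ | k <;> first | simp at hk' ; omega | omega) with rfl | h
      · exact (IsPGroup.commGroupOfCardEqPrimeSq (p := 3) (by rw [hk'] at hmul; omega)).mul_comm
      · intro x y
        have hcard : Nat.card (R ⧸ Subgroup.center R) ∣ 3 := by
          rw [hk'] at hmul
          interval_cases k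
          · exact ⟨1, by omega⟩
          · exact ⟨3, by omega⟩
        haveI : IsCyclic (R ⧸ Subgroup.center R) := by
          rcases (Nat.dvd_prime Nat.prime_three).1 hcard with h1 | h1
          · haveI : Subsingleton (R ⧸ Subgroup.center R) := (Nat.card_eq_one_iff_unique.1 h1).1
            exact isCyclic_of_subsingleton
          · exact isCyclic_of_prime_card h1
        exact IsCyclic.commGroup.mul_comm x y
    intro a b
    rw [← QuotientGroup.eq_one_iff, ← QuotientGroup.mk'_apply, map_mul, map_mul, map_mul, map_inv, map_inv,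
      hcomm (QuotientGroup.mk' _ a) (QuotientGroup.mk' _ b)]
    group
  obtain ⟨A, hA, B, hB, hAB⟩ : ∃ A ∈ R, ∃ B ∈ R, A * B ≠ B * A := by
    by_contra h
    push Not at h
    exact hRna ⟨⟨fun a b => Subtype.ext (h a a.2 b b.2)⟩⟩
  obtain ⟨Z, hZ⟩ : ∃ Z, Z = A * B * A⁻¹ * B⁻¹ := ⟨_, rfl⟩
  have hZR : Z ∈ R := by
    rw [hZ]
    exact mul_mem (mul_mem (mul_mem hA hB) (inv_mem hA)) (inv_mem hB)
  have hZc : ∀ u ∈ R, Z * u = u * Z := fun u hu => by
    have := Subgroup.mem_center_iff.1 (hquot ⟨A, hA⟩ ⟨B, hB⟩) ⟨u, hu⟩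
    rw [hZ]
    exact (congrArg Subtype.val this).symm
  have hABZ : A * B = Z * (B * A) := by rw [hZ]; group
  have hcubeM : ∀ a ∈ R, (a : Matrix (Fin 3) (Fin 3) F) * ((a : Matrix (Fin 3) (Fin 3) F) * a) = 1 := fun a ha => by
    rw [← Units.val_mul, ← Units.val_mul, hcube a ha, Units.val_one]
  have hdZ : (Z : Matrix (Fin 3) (Fin 3) F).det = 1 := by
    have : Matrix.GeneralLinearGroup.det Z = 1 := by
      rw [hZ, map_mul, map_mul, map_mul, map_inv, map_inv, mul_comm (Matrix.GeneralLinearGroup.det A)]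
      group
    exact congrArg Units.val this
  obtain ⟨ω, hω3, hω1, hZω⟩ : ∃ ω : F, ω ^ 3 = 1 ∧ ω ≠ 1 ∧ (Z : Matrix (Fin 3) (Fin 3) F) = ω • 1 := by
    rcases regular_or h3 (hcubeM Z hZR) with hreg | ⟨c, d, Q, hQ, hc, hd, hQd⟩
    · exfalso
      obtain ⟨Q, hQ, hQc, -⟩ := CubicCyclic.exists_regular_basis h3 (hcubeM Z hZR) hreg
      have hu : IsUnit Q.det := isUnit_iff_ne_zero.2 hQ
      have htr : ∀ u ∈ R, Q⁻¹ * (u : Matrix (Fin 3) (Fin 3) F) * Q * CubicCyclic.comp 1 =
          CubicCyclic.comp 1 * (Q⁻¹ * (u : Matrix (Fin 3) (Fin 3) F) * Q) := fun u hu' => by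
        have hzu : (Z : Matrix (Fin 3) (Fin 3) F) * u = (u : Matrix (Fin 3) (Fin 3) F) * Z := by
          rw [← Units.val_mul, hZc u hu', Units.val_mul]
        calc Q⁻¹ * (u : Matrix (Fin 3) (Fin 3) F) * Q * CubicCyclic.comp 1
            = Q⁻¹ * ((u : Matrix (Fin 3) (Fin 3) F) * (Z : Matrix (Fin 3) (Fin 3) F)) * Q := by rw [mul_assoc _ Q, ← hQc]; simp only [mul_assoc]
          _ = Q⁻¹ * (Z : Matrix (Fin 3) (Fin 3) F) * Q * (Q⁻¹ * (u : Matrix (Fin 3) (Fin 3) F) * Q) := by
              rw [← hzu]; simp only [mul_assoc, mul_nonsing_inv_cancel_left _ _ hu]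
          _ = _ := by
              rw [mul_assoc Q⁻¹ (Z : Matrix (Fin 3) (Fin 3) F) Q, hQc, ← mul_assoc Q⁻¹ Q, nonsing_inv_mul _ hu, one_mul]
      have h := commute_comp (htr A hA) (htr B hB)
      have h' := congrArg (fun M => Q * M * Q⁻¹) h
      simp only [mul_assoc, mul_nonsing_inv_cancel_left _ _ hu, mul_nonsing_inv _ hu, mul_one] at h'
      exact hAB (Units.ext (by rw [Units.val_mul, Units.val_mul]; exact h'))
    · have hu : IsUnit Q.det := isUnit_iff_ne_zero.2 hQ
      have hcd : c * c * d = 1 := by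
        have h := congrArg Matrix.det hQd
        rw [det_mul, det_mul, hdZ, one_mul, det_diagonal, Fin.prod_univ_three] at h
        exact mul_left_cancel₀ hQ (by simpa using h.symm)
      have hdc : d = c := by linear_combination c * hcd - d * hc
      refine ⟨c, hc, ?_, ?_⟩
      · rintro rfl
        refine hAB ?_
        rw [hABZ, show Z = 1 from Units.ext ?_, one_mul]
        rw [Units.val_one]
        calc (Z : Matrix (Fin 3) (Fin 3) F) = Z * Q * Q⁻¹ := by rw [mul_assoc, mul_nonsing_inv _ hu, mul_one]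
          _ = 1 := by
            rw [hQd, hdc, show diagonal ![(1 : F), 1, 1] = 1 by rw [← diagonal_one]; congr 1; funext i; fin_cases i <;> rfl,
              mul_one, mul_nonsing_inv _ hu]
      · calc (Z : Matrix (Fin 3) (Fin 3) F) = Z * Q * Q⁻¹ := by rw [mul_assoc, mul_nonsing_inv _ hu, mul_one]
          _ = c • 1 := by
            rw [hQd, hdc, show diagonal ![c, c, c] = c • (1 : Matrix (Fin 3) (Fin 3) F) by
              rw [← diagonal_one, ← diagonal_smul]; congr 1; funext i; fin_cases i <;> simp,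
              mul_smul_comm, mul_one, smul_mul_assoc, mul_nonsing_inv _ hu]
  have hsum : 1 + ω + ω ^ 2 = 0 := by
    have : (ω - 1) * (1 + ω + ω ^ 2) = 0 := by linear_combination hω3
    exact (mul_eq_zero.1 this).resolve_left (sub_ne_zero.2 hω1)
  have hω0 : ω ≠ 0 := fun h => by rw [h, zero_pow (by norm_num)] at hω3; exact zero_ne_one hω3
  have hω2 : ω ^ 2 ≠ 1 := fun h => hω1 (by linear_combination hω3 - ω * h)
  have hroots : ∀ e : F, e ^ 3 = 1 → e = 1 ∨ e = ω ∨ e = ω ^ 2 := fun e he => by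
    have : (e - 1) * ((e - ω) * (e - ω ^ 2)) = 0 := by
      linear_combination he + (-e ^ 2 + e) * hsum - (1 - e) * hω3 + (ω ^ 3 - 1) * 0
    rcases mul_eq_zero.1 this with h | h
    · exact Or.inl (sub_eq_zero.1 h)
    · rcases mul_eq_zero.1 h with h | h
      · exact Or.inr (Or.inl (sub_eq_zero.1 h))
      · exact Or.inr (Or.inr (sub_eq_zero.1 h))
  set Am := (A : Matrix (Fin 3) (Fin 3) F) with hAm
  set Bm := (B : Matrix (Fin 3) (Fin 3) F) with hBm
  have hAB' : ∀ v, Am *ᵥ (Bm *ᵥ v) = ω • (Bm *ᵥ (Am *ᵥ v)) := fun v => by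
    rw [mulVec_mulVec, mulVec_mulVec, hAm, hBm, ← Units.val_mul, hABZ, Units.val_mul, hZω, Units.val_mul, smul_mul_assoc,
      one_mul, smul_mulVec]
  obtain ⟨v, hv0, hv⟩ : ∃ v, v ≠ 0 ∧ Am *ᵥ v = v := by
    obtain ⟨u, a, hu, ha, ha3⟩ : ∃ (u : Fin 3 → F) (a : F), u ≠ 0 ∧ Am *ᵥ u = a • u ∧ a ^ 3 = 1 := by
      let w : Fin 3 → F := Pi.single 0 1
      have h3' : Am *ᵥ (Am *ᵥ (Am *ᵥ w)) = w := by
        rw [mulVec_mulVec, mulVec_mulVec, mul_assoc, hcubeM A hA, one_mulVec]
      let proj : F → (Fin 3 → F) := fun a => w + a ^ 2 • (Am *ᵥ w) + a • (Am *ᵥ (Am *ᵥ w))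
      have heig : ∀ a : F, a ^ 3 = 1 → Am *ᵥ proj a = a • proj a := fun a ha => by
        simp only [proj, mulVec_add, mulVec_smul, h3', smul_add, smul_smul]
        rw [show a * a ^ 2 = 1 by linear_combination ha, one_smul, ← pow_two]
        abel
      by_cases h1 : proj 1 ≠ 0
      · exact ⟨_, 1, h1, heig 1 (one_pow 3), one_pow 3⟩
      by_cases h2' : proj ω ≠ 0
      · exact ⟨_, ω, h2', heig ω hω3, hω3⟩
      push Not at h1 h2'
      refine ⟨proj (ω ^ 2), ω ^ 2, fun h0 => ?_, heig _ (by rw [← pow_mul, mul_comm, pow_mul, hω3, one_pow]),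
        by rw [← pow_mul, mul_comm, pow_mul, hω3, one_pow]⟩
      have hsum' : (3 : F) • w = 0 := by
        have : proj 1 + proj ω + proj (ω ^ 2) = 0 := by rw [h1, h2', h0]; simp
        rw [← this]
        simp only [proj]
        match_scalars
        · ring
        · linear_combination -hsum - ω * hω3
        · linear_combination -hsum
      simpa [w, h3] using congrFun hsum' 0
    have hshift : ∀ (a : F) (u : Fin 3 → F), Am *ᵥ u = a • u → Am *ᵥ (Bm *ᵥ u) = (ω * a) • (Bm *ᵥ u) := fun a u h => by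
      rw [hAB', h, mulVec_smul, smul_smul]
    have hB0 : ∀ u : Fin 3 → F, u ≠ 0 → Bm *ᵥ u ≠ 0 := fun u hu' h => hu' (by
      rw [← one_mulVec u, ← hcubeM B hB, ← mulVec_mulVec, ← mulVec_mulVec, h, mulVec_zero, mulVec_zero])
    rcases hroots a ha3 with rfl | rfl | rfl
    · exact ⟨u, hu, by rw [ha, one_smul]⟩
    · refine ⟨Bm *ᵥ (Bm *ᵥ u), hB0 _ (hB0 _ hu), ?_⟩
      rw [hshift _ _ (hshift _ _ ha), show a * (a * a) = 1 by linear_combination hω3, one_smul]
    · refine ⟨Bm *ᵥ u, hB0 _ hu, ?_⟩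
      rw [hshift _ _ ha, show ω * ω ^ 2 = 1 by linear_combination hω3, one_smul]
  have hv1 : Am *ᵥ (Bm *ᵥ v) = ω • (Bm *ᵥ v) := by rw [hAB', hv]
  have hv2 : Am *ᵥ (Bm *ᵥ (Bm *ᵥ v)) = ω ^ 2 • (Bm *ᵥ (Bm *ᵥ v)) := by
    rw [hAB', hv1, mulVec_smul, smul_smul, pow_two]
  have hB3 : Bm *ᵥ (Bm *ᵥ (Bm *ᵥ v)) = v := by
    rw [mulVec_mulVec, mulVec_mulVec, mul_assoc, hcubeM B hB, one_mulVec]
  have hli : LinearIndependent F ![v, Bm *ᵥ v, Bm *ᵥ (Bm *ᵥ v)] := by
    refine Module.End.eigenvectors_linearIndependent' (Matrix.toLin' Am) ![1, ω, ω ^ 2] ?_ _ ?_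
    · intro i j h
      fin_cases i <;> fin_cases j <;> simp at h ⊢ <;>
        first
        | exact absurd h hω1 | exact absurd h.symm hω1 | exact absurd h hω2 | exact absurd h.symm hω2
        | (exfalso; rcases h with e | e; exact hω1 e; exact hω2 (by rw [e]; ring))
        | (exfalso; apply hω1; apply mul_left_cancel₀ hω0; linear_combination h)
        | (exfalso; apply hω1; apply mul_left_cancel₀ hω0; linear_combination -h)
    · intro i
      have hne : ![v, Bm *ᵥ v, Bm *ᵥ (Bm *ᵥ v)] i ≠ 0 := by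
        fin_cases i
        · exact hv0
        · intro h; exact hv0 (by rw [← hB3, show Bm *ᵥ v = 0 from h, mulVec_zero, mulVec_zero])
        · intro h; exact hv0 (by rw [← hB3, show Bm *ᵥ (Bm *ᵥ v) = 0 from h, mulVec_zero])
      refine ⟨Module.End.mem_eigenspace_iff.2 ?_, hne⟩
      rw [Matrix.toLin'_apply]
      fin_cases i
      · simpa using hv
      · simpa using hv1
      · simpa using hv2
  let Q₀ : Matrix (Fin 3) (Fin 3) F := Matrix.of fun i j => ![v, Bm *ᵥ v, Bm *ᵥ (Bm *ᵥ v)] j i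
  have hQ₀ : Q₀.det ≠ 0 :=
    ((Matrix.isUnit_iff_isUnit_det Q₀).1 (Matrix.linearIndependent_cols_iff_isUnit.1 hli)).ne_zero
  let D : Matrix (Fin 3) (Fin 3) F := diagonal ![1, ω, ω ^ 2]
  have hAQ₀ : Am * Q₀ = Q₀ * D := by
    ext i j
    show (Am *ᵥ ![v, Bm *ᵥ v, Bm *ᵥ (Bm *ᵥ v)] j) i = _
    rw [mul_diagonal]
    fin_cases j <;> simp only [Matrix.cons_val_zero, Matrix.cons_val_one, Matrix.cons_val_two, Matrix.head_cons,
      Matrix.tail_cons, Fin.mk_zero, Fin.mk_one, Fin.reduceFinMk, hv, hv1, hv2]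
    all_goals simp [Q₀, mul_comm]
  have hBQ₀ : Bm * Q₀ = Q₀ * CubicCyclic.comp 1 := by
    ext i j
    show (Bm *ᵥ ![v, Bm *ᵥ v, Bm *ᵥ (Bm *ᵥ v)] j) i = _
    rw [Matrix.mul_apply, Fin.sum_univ_three]
    fin_cases j <;> simp only [Matrix.cons_val_zero, Matrix.cons_val_one, Matrix.cons_val_two, Matrix.head_cons,
      Matrix.tail_cons, Fin.mk_zero, Fin.mk_one, Fin.reduceFinMk, hB3]
    all_goals simp [Q₀, CubicCyclic.comp]
  obtain ⟨Q, hQ, hAQ, hBQ, hQU⟩ : ∃ Q : Matrix (Fin 3) (Fin 3) F, Q.det ≠ 0 ∧ Am * Q = Q * D ∧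
      Bm * Q = Q * CubicCyclic.comp 1 ∧ adj σ Q * Q = 1 := by
    set G := adj σ Q₀ * Q₀ with hG
    have hGeq : ∀ (u N : Matrix (Fin 3) (Fin 3) F), adj σ u * u = 1 → u * Q₀ = Q₀ * N →
        adj σ N * G * N = G := fun u N hu hN => by
      calc adj σ N * G * N = adj σ (Q₀ * N) * (Q₀ * N) := by rw [hG, hI.map_mul]; simp only [mul_assoc]
        _ = adj σ Q₀ * (adj σ u * u) * Q₀ := by rw [← hN, hI.map_mul]; simp only [mul_assoc]
        _ = G := by rw [hu, mul_one]
    have hGD := hGeq Am D ((hGU A).1 (hRU hA)) hAQ₀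
    have hGC := hGeq Bm _ ((hGU B).1 (hRU hB)) hBQ₀
    have hd3 : ∀ i, (![1, ω, ω ^ 2] : Fin 3 → F) i ^ 3 = 1 := fun i => by
      fin_cases i
      · simp
      · simpa using hω3
      · simp; linear_combination (ω ^ 3 + 1) * hω3
    have hoff : ∀ i j, i ≠ j → G i j = 0 := fun i j hij => by
      have := congrFun (congrFun hGD i) j
      simp only [D, adj, diagonal_map (map_zero σ), diagonal_transpose, mul_diagonal, diagonal_mul] at this
      set d : Fin 3 → F := ![1, ω, ω ^ 2] with hd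
      have hdne : d i ≠ d j := fun h => hij (by
        fin_cases i <;> fin_cases j <;> simp [hd] at h ⊢ <;>
          first
          | exact absurd h hω1 | exact absurd h.symm hω1 | exact absurd h hω2 | exact absurd h.symm hω2
          | (exfalso; rcases h with e | e; exact hω1 e; exact hω2 (by rw [e]; ring))
          | (exfalso; apply hω1; apply mul_left_cancel₀ hω0; linear_combination h)
          | (exfalso; apply hω1; apply mul_left_cancel₀ hω0; linear_combination -h))
      by_contra h0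
      have h1 : σ (d i) * d j = 1 := mul_right_cancel₀ h0 (by linear_combination this)
      exact hdne (mul_left_cancel₀ (left_ne_zero_of_mul_eq_one h1) ((hcube1 _ (hd3 i)).trans h1.symm))
    have h00 := congrFun (congrFun hGC 0) 0
    have h11 := congrFun (congrFun hGC 1) 1
    simp [adj, CubicCyclic.comp, Matrix.mul_apply, Fin.sum_univ_three] at h00 h11
    have hGs : G = G 0 0 • 1 := by
      ext i j
      by_cases hij : i = j
      · subst hij
        fin_cases i <;> simp [Matrix.one_apply] <;> first | linear_combination h00 | linear_combination h00 + h11 | linear_combination -h00 | linear_combination -h00 - h11 | linear_combination h11 | linear_combination -h11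
      · simp [Matrix.one_apply, hij, hoff i j hij]
    have hGσ : σ (G 0 0) = G 0 0 := by
      have h : adj σ G = G := by rw [hG, hI.map_mul, hI.invol]
      exact congrFun (congrFun h 0) 0
    have hG0 : G 0 0 ≠ 0 := by
      intro h
      have hd := congrArg Matrix.det (hG.symm.trans hGs)
      rw [h, zero_smul, det_zero, det_mul, adj, det_transpose, ← RingHom.mapMatrix_apply, ← RingHom.map_det] at hd
      exact mul_ne_zero ((map_ne_zero σ).2 hQ₀) hQ₀ hd
    obtain ⟨s, hs⟩ := CfsgLib.Geometry.exists_norm_eq hσ1 hσ2 (c := (G 0 0)⁻¹) (by rw [map_inv₀, hGσ])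
    have hs0 : s ≠ 0 := fun h => inv_ne_zero hG0 (by rw [← hs, h, zero_mul])
    refine ⟨s • Q₀, by rw [det_smul]; exact mul_ne_zero (pow_ne_zero _ hs0) hQ₀,
      by rw [mul_smul_comm, hAQ₀, smul_mul_assoc], by rw [mul_smul_comm, hBQ₀, smul_mul_assoc], ?_⟩
    rw [adj_smul, smul_mul_smul_comm, ← hG, hGs, smul_smul, mul_comm (σ s), hs, inv_mul_cancel₀ hG0, one_smul]
  have hu : IsUnit Q.det := isUnit_iff_ne_zero.2 hQ
  have hdA : Am.det = 1 := by
    have h := congrArg Matrix.det hAQ
    rw [det_mul, det_mul, det_diagonal, Fin.prod_univ_three] at h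
    exact mul_right_cancel₀ hQ (by rw [h]; simp; linear_combination Q.det * hω3)
  have hdB : Bm.det = 1 := by
    have h := congrArg Matrix.det hBQ
    rw [det_mul, det_mul] at h
    exact mul_right_cancel₀ hQ (by rw [h]; simp [CubicCyclic.comp, Matrix.det_fin_three])
  have hgen : Subgroup.closure {A, B} = R := by
    have hle : Subgroup.closure {A, B} ≤ R := (Subgroup.closure_le R).2 (by rintro x (rfl | rfl) <;> assumption)
    refine Subgroup.eq_of_le_of_card_ge hle ?_
    have hd := Subgroup.card_dvd_of_le hle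
    rw [hR] at hd ⊢
    obtain ⟨k, hk, hk'⟩ := (Nat.dvd_prime_pow Nat.prime_three (m := 3)).1 hd
    by_contra hlt
    rw [hk'] at hlt
    have hk3 : k ≤ 2 := by
      by_contra h
      exact hlt (by rw [show k = 3 by omega]; norm_num)
    set H := Subgroup.closure {A, B}
    have hcm : ∀ x y : H, x * y = y * x := by
      interval_cases k
      · haveI : Subsingleton H := (Nat.card_eq_one_iff_unique.1 (by simpa using hk')).1
        exact fun x y => Subsingleton.elim _ _
      · haveI : IsCyclic H := isCyclic_of_prime_card (p := 3) (by simpa using hk')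
        exact IsCyclic.commGroup.mul_comm
      · exact (IsPGroup.commGroupOfCardEqPrimeSq (p := 3) hk').mul_comm
    exact hAB (congrArg Subtype.val (hcm ⟨A, Subgroup.subset_closure (Or.inl rfl)⟩ ⟨B, Subgroup.subset_closure (Or.inr rfl)⟩))
  have hRsl : R ≤ Cfsg.Geo.specialLinear (Fin 3) F := by
    rw [← hgen, Subgroup.closure_le]
    rintro x (rfl | rfl)
    · exact hsl' _ hdA
    · exact hsl' _ hdB
  -- conjugation into the normaliser
  let OK : Matrix (Fin 3) (Fin 3) F → Prop := fun M =>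
    adj σ M * M = 1 ∧ ∀ t : F, σ t * t = 1 → ∃ N, adj σ N * N = 1 ∧ N * M = M * N ∧ N.det = t
  have hOKs : ∀ (c : F) (M : Matrix (Fin 3) (Fin 3) F), σ c * c = 1 → OK M → OK (c • M) := fun c M hc hM =>
    ⟨by rw [adj_smul, smul_mul_smul_comm, hc, hM.1, one_smul], fun t ht => by
      obtain ⟨N, hN, hNM, hNd⟩ := hM.2 t ht
      exact ⟨N, hN, by rw [mul_smul_comm, smul_mul_assoc, hNM], hNd⟩⟩
  have hQ' : adj σ Q⁻¹ * Q⁻¹ = 1 := by
    rw [show Q⁻¹ = adj σ Q from inv_eq_left_inv hQU, hI.invol]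
    exact mul_eq_one_comm.1 hQU
  have hinvQ : Q⁻¹ = adj σ Q := inv_eq_left_inv hQU
  have hcU : ∀ M : Matrix (Fin 3) (Fin 3) F, adj σ M * M = 1 → adj σ (Q * M * Q⁻¹) * (Q * M * Q⁻¹) = 1 :=
    fun M hM => by
    calc _ = adj σ Q⁻¹ * (adj σ M * (adj σ Q * Q) * M) * Q⁻¹ := by rw [hI.map_mul, hI.map_mul]; simp only [mul_assoc]
      _ = 1 := by rw [hQU, mul_one, hM, mul_one, hQ']
  have fin : ∀ (x : GL (Fin 3) F) (P y : Matrix (Fin 3) (Fin 3) F), P.det = 1 →
      (x : Matrix (Fin 3) (Fin 3) F) * P = P * y →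
      x ∈ Cfsg.GU 3 F p → (∃ M, y = Q * M * Q⁻¹ ∧ OK M) →
      (∃ a ∈ R, y * Am = (a : Matrix (Fin 3) (Fin 3) F) * y) → (∃ b ∈ R, y * Bm = (b : Matrix (Fin 3) (Fin 3) F) * y) →
      ∃ g ∈ Cfsg.GU 3 F p ⊓ Cfsg.Geo.specialLinear (Fin 3) F, g⁻¹ * x * g ∈ Cfsg.Geo.subgroupNormalizer R := by
    intro x P y hP hxP hxU ⟨M, hyM, hM, hMc⟩ ⟨a, ha, hya⟩ ⟨b, hb, hyb⟩
    let g₀ := Matrix.GeneralLinearGroup.mkOfDetNeZero P (by rw [hP]; exact one_ne_zero)
    obtain ⟨Y, hYy, hxY⟩ : ∃ Y : GL (Fin 3) F, (Y : Matrix (Fin 3) (Fin 3) F) = y ∧ g₀⁻¹ * x = Y * g₀⁻¹ :=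
      ⟨g₀⁻¹ * x * g₀, by
        rw [mul_assoc, Units.val_mul, Units.val_mul, show (g₀ : Matrix (Fin 3) (Fin 3) F) = P from rfl, hxP,
          ← show (g₀ : Matrix (Fin 3) (Fin 3) F) = P from rfl, Units.inv_mul_cancel_left],
        (mul_inv_cancel_right _ _).symm⟩
    have hyU : adj σ (Y : Matrix (Fin 3) (Fin 3) F) * Y = 1 := by rw [hYy, hyM]; exact hcU M hM
    obtain ⟨u, hu', hux⟩ := exists_unitary_conjugator hσ1 hσ2 ((hGU x).1 hxU) hyU hxY
    have hd1 := hdetU _ hu'
    obtain ⟨N, hN, hNM, hNd⟩ := hMc ((u : Matrix (Fin 3) (Fin 3) F).det)⁻¹ (by rw [map_inv₀, ← mul_inv, hd1, inv_one])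
    let z := Matrix.GeneralLinearGroup.mkOfDetNeZero (Q * N * Q⁻¹) (by
      rw [det_mul, det_mul, hNd, det_nonsing_inv, Ring.inverse_eq_inv']
      exact mul_ne_zero (mul_ne_zero hQ (inv_ne_zero (right_ne_zero_of_mul_eq_one hd1))) (inv_ne_zero hQ))
    have hzU : z ∈ Cfsg.GU 3 F p := (hGU z).2 (hcU N hN)
    have hzd : (z : Matrix (Fin 3) (Fin 3) F).det = (u : Matrix (Fin 3) (Fin 3) F).det⁻¹ := by
      show (Q * N * Q⁻¹).det = _
      rw [det_mul, det_mul, hNd, det_nonsing_inv, Ring.inverse_eq_inv', mul_right_comm, mul_inv_cancel₀ hQ, one_mul]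
    have hzY : z * Y = Y * z := Units.ext (by
      show Q * N * Q⁻¹ * (Y : Matrix (Fin 3) (Fin 3) F) = (Y : Matrix (Fin 3) (Fin 3) F) * (Q * N * Q⁻¹)
      rw [hYy, hyM]
      simp only [mul_assoc, nonsing_inv_mul_cancel_left _ _ hu]
      rw [← mul_assoc N, hNM, mul_assoc])
    have hzu : (z * u)⁻¹⁻¹ = z * u := inv_inv _
    refine ⟨(z * u)⁻¹, Subgroup.mem_inf.2 ⟨inv_mem (mul_mem hzU ((hGU u).2 hu')), inv_mem (hsl' _ (by
      rw [Units.val_mul, det_mul, hzd, inv_mul_cancel₀ (right_ne_zero_of_mul_eq_one hd1)]))⟩, ?_⟩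
    rw [show (z * u)⁻¹⁻¹ * x * (z * u)⁻¹ = Y by
      rw [hzu, mul_assoc z u x, hux, ← mul_assoc, hzY, mul_assoc Y, mul_inv_cancel_right]]
    have e1 : MulAut.conj Y A = a := by
      rw [MulAut.conj_apply, mul_inv_eq_iff_eq_mul]
      exact Units.ext (show (Y : Matrix (Fin 3) (Fin 3) F) * A = (a : Matrix (Fin 3) (Fin 3) F) * Y by rw [hYy]; exact hya)
    have e2 : MulAut.conj Y B = b := by
      rw [MulAut.conj_apply, mul_inv_eq_iff_eq_mul]
      exact Units.ext (show (Y : Matrix (Fin 3) (Fin 3) F) * B = (b : Matrix (Fin 3) (Fin 3) F) * Y by rw [hYy]; exact hyb)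
    have hle : R.map (MulAut.conj Y).toMonoidHom ≤ R := by
      conv_lhs => rw [← hgen, MonoidHom.map_closure]
      rw [Subgroup.closure_le]
      rintro _ ⟨u, hu' | hu', rfl⟩
      · rw [hu']; show MulAut.conj Y A ∈ R; rw [e1]; exact ha
      · rw [Set.mem_singleton_iff.1 hu']; show MulAut.conj Y B ∈ R; rw [e2]; exact hb
    have heq := Subgroup.eq_of_le_of_card_ge hle
      (le_of_eq (Subgroup.card_map_of_injective (MulAut.conj Y).injective).symm)
    show Y ∈ Subgroup.normalizer (R : Set (GL (Fin 3) F))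
    rw [Subgroup.mem_normalizer_iff]
    intro u
    refine ⟨fun hu' => heq ▸ ⟨u, hu', rfl⟩, fun hu' => ?_⟩
    rw [← heq] at hu'
    obtain ⟨w, hw, hwu⟩ := hu'
    exact (MulAut.conj Y).injective hwu ▸ hw
  have htr : ∀ M M' N u : Matrix (Fin 3) (Fin 3) F, u * Q = Q * M' → M * N = M' * M →
      ∀ a : Matrix (Fin 3) (Fin 3) F, a * Q = Q * N → Q * M * Q⁻¹ * a = u * (Q * M * Q⁻¹) := by
    intro M M' N u hu' hMN a ha
    calc Q * M * Q⁻¹ * a = Q * M * (Q⁻¹ * (a * Q)) * Q⁻¹ := by
          simp only [mul_assoc, mul_nonsing_inv _ hu, mul_one]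
      _ = Q * (M * N) * Q⁻¹ := by rw [ha, nonsing_inv_mul_cancel_left _ _ hu]; simp only [mul_assoc]
      _ = u * (Q * M * Q⁻¹) := by rw [hMN, ← mul_assoc, ← hu']; simp only [mul_assoc]
  set S := Cfsg.GU 3 F p ⊓ Cfsg.Geo.specialLinear (Fin 3) F with hS'
  have hcardS : Nat.card S = p ^ 3 * ((p ^ 2 - 1) * (p ^ 3 + 1)) := by
    rw [← mul_assoc, ← CfsgLib.LinearGroups.SU3Inv.card_SU_three (F := F) (q := p) (by rw [Nat.card_eq_fintype_card, hF])]
    symm
    refine Nat.card_congr (Equiv.ofBijective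
      (fun a : Cfsg.SU 3 F p => (⟨Matrix.SpecialLinearGroup.toGL (a : Matrix.SpecialLinearGroup (Fin 3) F),
        fun u v => a.2 u v, hsl' _ a.1.2⟩ : S)) ⟨fun a b h => ?_, fun g => ?_⟩)
    · exact Subtype.ext (Subtype.ext (congrArg (fun s : S => ((s : GL (Fin 3) F) : Matrix (Fin 3) (Fin 3) F)) h))
    · exact ⟨⟨⟨((g : GL (Fin 3) F) : Matrix (Fin 3) (Fin 3) F), hsl _ g.2.2⟩, fun u v => g.2.1 u v⟩,
        Subtype.ext (Units.ext rfl)⟩
  have hRS : R ≤ S := le_inf hRU hRsl
  have hidx : r * 27 ∣ Nat.card S := by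
    have h1 : 27 ∣ Nat.card ((Cfsg.Geo.subgroupNormalizer R).subgroupOf S) := by
      rw [← hR, ← Nat.card_congr (Subgroup.subgroupOfEquivOfLe hRS).toEquiv]
      exact Subgroup.card_dvd_of_le (fun u hu' => Subgroup.le_normalizer hu')
    rw [← Subgroup.index_mul_card ((Cfsg.Geo.subgroupNormalizer R).subgroupOf S)]
    exact mul_dvd_mul hΩ h1
  constructor
  · intro h
    by_contra hcon
    push Not at hcon
    obtain ⟨hr2, hr3⟩ := hcon
    by_cases hr3' : r = 3
    · have hp9 := hr3 hr3'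
      subst hr3'
      rw [hcardS] at hidx
      obtain ⟨u, hu1⟩ : ∃ u, p = 3 * u + 2 := ⟨p / 3, by omega⟩
      have e1 : p ^ 2 - 1 = 3 * (u + 1) * (3 * u + 1) := by
        rw [hu1, show (3 * u + 2) ^ 2 = 3 * (u + 1) * (3 * u + 1) + 1 by ring, Nat.add_sub_cancel]
      have e2 : p ^ 3 + 1 = 9 * ((u + 1) * (3 * u * u + 3 * u + 1)) := by rw [hu1]; ring
      rw [e1, e2, show p ^ 3 * (3 * (u + 1) * (3 * u + 1) * (9 * ((u + 1) * (3 * u * u + 3 * u + 1)))) =
        27 * (p ^ 3 * (u + 1) * (3 * u + 1) * (u + 1) * (3 * u * u + 3 * u + 1)) by ring, mul_comm 3 27] at hidx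
      have h' := Nat.dvd_of_mul_dvd_mul_left (by norm_num) hidx
      have hu3 : ¬ 3 ∣ u + 1 := by omega
      rcases Nat.prime_three.dvd_mul.1 h' with h' | h'
      · rcases Nat.prime_three.dvd_mul.1 h' with h' | h'
        · rcases Nat.prime_three.dvd_mul.1 h' with h' | h'
          · rcases Nat.prime_three.dvd_mul.1 h' with h' | h'
            · have := (Nat.prime_dvd_prime_iff_eq Nat.prime_three hpp).1 (Nat.prime_three.dvd_of_dvd_pow h')
              omega
            · exact hu3 h'
          · omega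
        · exact hu3 h'
      · rw [show 3 * u * u + 3 * u + 1 = 3 * (u * u + u) + 1 by ring] at h'
        omega
    have hr5 : 5 ≤ r := by
      have := hr.two_le
      by_contra h'
      interval_cases r <;> first | omega | exact absurd hr (by norm_num)
    obtain ⟨x, hx⟩ := exists_prime_orderOf_dvd_card' r ((dvd_mul_right r 27).trans hidx)
    rw [← Subgroup.orderOf_coe] at hx
    have hscal : ∀ y : GL (Fin 3) F, y ∈ S → orderOf y = r →
        ∀ z : F, (y : Matrix (Fin 3) (Fin 3) F) ≠ z • 1 := by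
      intro y hy hyr z hz
      have hd := hsl y hy.2
      rw [hz, det_smul, det_one, mul_one, Fintype.card_fin] at hd
      have : y ^ 3 = 1 := Units.ext (by
        rw [Units.val_pow_eq_pow_val, hz, smul_pow, one_pow, Units.val_one, hd, one_smul])
      have := Nat.le_of_dvd (by norm_num) (hyr ▸ orderOf_dvd_of_pow_eq_one this)
      omega
    obtain ⟨g, hg, hn⟩ := h x x.2 ⟨1, by rw [← hx, pow_orderOf_eq_one, Units.val_one, one_smul]⟩ (hscal x x.2 hx)
    set y := g⁻¹ * (x : GL (Fin 3) F) * g with hy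
    have hyr : orderOf y = r := by
      rw [← hx, hy]
      have := (MulAut.conj g⁻¹).orderOf_eq (x : GL (Fin 3) F)
      rwa [MulAut.conj_apply, inv_inv] at this
    let f : Function.End R := fun u => ⟨y * u * y⁻¹, (Subgroup.mem_normalizer_iff.1 hn u).1 u.2⟩
    have hfk : ∀ (k : ℕ) (u : R), ((f^[k] u : R) : GL (Fin 3) F) = y ^ k * u * (y ^ k)⁻¹ := by
      intro k
      induction k with
      | zero =>
        intro u
        show ((u : R) : GL (Fin 3) F) = y ^ 0 * u * (y ^ 0)⁻¹
        simp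
      | succ k ih =>
        intro u
        rw [Function.iterate_succ_apply', pow_succ']
        show y * ((f^[k] u : R) : GL (Fin 3) F) * y⁻¹ = _
        rw [ih]; group
    have hfr : f ^ r ^ 1 = 1 := by
      rw [pow_one]
      funext u
      refine Subtype.ext ?_
      have hit : ∀ k : ℕ, (f ^ k : Function.End R) = f^[k] := by
        intro k
        induction k with
        | zero => rfl
        | succ k ih => rw [pow_succ', Function.iterate_succ', ih]; rfl
      rw [hit, hfk, ← hyr, pow_orderOf_eq_one]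
      show _ = ((u : R) : GL (Fin 3) F)
      simp
    haveI : Fintype R := Fintype.ofFinite R
    have hmod := Equiv.Perm.card_fixedPoints_modEq (p := r) hfr
    set S := (Subgroup.centralizer {y}).subgroupOf R with hS
    have hfix : Function.fixedPoints f = (S : Set R) := by
      ext u
      rw [Function.mem_fixedPoints, Function.IsFixedPt, SetLike.mem_coe, hS, Subgroup.mem_subgroupOf,
        Subgroup.mem_centralizer_singleton_iff, Subtype.ext_iff]
      show y * u * y⁻¹ = u ↔ _
      rw [mul_inv_eq_iff_eq_mul]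
      exact eq_comm
    rw [← Nat.card_eq_fintype_card, ← Nat.card_eq_fintype_card, hR, Nat.card_congr (Equiv.setCongr hfix)] at hmod
    replace hmod : 27 ≡ Nat.card S [MOD r] := hmod
    have hSdvd : Nat.card S ∣ 3 ^ 3 := by
      have := Subgroup.card_subgroup_dvd_card S
      rwa [hR] at this
    have hS2 : 2 ≤ Nat.card S := by
      refine Finite.one_lt_card_iff_nontrivial.2 ⟨⟨⟨Z, hZR⟩, ?_⟩, 1, fun he => ?_⟩
      · rw [hS, Subgroup.mem_subgroupOf, Subgroup.mem_centralizer_singleton_iff]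
        exact Units.ext (by simp [Units.val_mul, hZω])
      · have h1 : Z = 1 := congrArg (fun v : S => ((v : R) : GL (Fin 3) F)) he
        rw [h1, Units.val_one] at hZω
        have := congrFun (congrFun hZω 0) 0
        simp only [Matrix.one_apply_eq, Matrix.smul_apply, smul_eq_mul, mul_one] at this
        exact hω1 this.symm
    have hS27 : Nat.card S = 27 := by
      obtain ⟨k, hk, hk'⟩ := (Nat.dvd_prime_pow Nat.prime_three).1 hSdvd
      have hm := (Nat.modEq_iff_dvd' (by rw [hk']; calc 3 ^ k ≤ 3 ^ 3 := Nat.pow_le_pow_right (by norm_num) hk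
        _ = 27 := rfl)).1 hmod.symm
      interval_cases k
      · omega
      · rw [hk'] at hm
        norm_num at hm
        rw [show (24 : ℕ) = 2 ^ 3 * 3 by norm_num] at hm
        rcases hr.dvd_mul.1 hm with h' | h'
        · have := Nat.le_of_dvd (by norm_num) (hr.dvd_of_dvd_pow h'); omega
        · have := Nat.le_of_dvd (by norm_num) h'; omega
      · rw [hk'] at hm
        norm_num at hm
        rw [show (18 : ℕ) = 3 ^ 2 * 2 by norm_num] at hm
        rcases hr.dvd_mul.1 hm with h' | h'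
        · have := Nat.le_of_dvd (by norm_num) (hr.dvd_of_dvd_pow h'); omega
        · have := Nat.le_of_dvd (by norm_num) h'; omega
      · simpa using hk'
    have hStop : S = ⊤ := Subgroup.eq_top_of_card_eq S (by rw [hS27, hR])
    have hcom : ∀ u ∈ R, (y : Matrix (Fin 3) (Fin 3) F) * u = (u : Matrix (Fin 3) (Fin 3) F) * y := by
      intro u hu'
      have := (hStop ▸ Subgroup.mem_top (⟨u, hu'⟩ : R) : (⟨u, hu'⟩ : R) ∈ S)
      rw [hS, Subgroup.mem_subgroupOf, Subgroup.mem_centralizer_singleton_iff] at this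
      exact (by simpa using (congrArg Units.val this).symm)
    set T := Q⁻¹ * (y : Matrix (Fin 3) (Fin 3) F) * Q with hT
    have hTN : ∀ (u : Matrix (Fin 3) (Fin 3) F) N, u * Q = Q * N →
        (y : Matrix (Fin 3) (Fin 3) F) * u = u * y → T * N = N * T := by
      intro u N huN hyu
      calc T * N = Q⁻¹ * (y : Matrix (Fin 3) (Fin 3) F) * (Q * N) := by rw [hT]; simp only [mul_assoc]
        _ = Q⁻¹ * ((y : Matrix (Fin 3) (Fin 3) F) * u) * Q := by rw [← huN]; simp only [mul_assoc]
        _ = Q⁻¹ * u * Q * T := by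
            rw [hyu, hT]; simp only [mul_assoc, mul_nonsing_inv_cancel_left _ _ hu]
        _ = N * T := by rw [mul_assoc Q⁻¹, huN, nonsing_inv_mul_cancel_left _ _ hu]
    have hTD := hTN Am D hAQ (hcom A hA)
    have hTC := hTN Bm _ hBQ (hcom B hB)
    have hoff : ∀ i j, i ≠ j → T i j = 0 := fun i j hij => by
      have := congrFun (congrFun hTD i) j
      rw [mul_diagonal, diagonal_mul] at this
      have hne : ![(1 : F), ω, ω ^ 2] j - ![(1 : F), ω, ω ^ 2] i ≠ 0 := sub_ne_zero.2 fun h => hij (by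
        fin_cases i <;> fin_cases j <;> simp at h ⊢ <;>
          first
          | exact absurd h hω1 | exact absurd h.symm hω1 | exact absurd h hω2 | exact absurd h.symm hω2
          | (exfalso; rcases h with e | e; exact hω1 e; exact hω2 (by rw [e]; ring))
          | (exfalso; apply hω1; apply mul_left_cancel₀ hω0; linear_combination h)
          | (exfalso; apply hω1; apply mul_left_cancel₀ hω0; linear_combination -h))
      exact (mul_eq_zero.1 (show (![(1 : F), ω, ω ^ 2] j - ![(1 : F), ω, ω ^ 2] i) * T i j = 0 by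
        linear_combination this)).resolve_left hne
    have e10 := congrFun (congrFun hTC 1) 0
    have e21 := congrFun (congrFun hTC 2) 1
    simp [CubicCyclic.comp, Matrix.mul_apply, Fin.sum_univ_three] at e10 e21
    refine hscal y (mul_mem (mul_mem (inv_mem hg) x.2) hg) hyr (T 0 0) ?_
    have hTs : T = T 0 0 • 1 := by
      ext i j
      by_cases hij : i = j
      · subst hij; fin_cases i <;> simp [Matrix.one_apply, e10, e21]
      · simp [Matrix.one_apply, hij, hoff i j hij]
    calc (y : Matrix (Fin 3) (Fin 3) F) = Q * T * Q⁻¹ := by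
          simp [hT, mul_assoc, mul_nonsing_inv_cancel_left _ _ hu, mul_nonsing_inv _ hu]
      _ = T 0 0 • 1 := by rw [hTs, mul_smul_comm, mul_one, smul_mul_assoc, mul_nonsing_inv _ hu]; simp
  · intro hr23 x hx ⟨z, hz⟩ hns
    have dx := hsl x hx.2
    have hxU := hx.1
    set X := (x : Matrix (Fin 3) (Fin 3) F) with hX
    rw [Units.val_pow_eq_pow_val, ← hX] at hz
    have hz3 : z ^ 3 = 1 := by
      have h := congrArg Matrix.det hz
      rw [det_pow, dx, one_pow, det_smul, det_one, mul_one, Fintype.card_fin] at h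
      exact h.symm
    have hC : OK (CubicCyclic.comp 1) := by
      refine ⟨by ext i j; fin_cases i <;> fin_cases j <;> simp [CubicCyclic.comp, adj, Matrix.mul_apply, Fin.sum_univ_three],
        fun t ht => ?_⟩
      have ht' : t * σ t = 1 := by rw [mul_comm]; exact ht
      refine ⟨!![(2 + t) / 3, (t - 1) / 3, (t - 1) / 3; (t - 1) / 3, (2 + t) / 3, (t - 1) / 3;
        (t - 1) / 3, (t - 1) / 3, (2 + t) / 3], ?_, ?_, ?_⟩
      · ext i j
        fin_cases i <;> fin_cases j <;>
          simp [adj, Matrix.mul_apply, Fin.sum_univ_three, map_ofNat] <;> field_simp <;>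
          first | linear_combination (3 : F) * ht | linear_combination ht | linear_combination (3 : F) * ht' | linear_combination ht'
      · ext i j
        fin_cases i <;> fin_cases j <;> simp [CubicCyclic.comp, Matrix.mul_apply, Fin.sum_univ_three]
      · simp [det_fin_three]
        field_simp
        ring
    rcases hr23 with rfl | ⟨rfl, hp9⟩
    · -- involutions
      have hz0 : z ≠ 0 := fun h => by rw [h, zero_pow (by norm_num)] at hz3; exact zero_ne_one hz3
      have hs : z ^ 2 * z ^ 2 = z := by linear_combination z * hz3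
      set J := z • X with hJ
      have hJ2 : J * J = 1 := by
        rw [hJ, smul_mul_smul_comm, ← pow_two X, hz, smul_smul, show z * z * z = 1 by linear_combination hz3, one_smul]
      have hXJ : X = z ^ 2 • J := by rw [hJ, smul_smul, show z ^ 2 * z = 1 by linear_combination hz3, one_smul]
      obtain ⟨Qx, hQx, hQxJ⟩ := involution_form h2 hJ2 (by rw [hJ, det_smul, dx, Fintype.card_fin, mul_one, hz3])
        (fun c hc => hns (z ^ 2 * c) (by rw [hXJ, hc, smul_smul]))
      let T : Matrix (Fin 3) (Fin 3) F := !![-1, 0, 0; 0, 0, -1; 0, -1, 0]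
      obtain ⟨Qt, hQt, hQtT⟩ := involution_form h2 (J := T)
        (by ext i j; fin_cases i <;> fin_cases j <;> simp [T, Matrix.mul_apply, Fin.sum_univ_three, Matrix.one_apply])
        (by simp [T, Matrix.det_fin_three])
        (fun c h => by
          have := congrFun (congrFun h 1) 2
          simp [T, Matrix.one_apply] at this)
      have hy : (Q * T * Q⁻¹) * (Q * Qt) = (Q * Qt) * diagonal ![1, -1, -1] := by
        rw [mul_assoc (Q * T), nonsing_inv_mul_cancel_left _ _ hu, mul_assoc Q T, hQtT, ← mul_assoc]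
      obtain ⟨P, hP, hPJ⟩ := exists_conj_diag _ hQx (by rw [det_mul]; exact mul_ne_zero hQ hQt) hQxJ hy
      refine fin x P (z ^ 2 • (Q * T * Q⁻¹)) hP (by rw [← hX, hXJ, smul_mul_assoc, hPJ, mul_smul_comm]) hxU
        ⟨z ^ 2 • T, by rw [mul_smul_comm, smul_mul_assoc], hOKs _ _ (hcube1 _ (by linear_combination (z ^ 3 + 1) * hz3))
          ⟨by ext i j; fin_cases i <;> fin_cases j <;> simp [T, adj, Matrix.mul_apply, Fin.sum_univ_three],
          fun t ht => ⟨diagonal ![t, 1, 1], hdiagU _ (fun i => by fin_cases i <;> simp [ht]),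
            by ext i j; fin_cases i <;> fin_cases j <;> simp [T, mul_diagonal, diagonal_mul, mul_comm],
            by simp [det_diagonal, Fin.prod_univ_three]⟩⟩⟩
        ⟨A * A, mul_mem hA hA, ?_⟩ ⟨B * B, mul_mem hB hB, ?_⟩
      · rw [smul_mul_assoc, mul_smul_comm, Units.val_mul]
        congr 1
        refine htr T (D * D) D _ ?_ ?_ _ hAQ
        · rw [← hAm, mul_assoc, hAQ, ← mul_assoc, hAQ, mul_assoc]
        · ext i j
          fin_cases i <;> fin_cases j <;> simp [T, D, diagonal_mul_diagonal, mul_diagonal, diagonal_mul] <;>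
            first | ring1 | linear_combination hω3 | linear_combination -hω3 | linear_combination ω * hω3 | linear_combination -ω * hω3 | linear_combination -ω ^ 2 * hω3
      · rw [smul_mul_assoc, mul_smul_comm, Units.val_mul]
        congr 1
        refine htr T (CubicCyclic.comp 1 * CubicCyclic.comp 1) (CubicCyclic.comp 1) _ ?_ ?_ _ hBQ
        · rw [← hBm, mul_assoc, hBQ, ← mul_assoc, hBQ, mul_assoc]
        · ext i j
          fin_cases i <;> fin_cases j <;> simp [T, CubicCyclic.comp, Matrix.mul_apply, Fin.sum_univ_three]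
    · -- elements of order three
      rw [pow_succ', pow_two] at hz
      obtain ⟨μ, hμ, hμU⟩ : ∃ μ : F, μ ^ 3 = z ∧ σ μ * μ = 1 := by
        obtain ⟨g, hg⟩ := IsCyclic.exists_generator (α := Fˣ)
        have ho : orderOf g = p ^ 2 - 1 := by
          rw [orderOf_eq_card_of_forall_mem_zpowers hg, Nat.card_eq_fintype_card, Fintype.card_units, hF]
        obtain ⟨k, hk⟩ : 9 ∣ p + 1 := by omega
        have hk' : p ^ 2 - 1 = k * (p - 1) * 9 := by
          rw [show p ^ 2 - 1 = (p + 1) * (p - 1) by rw [← Nat.sq_sub_sq, one_pow], hk]; ring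
        set ζ := g ^ (k * (p - 1)) with hζ
        have hkp : k * (p - 1) ≠ 0 := Nat.mul_ne_zero (by omega) (by omega)
        have hζo : orderOf ζ = 9 := by
          rw [hζ, orderOf_pow' _ hkp, ho, hk', Nat.gcd_eq_right (dvd_mul_right _ _),
            Nat.mul_div_cancel_left _ (Nat.pos_of_ne_zero hkp)]
        have hη : IsPrimitiveRoot ((ζ : F) ^ 3) 3 := by
          have h9 : IsPrimitiveRoot (ζ : F) 9 := by
            rw [← hζo, ← orderOf_units]; exact IsPrimitiveRoot.orderOf _
          exact h9.pow (by norm_num) (by norm_num)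
        obtain ⟨i, -, hi⟩ := hη.eq_pow_of_pow_eq_one hz3
        have hζ9 : (ζ : F) ^ 9 = 1 := by
          rw [← hζo, ← orderOf_units, pow_orderOf_eq_one]
        refine ⟨(ζ : F) ^ i, by rw [← hi, ← pow_mul, ← pow_mul, mul_comm], hnorm _ ?_⟩
        rw [hk, ← pow_mul, show i * (9 * k) = 9 * (i * k) by ring, pow_mul, hζ9, one_pow]
      have hμ0 : μ ≠ 0 := fun h => by
        rw [h, zero_pow (by norm_num)] at hμ
        rw [← hμ, zero_pow (by norm_num)] at hz3; exact zero_ne_one hz3
      set Y := μ⁻¹ • X with hY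
      have hY3 : Y * (Y * Y) = 1 := by
        rw [hY, smul_mul_smul_comm, smul_mul_smul_comm, hz, smul_smul, ← hμ]
        convert one_smul F (1 : Matrix (Fin 3) (Fin 3) F) using 2
        field_simp
      have hXY : X = μ • Y := by rw [hY, smul_smul, mul_inv_cancel₀ hμ0, one_smul]
      rcases regular_or h3 hY3 with hreg | ⟨c, d, Qx, hQx, hc, hd, hQxY⟩
      · obtain ⟨Qx, hQx, hQxY, -⟩ := CubicCyclic.exists_regular_basis h3 hY3 hreg
        obtain ⟨P, hP, hPX⟩ := CubicCyclic.exists_conj h3 (μ := μ) (x := X) (y := μ • Bm) hQx hQ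
          (by rw [hXY, smul_mul_assoc, hQxY, mul_smul_comm]) (by rw [smul_mul_assoc, hBQ, mul_smul_comm])
        refine fin x P _ hP hPX hxU ⟨μ • CubicCyclic.comp 1, by
          rw [mul_smul_comm, smul_mul_assoc, ← hBQ, mul_assoc, mul_nonsing_inv _ hu, mul_one], hOKs _ _ hμU hC⟩
          ⟨Z * Z * A, mul_mem (mul_mem hZR hZR) hA, ?_⟩ ⟨B, hB, by rw [smul_mul_assoc, mul_smul_comm]⟩
        have hBA : Bm * Am = ω ^ 2 • (Am * Bm) := by
          rw [hAm, hBm, ← Units.val_mul A B, hABZ, Units.val_mul, hZω, smul_mul_assoc, one_mul, smul_smul,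
            show ω ^ 2 * ω = 1 by linear_combination hω3, one_smul, Units.val_mul]
        rw [smul_mul_assoc, hBA, Units.val_mul, Units.val_mul, hZω, smul_mul_smul_comm, one_mul, smul_mul_assoc, one_mul,
          smul_mul_assoc, mul_smul_comm, ← hAm, ← pow_two, smul_comm]
      · have hc0 : c ≠ 0 := fun h => by rw [h, zero_pow (by norm_num)] at hc; exact zero_ne_one hc
        set e := d / c with he
        have hdc : d = c * e := by rw [he]; field_simp
        have hXd : X * Qx = Qx * ((μ * c) • diagonal ![1, 1, e]) := by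
          rw [hXY, smul_mul_assoc, hQxY, ← smul_smul, mul_smul_comm μ]
          congr 2
          rw [← diagonal_smul]
          congr 1
          funext i; fin_cases i <;> simp [hdc]
        rcases hroots e (by rw [he, div_pow, hc, hd, div_one]) with he1 | he1 | he1
        · refine absurd ?_ (hns (μ * c))
          have hu' : IsUnit Qx.det := isUnit_iff_ne_zero.2 hQx
          calc X = X * Qx * Qx⁻¹ := by rw [mul_assoc, mul_nonsing_inv _ hu', mul_one]
            _ = (μ * c) • 1 := by
              rw [hXd, he1, show diagonal ![(1 : F), 1, 1] = 1 by rw [← diagonal_one]; congr 1; funext i; fin_cases i <;> rfl,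
                mul_smul_comm, mul_one, smul_mul_assoc, mul_nonsing_inv _ hu']
        all_goals
          set E : Matrix (Fin 3) (Fin 3) F := diagonal ![1, 1, e] with hE
          have hyE : (μ * c) • (Q * E * Q⁻¹) * Q = Q * ((μ * c) • E) := by
            rw [smul_mul_assoc, mul_assoc, nonsing_inv_mul _ hu, mul_one, mul_smul_comm]
          have hdiag : (μ * c) • E = diagonal ((μ * c) • ![1, 1, e]) := by rw [hE, ← diagonal_smul]
          obtain ⟨P, hP, hPX⟩ := exists_conj_diag ((μ * c) • ![1, 1, e]) hQx hQ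
            (by rw [← hdiag]; exact hXd) (by rw [← hdiag]; exact hyE)
          refine fin x P _ hP hPX hxU ⟨(μ * c) • E, by rw [mul_smul_comm, smul_mul_assoc], hOKs _ _
            (by rw [map_mul, mul_mul_mul_comm, hμU, hcube1 c hc, one_mul])
            ⟨hdiagU _ (fun i => by fin_cases i <;> simp [hcube1 e (by rw [he, div_pow, hc, hd, div_one])]),
              fun t ht => ⟨diagonal ![t, 1, 1], hdiagU _ (fun i => by fin_cases i <;> simp [ht]),
                by simp [E, diagonal_mul_diagonal, mul_comm],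
                by simp [det_diagonal, Fin.prod_univ_three]⟩⟩⟩ ⟨A, hA, ?_⟩ ?_
          · rw [smul_mul_assoc, mul_smul_comm]
            congr 1
            exact htr E D D Am hAQ (by simp [E, D, diagonal_mul_diagonal, mul_comm]) Am hAQ
        · refine ⟨Z * Z * (A * B), mul_mem (mul_mem hZR hZR) (mul_mem hA hB), ?_⟩
          rw [smul_mul_assoc, mul_smul_comm]
          congr 1
          refine htr E ((ω ^ 2) • (D * CubicCyclic.comp 1)) (CubicCyclic.comp 1) _ ?_ ?_ Bm hBQ
          · rw [Units.val_mul, Units.val_mul, Units.val_mul, hZω, ← hAm, ← hBm, smul_mul_smul_comm, one_mul, ← pow_two,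
              smul_mul_assoc, one_mul, smul_mul_assoc, mul_assoc Am, hBQ, ← mul_assoc, hAQ, mul_assoc, mul_smul_comm]
          · ext i j
            fin_cases i <;> fin_cases j <;> simp [E, D, he1, CubicCyclic.comp, mul_diagonal, diagonal_mul] <;>
              first | ring1 | linear_combination hω3 | linear_combination -hω3 | linear_combination ω * hω3 | linear_combination -ω * hω3 | linear_combination -ω ^ 2 * hω3
        · refine ⟨Z * (A * A * B), mul_mem hZR (mul_mem (mul_mem hA hA) hB), ?_⟩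
          rw [smul_mul_assoc, mul_smul_comm]
          congr 1
          refine htr E (ω • (D * D * CubicCyclic.comp 1)) (CubicCyclic.comp 1) _ ?_ ?_ Bm hBQ
          · rw [Units.val_mul, Units.val_mul, Units.val_mul, hZω, ← hAm, ← hBm,
              smul_mul_assoc, one_mul, smul_mul_assoc, mul_assoc (Am * Am), hBQ, ← mul_assoc, mul_assoc Am, hAQ,
              ← mul_assoc Am, hAQ, mul_smul_comm]
            simp only [mul_assoc]
          · ext i j
            fin_cases i <;> fin_cases j <;> simp [E, D, he1, CubicCyclic.comp, mul_diagonal, diagonal_mul] <;>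
              first | ring1 | linear_combination hω3 | linear_combination -hω3 | linear_combination ω * hω3 | linear_combination -ω * hω3 | linear_combination -ω ^ 2 * hω3 | linear_combination ω ^ 2 * hω3 | linear_combination -ω ^ 2 * hω3


end Cfsg.Agent.S5999
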