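import Cfsg.Statements.S6000
import Cfsg.Agent.Lib.ThreeTransp.PauliFourFrame
import Cfsg.Agent.Lib.ThreeTransp.CycloClass
import Cfsg.Agent.Lib.Classical.Order

set_option autoImplicit false
set_option maxHeartbeats 2000000
open scoped MatrixGroups
open Cfsg

namespace Cfsg.Agent.S6000

theorem ord_two_three : orderOf ((2 : ℕ) : ZMod 3) = 2 := by
  haveI : Fact (Nat.Prime 2) := ⟨Nat.prime_two⟩
  exact orderOf_eq_prime (by decide) (by decide)

theorem ord_two_five : orderOf ((2 : ℕ) : ZMod 5) = 4 := by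
  haveI : Fact (Nat.Prime 2) := ⟨Nat.prime_two⟩
  exact orderOf_eq_prime_pow (p := 2) (n := 1) (by decide) (by decide)

theorem ord_three_five : orderOf ((3 : ℕ) : ZMod 5) = 4 := by
  haveI : Fact (Nat.Prime 2) := ⟨Nat.prime_two⟩
  exact orderOf_eq_prime_pow (p := 2) (n := 1) (by decide) (by decide)

/-- Elements of prime order of PSL_4(p), p ≡ 1 (mod 4), and the normalizer of a 2-group of symplectic type of order 2⁶. Here `T = PSL_4(F)` for the field `F` with `p` elements, `p` a prime with `p ≡ 1 (mod 4)`; `R` is an absolutely irreducible subgroup of GL_4(F) of order 2⁶ that is a 2-group of symplectic type of exponent 4 with centre of order 4 (the central product of the scalars of order 4 with an extraspecial group 2^{1+4}), and `H` is the subgroup of matrices of determinant 1 normalizing `R` — a subgroup of type 2⁴.Sp₄(2) (maximality is not assumed). Ω is the set of cosets of `H` in `T`, so an element of `T` of prime order `r` (a matrix `x` of determinant 1 with `x^r` scalar, `x` not scalar)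 fixes a point of Ω exactly when some conjugate of `x` by a matrix of determinant 1 normalizes `R`. Let `r` be a prime dividing the index of `H`. Then every element of `T` of order `r` fixes a point of Ω if and only if `r = 2`, or `r = 3` and `p ≡ 2 (mod 3)`, or `r = 5` and `p ≡ ±2 (mod 5)` (`p` has multiplicative order 4 modulo 5). -/
theorem result {F : Type*} [Field F] [Fintype F] {p : ℕ} [Fact p.Prime] [CharP F p] (hF : Fintype.card F = p) (hp4 : p % 4 = 1)
    (R : Subgroup (GL (Fin 4) F)) (hR : Cfsg.Geo.IsLinearSymplecticTypeData 2 R) (hR6 : Nat.card R = 2 ^ 6)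
    (r : ℕ) [Fact r.Prime]
    (hΩ : r ∣ (Cfsg.Geo.subgroupNormalizer R).relIndex (Cfsg.Geo.specialLinear (Fin 4) F)) :
    (∀ x ∈ Cfsg.Geo.specialLinear (Fin 4) F, (∃ z : F, ((x ^ r : GL (Fin 4) F) : Matrix (Fin 4) (Fin 4) F) = z • (1 : Matrix (Fin 4) (Fin 4) F)) →
      (∀ z : F, (x : Matrix (Fin 4) (Fin 4) F) ≠ z • (1 : Matrix (Fin 4) (Fin 4) F)) →
      ∃ g ∈ Cfsg.Geo.specialLinear (Fin 4) F, g⁻¹ * x * g ∈ Cfsg.Geo.subgroupNormalizer R) ↔ (r = 2 ∨ (r = 3 ∧ p % 3 = 2) ∨ (r = 5 ∧ orderOf (p : ZMod 5) = 4)) := by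
  open Matrix CfsgLib.ThreeTransp CfsgLib.ThreeTransp.PauliFour CfsgLib.ThreeTransp.CycloClass Polynomial in
  classical
  have hr : r.Prime := Fact.out
  have hpp : p.Prime := Fact.out
  have hp5 : 5 ≤ p := by have := hpp.two_le; omega
  have hne : ∀ k : ℕ, 0 < k → k < p → (k : F) ≠ 0 := fun k h0 hk h =>
    absurd (Nat.le_of_dvd h0 ((CharP.cast_eq_zero_iff F p k).1 h)) (by omega)
  have h2 : (2 : F) ≠ 0 := by simpa using hne 2 (by norm_num) (by omega)
  have h3 : (3 : F) ≠ 0 := by simpa using hne 3 (by norm_num) (by omega)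
  obtain ⟨i₀, hi₀⟩ : ∃ i : F, i * i = -1 := by
    obtain ⟨i, hi⟩ := FiniteField.isSquare_neg_one_iff.2 (show Fintype.card F % 4 ≠ 3 by omega)
    exact ⟨i, hi.symm⟩
  have hsl : ∀ v : GL (Fin 4) F, v ∈ Cfsg.Geo.specialLinear (Fin 4) F →
      (v : Matrix (Fin 4) (Fin 4) F).det = 1 := fun v hv => congrArg Units.val hv
  obtain ⟨Q, hQR⟩ := exists_frame h2 hR hR6
  have hsgn4 : ∀ k : K, sgn F k k * sgn F k k = 1 := fun k => sgn_sq k k
  have hpow : ∀ (k : K), (P F k) ^ 4 = 1 := fun k => by
    rw [show P F k ^ 4 = (P F k * P F k) * (P F k * P F k) by simp [pow_succ, mul_assoc], P_sq, smul_mul_smul_comm, one_mul, hsgn4, one_smul]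
  have hmap : ∀ y : GL (Fin 4) F, Normal (y : Matrix (Fin 4) (Fin 4) F) →
      Q * y * Q⁻¹ ∈ Cfsg.Geo.subgroupNormalizer R := by
    intro y hy
    set Y := Q * y * Q⁻¹ with hY
    have hle : R.map (MulAut.conj Y).toMonoidHom ≤ R := by
      rintro _ ⟨v, hv, rfl⟩
      obtain ⟨c, k, hc, hk⟩ := (hQR v).1 hv
      obtain ⟨d, l, hdl⟩ := hy k
      have e : Q⁻¹ * (Y * v * Y⁻¹) * Q = y * (Q⁻¹ * v * Q) * y⁻¹ := by rw [hY]; group
      have hval : ((Q⁻¹ * (Y * v * Y⁻¹) * Q : GL (Fin 4) F) : Matrix (Fin 4) (Fin 4) F) = (c * d) • P F l := by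
        rw [e, Units.val_mul, Units.val_mul, hk, mul_smul_comm, hdl, smul_mul_assoc, mul_assoc, Units.mul_inv,
          mul_one, smul_smul]
      refine (hQR _).2 ⟨c * d, l, ?_, hval⟩
      have hv4 : v ^ 4 = 1 := by
        have := Monoid.pow_exponent_eq_one (⟨v, hv⟩ : R)
        rw [hR.symplecticType.exponent_eq] at this
        exact congrArg Subtype.val this
      have h4 : (Q⁻¹ * (Y * v * Y⁻¹) * Q) ^ 4 = 1 := by
        have h := conj_pow (a := Q⁻¹ * Y) (b := v) (i := 4)
        rw [hv4, mul_one, mul_inv_cancel] at h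
        rw [← h]
        congr 1
        group
      have h5 := congrArg Units.val h4
      rw [Units.val_pow_eq_pow_val, hval, _root_.smul_pow, hpow, Units.val_one] at h5
      simpa using congrFun (congrFun h5 0) 0
    have heq := Subgroup.eq_of_le_of_card_ge hle
      (le_of_eq (Subgroup.card_map_of_injective (MulAut.conj Y).injective).symm)
    show Y ∈ Subgroup.normalizer (R : Set (GL (Fin 4) F))
    rw [Subgroup.mem_normalizer_iff]
    intro v
    refine ⟨fun hv => heq ▸ ⟨v, hv, rfl⟩, fun hv => ?_⟩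
    rw [← heq] at hv
    obtain ⟨v', hv', hvv⟩ := hv
    exact (MulAut.conj Y).injective hvv ▸ hv'
  have hmap' : ∀ Y ∈ Cfsg.Geo.subgroupNormalizer R, Normal ((Q⁻¹ * Y * Q : GL (Fin 4) F) : Matrix (Fin 4) (Fin 4) F) := by
    intro Y hY k
    let Pk : GL (Fin 4) F := ⟨P F k, sgn F k k • P F k, P_cancel k, by rw [smul_mul_assoc, ← mul_smul_comm, P_cancel]⟩
    have hu : Q * Pk * Q⁻¹ ∈ R := (hQR _).2 ⟨1, k, one_pow 4, by
      rw [show Q⁻¹ * (Q * Pk * Q⁻¹) * Q = Pk by group, one_smul]⟩
    obtain ⟨c, l, -, hcl⟩ := (hQR _).1 ((Subgroup.mem_normalizer_iff.1 hY _).1 hu)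
    refine ⟨c, l, ?_⟩
    rw [← hcl, ← show (Pk : Matrix (Fin 4) (Fin 4) F) = P F k from rfl, ← Units.val_mul, ← Units.val_mul]
    congr 1
    group
  constructor
  · intro h
    by_contra hcon
    push Not at hcon
    obtain ⟨hr2, hr3, hr5⟩ := hcon
    suffices hbad : ∃ x : GL (Fin 4) F, x ∈ Cfsg.Geo.specialLinear (Fin 4) F ∧
        (x : Matrix (Fin 4) (Fin 4) F) ^ r = 1 ∧ (∀ z : F, (x : Matrix (Fin 4) (Fin 4) F) ≠ z • 1) ∧
        ∀ c : GL (Fin 4) F, ¬ Normal ((c⁻¹ * x * c : GL (Fin 4) F) : Matrix (Fin 4) (Fin 4) F) by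
      obtain ⟨x, hx, hxr, hns, hnot⟩ := hbad
      obtain ⟨g, -, hn⟩ := h x hx ⟨1, by rw [Units.val_pow_eq_pow_val, hxr, one_smul]⟩ hns
      refine hnot (g * Q) ?_
      have := hmap' _ hn
      rwa [show (g * Q)⁻¹ * x * (g * Q) = Q⁻¹ * (g⁻¹ * x * g) * Q by group]
    have hconj : ∀ (x c : GL (Fin 4) F), (x : Matrix (Fin 4) (Fin 4) F) ^ r = 1 →
        (∀ z : F, (x : Matrix (Fin 4) (Fin 4) F) ≠ z • 1) →
        Normal ((c⁻¹ * x * c : GL (Fin 4) F) : Matrix (Fin 4) (Fin 4) F) →
        ∃ s : ℕ, (x : Matrix (Fin 4) (Fin 4) F).trace * ((x⁻¹ : GL (Fin 4) F) : Matrix (Fin 4) (Fin 4) F).trace = s ∧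
          (r = 3 ∧ (s = 1 ∨ s = 4) ∨ r = 5 ∧ s = 1) := by
      intro x c hxr hns hN
      obtain ⟨s, hs, hs'⟩ := normal_count h2 hr hr2 (y := c⁻¹ * x * c) (by
        rw [← Units.val_pow_eq_pow_val]
        have hc := conj_pow (a := c⁻¹) (b := x) (i := r)
        rw [inv_inv] at hc
        rw [hc, show x ^ r = 1 from Units.ext (by rw [Units.val_pow_eq_pow_val, hxr, Units.val_one]), mul_one,
          inv_mul_cancel, Units.val_one]) hN (fun z hz => hns z (by
        calc (x : Matrix (Fin 4) (Fin 4) F) = (c * (c⁻¹ * x * c) * c⁻¹ : GL (Fin 4) F) := by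
              rw [show c * (c⁻¹ * x * c) * c⁻¹ = x by group]
          _ = z • 1 := by
            rw [Units.val_mul, Units.val_mul, hz, mul_smul_comm, mul_one, smul_mul_assoc, Units.mul_inv]))
      refine ⟨s, ?_, hs'⟩
      rw [← hs, show (c⁻¹ * x * c)⁻¹ = c⁻¹ * x⁻¹ * c by group, Units.val_mul (c⁻¹ * x) c, Units.val_mul c⁻¹ x,
        Units.val_mul (c⁻¹ * x⁻¹) c, Units.val_mul c⁻¹ x⁻¹, Matrix.coe_units_inv c, Matrix.trace_mul_cycle,
        Matrix.trace_mul_cycle _ ((x⁻¹ : GL (Fin 4) F) : Matrix (Fin 4) (Fin 4) F), Matrix.mul_nonsing_inv _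
          ((Matrix.isUnit_iff_isUnit_det _).1 c.isUnit), one_mul, one_mul]
    by_cases hr3' : r = 3
    · subst hr3'
      have hp3 : p % 3 = 1 := by
        have := hr3 rfl
        rcases (show p % 3 = 0 ∨ p % 3 = 1 ∨ p % 3 = 2 by omega) with h0 | h0 | h0
        · have := (Nat.prime_dvd_prime_iff_eq Nat.prime_three hpp).1 (Nat.dvd_of_mod_eq_zero h0); omega
        · exact h0
        · exact absurd h0 this
      obtain ⟨ωu, hωu⟩ := exists_prime_orderOf_dvd_card 3 (G := Fˣ) (by rw [Fintype.card_units, hF]; omega)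
      set ω : F := (ωu : F) with hω
      have hω3 : ω ^ 3 = 1 := by rw [hω, ← Units.val_pow_eq_pow_val, ← hωu, pow_orderOf_eq_one, Units.val_one]
      have hω1 : ω ≠ 1 := fun h1 => by
        rw [show ωu = 1 from Units.ext h1, orderOf_one] at hωu
        exact absurd hωu (by norm_num)
      have hsum : 1 + ω + ω ^ 2 = 0 := (mul_eq_zero.1 (show (ω - 1) * (1 + ω + ω ^ 2) = 0 by
        linear_combination hω3)).resolve_left (sub_ne_zero.2 hω1)
      let x : GL (Fin 4) F := ⟨diagonal ![ω, ω, ω, 1], diagonal ![ω ^ 2, ω ^ 2, ω ^ 2, 1],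
        by rw [diagonal_mul_diagonal, ← diagonal_one]; congr 1; funext j; fin_cases j <;> simp <;> linear_combination hω3,
        by rw [diagonal_mul_diagonal, ← diagonal_one]; congr 1; funext j; fin_cases j <;> simp <;> linear_combination hω3⟩
      have hns : ∀ z : F, (x : Matrix (Fin 4) (Fin 4) F) ≠ z • 1 := fun z hz => by
        have e0 := congrFun (congrFun hz 0) 0
        have e3 := congrFun (congrFun hz 3) 3
        simp [x] at e0 e3
        exact hω1 (e0.trans e3.symm)
      have hxr : (x : Matrix (Fin 4) (Fin 4) F) ^ 3 = 1 := by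
        show (diagonal ![ω, ω, ω, 1]) ^ 3 = 1
        rw [diagonal_pow, ← diagonal_one]; congr 1; funext j; fin_cases j <;> simp [hω3]
      refine ⟨x, Units.ext ?_, hxr, hns, fun c hN => ?_⟩
      · show (diagonal ![ω, ω, ω, 1]).det = 1
        simp [det_diagonal, Fin.prod_univ_four]
        linear_combination hω3
      obtain ⟨s, hs, hs'⟩ := hconj x c hxr hns hN
      have e : (7 : F) = s := by
        rw [← hs]
        show (7 : F) = (diagonal ![ω, ω, ω, 1]).trace * (diagonal ![ω ^ 2, ω ^ 2, ω ^ 2, 1]).trace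
        simp [trace_diagonal, Fin.sum_univ_four]
        linear_combination (-9 : F) * hω3 - 3 * hsum
      rcases hs' with ⟨-, rfl | rfl⟩ | ⟨h5, -⟩
      · exact mul_ne_zero h2 h3 (by push_cast at e; linear_combination e)
      · exact h3 (by push_cast at e; linear_combination e)
      · exact absurd h5 (by norm_num)
    by_cases hr5' : r = 5
    · subst hr5'
      by_cases hp : p = 5
      · subst hp
        let e : Matrix (Fin 4) (Fin 4) F := single 0 1 1
        have he : e * e = 0 := by ext a b; fin_cases a <;> fin_cases b <;> simp [e, Matrix.mul_apply, Fin.sum_univ_four, single_apply]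
        have hek : ∀ k : ℕ, (1 + e) ^ k = 1 + (k : F) • e := by
          intro k
          induction k with
          | zero => simp
          | succ k ih =>
            rw [pow_succ, ih, add_mul, one_mul, mul_add, mul_one, smul_mul_assoc, he, smul_zero, add_zero,
              Nat.cast_succ, add_smul, one_smul]
            abel
        let x : GL (Fin 4) F := Matrix.GeneralLinearGroup.mkOfDetNeZero (1 + e) (by
          simp [e, Matrix.det_succ_row_zero, Fin.sum_univ_succ, single_apply, Fin.succAbove, Matrix.one_apply])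
        have hns : ∀ z : F, (x : Matrix (Fin 4) (Fin 4) F) ≠ z • 1 := fun z hz => by
          have e0 := congrFun (congrFun hz 0) 1
          simp [x, e, Matrix.GeneralLinearGroup.mkOfDetNeZero, single_apply] at e0
        have h5 : ((5 : ℕ) : F) = 0 := CharP.cast_eq_zero F 5
        have hxr : (x : Matrix (Fin 4) (Fin 4) F) ^ 5 = 1 := by
          show (1 + e) ^ 5 = 1
          rw [hek, h5, zero_smul, add_zero]
        refine ⟨x, Units.ext ?_, hxr, hns, fun c hN => ?_⟩
        · show (1 + e).det = 1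
          simp [e, Matrix.det_succ_row_zero, Fin.sum_univ_succ, single_apply, Fin.succAbove, Matrix.one_apply]
        set e' : Matrix (Fin 4) (Fin 4) F := ((c⁻¹ : GL (Fin 4) F) : Matrix (Fin 4) (Fin 4) F) * e * c with he'
        refine not_normal_quadratic h2 (e := e') ?_ ?_ ?_ ?_ hN
        · rw [Units.val_mul, Units.val_mul, show (x : Matrix (Fin 4) (Fin 4) F) = 1 + e from rfl, mul_add, mul_one, add_mul,
            Units.inv_mul]
        · rw [he']
          simp only [mul_assoc, Units.mul_inv_cancel_left]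
          rw [← mul_assoc e, he, zero_mul, mul_zero]
        · have hc := conj_pow (a := c⁻¹) (b := x) (i := 5)
          rw [inv_inv] at hc
          rw [← Units.val_pow_eq_pow_val, hc, show x ^ 5 = 1 from Units.ext (by
            rw [Units.val_pow_eq_pow_val, hxr, Units.val_one]), mul_one, inv_mul_cancel, Units.val_one]
        · exact fun z hz => hns z (by
            calc (x : Matrix (Fin 4) (Fin 4) F) = (c * (c⁻¹ * x * c) * c⁻¹ : GL (Fin 4) F) := by
                  rw [show c * (c⁻¹ * x * c) * c⁻¹ = x by group]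
              _ = z • 1 := by
                rw [Units.val_mul, Units.val_mul, hz, mul_smul_comm, mul_one, smul_mul_assoc, Units.mul_inv])
      have hord := hr5 rfl
      have h5F : (5 : F) ≠ 0 := fun h0 => hp ((Nat.prime_dvd_prime_iff_eq hpp (by norm_num)).1
        ((CharP.cast_eq_zero_iff F p 5).1 (by exact_mod_cast h0)))
      have hdvd : 5 ∣ p ^ 2 - 1 := by
        have h0 : p % 5 ≠ 0 := fun h0 => hp ((Nat.prime_dvd_prime_iff_eq (by norm_num) hpp).1 (Nat.dvd_of_mod_eq_zero h0)).symm
        have hm : ((p : ℕ) : ZMod 5) = ((p % 5 : ℕ) : ZMod 5) := (ZMod.natCast_mod p 5).symm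
        have hne2 : p % 5 ≠ 2 ∧ p % 5 ≠ 3 := by
          constructor <;> intro hp2 <;> refine hord ?_ <;> rw [hm, hp2]
          · exact ord_two_five
          · exact ord_three_five
        have : p ^ 2 % 5 = 1 := by
          rw [Nat.pow_mod]
          rcases (show p % 5 = 1 ∨ p % 5 = 4 by omega) with h1 | h1 <;> rw [h1]
        omega
      obtain ⟨a, ha⟩ : ∃ a : Matrix.SpecialLinearGroup (Fin 2) F, orderOf a = 5 := by
        haveI : Fact (Nat.Prime 5) := ⟨by norm_num⟩
        refine exists_prime_orderOf_dvd_card' 5 ?_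
        rw [CfsgLib.Classical.card_SL_fin', Nat.card_eq_fintype_card, hF]
        simp [Finset.prod_range_succ]
        exact dvd_mul_of_dvd_right hdvd _
      set A := (a : Matrix (Fin 2) (Fin 2) F) with hA
      have hdA : A 0 0 * A 1 1 - A 0 1 * A 1 0 = 1 := by rw [← det_fin_two]; exact a.2
      have hA5 : A ^ 5 = 1 := by
        rw [hA, ← Matrix.SpecialLinearGroup.coe_pow, ← ha, pow_orderOf_eq_one, Matrix.SpecialLinearGroup.coe_one]
      have hA1 : A ≠ 1 := fun h1 => by
        rw [show a = 1 from Subtype.ext h1, orderOf_one] at ha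
        exact absurd ha (by norm_num)
      set τ := A 0 0 + A 1 1 with hτ
      have hCH : A * A = τ • A - 1 := by
        ext i j
        fin_cases i <;> fin_cases j <;> simp [Matrix.mul_apply, hτ] <;>
          first | ring1 | linear_combination hdA | linear_combination -hdA
      have hA5' : A ^ 5 = (τ ^ 4 - 3 * τ ^ 2 + 1) • A - (τ ^ 3 - 2 * τ) • 1 := by
        have e3 : A * A * A = (τ ^ 2 - 1) • A - τ • 1 := by
          rw [hCH, sub_mul, one_mul, smul_mul_assoc, hCH]; module
        calc A ^ 5 = A * A * A * (A * A) := by simp [pow_succ, mul_assoc]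
          _ = _ := by
            rw [e3, hCH, sub_mul, smul_mul_assoc, smul_mul_assoc, one_mul, mul_sub, mul_one, mul_smul_comm, hCH]
            module
      have hτ2 : τ ^ 2 + τ - 1 = 0 := by
        rw [hA5] at hA5'
        have hc : τ ^ 4 - 3 * τ ^ 2 + 1 = 0 := by
          by_contra hc
          have h01 := congrFun (congrFun hA5' 0) 1
          have h10 := congrFun (congrFun hA5' 1) 0
          have h00 := congrFun (congrFun hA5' 0) 0
          have h11 := congrFun (congrFun hA5' 1) 1
          simp at h01 h10 h00 h11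
          have e01 : A 0 1 = 0 := h01.resolve_left hc
          have e10 : A 1 0 = 0 := h10.resolve_left hc
          have e : A 0 0 = A 1 1 := mul_left_cancel₀ hc (by linear_combination h11 - h00)
          rw [e01, zero_mul, sub_zero, ← e] at hdA
          have hs : A = (A 0 0) • 1 := by
            ext i j
            fin_cases i <;> fin_cases j <;> simp [e01, e10, ← e]
          have h5' := congrFun (congrFun hA5 0) 0
          rw [hs, _root_.smul_pow, one_pow] at h5'
          simp at h5'
          exact hA1 (by rw [hs, show A 0 0 = 1 by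
            rcases mul_self_eq_one_iff.1 hdA with h1 | h1
            · exact h1
            · rw [h1] at h5'; exact absurd (show (2 : F) = 0 by linear_combination -h5') h2, one_smul])
        rw [hc, zero_smul, zero_sub] at hA5'
        have h1 := congrFun (congrFun hA5' 0) 0
        simp at h1
        have : (τ - 1) * (τ ^ 2 + τ - 1) = 0 := by linear_combination h1
        refine (mul_eq_zero.1 this).resolve_left fun h0 => ?_
        rw [sub_eq_zero.1 h0] at hc
        exact one_ne_zero (α := F) (by linear_combination -hc)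
      let φ : Matrix (Fin 2) (Fin 2) F →* Matrix (Fin 4) (Fin 4) F :=
        { toFun := fun M => !![M 0 0, M 0 1, 0, 0; M 1 0, M 1 1, 0, 0; 0, 0, 1, 0; 0, 0, 0, 1]
          map_one' := by ext i j; fin_cases i <;> fin_cases j <;> simp
          map_mul' := fun M N => by
            ext i j; fin_cases i <;> fin_cases j <;> simp [Matrix.mul_apply, Fin.sum_univ_four] }
      let x : GL (Fin 4) F := ⟨φ A, φ (((a⁻¹ : Matrix.SpecialLinearGroup (Fin 2) F)) : Matrix (Fin 2) (Fin 2) F),
        by rw [← map_mul, hA, ← Matrix.SpecialLinearGroup.coe_mul, mul_inv_cancel, Matrix.SpecialLinearGroup.coe_one, map_one],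
        by rw [← map_mul, hA, ← Matrix.SpecialLinearGroup.coe_mul, inv_mul_cancel, Matrix.SpecialLinearGroup.coe_one, map_one]⟩
      have hns : ∀ z : F, (x : Matrix (Fin 4) (Fin 4) F) ≠ z • 1 := fun z hz => hA1 (by
        have e0 := congrFun (congrFun hz 0) 0
        have e1 := congrFun (congrFun hz 1) 1
        have e3 := congrFun (congrFun hz 3) 3
        have e01 := congrFun (congrFun hz 0) 1
        have e10 := congrFun (congrFun hz 1) 0
        simp [x, φ] at e0 e1 e3 e01 e10
        ext i j
        fin_cases i <;> fin_cases j <;> simp [e0, e1, e01, e10, ← e3])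
      have hxr : (x : Matrix (Fin 4) (Fin 4) F) ^ 5 = 1 := by
        show φ A ^ 5 = 1
        rw [← map_pow, hA5, map_one]
      refine ⟨x, Units.ext ?_, hxr, hns, fun c hN => ?_⟩
      · show (φ A).det = 1
        simp [φ, Matrix.det_succ_row_zero, Fin.sum_univ_succ, Fin.succAbove]
        linear_combination hdA
      obtain ⟨s, hs, hs'⟩ := hconj x c hxr hns hN
      obtain ⟨-, rfl⟩ := hs'.resolve_left (fun h' => by omega)
      have e : (τ + 2) * (τ + 2) = 1 := by
        rw [← (show ((1 : ℕ) : F) = 1 from Nat.cast_one), ← hs]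
        show _ = (φ A).trace * (φ _).trace
        rw [Matrix.SpecialLinearGroup.coe_inv, Matrix.adjugate_fin_two]
        simp [φ, Matrix.trace, Fin.sum_univ_four, hτ, hA]
        ring
      exact h5F (by linear_combination (3 * τ - 1) * (e - hτ2) - (9 : F) * hτ2)
    have hr7 : 7 ≤ r := by
      have := hr.two_le
      by_contra h'
      interval_cases r <;> first | omega | exact absurd hr (by norm_num)
    obtain ⟨x, hx⟩ := exists_prime_orderOf_dvd_card' r (G := Cfsg.Geo.specialLinear (Fin 4) F)
      (hΩ.trans (Subgroup.relIndex_dvd_card _ _))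
    rw [← Subgroup.orderOf_coe] at hx
    have hxr : ((x : GL (Fin 4) F) : Matrix (Fin 4) (Fin 4) F) ^ r = 1 := by
      rw [← Units.val_pow_eq_pow_val, ← hx, pow_orderOf_eq_one, Units.val_one]
    have hns : ∀ z : F, ((x : GL (Fin 4) F) : Matrix (Fin 4) (Fin 4) F) ≠ z • 1 := fun z hz => by
      have hd := hsl _ x.2
      rw [hz, det_smul, det_one, mul_one, Fintype.card_fin] at hd
      have : (x : GL (Fin 4) F) ^ 4 = 1 := Units.ext (by
        rw [Units.val_pow_eq_pow_val, hz, _root_.smul_pow, one_pow, Units.val_one, hd, one_smul])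
      have := Nat.le_of_dvd (by norm_num) (hx ▸ orderOf_dvd_of_pow_eq_one this)
      omega
    refine ⟨x, x.2, hxr, hns, fun c hN => ?_⟩
    obtain ⟨s, -, hs'⟩ := hconj _ c hxr hns hN
    omega
  · intro hr' x hx ⟨z, hz⟩ hns
    have dx := hsl x hx
    rw [Units.val_pow_eq_pow_val] at hz
    have fin : ∀ (μ : F) (M : GL (Fin 4) F), μ ≠ 0 → Normal (M : Matrix (Fin 4) (Fin 4) F) →
        (∀ y : GL (Fin 4) F, (y : Matrix (Fin 4) (Fin 4) F) = μ⁻¹ • (x : Matrix (Fin 4) (Fin 4) F) → IsConj y M) →
        (∀ t : F, t ≠ 0 → ∃ h : Matrix (Fin 4) (Fin 4) F, h * M = M * h ∧ h.det = t) →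
        ∃ g ∈ Cfsg.Geo.specialLinear (Fin 4) F, g⁻¹ * x * g ∈ Cfsg.Geo.subgroupNormalizer R := by
      intro μ M hμ hM hconj hcent
      let S : GL (Fin 4) F := ⟨μ⁻¹ • 1, μ • 1, by rw [smul_mul_smul_comm, inv_mul_cancel₀ hμ, one_smul, one_mul],
        by rw [smul_mul_smul_comm, mul_inv_cancel₀ hμ, one_smul, one_mul]⟩
      obtain ⟨k, hk⟩ := isConj_iff.1 (hconj (S * x) (by
        rw [Units.val_mul, show (S : Matrix (Fin 4) (Fin 4) F) = μ⁻¹ • 1 from rfl, smul_mul_assoc, one_mul]))
      have hdk : ((Q : Matrix (Fin 4) (Fin 4) F) * k).det ≠ 0 := by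
        rw [← Units.val_mul]; exact ((Matrix.isUnit_iff_isUnit_det _).1 (Q * k).isUnit).ne_zero
      obtain ⟨h0, hh, hhd⟩ := hcent _ (inv_ne_zero hdk)
      let hG : GL (Fin 4) F := Matrix.GeneralLinearGroup.mkOfDetNeZero h0 (by rw [hhd]; exact inv_ne_zero hdk)
      refine ⟨(Q * hG * k)⁻¹, inv_mem (Units.ext ?_), ?_⟩
      · show ((Q * hG * k : GL (Fin 4) F) : Matrix (Fin 4) (Fin 4) F).det = 1
        rw [Units.val_mul, Units.val_mul, det_mul, det_mul, show (hG : Matrix (Fin 4) (Fin 4) F) = h0 from rfl, hhd,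
          mul_right_comm, ← det_mul, mul_inv_cancel₀ hdk]
      rw [inv_inv]
      have e : Q * hG * k * x * (Q * hG * k)⁻¹ = Q * (S⁻¹ * M) * Q⁻¹ := by
        have hSc : ∀ u : GL (Fin 4) F, u * S = S * u := fun u => Units.ext (by
          show (u : Matrix (Fin 4) (Fin 4) F) * (μ⁻¹ • 1) = (μ⁻¹ • 1) * u
          rw [mul_smul_comm, mul_one, smul_mul_assoc, one_mul])
        have hhM : hG * M = M * hG := Units.ext hh
        have hkx : k * x * k⁻¹ = S⁻¹ * M := by
          rw [← hk, ← mul_assoc k, hSc k]; group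
        calc _ = Q * (hG * (k * x * k⁻¹) * hG⁻¹) * Q⁻¹ := by group
          _ = _ := by
            rw [hkx, ← mul_assoc hG, show hG * S⁻¹ = S⁻¹ * hG from (show Commute hG S from hSc hG).inv_right.eq,
              mul_assoc S⁻¹ hG, hhM]
            group
      rw [e]
      refine hmap _ ?_
      rw [Units.val_mul, show ((S⁻¹ : GL (Fin 4) F) : Matrix (Fin 4) (Fin 4) F) = μ • 1 from rfl, smul_mul_assoc, one_mul]
      exact normal_smul μ hM
    have hmk : ∀ μ : F, ((x : Matrix (Fin 4) (Fin 4) F)) ^ r = (μ ^ r) • 1 → μ ≠ 0 →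
        (μ⁻¹ • (x : Matrix (Fin 4) (Fin 4) F)) ^ r = 1 := fun μ h hμ => by
      rw [_root_.smul_pow, h, smul_smul, ← mul_pow, inv_mul_cancel₀ hμ, one_pow, one_smul]
    have hnz : ∀ μ c : F, μ ≠ 0 → ∀ y : GL (Fin 4) F,
        (y : Matrix (Fin 4) (Fin 4) F) = μ⁻¹ • (x : Matrix (Fin 4) (Fin 4) F) →
        ∀ u : GL (Fin 4) F, (u : Matrix (Fin 4) (Fin 4) F) = c • 1 → ¬ IsConj y u := fun μ c hμ y hy u hu hc => by
      obtain ⟨k, hk⟩ := isConj_iff.1 hc
      apply hns (μ * c)
      have : (y : Matrix (Fin 4) (Fin 4) F) = c • 1 := by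
        rw [show y = k⁻¹ * u * k by rw [← hk]; group, Units.val_mul, Units.val_mul, hu, mul_smul_comm, mul_one,
          smul_mul_assoc, Units.inv_mul]
      rw [hy] at this
      calc (x : Matrix (Fin 4) (Fin 4) F) = μ • (μ⁻¹ • (x : Matrix (Fin 4) (Fin 4) F)) := by
            rw [smul_smul, mul_inv_cancel₀ hμ, one_smul]
        _ = _ := by rw [this, smul_smul]
    have hz4 : z ^ 4 = 1 := by
      have h := congrArg Matrix.det hz
      rw [det_pow, dx, one_pow, det_smul, det_one, mul_one, Fintype.card_fin] at h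
      exact h.symm
    have hz0 : z ≠ 0 := fun h0 => by rw [h0, zero_pow (by norm_num)] at hz4; exact zero_ne_one hz4
    set u : F := (i₀ - 1) / 2 with hu
    set w : F := (-1 - i₀) / 2 with hw
    rcases hr' with rfl | ⟨rfl, hp3⟩ | ⟨rfl, hord⟩
    · -- involutions
      have hr2F : ((2 : ℕ) : F) ≠ 0 := by exact_mod_cast h2
      have ho : orderOf ((Fintype.card F : ℕ) : ZMod 2) = 2 - 1 := by
        rw [hF, ← ZMod.natCast_mod, show p % 2 = 1 by omega, Nat.cast_one, orderOf_one]
      have hnp : 4 < p := by omega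
      obtain ⟨ν, hν⟩ : ∃ ν : F, ν ^ 2 = z := by
        by_contra hno
        push Not at hno
        have hPirr : Irreducible (Polynomial.X ^ 2 - Polynomial.C z : F[X]) :=
          X_pow_sub_C_irreducible_of_prime Nat.prime_two hno
        set A := (x : Matrix (Fin 4) (Fin 4) F) with hA
        have hall : ∀ Q' ∈ UniqueFactorizationMonoid.normalizedFactors A.charpoly,
            Q' = Polynomial.X ^ 2 - Polynomial.C z := fun Q' hQ' => by
          have hQi := UniqueFactorizationMonoid.irreducible_of_normalized_factor Q' hQ'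
          refine eq_of_monic_of_associated (CfsgLib.KnownB.PrimeOrder.monic_of_mem_nf hQ')
            (monic_X_pow_sub_C z two_ne_zero) (hQi.associated_of_dvd hPirr ?_)
          refine (CfsgLib.KnownB.Semisimple.dvd_minpoly_of_dvd_charpoly (Matrix.toLin' A) hQi (by
            rw [Matrix.charpoly_toLin']; exact UniqueFactorizationMonoid.dvd_of_mem_normalizedFactors hQ')).trans
            (minpoly.dvd F _ ?_)
          rw [show Matrix.toLin' A = Matrix.toLinAlgEquiv' A from rfl, aeval_algHom_apply, map_sub, map_pow, aeval_X,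
            aeval_C, hz, Algebra.algebraMap_eq_smul_one, sub_self, map_zero]
        have hm := CfsgLib.KnownB.PrimeOrder.monic_prod_normalizedFactors (Matrix.charpoly_monic A)
        rw [Multiset.eq_replicate_of_mem hall, Multiset.prod_replicate] at hm
        have hdeg := congrArg natDegree hm
        rw [natDegree_pow, natDegree_X_pow_sub_C, Matrix.charpoly_natDegree_eq_dim, Fintype.card_fin] at hdeg
        rw [show Multiset.card (UniqueFactorizationMonoid.normalizedFactors A.charpoly) = 2 by omega] at hm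
        have hd := Matrix.det_eq_sign_charpoly_coeff A
        rw [← hm, Fintype.card_fin, hA, dx, coeff_zero_eq_eval_zero] at hd
        simp at hd
        rcases mul_self_eq_one_iff.1 (show z * z = 1 by linear_combination -hd) with h1 | h1
        · exact hno 1 (by rw [one_pow, h1])
        · exact hno i₀ (by rw [pow_two, hi₀, h1])
      have hν0 : ν ≠ 0 := fun h0 => hz0 (by rw [← hν, h0]; ring)
      let swM : Matrix (Fin 4) (Fin 4) F := !![1, 0, 0, 0; 0, 0, 1, 0; 0, 1, 0, 0; 0, 0, 0, 1]
      have hsw2 : swM * swM = 1 := by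
        ext a b; fin_cases a <;> fin_cases b <;> simp [swM, Matrix.mul_apply, Fin.sum_univ_four]
      let sw : GL (Fin 4) F := ⟨swM, swM, hsw2, hsw2⟩
      let Dg : GL (Fin 4) F := ⟨P F gA, P F gA, by
        rw [P_sq]; simp [sgn, gA, CfsgLib.AschbacherForm.Cases.pairBit, CfsgLib.AschbacherForm.Cases.bitSign], by rw [P_sq]; simp [sgn, gA, CfsgLib.AschbacherForm.Cases.pairBit, CfsgLib.AschbacherForm.Cases.bitSign]⟩
      have hswN : Normal swM := normal_of_gen
        ⟨1, gB, by rw [one_smul, P_gA, P_gB]; ext a b; fin_cases a <;> fin_cases b <;> simp [swM, Matrix.mul_apply, Fin.sum_univ_four]⟩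
        ⟨1, gA, by rw [one_smul, P_gA, P_gB]; ext a b; fin_cases a <;> fin_cases b <;> simp [swM, Matrix.mul_apply, Fin.sum_univ_four]⟩
        ⟨1, gD, by rw [one_smul, P_gC, P_gD]; ext a b; fin_cases a <;> fin_cases b <;> simp [swM, Matrix.mul_apply, Fin.sum_univ_four]⟩
        ⟨1, gC, by rw [one_smul, P_gC, P_gD]; ext a b; fin_cases a <;> fin_cases b <;> simp [swM, Matrix.mul_apply, Fin.sum_univ_four]⟩
      have hDN : Normal (P F gA) := fun k => ⟨sgn F gA k * sgn F k gA, k, by
        rw [P_mul, smul_mul_assoc, P_mul, smul_smul, add_comm gA, mul_assoc, sgn_sq, mul_one]⟩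
      have hdet : ∀ t : F, ∀ M : Matrix (Fin 4) (Fin 4) F, M = swM ∨ M = P F gA →
          ∃ h : Matrix (Fin 4) (Fin 4) F, h * M = M * h ∧ h.det = t := fun t M hM => by
        refine ⟨diagonal ![t, 1, 1, 1], ?_, by simp [det_diagonal, Fin.prod_univ_four]⟩
        rcases hM with rfl | rfl
        · ext a b; fin_cases a <;> fin_cases b <;> simp [swM, mul_diagonal, diagonal_mul]
        · rw [P_gA]; ext a b; fin_cases a <;> fin_cases b <;> simp [mul_diagonal, diagonal_mul]
      have hcase : ∀ μ : F, μ ^ 2 = z → μ ≠ 0 → (μ⁻¹ • (x : Matrix (Fin 4) (Fin 4) F)).trace = 2 ∨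
          (μ⁻¹ • (x : Matrix (Fin 4) (Fin 4) F)).trace = 0 →
          ∃ g ∈ Cfsg.Geo.specialLinear (Fin 4) F, g⁻¹ * x * g ∈ Cfsg.Geo.subgroupNormalizer R := by
        intro μ hμ hμ0 ht
        have hp2 := hmk μ (by rw [hμ]; exact hz) hμ0
        rcases ht with ht | ht
        · refine fin μ sw hμ0 hswN (fun y hy => isConj_of_trace p hnp hr2F ho (by rw [hy]; exact hp2)
            (by rw [pow_two]; exact hsw2) ?_) (fun t _ => hdet t _ (Or.inl rfl))
          rw [hy, ht]
          show _ = swM.trace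
          simp [swM, Matrix.trace, Fin.sum_univ_four]
          norm_num
        · refine fin μ Dg hμ0 hDN (fun y hy => isConj_of_trace p hnp hr2F ho (by rw [hy]; exact hp2)
            (by rw [pow_two]; exact Dg.val_inv) ?_) (fun t _ => hdet t _ (Or.inr rfl))
          rw [hy, ht]
          exact (trace_P gA (by decide)).symm
      have hp2 := hmk ν (by rw [hν]; exact hz) hν0
      obtain ⟨a, b, hab, -, htr⟩ := exists_count hr2F ho hp2
      let y : GL (Fin 4) F := ⟨ν⁻¹ • (x : Matrix (Fin 4) (Fin 4) F), ν⁻¹ • (x : Matrix (Fin 4) (Fin 4) F),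
        by rw [← pow_two]; exact hp2, by rw [← pow_two]; exact hp2⟩
      rcases (show b = 0 ∨ b = 1 ∨ b = 2 ∨ b = 3 ∨ b = 4 by omega) with rfl | rfl | rfl | rfl | rfl
      · refine absurd (isConj_of_trace p hnp hr2F ho (x := y) (y := 1) hp2 (by rw [Units.val_one, one_pow]) ?_)
          (hnz ν 1 hν0 y rfl 1 (by rw [Units.val_one, one_smul]))
        rw [Units.val_one, trace_one, Fintype.card_fin]
        show (ν⁻¹ • (x : Matrix (Fin 4) (Fin 4) F)).trace = _
        rw [htr, show a = 4 by omega]; norm_num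
      · exact hcase ν hν hν0 (Or.inl (by rw [htr, show a = 3 by omega]; norm_num))
      · exact hcase ν hν hν0 (Or.inr (by rw [htr, show a = 2 by omega]; norm_num))
      · exact hcase (-ν) (by rw [neg_sq, hν]) (neg_ne_zero.2 hν0) (Or.inl (by
          rw [inv_neg, neg_smul, trace_neg, htr, show a = 1 by omega]; norm_num))
      · let N : GL (Fin 4) F := ⟨(-1 : F) • 1, (-1 : F) • 1, by rw [smul_mul_smul_comm]; simp,
          by rw [smul_mul_smul_comm]; simp⟩
        refine absurd (isConj_of_trace p hnp hr2F ho (x := y) (y := N) hp2 (by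
          show ((-1 : F) • (1 : Matrix (Fin 4) (Fin 4) F)) ^ 2 = 1
          rw [_root_.smul_pow, one_pow]; simp) ?_) (hnz ν (-1) hν0 y rfl N rfl)
        show (ν⁻¹ • (x : Matrix (Fin 4) (Fin 4) F)).trace = ((-1 : F) • (1 : Matrix (Fin 4) (Fin 4) F)).trace
        rw [htr, trace_smul, trace_one, Fintype.card_fin, show a = 0 by omega]; norm_num
    · -- elements of order three
      have hr3F : ((3 : ℕ) : F) ≠ 0 := by exact_mod_cast h3
      have ho : orderOf ((Fintype.card F : ℕ) : ZMod 3) = 3 - 1 := by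
        haveI : Fact (Nat.Prime 2) := ⟨Nat.prime_two⟩
        rw [hF, ← ZMod.natCast_mod, hp3]
        exact ord_two_three
      have hnp : 4 < p := by omega
      have hμ0 : z ^ 3 ≠ 0 := pow_ne_zero _ hz0
      have hz9 : (z ^ 3) ^ 3 = z := by
        rw [← pow_mul, show (3 * 3 : ℕ) = 4 + 4 + 1 from rfl, pow_add, pow_add, hz4, one_mul, one_mul, pow_one]
      have hp3' := hmk (z ^ 3) (by rw [hz9]; exact hz) hμ0
      let y1M : Matrix (Fin 4) (Fin 4) F := !![u, 0, -w, 0; 0, u, 0, -w; u, 0, w, 0; 0, u, 0, w]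
      let y2M : Matrix (Fin 4) (Fin 4) F := !![u * u, -(u * w), -(w * u), w * w; u * u, u * w, -(w * u), -(w * w);
        u * u, -(u * w), w * u, -(w * w); u * u, u * w, w * u, w * w]
      have huw : u + w = -1 := by rw [hu, hw]; field_simp; ring
      have huw2 : 2 * (u * w) = 1 := by rw [hu, hw]; field_simp; linear_combination -hi₀
      have hy1 : y1M * y1M * y1M = 1 := by
        ext a b; fin_cases a <;> fin_cases b <;> simp [y1M, Matrix.mul_apply, Fin.sum_univ_four, hu, hw] <;>
          field_simp <;> grind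
      have hy2 : y2M * y2M * y2M = 1 := by
        ext a b; fin_cases a <;> fin_cases b <;> simp [y2M, Matrix.mul_apply, Fin.sum_univ_four, hu, hw] <;>
          field_simp <;> grind
      let Y1 : GL (Fin 4) F := ⟨y1M, y1M * y1M, by rw [← mul_assoc, hy1], hy1⟩
      let Y2 : GL (Fin 4) F := ⟨y2M, y2M * y2M, by rw [← mul_assoc, hy2], hy2⟩
      have hN1 : Normal y1M := normal_of_gen
        ⟨1, gC, by rw [one_smul, P_gA, P_gC]; ext a b; fin_cases a <;> fin_cases b <;> simp [y1M, Matrix.mul_apply, Fin.sum_univ_four]⟩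
        ⟨1, gB, by rw [one_smul, P_gB]; ext a b; fin_cases a <;> fin_cases b <;> simp [y1M, Matrix.mul_apply, Fin.sum_univ_four]⟩
        ⟨-i₀, gA + gC, by
          rw [show P F (gA + gC) = sgn F gA gC • (P F gA * P F gC) by rw [P_mul, smul_smul, sgn_sq, one_smul],
            P_gA, P_gC]
          ext a b
          fin_cases a <;> fin_cases b <;>
            simp [y1M, Matrix.mul_apply, Fin.sum_univ_four, sgn, gA, gC, CfsgLib.AschbacherForm.Cases.pairBit, CfsgLib.AschbacherForm.Cases.bitSign, hu, hw] <;> field_simp <;>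
            grind⟩
        ⟨1, gD, by rw [one_smul, P_gD]; ext a b; fin_cases a <;> fin_cases b <;> simp [y1M, Matrix.mul_apply, Fin.sum_univ_four]⟩
      have hN2 : Normal y2M := normal_of_gen
        ⟨1, gC, by rw [one_smul, P_gA, P_gC]; ext a b; fin_cases a <;> fin_cases b <;> simp [y2M, Matrix.mul_apply, Fin.sum_univ_four]⟩
        ⟨1, gD, by rw [one_smul, P_gB, P_gD]; ext a b; fin_cases a <;> fin_cases b <;> simp [y2M, Matrix.mul_apply, Fin.sum_univ_four]⟩
        ⟨-i₀, gA + gC, by
          rw [show P F (gA + gC) = sgn F gA gC • (P F gA * P F gC) by rw [P_mul, smul_smul, sgn_sq, one_smul],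
            P_gA, P_gC]
          ext a b
          fin_cases a <;> fin_cases b <;>
            simp [y2M, Matrix.mul_apply, Fin.sum_univ_four, sgn, gA, gC, CfsgLib.AschbacherForm.Cases.pairBit, CfsgLib.AschbacherForm.Cases.bitSign, hu, hw] <;> field_simp <;>
            grind⟩
        ⟨-i₀, gB + gD, by
          rw [show P F (gB + gD) = sgn F gB gD • (P F gB * P F gD) by rw [P_mul, smul_smul, sgn_sq, one_smul],
            P_gB, P_gD]
          ext a b
          fin_cases a <;> fin_cases b <;>
            simp [y2M, Matrix.mul_apply, Fin.sum_univ_four, sgn, gB, gD, CfsgLib.AschbacherForm.Cases.pairBit, CfsgLib.AschbacherForm.Cases.bitSign, hu, hw] <;> field_simp <;>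
            grind⟩
      obtain ⟨a, b, hab, -, htr⟩ := exists_count hr3F ho hp3'
      rcases (show b = 0 ∨ b = 1 ∨ b = 2 by omega) with rfl | rfl | rfl
      · let y : GL (Fin 4) F := ⟨(z ^ 3)⁻¹ • (x : Matrix (Fin 4) (Fin 4) F), ((z ^ 3)⁻¹ • (x : Matrix (Fin 4) (Fin 4) F)) ^ 2,
          by rw [← pow_succ']; exact hp3', by rw [← pow_succ]; exact hp3'⟩
        refine absurd (isConj_of_trace p hnp hr3F ho (x := y) (y := 1) hp3' (by rw [Units.val_one, one_pow]) ?_)
          (hnz _ 1 hμ0 y rfl 1 (by rw [Units.val_one, one_smul]))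
        rw [Units.val_one, trace_one, Fintype.card_fin]
        show ((z ^ 3)⁻¹ • (x : Matrix (Fin 4) (Fin 4) F)).trace = _
        rw [htr, show a = 4 by omega]; norm_num
      · refine fin (z ^ 3) Y2 hμ0 hN2 (fun y hy => isConj_of_trace p hnp hr3F ho (by rw [hy]; exact hp3')
          (by rw [pow_succ, pow_two]; exact hy2) ?_) fun t _ => ?_
        · rw [hy, htr, show a = 2 by omega]
          show _ = y2M.trace
          simp [y2M, Matrix.trace, Fin.sum_univ_four]
          linear_combination (-(u + w - 1)) * huw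
        · refine ⟨!![1, 0, 0, 0; 0, (1 + t) / 2, (1 - t) / 2, 0; 0, (1 - t) / 2, (1 + t) / 2, 0; 0, 0, 0, 1], ?_, ?_⟩
          · show _ * y2M = y2M * _
            ext a b; fin_cases a <;> fin_cases b <;> simp [y2M, Matrix.mul_apply, Fin.sum_univ_four] <;>
              field_simp <;> grind
          · simp [Matrix.det_succ_row_zero, Fin.sum_univ_succ, Fin.succAbove]
            field_simp
            ring
      · refine fin (z ^ 3) Y1 hμ0 hN1 (fun y hy => isConj_of_trace p hnp hr3F ho (by rw [hy]; exact hp3')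
          (by rw [pow_succ, pow_two]; exact hy1) ?_) fun t _ => ?_
        · rw [hy, htr, show a = 0 by omega]
          show _ = y1M.trace
          simp [y1M, Matrix.trace, Fin.sum_univ_four]
          linear_combination (-2 : F) * huw
        · obtain ⟨a, c, hac⟩ := FiniteField.exists_root_sum_quadratic
            (f := Polynomial.X ^ 2 - Polynomial.C t) (g := Polynomial.C (3 : F) * Polynomial.X ^ 2)
            (degree_X_pow_sub_C (by norm_num) _) (by rw [degree_C_mul_X_pow _ h3]; rfl) (by omega)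
          simp only [eval_sub, eval_mul, eval_C, eval_pow, eval_X] at hac
          refine ⟨!![(a + c) + 2 * c * u, 0, -(2 * c * w), 0; 0, 1, 0, 0; 2 * c * u, 0, (a + c) + 2 * c * w, 0; 0, 0, 0, 1],
            ?_, ?_⟩
          · show _ * y1M = y1M * _
            ext a b; fin_cases a <;> fin_cases b <;> simp [y1M, Matrix.mul_apply, Fin.sum_univ_four] <;> ring
          · simp [Matrix.det_succ_row_zero, Fin.sum_univ_succ, Fin.succAbove]
            linear_combination hac + (2 * c * (a + c)) * huw + (4 * c ^ 2) * huw2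
    · -- elements of order five
      have hord' : orderOf ((Fintype.card F : ℕ) : ZMod 5) = 5 - 1 := by rw [hF]; exact hord
      have h5F : ((5 : ℕ) : F) ≠ 0 := fun h0 => by
        have := (Nat.prime_dvd_prime_iff_eq hpp (by norm_num)).1 ((CharP.cast_eq_zero_iff F p 5).1 h0)
        rw [this, ZMod.natCast_self, orderOf_zero] at hord
        exact absurd hord (by norm_num)
      have hnp : 4 < p := by omega
      have hp5' := hmk z (by rw [show z ^ 5 = z by rw [pow_succ, hz4, one_mul]]; exact hz) hz0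
      let WM : Matrix (Fin 4) (Fin 4) F := !![u, 0, 0, w; 0, w, -u, 0; u, 0, 0, -w; 0, w, u, 0]
      let W2 : Matrix (Fin 4) (Fin 4) F := !![-(i₀ / 2), i₀ / 2, 1 / 2, 1 / 2; i₀ / 2, i₀ / 2, -(1 / 2), 1 / 2;
        -(i₀ / 2), -(i₀ / 2), -(1 / 2), 1 / 2; -(i₀ / 2), i₀ / 2, -(1 / 2), -(1 / 2)]
      let W4 : Matrix (Fin 4) (Fin 4) F := !![w, 0, w, 0; 0, u, 0, u; 0, -w, 0, w; u, 0, -u, 0]
      have hW2 : WM * WM = W2 := by
        ext a b; fin_cases a <;> fin_cases b <;> simp [WM, W2, Matrix.mul_apply, Fin.sum_univ_four, hu, hw] <;>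
          field_simp <;> grind
      have hW4 : W2 * W2 = W4 := by
        ext a b; fin_cases a <;> fin_cases b <;> simp [W4, W2, Matrix.mul_apply, Fin.sum_univ_four, hu, hw] <;>
          field_simp <;> grind
      have hW5 : W4 * WM = 1 := by
        ext a b; fin_cases a <;> fin_cases b <;> simp [W4, WM, Matrix.mul_apply, Fin.sum_univ_four, hu, hw] <;>
          field_simp <;> grind
      let W : GL (Fin 4) F := ⟨WM, W4, mul_eq_one_comm.1 hW5, hW5⟩
      have hWpow : WM ^ 5 = 1 := by
        rw [show (5 : ℕ) = (2 + 2) + 1 from rfl, pow_succ, pow_add, pow_two, hW2, hW4, hW5]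
      have hWN : Normal WM := normal_of_gen
        ⟨1, gC, by rw [one_smul, P_gA, P_gC]; ext a b; fin_cases a <;> fin_cases b <;> simp [WM, Matrix.mul_apply, Fin.sum_univ_four]⟩
        ⟨sgn F gB gC, gB + gC, by
          rw [show P F (gB + gC) = sgn F gB gC • (P F gB * P F gC) by rw [P_mul, smul_smul, sgn_sq, one_smul],
            smul_smul, sgn_sq, one_smul, P_gB, P_gC]
          ext a b
          fin_cases a <;> fin_cases b <;> simp [WM, Matrix.mul_apply, Fin.sum_univ_four]⟩
        ⟨sgn F gA gB * sgn F (gA + gB) (gC + gD) * sgn F gC gD, (gA + gB) + (gC + gD), by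
          rw [show (sgn F gA gB * sgn F (gA + gB) (gC + gD) * sgn F gC gD) • P F ((gA + gB) + (gC + gD)) =
            P F gA * P F gB * (P F gC * P F gD) by
              rw [P_mul, P_mul, smul_mul_smul_comm, P_mul, smul_smul]; congr 1,
            P_gA, P_gB, P_gC, P_gD]
          ext a b
          fin_cases a <;> fin_cases b <;> simp [WM, Matrix.mul_apply, Fin.sum_univ_four]⟩
        ⟨-i₀ * sgn F gB gD, gB + gD, by
          rw [show P F (gB + gD) = sgn F gB gD • (P F gB * P F gD) by rw [P_mul, smul_smul, sgn_sq, one_smul],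
            smul_smul, mul_assoc, sgn_sq, mul_one, P_gB, P_gD]
          ext a b
          fin_cases a <;> fin_cases b <;>
            simp [WM, Matrix.mul_apply, Fin.sum_univ_four, hu, hw] <;> field_simp <;> grind⟩
      have hWtr : WM.trace = -1 := by
        simp [WM, Matrix.trace, Fin.sum_univ_four, hu, hw]; field_simp; ring
      obtain ⟨a, b, hab, -, htr⟩ := exists_count h5F hord' hp5'
      rcases (show b = 0 ∨ b = 1 by omega) with rfl | rfl
      · let y : GL (Fin 4) F := ⟨z⁻¹ • (x : Matrix (Fin 4) (Fin 4) F), (z⁻¹ • (x : Matrix (Fin 4) (Fin 4) F)) ^ 4,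
          by rw [← pow_succ']; exact hp5', by rw [← pow_succ]; exact hp5'⟩
        refine absurd (isConj_of_trace p hnp h5F hord' (x := y) (y := 1) hp5' (by rw [Units.val_one, one_pow]) ?_)
          (hnz _ 1 hz0 y rfl 1 (by rw [Units.val_one, one_smul]))
        rw [Units.val_one, trace_one, Fintype.card_fin]
        show (z⁻¹ • (x : Matrix (Fin 4) (Fin 4) F)).trace = _
        rw [htr, show a = 4 by omega]; norm_num
      · refine fin z W hz0 hWN (fun y hy => isConj_of_trace p hnp h5F hord' (by rw [hy]; exact hp5') hWpow ?_)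
          fun t _ => ?_
        · rw [hy, htr, show a = 0 by omega]
          show _ = WM.trace
          rw [hWtr]; norm_num
        · obtain ⟨a', b', hab', hchar, htr'⟩ := exists_count h5F hord' hWpow
          rcases (show b' = 0 ∨ b' = 1 by omega) with rfl | rfl
          · rw [hWtr, show a' = 4 by omega] at htr'
            exact absurd (show ((5 : ℕ) : F) = 0 by push_cast at htr' ⊢; linear_combination -htr') h5F
          rw [show a' = 0 by omega, pow_zero, one_mul, pow_one] at hchar
          exact exists_det (x := WM) (Phi_irreducible h5F hord') (by rw [Phi_natDegree])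
            (by rw [← hchar]; exact Matrix.aeval_self_charpoly WM) t

end Cfsg.Agent.S6000
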