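import Cfsg.Statements.S6001
import Cfsg.Agent.Lib.ThreeTransp.PauliFourFrame
import Cfsg.Agent.Lib.ThreeTransp.PauliFourTransv
import Cfsg.Agent.Lib.ThreeTransp.UnitaryFourClass
import Cfsg.Agent.Lib.AschbacherForm.UnitBase
import Cfsg.Agent.Lib.Classical.Order

set_option autoImplicit false
set_option maxHeartbeats 2000000
open scoped MatrixGroups
open Cfsg

namespace Cfsg.Agent.S6001

theorem ord_two_five : orderOf ((2 : ℕ) : ZMod 5) = 4 := by
  haveI : Fact (Nat.Prime 2) := ⟨Nat.prime_two⟩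
  exact orderOf_eq_prime_pow (p := 2) (n := 1) (by decide) (by decide)

theorem ord_three_five : orderOf ((3 : ℕ) : ZMod 5) = 4 := by
  haveI : Fact (Nat.Prime 2) := ⟨Nat.prime_two⟩
  exact orderOf_eq_prime_pow (p := 2) (n := 1) (by decide) (by decide)

theorem ord_four_iff {p : ℕ} (h0 : p % 5 ≠ 0) :
    orderOf (p : ZMod 5) = 4 ↔ p % 5 = 2 ∨ p % 5 = 3 := by
  rw [← ZMod.natCast_mod p 5]
  rcases (show p % 5 = 1 ∨ p % 5 = 2 ∨ p % 5 = 3 ∨ p % 5 = 4 by omega) with h | h | h | h <;> rw [h]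
  · simp
  · simpa using ord_two_five
  · simpa using ord_three_five
  · have : orderOf ((4 : ℕ) : ZMod 5) ∣ 2 := orderOf_dvd_of_pow_eq_one (by decide)
    have h2 := Nat.le_of_dvd (by norm_num) this
    constructor
    · intro h4; omega
    · omega

open Matrix in
theorem companion_five {F : Type*} [Field F] {T : F} (hT : T ^ 2 + T - 1 = 0) :
    (!![T, -1; 1, 0] : Matrix (Fin 2) (Fin 2) F) * !![T, -1; 1, 0] = T • !![T, -1; 1, 0] - 1 ∧
      (!![T, -1; 1, 0] : Matrix (Fin 2) (Fin 2) F) ^ 5 = 1 := by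
  set A : Matrix (Fin 2) (Fin 2) F := !![T, -1; 1, 0] with hA
  have e2 : A ^ 2 = !![T * T - 1, -T; T, -1] := by
    rw [pow_two]; ext i j; fin_cases i <;> fin_cases j <;> simp [hA, Matrix.mul_apply, Fin.sum_univ_two] <;> ring
  have e3 : A ^ 3 = !![T * (T * T - 1) - T, -(T * T - 1); T * T - 1, -T] := by
    rw [pow_succ, e2]; ext i j; fin_cases i <;> fin_cases j <;> simp [hA, Matrix.mul_apply, Fin.sum_univ_two] <;> ring
  have e4 : A ^ 4 = !![0, 1; -1, T] := by
    rw [pow_succ, e3]; ext i j; fin_cases i <;> fin_cases j <;> simp [hA, Matrix.mul_apply, Fin.sum_univ_two] <;> grind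
  refine ⟨?_, ?_⟩
  · rw [← pow_two, e2]; ext i j; fin_cases i <;> fin_cases j <;> simp [hA]
  · rw [pow_succ, e4]; ext i j; fin_cases i <;> fin_cases j <;> simp [hA, Matrix.mul_apply, Fin.sum_univ_two]

theorem root_five {F : Type*} [Field F] {T a : F} (hT : T ^ 2 + T - 1 = 0) (ha : a ^ 2 - T * a + 1 = 0) :
    a ^ 5 = 1 := by grind

open Matrix in
theorem not_fixed_root {F : Type*} [Field F] {p : ℕ} [Fact p.Prime] [CharP F p] (h5 : (5 : F) ≠ 0)
    (hp5 : p % 5 = 2 ∨ p % 5 = 3) {T : F} (hT : T ^ 2 + T - 1 = 0) (hTp : T ^ p = T) : False := by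
  obtain ⟨hCH, hA5⟩ := companion_five hT
  set A : Matrix (Fin 2) (Fin 2) F := !![T, -1; 1, 0] with hA
  have hfr : (A * A) ^ p = T • A ^ p - 1 := by
    rw [hCH, sub_pow_char_of_commute (p := p) (h := Commute.one_right _), _root_.smul_pow, hTp, one_pow]
  rw [← pow_two, ← pow_mul, ← Nat.div_add_mod p 5] at hfr
  rcases hp5 with e | e <;> rw [e] at hfr
  · rw [show 2 * (5 * (p / 5) + 2) = 5 * (2 * (p / 5)) + 4 by ring, pow_add, pow_mul, hA5, one_pow, one_mul,
      pow_add, pow_mul, hA5, one_pow, one_mul] at hfr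
    have f0 := congrFun (congrFun hfr 1) 0
    have f1 := congrFun (congrFun hfr 1) 1
    simp [hA, pow_succ, Matrix.mul_apply, Fin.sum_univ_two] at f0 f1
    exact h5 (by grind)
  · rw [show 2 * (5 * (p / 5) + 3) = 5 * (2 * (p / 5) + 1) + 1 by ring, pow_add, pow_mul, hA5, one_pow, one_mul,
      pow_one, pow_add, pow_mul, hA5, one_pow, one_mul] at hfr
    have f0 := congrFun (congrFun hfr 1) 0
    have f1 := congrFun (congrFun hfr 1) 1
    simp [hA, pow_succ, Matrix.mul_apply, Fin.sum_univ_two] at f0 f1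
    exact h5 (by grind)

open Matrix in
theorem unitary_five {F : Type*} [Field F] (h2 : (2 : F) ≠ 0) {T b c : F} (hT : T ^ 2 + T - 1 = 0)
    (hb : b * c = 1 - T * T / 4) :
    (!![T / 2, b; -c, T / 2] : Matrix (Fin 2) (Fin 2) F) * !![T / 2, -b; c, T / 2] = 1 ∧
      (!![T / 2, b; -c, T / 2] : Matrix (Fin 2) (Fin 2) F) ^ 5 = 1 := by
  set A : Matrix (Fin 2) (Fin 2) F := !![T / 2, b; -c, T / 2] with hA
  set A' : Matrix (Fin 2) (Fin 2) F := !![T / 2, -b; c, T / 2] with hA'
  have h4 : (4 : F) ≠ 0 := CfsgLib.ThreeTransp.PauliFour.two_ne h2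
  have hAA : A * A' = 1 := by
    ext i j
    fin_cases i <;> fin_cases j <;> simp [hA, hA', Matrix.mul_apply, Fin.sum_univ_two] <;> field_simp at hb ⊢ <;> grind
  have hCH : A * A = T • A - 1 := by
    ext i j
    fin_cases i <;> fin_cases j <;> simp [hA, Matrix.mul_apply, Fin.sum_univ_two] <;> field_simp at hb ⊢ <;> grind
  have hA5' : A ^ 5 = (T ^ 4 - 3 * T ^ 2 + 1) • A - (T ^ 3 - 2 * T) • 1 := by
    have e3 : A * A * A = (T ^ 2 - 1) • A - T • 1 := by
      rw [hCH, sub_mul, one_mul, smul_mul_assoc, hCH]; module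
    calc A ^ 5 = A * A * A * (A * A) := by simp [pow_succ, mul_assoc]
      _ = _ := by
        rw [e3, hCH, sub_mul, smul_mul_assoc, smul_mul_assoc, one_mul, mul_sub, mul_one, mul_smul_comm, hCH]
        module
  refine ⟨hAA, ?_⟩
  rw [hA5', show T ^ 4 - 3 * T ^ 2 + 1 = 0 by linear_combination (T ^ 2 - T - 1) * hT,
    show T ^ 3 - 2 * T = -1 by linear_combination (T - 1) * hT, zero_smul, zero_sub, neg_smul, neg_neg, one_smul]

open Matrix CfsgLib.ThreeTransp.PauliFour in
theorem models_three {F : Type*} [Field F] (h2 : (2 : F) ≠ 0) (τe : F ≃+* F) {i₀ : F} (hi₀ : i₀ * i₀ = -1)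
    (hτi : τe i₀ = -i₀) :
    ∃ Y1 Y2 : GL (Fin 4) F, Normal (Y1 : Matrix (Fin 4) (Fin 4) F) ∧ Normal (Y2 : Matrix (Fin 4) (Fin 4) F) ∧
      (Y1 : Matrix (Fin 4) (Fin 4) F)ᵀ * (Y1 : Matrix (Fin 4) (Fin 4) F).map τe = 1 ∧
      (Y2 : Matrix (Fin 4) (Fin 4) F)ᵀ * (Y2 : Matrix (Fin 4) (Fin 4) F).map τe = 1 ∧
      (Y1 : Matrix (Fin 4) (Fin 4) F) ^ 3 = 1 ∧ (Y2 : Matrix (Fin 4) (Fin 4) F) ^ 3 = 1 ∧
      (Y1 : Matrix (Fin 4) (Fin 4) F).trace = -2 ∧ (Y2 : Matrix (Fin 4) (Fin 4) F).trace = 1 ∧ Y1 ≠ 1 ∧ Y2 ≠ 1 := by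
  set u : F := (i₀ - 1) / 2 with hu
  set w : F := (-1 - i₀) / 2 with hw
  have hτu : τe u = w := by rw [hu, hw, map_div₀, map_sub, map_one, hτi, map_ofNat]; ring
  have hτw : τe w = u := by rw [hu, hw, map_div₀, map_sub, map_neg, map_one, hτi, map_ofNat]; ring
  let y1M : Matrix (Fin 4) (Fin 4) F := !![u, 0, -w, 0; 0, u, 0, -w; u, 0, w, 0; 0, u, 0, w]
  let y2M : Matrix (Fin 4) (Fin 4) F := !![u * u, -(u * w), -(w * u), w * w; u * u, u * w, -(w * u), -(w * w);
    u * u, -(u * w), w * u, -(w * w); u * u, u * w, w * u, w * w]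
  have huw : u + w = -1 := by rw [hu, hw]; field_simp; ring
  have huw2 : 2 * (u * w) = 1 := by rw [hu, hw]; field_simp; linear_combination -hi₀
  have hy1 : y1M * y1M * y1M = 1 := by
    ext a b; fin_cases a <;> fin_cases b <;> simp [y1M, Matrix.mul_apply, Fin.sum_univ_four, hu, hw] <;>
      field_simp <;> grind
  have hy2 : y2M * y2M * y2M = 1 := by
    ext a b; fin_cases a <;> fin_cases b <;> simp [y2M, Matrix.mul_apply, Fin.sum_univ_four, hu, hw] <;>
      field_simp <;> grind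
  let Y1 : GL (Fin 4) F := ⟨y1M, y1M * y1M, by rw [← mul_assoc, hy1], hy1⟩
  let Y2 : GL (Fin 4) F := ⟨y2M, y2M * y2M, by rw [← mul_assoc, hy2], hy2⟩
  have hN1 : Normal y1M := normal_of_gen
    ⟨1, gC, by rw [one_smul, P_gA, P_gC]; ext a b; fin_cases a <;> fin_cases b <;> simp [y1M, Matrix.mul_apply, Fin.sum_univ_four]⟩
    ⟨1, gB, by rw [one_smul, P_gB]; ext a b; fin_cases a <;> fin_cases b <;> simp [y1M, Matrix.mul_apply, Fin.sum_univ_four]⟩
    ⟨-i₀, gA + gC, by
      rw [show P F (gA + gC) = sgn F gA gC • (P F gA * P F gC) by rw [P_mul, smul_smul, sgn_sq, one_smul],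
        P_gA, P_gC]
      ext a b
      fin_cases a <;> fin_cases b <;>
        simp [y1M, Matrix.mul_apply, Fin.sum_univ_four, sgn, gA, gC, CfsgLib.AschbacherForm.Cases.pairBit, CfsgLib.AschbacherForm.Cases.bitSign, hu, hw] <;> field_simp <;>
        grind⟩
    ⟨1, gD, by rw [one_smul, P_gD]; ext a b; fin_cases a <;> fin_cases b <;> simp [y1M, Matrix.mul_apply, Fin.sum_univ_four]⟩
  have hN2 : Normal y2M := normal_of_gen
    ⟨1, gC, by rw [one_smul, P_gA, P_gC]; ext a b; fin_cases a <;> fin_cases b <;> simp [y2M, Matrix.mul_apply, Fin.sum_univ_four]⟩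
    ⟨1, gD, by rw [one_smul, P_gB, P_gD]; ext a b; fin_cases a <;> fin_cases b <;> simp [y2M, Matrix.mul_apply, Fin.sum_univ_four]⟩
    ⟨-i₀, gA + gC, by
      rw [show P F (gA + gC) = sgn F gA gC • (P F gA * P F gC) by rw [P_mul, smul_smul, sgn_sq, one_smul],
        P_gA, P_gC]
      ext a b
      fin_cases a <;> fin_cases b <;>
        simp [y2M, Matrix.mul_apply, Fin.sum_univ_four, sgn, gA, gC, CfsgLib.AschbacherForm.Cases.pairBit, CfsgLib.AschbacherForm.Cases.bitSign, hu, hw] <;> field_simp <;>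
        grind⟩
    ⟨-i₀, gB + gD, by
      rw [show P F (gB + gD) = sgn F gB gD • (P F gB * P F gD) by rw [P_mul, smul_smul, sgn_sq, one_smul],
        P_gB, P_gD]
      ext a b
      fin_cases a <;> fin_cases b <;>
        simp [y2M, Matrix.mul_apply, Fin.sum_univ_four, sgn, gB, gD, CfsgLib.AschbacherForm.Cases.pairBit, CfsgLib.AschbacherForm.Cases.bitSign, hu, hw] <;> field_simp <;>
        grind⟩
  have hY1U : y1Mᵀ * y1M.map τe = 1 := by
    ext a b
    fin_cases a <;> fin_cases b <;> simp [y1M, Matrix.mul_apply, Fin.sum_univ_four, hτu, hτw] <;> grind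
  have hY2U : y2Mᵀ * y2M.map τe = 1 := by
    ext a b
    fin_cases a <;> fin_cases b <;> simp [y2M, Matrix.mul_apply, Fin.sum_univ_four, hτu, hτw] <;> grind
  have hY1ne : Y1 ≠ 1 := fun h => by
    have := congrFun (congrFun (congrArg (fun g : GL (Fin 4) F => (g : Matrix (Fin 4) (Fin 4) F)) h) 2) 0
    simp [Y1, y1M] at this
    rw [this, mul_comm] at huw2; simp at huw2
  have hY2ne : Y2 ≠ 1 := fun h => by
    have := congrFun (congrFun (congrArg (fun g : GL (Fin 4) F => (g : Matrix (Fin 4) (Fin 4) F)) h) 2) 0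
    simp [Y2, y2M] at this
    rw [this] at huw2; simp at huw2
  have hy13 : y1M ^ 3 = 1 := by rw [pow_succ, pow_two]; exact hy1
  have hy23 : y2M ^ 3 = 1 := by rw [pow_succ, pow_two]; exact hy2
  have ht1 : y1M.trace = -2 := by
    simp [y1M, Matrix.trace, Fin.sum_univ_four]; linear_combination (2 : F) * huw
  have ht2 : y2M.trace = 1 := by
    simp [y2M, Matrix.trace, Fin.sum_univ_four]; linear_combination (u + w - 1) * huw
  exact ⟨Y1, Y2, hN1, hN2, hY1U, hY2U, hy13, hy23, ht1, ht2, hY1ne, hY2ne⟩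

open Matrix CfsgLib.ThreeTransp.PauliFour in
theorem model_five {F : Type*} [Field F] (h2 : (2 : F) ≠ 0) (τe : F ≃+* F) {i₀ : F} (hi₀ : i₀ * i₀ = -1)
    (hτi : τe i₀ = -i₀) :
    ∃ W : GL (Fin 4) F, Normal (W : Matrix (Fin 4) (Fin 4) F) ∧
      (W : Matrix (Fin 4) (Fin 4) F)ᵀ * (W : Matrix (Fin 4) (Fin 4) F).map τe = 1 ∧
      (W : Matrix (Fin 4) (Fin 4) F) ^ 5 = 1 ∧ W ≠ 1 := by
  set u : F := (i₀ - 1) / 2 with hu
  set w : F := (-1 - i₀) / 2 with hw
  have hτu : τe u = w := by rw [hu, hw, map_div₀, map_sub, map_one, hτi, map_ofNat]; ring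
  have hτw : τe w = u := by rw [hu, hw, map_div₀, map_sub, map_neg, map_one, hτi, map_ofNat]; ring
  let WM : Matrix (Fin 4) (Fin 4) F := !![u, 0, 0, w; 0, w, -u, 0; u, 0, 0, -w; 0, w, u, 0]
  let W2 : Matrix (Fin 4) (Fin 4) F := !![-(i₀ / 2), i₀ / 2, 1 / 2, 1 / 2; i₀ / 2, i₀ / 2, -(1 / 2), 1 / 2;
    -(i₀ / 2), -(i₀ / 2), -(1 / 2), 1 / 2; -(i₀ / 2), i₀ / 2, -(1 / 2), -(1 / 2)]
  let W4 : Matrix (Fin 4) (Fin 4) F := !![w, 0, w, 0; 0, u, 0, u; 0, -w, 0, w; u, 0, -u, 0]
  have hW2 : WM * WM = W2 := by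
    ext a b; fin_cases a <;> fin_cases b <;> simp [WM, W2, Matrix.mul_apply, Fin.sum_univ_four, hu, hw] <;>
      field_simp <;> grind
  have hW4 : W2 * W2 = W4 := by
    ext a b; fin_cases a <;> fin_cases b <;> simp [W4, W2, Matrix.mul_apply, Fin.sum_univ_four, hu, hw] <;>
      field_simp <;> grind
  have hW5 : W4 * WM = 1 := by
    ext a b; fin_cases a <;> fin_cases b <;> simp [W4, WM, Matrix.mul_apply, Fin.sum_univ_four, hu, hw] <;>
      field_simp <;> grind
  let W : GL (Fin 4) F := ⟨WM, W4, mul_eq_one_comm.1 hW5, hW5⟩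
  have hWpow : WM ^ 5 = 1 := by
    rw [show (5 : ℕ) = (2 + 2) + 1 from rfl, pow_succ, pow_add, pow_two, hW2, hW4, hW5]
  have hWN : Normal WM := normal_of_gen
    ⟨1, gC, by rw [one_smul, P_gA, P_gC]; ext a b; fin_cases a <;> fin_cases b <;> simp [WM, Matrix.mul_apply, Fin.sum_univ_four]⟩
    ⟨sgn F gB gC, gB + gC, by
      rw [show P F (gB + gC) = sgn F gB gC • (P F gB * P F gC) by rw [P_mul, smul_smul, sgn_sq, one_smul],
        smul_smul, sgn_sq, one_smul, P_gB, P_gC]
      ext a b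
      fin_cases a <;> fin_cases b <;> simp [WM, Matrix.mul_apply, Fin.sum_univ_four]⟩
    ⟨sgn F gA gB * sgn F (gA + gB) (gC + gD) * sgn F gC gD, (gA + gB) + (gC + gD), by
      rw [show (sgn F gA gB * sgn F (gA + gB) (gC + gD) * sgn F gC gD) • P F ((gA + gB) + (gC + gD)) =
        P F gA * P F gB * (P F gC * P F gD) by
          rw [P_mul, P_mul, smul_mul_smul_comm, P_mul, smul_smul]; congr 1,
        P_gA, P_gB, P_gC, P_gD]
      ext a b
      fin_cases a <;> fin_cases b <;> simp [WM, Matrix.mul_apply, Fin.sum_univ_four]⟩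
    ⟨-i₀ * sgn F gB gD, gB + gD, by
      rw [show P F (gB + gD) = sgn F gB gD • (P F gB * P F gD) by rw [P_mul, smul_smul, sgn_sq, one_smul],
        smul_smul, mul_assoc, sgn_sq, mul_one, P_gB, P_gD]
      ext a b
      fin_cases a <;> fin_cases b <;>
        simp [WM, Matrix.mul_apply, Fin.sum_univ_four, hu, hw] <;> field_simp <;> grind⟩
  have hWU : WMᵀ * WM.map τe = 1 := by
    ext a b
    fin_cases a <;> fin_cases b <;> simp [WM, Matrix.mul_apply, Fin.sum_univ_four, hτu, hτw] <;> grind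
  have hW1 : W ≠ 1 := fun h => by
    have e0 := congrFun (congrFun (congrArg (fun g : GL (Fin 4) F => (g : Matrix (Fin 4) (Fin 4) F)) h) 0) 3
    simp [W, WM] at e0
    rw [hw] at e0
    field_simp at e0
    exact h2 (by linear_combination (i₀ - 1) * e0 + hi₀)
  exact ⟨W, hWN, hWU, hWpow, hW1⟩

/-- Elements of prime order of PSU_4(p), p ≡ 3 (mod 4), and the normalizer of a 2-group of symplectic type of order 2⁶. Here `T = PSU_4(p)` for a prime `p ≡ 3 (mod 4)`, realised through `SU_4(p)`, the matrices of determinant 1 over the field `F` with `p²` elements preserving the hermitian form `f = Σ uᵢvᵢ^p`; `R` is an absolutely irreducible subgroup of the full unitary group of `f` of order 2⁶ that is a 2-group of symplectic type of exponent 4 with centre of order 4, and `H` is the subgroup of `SU_4(p)` normalizing `R` — a subgroup of type 2⁴.Sp₄(2) (maximality is not assumed). Ω is the set of cosets of `H`, so an element of `T` of prime order `r` (`x ∈ SU_4(p)`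 with `x^r` scalar, `x` not scalar) fixes a point of Ω exactly when some `SU_4(p)`-conjugate of `x` normalizes `R`. Let `r` be a prime dividing the index of `H`. Then every element of `T` of order `r` fixes a point of Ω if and only if `r = 2`, or `r = 3` and `p ≡ 1 (mod 3)`, or `r = 5` and `p ≡ ±2 (mod 5)` (`p` has multiplicative order 4 modulo 5). -/
theorem result {F : Type*} [Field F] [Fintype F] {p : ℕ} [Fact p.Prime] [CharP F p] (hF : Fintype.card F = p ^ 2) (hp4 : p % 4 = 3)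
    (R : Subgroup (GL (Fin 4) F)) (hRs : Cfsg.Geo.IsSymplecticTypeGroup 2 R) (hRi : Cfsg.Geo.ActsAbsolutelyIrreducibly (Cfsg.Geo.matrixSet R))
    (hRU : R ≤ Cfsg.GU 4 F p) (hR6 : Nat.card R = 2 ^ 6) (hRZ : Nat.card (Subgroup.center R) = 4)
    (r : ℕ) [Fact r.Prime]
    (hΩ : r ∣ (Cfsg.Geo.subgroupNormalizer R).relIndex (Cfsg.GU 4 F p ⊓ Cfsg.Geo.specialLinear (Fin 4) F)) :
    (∀ x ∈ Cfsg.GU 4 F p ⊓ Cfsg.Geo.specialLinear (Fin 4) F, (∃ z : F, ((x ^ r : GL (Fin 4) F) : Matrix (Fin 4) (Fin 4) F) = z • (1 : Matrix (Fin 4) (Fin 4) F)) →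
      (∀ z : F, (x : Matrix (Fin 4) (Fin 4) F) ≠ z • (1 : Matrix (Fin 4) (Fin 4) F)) →
      ∃ g ∈ Cfsg.GU 4 F p ⊓ Cfsg.Geo.specialLinear (Fin 4) F, g⁻¹ * x * g ∈ Cfsg.Geo.subgroupNormalizer R) ↔ (r = 2 ∨ (r = 3 ∧ p % 3 = 1) ∨ (r = 5 ∧ orderOf (p : ZMod 5) = 4)) := by
  open Matrix CfsgLib.ThreeTransp CfsgLib.ThreeTransp.PauliFour CfsgLib.ThreeTransp.UnitaryFour Polynomial in
  classical
  have hr : r.Prime := Fact.out
  have hpp : p.Prime := Fact.out
  have hp3le : 3 ≤ p := by have := hpp.two_le; omega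
  have hne : ∀ k : ℕ, 0 < k → k < p → (k : F) ≠ 0 := fun k h0 hk h =>
    absurd (Nat.le_of_dvd h0 ((CharP.cast_eq_zero_iff F p k).1 h)) (by omega)
  have h2 : (2 : F) ≠ 0 := by simpa using hne 2 (by norm_num) (by omega)
  have hprime : ∀ s : ℕ, s.Prime → s ≠ p → (s : F) ≠ 0 := fun s hs hsp h =>
    hsp ((Nat.prime_dvd_prime_iff_eq hpp hs).1 ((CharP.cast_eq_zero_iff F p s).1 h)).symm
  obtain ⟨τe, hU⟩ := CfsgLib.AschbacherForm.exists_uform hF 4
  set τ : F →+* F := (τe : F →+* F) with hτdef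
  have hτ : ∀ a, τ a = a ^ p := hU.pow
  have hτ2 : ∀ a, τ (τ a) = a := hU.invol
  have hτne : τ ≠ RingHom.id F := fun h => hU.ne (RingEquiv.ext fun a => RingHom.congr_fun h a)
  have hI := CfsgLib.KnownB.UnitaryConj.isInvol_adj (n := 4) (σ := τ) hτ2
  have hmem : ∀ g : GL (Fin 4) F, g ∈ Cfsg.GU 4 F p ↔
      (g : Matrix (Fin 4) (Fin 4) F)ᵀ * (g : Matrix (Fin 4) (Fin 4) F).map τe = 1 :=
    fun g => CfsgLib.KnownB.PSLAut.mem_GU_iff hU.pow g
  have hmemA : ∀ g : GL (Fin 4) F, g ∈ Cfsg.GU 4 F p ↔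
      CfsgLib.KnownB.UnitaryConj.adj τ (g : Matrix (Fin 4) (Fin 4) F) * g = 1 :=
    fun g => CfsgLib.KnownB.UnitaryConj.mem_GU_iff_adj (σ := τ) hτ2 hτ g
  have hsl : ∀ v : GL (Fin 4) F, v ∈ Cfsg.Geo.specialLinear (Fin 4) F →
      (v : Matrix (Fin 4) (Fin 4) F).det = 1 := fun v hv => congrArg Units.val hv
  have hdetn : ∀ v : GL (Fin 4) F, v ∈ Cfsg.GU 4 F p →
      (v : Matrix (Fin 4) (Fin 4) F).det * τ (v : Matrix (Fin 4) (Fin 4) F).det = 1 := fun v hv => by
    have := congrArg Matrix.det ((hmem v).1 hv)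
    rwa [det_mul, det_transpose, det_one, ← RingEquiv.mapMatrix_apply, ← RingEquiv.map_det] at this
  obtain ⟨i₀, hi₀⟩ : ∃ i : F, i * i = -1 := by
    obtain ⟨i, hi⟩ := FiniteField.isSquare_neg_one_iff.2 (show Fintype.card F % 4 ≠ 3 by
      rw [hF, Nat.pow_mod, hp4]; norm_num)
    exact ⟨i, hi.symm⟩
  have hi4 : i₀ ^ 4 = 1 := by linear_combination (i₀ * i₀ - 1) * hi₀
  have hτi : τ i₀ = -i₀ := by
    rw [hτ, ← Nat.div_add_mod p 4, pow_add, pow_mul, hi4, one_pow, one_mul, hp4]
    linear_combination i₀ * hi₀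
  have hn4 : ∀ a : F, a ^ 4 = 1 → a * τ a = 1 := fun a ha => by
    rw [hτ, ← pow_succ', show p + 1 = 4 * (p / 4 + 1) by omega, pow_mul, ha, one_pow]
  obtain ⟨Q₀, hQ₀⟩ := exists_frame_of h2 hRs hRi hR6 hRZ
  -- the frame may be taken unitary
  obtain ⟨Q, hQU, hQR⟩ : ∃ Q : GL (Fin 4) F, Q ∈ Cfsg.GU 4 F p ∧ ∀ x : GL (Fin 4) F, x ∈ R ↔
      ∃ (c : F) (k : K), c ^ 4 = 1 ∧ ((Q⁻¹ * x * Q : GL (Fin 4) F) : Matrix (Fin 4) (Fin 4) F) = c • P F k := by
    set M₀ := CfsgLib.KnownB.UnitaryConj.adj τ (Q₀ : Matrix (Fin 4) (Fin 4) F) * Q₀ with hM₀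
    have hcomm : ∀ k : K, CfsgLib.KnownB.UnitaryConj.adj τ (P F k) = P F k → sgn F k k = 1 →
        M₀ * P F k = P F k * M₀ := by
      intro k hk hs
      let Pk : GL (Fin 4) F := ⟨P F k, P F k, by rw [P_sq, hs, one_smul], by rw [P_sq, hs, one_smul]⟩
      have hu := (hmemA _).1 (hRU ((hQ₀ (Q₀ * Pk * Q₀⁻¹)).2 ⟨1, k, one_pow 4, by
        rw [show Q₀⁻¹ * (Q₀ * Pk * Q₀⁻¹) * Q₀ = Pk by group, one_smul]⟩))
      set U := ((Q₀ * Pk * Q₀⁻¹ : GL (Fin 4) F) : Matrix (Fin 4) (Fin 4) F) with hUdef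
      have e : U * (Q₀ : Matrix (Fin 4) (Fin 4) F) = (Q₀ : Matrix (Fin 4) (Fin 4) F) * P F k := by
        rw [hUdef, ← Units.val_mul, inv_mul_cancel_right, Units.val_mul]
      have h1 : CfsgLib.KnownB.UnitaryConj.adj τ (U * (Q₀ : Matrix (Fin 4) (Fin 4) F)) * (U * Q₀) = M₀ := by
        rw [hI.map_mul, mul_assoc, ← mul_assoc _ U, hu, one_mul]
      rw [e, hI.map_mul, hk] at h1
      calc M₀ * P F k = (P F k * P F k) * (M₀ * P F k) := by rw [P_sq, hs, one_smul, one_mul]
        _ = P F k * (P F k * (CfsgLib.KnownB.UnitaryConj.adj τ (Q₀ : Matrix (Fin 4) (Fin 4) F)) * (Q₀ * P F k)) := by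
          rw [hM₀]; simp only [mul_assoc]
        _ = _ := by rw [h1]
    have hA : ∀ k : K, k = gA ∨ k = gB ∨ k = gC ∨ k = gD →
        CfsgLib.KnownB.UnitaryConj.adj τ (P F k) = P F k ∧ sgn F k k = 1 := by
      rintro k (rfl | rfl | rfl | rfl) <;> refine ⟨?_, by simp [sgn, gA, gB, gC, gD,
        CfsgLib.AschbacherForm.Cases.pairBit, CfsgLib.AschbacherForm.Cases.bitSign]⟩ <;>
        (simp only [P_gA, P_gB, P_gC, P_gD]; ext a b
         fin_cases a <;> fin_cases b <;> simp [CfsgLib.KnownB.UnitaryConj.adj])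
    have hsc := scalar_of_commute h2 (hcomm gA (hA _ (by simp)).1 (hA _ (by simp)).2)
      (hcomm gB (hA _ (by simp)).1 (hA _ (by simp)).2) (hcomm gC (hA _ (by simp)).1 (hA _ (by simp)).2)
      (hcomm gD (hA _ (by simp)).1 (hA _ (by simp)).2)
    set l := M₀ 0 0
    have hl0 : l ≠ 0 := fun h0 => by
      rw [h0, zero_smul] at hsc
      have hu : IsUnit M₀ := (CfsgLib.KnownB.UnitaryConj.isUnit_adj Q₀).mul Q₀.isUnit
      rw [hsc] at hu
      exact not_isUnit_zero hu
    have hlfix : τ l = l := by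
      have e : CfsgLib.KnownB.UnitaryConj.adj τ M₀ = M₀ := by
        rw [hM₀, hI.map_mul]; congr 1
        ext a b; simp [CfsgLib.KnownB.UnitaryConj.adj, hτ2]
      exact congrFun (congrFun e 0) 0
    obtain ⟨a, ha⟩ := CfsgLib.Geometry.exists_norm_eq hτne hτ2 (c := l⁻¹) (by rw [map_inv₀, hlfix])
    have ha' : a * τ a = l⁻¹ := ha
    have ha0 : a ≠ 0 := fun h0 => by rw [h0, zero_mul] at ha'; exact inv_ne_zero hl0 ha'.symm
    let Sa : GL (Fin 4) F := ⟨a • 1, a⁻¹ • 1, by rw [smul_mul_smul_comm, mul_inv_cancel₀ ha0, one_smul, one_mul],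
      by rw [smul_mul_smul_comm, inv_mul_cancel₀ ha0, one_smul, one_mul]⟩
    have hSc : ∀ u : GL (Fin 4) F, u * Sa = Sa * u := fun u => Units.ext (by
      show (u : Matrix (Fin 4) (Fin 4) F) * (a • 1) = (a • 1) * u
      rw [mul_smul_comm, mul_one, smul_mul_assoc, one_mul])
    refine ⟨Q₀ * Sa, (hmemA _).2 ?_, fun x => ?_⟩
    · rw [Units.val_mul, show (Sa : Matrix (Fin 4) (Fin 4) F) = a • 1 from rfl, mul_smul_comm, mul_one,
        CfsgLib.KnownB.UnitaryConj.adj_smul, smul_mul_smul_comm, ← hM₀, hsc, smul_smul,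
        show τ a * a * l = 1 by rw [mul_comm (τ a), ha', inv_mul_cancel₀ hl0], one_smul]
    · rw [show (Q₀ * Sa)⁻¹ * x * (Q₀ * Sa) = Sa⁻¹ * ((Q₀⁻¹ * x * Q₀) * Sa) by group, hSc, inv_mul_cancel_left]
      exact hQ₀ x
  have hsgn4 : ∀ k : K, sgn F k k * sgn F k k = 1 := fun k => sgn_sq k k
  have hpow : ∀ (k : K), (P F k) ^ 4 = 1 := fun k => by
    rw [show P F k ^ 4 = (P F k * P F k) * (P F k * P F k) by simp [pow_succ, mul_assoc], P_sq, smul_mul_smul_comm, one_mul, hsgn4, one_smul]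
  have hmap : ∀ y : GL (Fin 4) F, Normal (y : Matrix (Fin 4) (Fin 4) F) →
      Q * y * Q⁻¹ ∈ Cfsg.Geo.subgroupNormalizer R := by
    intro y hy
    set Y := Q * y * Q⁻¹ with hY
    have hle : R.map (MulAut.conj Y).toMonoidHom ≤ R := by
      rintro _ ⟨v, hv, rfl⟩
      obtain ⟨c, k, hc, hk⟩ := (hQR v).1 hv
      obtain ⟨d, l, hdl⟩ := hy k
      have e : Q⁻¹ * (Y * v * Y⁻¹) * Q = y * (Q⁻¹ * v * Q) * y⁻¹ := by rw [hY]; group
      have hval : ((Q⁻¹ * (Y * v * Y⁻¹) * Q : GL (Fin 4) F) : Matrix (Fin 4) (Fin 4) F) = (c * d) • P F l := by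
        rw [e, Units.val_mul, Units.val_mul, hk, mul_smul_comm, hdl, smul_mul_assoc, mul_assoc, Units.mul_inv,
          mul_one, smul_smul]
      refine (hQR _).2 ⟨c * d, l, ?_, hval⟩
      have hv4 : v ^ 4 = 1 := by
        have := Monoid.pow_exponent_eq_one (⟨v, hv⟩ : R)
        rw [hRs.exponent_eq] at this
        exact congrArg Subtype.val this
      have h4 : (Q⁻¹ * (Y * v * Y⁻¹) * Q) ^ 4 = 1 := by
        have h := conj_pow (a := Q⁻¹ * Y) (b := v) (i := 4)
        rw [hv4, mul_one, mul_inv_cancel] at h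
        rw [← h]
        congr 1
        group
      have h5 := congrArg Units.val h4
      rw [Units.val_pow_eq_pow_val, hval, _root_.smul_pow, hpow, Units.val_one] at h5
      simpa using congrFun (congrFun h5 0) 0
    have heq := Subgroup.eq_of_le_of_card_ge hle
      (le_of_eq (Subgroup.card_map_of_injective (MulAut.conj Y).injective).symm)
    show Y ∈ Subgroup.normalizer (R : Set (GL (Fin 4) F))
    rw [Subgroup.mem_normalizer_iff]
    intro v
    refine ⟨fun hv => heq ▸ ⟨v, hv, rfl⟩, fun hv => ?_⟩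
    rw [← heq] at hv
    obtain ⟨v', hv', hvv⟩ := hv
    exact (MulAut.conj Y).injective hvv ▸ hv'
  have hmap' : ∀ Y ∈ Cfsg.Geo.subgroupNormalizer R, Normal ((Q⁻¹ * Y * Q : GL (Fin 4) F) : Matrix (Fin 4) (Fin 4) F) := by
    intro Y hY k
    let Pk : GL (Fin 4) F := ⟨P F k, sgn F k k • P F k, P_cancel k, by rw [smul_mul_assoc, ← mul_smul_comm, P_cancel]⟩
    have hu : Q * Pk * Q⁻¹ ∈ R := (hQR _).2 ⟨1, k, one_pow 4, by
      rw [show Q⁻¹ * (Q * Pk * Q⁻¹) * Q = Pk by group, one_smul]⟩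
    obtain ⟨c, l, -, hcl⟩ := (hQR _).1 ((Subgroup.mem_normalizer_iff.1 hY _).1 hu)
    refine ⟨c, l, ?_⟩
    rw [← hcl, ← show (Pk : Matrix (Fin 4) (Fin 4) F) = P F k from rfl, ← Units.val_mul, ← Units.val_mul]
    congr 1
    group
  constructor
  · intro h
    by_contra hcon
    push Not at hcon
    obtain ⟨hr2, hr3, hr5⟩ := hcon
    suffices hbad : ∃ x : GL (Fin 4) F, x ∈ Cfsg.GU 4 F p ∧ (x : Matrix (Fin 4) (Fin 4) F).det = 1 ∧
        (x : Matrix (Fin 4) (Fin 4) F) ^ r = 1 ∧ (∀ z : F, (x : Matrix (Fin 4) (Fin 4) F) ≠ z • 1) ∧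
        ∀ c : GL (Fin 4) F, ¬ Normal ((c⁻¹ * x * c : GL (Fin 4) F) : Matrix (Fin 4) (Fin 4) F) by
      obtain ⟨x, hxU, hxd, hxr, hns, hnot⟩ := hbad
      obtain ⟨g, -, hn⟩ := h x (Subgroup.mem_inf.2 ⟨hxU, Units.ext hxd⟩)
        ⟨1, by rw [Units.val_pow_eq_pow_val, hxr, one_smul]⟩ hns
      refine hnot (g * Q) ?_
      have := hmap' _ hn
      rwa [show (g * Q)⁻¹ * x * (g * Q) = Q⁻¹ * (g⁻¹ * x * g) * Q by group]
    have hconj : ∀ (x c : GL (Fin 4) F), (x : Matrix (Fin 4) (Fin 4) F) ^ r = 1 →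
        (∀ z : F, (x : Matrix (Fin 4) (Fin 4) F) ≠ z • 1) →
        Normal ((c⁻¹ * x * c : GL (Fin 4) F) : Matrix (Fin 4) (Fin 4) F) →
        ∃ s : ℕ, (x : Matrix (Fin 4) (Fin 4) F).trace * ((x⁻¹ : GL (Fin 4) F) : Matrix (Fin 4) (Fin 4) F).trace = s ∧
          (r = 3 ∧ (s = 1 ∨ s = 4) ∨ r = 5 ∧ s = 1) := by
      intro x c hxr hns hN
      obtain ⟨s, hs, hs'⟩ := normal_count h2 hr hr2 (y := c⁻¹ * x * c) (by
        rw [← Units.val_pow_eq_pow_val]
        have hc := conj_pow (a := c⁻¹) (b := x) (i := r)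
        rw [inv_inv] at hc
        rw [hc, show x ^ r = 1 from Units.ext (by rw [Units.val_pow_eq_pow_val, hxr, Units.val_one]), mul_one,
          inv_mul_cancel, Units.val_one]) hN (fun z hz => hns z (by
        calc (x : Matrix (Fin 4) (Fin 4) F) = (c * (c⁻¹ * x * c) * c⁻¹ : GL (Fin 4) F) := by
              rw [show c * (c⁻¹ * x * c) * c⁻¹ = x by group]
          _ = z • 1 := by
            rw [Units.val_mul, Units.val_mul, hz, mul_smul_comm, mul_one, smul_mul_assoc, Units.mul_inv]))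
      refine ⟨s, ?_, hs'⟩
      rw [← hs, show (c⁻¹ * x * c)⁻¹ = c⁻¹ * x⁻¹ * c by group, Units.val_mul (c⁻¹ * x) c, Units.val_mul c⁻¹ x,
        Units.val_mul (c⁻¹ * x⁻¹) c, Units.val_mul c⁻¹ x⁻¹, Matrix.coe_units_inv c, Matrix.trace_mul_cycle,
        Matrix.trace_mul_cycle _ ((x⁻¹ : GL (Fin 4) F) : Matrix (Fin 4) (Fin 4) F), Matrix.mul_nonsing_inv _
          ((Matrix.isUnit_iff_isUnit_det _).1 c.isUnit), one_mul, one_mul]
    by_cases hr3' : r = 3
    · subst hr3'
      by_cases hp : p = 3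
      · subst hp
        obtain ⟨l, hl0, hl⟩ : ∃ l : F, l ≠ 0 ∧ τ l = -l := by
          refine ⟨i₀, fun h0 => ?_, hτi⟩
          rw [h0] at hi4; simp at hi4
        obtain ⟨μ, hμ⟩ := CfsgLib.Geometry.exists_norm_eq hτne hτ2 (c := (-1 : F)) (by simp)
        have hμ' : μ * τ μ = -1 := hμ
        let v : Fin 4 → F := ![1, μ, 0, 0]
        let bv : Fin 4 → F := ![l, l * τ μ, 0, 0]
        have hbv : bv ⬝ᵥ v = 0 := by
          simp [v, bv, dotProduct, Fin.sum_univ_four]; linear_combination l * hμ'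
        let X₀ : Matrix (Fin 4) (Fin 4) F := 1 + vecMulVec v bv
        have hsq : vecMulVec v bv * vecMulVec v bv = 0 := by
          rw [vecMulVec_mul_vecMulVec, hbv]; simp
        have hne0 : vecMulVec v bv ≠ 0 := fun h0 => hl0 (by simpa [v, bv, vecMulVec_apply] using congrFun (congrFun h0 0) 0)
        let x : GL (Fin 4) F := ⟨X₀, 1 - vecMulVec v bv,
          by show (1 + vecMulVec v bv) * _ = 1; rw [add_mul, one_mul, mul_sub, mul_one, hsq]; abel,
          by show _ * (1 + vecMulVec v bv) = 1; rw [sub_mul, one_mul, mul_add, mul_one, hsq]; abel⟩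
        have h3F : (3 : F) = 0 := by exact_mod_cast CharP.cast_eq_zero F 3
        have hx3 : (x : Matrix (Fin 4) (Fin 4) F) ^ 3 = 1 := by
          show (1 + vecMulVec v bv) ^ 3 = 1
          rw [pow_succ, pow_two]
          simp only [add_mul, mul_add, one_mul, mul_one, hsq, add_zero]
          calc _ = 1 + (3 : F) • vecMulVec v bv := by module
            _ = 1 := by rw [h3F, zero_smul, add_zero]
        refine ⟨x, (hmem x).2 ?_, ?_, hx3, fun z hz => ?_, fun c hN => ?_⟩
        · show (1 + vecMulVec v bv)ᵀ * (1 + vecMulVec v bv).map τe = 1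
          have hl' : τe l = -l := hl
          have hμ'' : μ * τe μ = -1 := hμ'
          have hτ2' : ∀ a, τe (τe a) = a := hτ2
          ext a b
          fin_cases a <;> fin_cases b <;>
            simp [v, bv, Matrix.mul_apply, Fin.sum_univ_four, vecMulVec_apply, hl', hτ2', hτdef] <;> grind
        · show (1 + vecMulVec v bv).det = 1
          rw [Matrix.vecMulVec_eq Unit, Matrix.det_one_add_replicateCol_mul_replicateRow, hbv, add_zero]
        · have e0 := congrFun (congrFun hz 0) 1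
          simp [x, X₀, v, bv, vecMulVec_apply, hl0] at e0
          rw [e0, zero_mul] at hμ'
          exact neg_ne_zero.2 one_ne_zero hμ'.symm
        · refine not_normal_transvection h2 (y := c⁻¹ * x * c)
            (a := ((c⁻¹ : GL (Fin 4) F) : Matrix (Fin 4) (Fin 4) F) *ᵥ v) (b := bv ᵥ* (c : Matrix (Fin 4) (Fin 4) F))
            ?_ ?_ ?_ ?_ hN
          · rw [Units.val_mul, Units.val_mul, show (x : Matrix (Fin 4) (Fin 4) F) = 1 + vecMulVec v bv from rfl,
              mul_add, mul_one, add_mul, Units.inv_mul, mul_vecMulVec, vecMulVec_mul]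
          · rw [← dotProduct_mulVec, mulVec_mulVec, Units.mul_inv, one_mulVec, hbv]
          · rw [← mul_vecMulVec, ← vecMulVec_mul]
            intro h0
            apply hne0
            calc vecMulVec v bv = (c : Matrix (Fin 4) (Fin 4) F) * (((c⁻¹ : GL (Fin 4) F) : Matrix (Fin 4) (Fin 4) F) *
                  (vecMulVec v bv * c)) * ((c⁻¹ : GL (Fin 4) F) : Matrix (Fin 4) (Fin 4) F) := by
                  rw [Units.mul_inv_cancel_left, Units.mul_inv_cancel_right]
              _ = 0 := by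
                rw [h0, mul_zero, zero_mul]
          · have hc := conj_pow (a := c⁻¹) (b := x) (i := 3)
            rw [inv_inv] at hc
            rw [← Units.val_pow_eq_pow_val, hc, show x ^ 3 = 1 from Units.ext (by
              rw [Units.val_pow_eq_pow_val, hx3, Units.val_one]), mul_one, inv_mul_cancel, Units.val_one]
      have hp3 : p % 3 = 2 := by
        have := hr3 rfl
        rcases (show p % 3 = 0 ∨ p % 3 = 1 ∨ p % 3 = 2 by omega) with h0 | h0 | h0
        · exact absurd ((Nat.prime_dvd_prime_iff_eq Nat.prime_three hpp).1 (Nat.dvd_of_mod_eq_zero h0)).symm hp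
        · exact absurd h0 this
        · exact h0
      have h3 : (3 : F) ≠ 0 := by exact_mod_cast hprime 3 Nat.prime_three (Ne.symm hp)
      obtain ⟨ωu, hωu⟩ := exists_prime_orderOf_dvd_card 3 (G := Fˣ) (by
        rw [Fintype.card_units, hF]
        have : p ^ 2 % 3 = 1 := by rw [Nat.pow_mod, hp3]
        omega)
      set ω : F := (ωu : F) with hω
      have hω3 : ω ^ 3 = 1 := by rw [hω, ← Units.val_pow_eq_pow_val, ← hωu, pow_orderOf_eq_one, Units.val_one]
      have hω1 : ω ≠ 1 := fun h1 => by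
        rw [show ωu = 1 from Units.ext h1, orderOf_one] at hωu
        exact absurd hωu (by norm_num)
      have hωn : ω * τ ω = 1 := by
        rw [hτ, ← pow_succ', show p + 1 = 3 * (p / 3 + 1) by omega, pow_mul, hω3, one_pow]
      have hsum : 1 + ω + ω ^ 2 = 0 := (mul_eq_zero.1 (show (ω - 1) * (1 + ω + ω ^ 2) = 0 by
        linear_combination hω3)).resolve_left (sub_ne_zero.2 hω1)
      let x : GL (Fin 4) F := ⟨diagonal ![ω, ω, ω, 1], diagonal ![ω ^ 2, ω ^ 2, ω ^ 2, 1],
        by rw [diagonal_mul_diagonal, ← diagonal_one]; congr 1; funext j; fin_cases j <;> simp <;> linear_combination hω3,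
        by rw [diagonal_mul_diagonal, ← diagonal_one]; congr 1; funext j; fin_cases j <;> simp <;> linear_combination hω3⟩
      have hns : ∀ z : F, (x : Matrix (Fin 4) (Fin 4) F) ≠ z • 1 := fun z hz => by
        have e0 := congrFun (congrFun hz 0) 0
        have e3 := congrFun (congrFun hz 3) 3
        simp [x] at e0 e3
        exact hω1 (e0.trans e3.symm)
      have hxr : (x : Matrix (Fin 4) (Fin 4) F) ^ 3 = 1 := by
        show (diagonal ![ω, ω, ω, 1]) ^ 3 = 1
        rw [diagonal_pow, ← diagonal_one]; congr 1; funext j; fin_cases j <;> simp [hω3]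
      refine ⟨x, (hmem x).2 ?_, ?_, hxr, hns, fun c hN => ?_⟩
      · show (diagonal ![ω, ω, ω, 1])ᵀ * (diagonal ![ω, ω, ω, 1]).map τe = 1
        rw [diagonal_transpose, diagonal_map (map_zero τe), diagonal_mul_diagonal, ← diagonal_one]
        congr 1
        funext j; fin_cases j <;> simp <;> exact hωn
      · show (diagonal ![ω, ω, ω, 1]).det = 1
        simp [det_diagonal, Fin.prod_univ_four]
        linear_combination hω3
      obtain ⟨s, hs, hs'⟩ := hconj x c hxr hns hN
      have e : (7 : F) = s := by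
        rw [← hs]
        show (7 : F) = (diagonal ![ω, ω, ω, 1]).trace * (diagonal ![ω ^ 2, ω ^ 2, ω ^ 2, 1]).trace
        simp [trace_diagonal, Fin.sum_univ_four]
        linear_combination (-9 : F) * hω3 - 3 * hsum
      rcases hs' with ⟨-, rfl | rfl⟩ | ⟨h5, -⟩
      · exact mul_ne_zero h2 h3 (by push_cast at e; linear_combination e)
      · exact h3 (by push_cast at e; linear_combination e)
      · exact absurd h5 (by norm_num)
    by_cases hr5' : r = 5
    · subst hr5'
      have hord := hr5 rfl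
      have hp : p ≠ 5 := by omega
      have h5F : (5 : F) ≠ 0 := by exact_mod_cast hprime 5 (by norm_num) (Ne.symm hp)
      have h05 : p % 5 ≠ 0 := fun h0 =>
        hp ((Nat.prime_dvd_prime_iff_eq (by norm_num) hpp).1 (Nat.dvd_of_mod_eq_zero h0)).symm
      have hp5 : p % 5 = 1 ∨ p % 5 = 4 := by
        have := mt (ord_four_iff h05).2 hord
        omega
      obtain ⟨ζu, hζu⟩ := exists_prime_orderOf_dvd_card 5 (G := Fˣ) (by
        rw [Fintype.card_units, hF]
        have : p ^ 2 % 5 = 1 := by rcases hp5 with e | e <;> rw [Nat.pow_mod, e]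
        omega)
      set ζ : F := (ζu : F) with hζ
      have hζ5 : ζ ^ 5 = 1 := by rw [hζ, ← Units.val_pow_eq_pow_val, ← hζu, pow_orderOf_eq_one, Units.val_one]
      have hζ1 : ζ ≠ 1 := fun h1 => by
        rw [show ζu = 1 from Units.ext h1, orderOf_one] at hζu
        exact absurd hζu (by norm_num)
      have hz4 : 1 + ζ + ζ ^ 2 + ζ ^ 3 + ζ ^ 4 = 0 := (mul_eq_zero.1 (show (ζ - 1) * (1 + ζ + ζ ^ 2 + ζ ^ 3 + ζ ^ 4) = 0 by
        linear_combination hζ5)).resolve_left (sub_ne_zero.2 hζ1)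
      set T := ζ + ζ ^ 4 with hT
      have hτ2' : T ^ 2 + T - 1 = 0 := by rw [hT]; linear_combination hz4 + (2 + ζ ^ 3) * hζ5
      have hTfix : τ T = T := by
        rw [hT, map_add, map_pow, hτ, ← Nat.div_add_mod p 5, pow_add, pow_mul, hζ5, one_pow, one_mul]
        rcases hp5 with e | e <;> rw [e]
        · rw [pow_one]
        · linear_combination (ζ ^ 11 + ζ ^ 6 + ζ) * hζ5
      have hTfix' : τe T = T := hTfix
      clear_value T
      have h4 : (4 : F) ≠ 0 := two_ne h2
      obtain ⟨b, hb⟩ := CfsgLib.Geometry.exists_norm_eq hτne hτ2 (c := 1 - T * T / 4) (by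
        rw [map_sub, map_one, map_div₀, map_mul, hTfix, map_ofNat])
      have hb' : b * τe b = 1 - T * T / 4 := hb
      set A : Matrix (Fin 2) (Fin 2) F := !![T / 2, b; -τe b, T / 2] with hA
      set A' : Matrix (Fin 2) (Fin 2) F := !![T / 2, -b; τe b, T / 2] with hA'
      obtain ⟨hAA, hA5⟩ : A * A' = 1 ∧ A ^ 5 = 1 := unitary_five h2 hτ2' hb'
      let φ : Matrix (Fin 2) (Fin 2) F →* Matrix (Fin 4) (Fin 4) F :=
        { toFun := fun M => !![M 0 0, M 0 1, 0, 0; M 1 0, M 1 1, 0, 0; 0, 0, 1, 0; 0, 0, 0, 1]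
          map_one' := by ext i j; fin_cases i <;> fin_cases j <;> simp
          map_mul' := fun M N => by
            ext i j; fin_cases i <;> fin_cases j <;> simp [Matrix.mul_apply, Fin.sum_univ_four] }
      let x : GL (Fin 4) F := ⟨φ A, φ A', by rw [← map_mul, hAA, map_one],
        by rw [← map_mul, mul_eq_one_comm.1 hAA, map_one]⟩
      have hns : ∀ z : F, (x : Matrix (Fin 4) (Fin 4) F) ≠ z • 1 := fun z hz => by
        have e0 := congrFun (congrFun hz 0) 0
        have e3 := congrFun (congrFun hz 3) 3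
        simp [x, φ, hA] at e0 e3
        exact h5F (by field_simp at e0; linear_combination hτ2' - (T + 3) * (e0 - 2 * e3))
      have hxr : (x : Matrix (Fin 4) (Fin 4) F) ^ 5 = 1 := by
        show φ A ^ 5 = 1
        rw [← map_pow, hA5, map_one]
      refine ⟨x, (hmem x).2 ?_, ?_, hxr, hns, fun c hN => ?_⟩
      · show (φ A)ᵀ * (φ A).map τe = 1
        have : ∀ a, τe (τe a) = a := hτ2
        ext i j
        fin_cases i <;> fin_cases j <;>
          simp [φ, hA, Matrix.mul_apply, Fin.sum_univ_four, this, hTfix', map_div₀, map_ofNat] <;> field_simp at hb' ⊢ <;>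
          grind
      · show (φ A).det = 1
        simp [φ, hA, Matrix.det_succ_row_zero, Fin.sum_univ_succ, Fin.succAbove]
        first
        | linear_combination hb'
        | (field_simp at hb'; linear_combination hb')
        | (field_simp at hb' ⊢; linear_combination hb')
      obtain ⟨s, hs, hs'⟩ := hconj x c hxr hns hN
      obtain ⟨-, rfl⟩ := hs'.resolve_left (fun h' => by omega)
      have e : (T + 2) * (T + 2) = 1 := by
        rw [← (show ((1 : ℕ) : F) = 1 from Nat.cast_one), ← hs]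
        show _ = (φ A).trace * (φ A').trace
        simp [φ, Matrix.trace, Fin.sum_univ_four, hA, hA']
        field_simp
        ring
      exact h5F (by linear_combination (3 * T - 1) * (e - hτ2') - (9 : F) * hτ2')
    have hr7 : 7 ≤ r := by
      have := hr.two_le
      by_contra h'
      interval_cases r <;> first | omega | exact absurd hr (by norm_num)
    obtain ⟨x, hx⟩ := exists_prime_orderOf_dvd_card' r
      (G := ↥(Cfsg.GU 4 F p ⊓ Cfsg.Geo.specialLinear (Fin 4) F)) (hΩ.trans (Subgroup.relIndex_dvd_card _ _))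
    rw [← Subgroup.orderOf_coe] at hx
    have hxd := hsl _ (Subgroup.mem_inf.1 x.2).2
    have hxr : ((x : GL (Fin 4) F) : Matrix (Fin 4) (Fin 4) F) ^ r = 1 := by
      rw [← Units.val_pow_eq_pow_val, ← hx, pow_orderOf_eq_one, Units.val_one]
    have hns : ∀ z : F, ((x : GL (Fin 4) F) : Matrix (Fin 4) (Fin 4) F) ≠ z • 1 := fun z hz => by
      have hd := hxd
      rw [hz, det_smul, det_one, mul_one, Fintype.card_fin] at hd
      have : (x : GL (Fin 4) F) ^ 4 = 1 := Units.ext (by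
        rw [Units.val_pow_eq_pow_val, hz, _root_.smul_pow, one_pow, Units.val_one, hd, one_smul])
      have := Nat.le_of_dvd (by norm_num) (hx ▸ orderOf_dvd_of_pow_eq_one this)
      omega
    refine ⟨x, (Subgroup.mem_inf.1 x.2).1, hxd, hxr, hns, fun c hN => ?_⟩
    obtain ⟨s, -, hs'⟩ := hconj _ c hxr hns hN
    omega
  · intro hr' x hx ⟨z, hz⟩ hns
    have hxU := (Subgroup.mem_inf.1 hx).1
    have dx := hsl x (Subgroup.mem_inf.1 hx).2
    rw [Units.val_pow_eq_pow_val] at hz
    have hz4 : z ^ 4 = 1 := by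
      have h := congrArg Matrix.det hz
      rw [det_pow, dx, one_pow, det_smul, det_one, mul_one, Fintype.card_fin] at h
      exact h.symm
    have hz0 : z ≠ 0 := fun h0 => by rw [h0, zero_pow (by norm_num)] at hz4; exact zero_ne_one hz4
    -- the unitary element proportional to `x`
    have hscale : ∀ μ : F, μ * τ μ = 1 → μ ^ r = z → ∃ y : GL (Fin 4) F, y ∈ Cfsg.GU 4 F p ∧
        (y : Matrix (Fin 4) (Fin 4) F) = μ⁻¹ • (x : Matrix (Fin 4) (Fin 4) F) ∧
        (y : Matrix (Fin 4) (Fin 4) F) ^ r = 1 ∧ (∀ c : F, (y : Matrix (Fin 4) (Fin 4) F) ≠ c • 1) := by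
      intro μ hμ hμz
      have hμ0 : μ ≠ 0 := fun h0 => by rw [h0, zero_mul] at hμ; exact zero_ne_one hμ
      let y : GL (Fin 4) F := ⟨μ⁻¹ • (x : Matrix (Fin 4) (Fin 4) F), μ • ((x⁻¹ : GL (Fin 4) F) : Matrix (Fin 4) (Fin 4) F),
        by rw [smul_mul_smul_comm, inv_mul_cancel₀ hμ0, one_smul, Units.mul_inv],
        by rw [smul_mul_smul_comm, mul_inv_cancel₀ hμ0, one_smul, Units.inv_mul]⟩
      refine ⟨y, (hmemA y).2 ?_, rfl, ?_, fun c hc => hns (μ * c) ?_⟩
      · show CfsgLib.KnownB.UnitaryConj.adj τ (μ⁻¹ • (x : Matrix (Fin 4) (Fin 4) F)) * (μ⁻¹ • _) = 1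
        rw [CfsgLib.KnownB.UnitaryConj.adj_smul, smul_mul_smul_comm, (hmemA x).1 hxU, map_inv₀, ← mul_inv, mul_comm,
          hμ, inv_one, one_smul]
      · show (μ⁻¹ • (x : Matrix (Fin 4) (Fin 4) F)) ^ r = 1
        rw [_root_.smul_pow, hz, smul_smul, inv_pow, hμz, inv_mul_cancel₀ hz0, one_smul]
      · calc (x : Matrix (Fin 4) (Fin 4) F) = μ • (μ⁻¹ • (x : Matrix (Fin 4) (Fin 4) F)) := by
              rw [smul_smul, mul_inv_cancel₀ hμ0, one_smul]
          _ = _ := by rw [show μ⁻¹ • (x : Matrix (Fin 4) (Fin 4) F) = c • 1 from hc, smul_smul]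
    -- conjugation into the normaliser
    have fin : ∀ (μ : F) (y M Δ : GL (Fin 4) F), μ * τ μ = 1 → y ∈ Cfsg.GU 4 F p → M ∈ Cfsg.GU 4 F p →
        Δ ∈ Cfsg.GU 4 F p → (y : Matrix (Fin 4) (Fin 4) F) = μ⁻¹ • (x : Matrix (Fin 4) (Fin 4) F) →
        Normal (M : Matrix (Fin 4) (Fin 4) F) → (r : F) ≠ 0 →
        (y : Matrix (Fin 4) (Fin 4) F) ^ r = 1 → (M : Matrix (Fin 4) (Fin 4) F) ^ r = 1 →
        (Δ : Matrix (Fin 4) (Fin 4) F) ^ r = 1 →
        (y : Matrix (Fin 4) (Fin 4) F).charpoly = (Δ : Matrix (Fin 4) (Fin 4) F).charpoly →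
        (M : Matrix (Fin 4) (Fin 4) F).charpoly = (Δ : Matrix (Fin 4) (Fin 4) F).charpoly →
        (∀ t : F, t * τ t = 1 → ∃ h : GL (Fin 4) F, h ∈ Cfsg.GU 4 F p ∧ h * Δ = Δ * h ∧
          (h : Matrix (Fin 4) (Fin 4) F).det = t) →
        ∃ g ∈ Cfsg.GU 4 F p ⊓ Cfsg.Geo.specialLinear (Fin 4) F, g⁻¹ * x * g ∈ Cfsg.Geo.subgroupNormalizer R := by
      intro μ y M Δ hμ hyU hMU hΔU hy hM hrF hyr hMr hΔr hcy hcM hcent
      have hμ0 : μ ≠ 0 := fun h0 => by rw [h0, zero_mul] at hμ; exact zero_ne_one hμ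
      have conjU : ∀ a b : GL (Fin 4) F, a ∈ Cfsg.GU 4 F p → b ∈ Cfsg.GU 4 F p →
          (a : Matrix (Fin 4) (Fin 4) F) ^ r = 1 → (b : Matrix (Fin 4) (Fin 4) F) ^ r = 1 →
          (a : Matrix (Fin 4) (Fin 4) F).charpoly = (b : Matrix (Fin 4) (Fin 4) F).charpoly →
          ∃ u ∈ Cfsg.GU 4 F p, u * a = b * u := by
        intro a b ha hb har hbr hab
        obtain ⟨k, hk⟩ := isConj_iff.1 (CfsgLib.KnownB.Semisimple.isConj_of_charpoly
          (CycloClass.semisimple hrF har) (CycloClass.semisimple hrF hbr) hab)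
        obtain ⟨u, hu, hua⟩ := CfsgLib.KnownB.UnitaryConj.exists_unitary_conjugator hτne hτ2 ((hmemA a).1 ha)
          ((hmemA b).1 hb) (h := k) (by rw [← hk, inv_mul_cancel_right])
        exact ⟨u, (hmemA u).2 hu, hua⟩
      obtain ⟨u₁, hu₁, e₁⟩ := conjU y Δ hyU hΔU hyr hΔr hcy
      obtain ⟨u₂, hu₂, e₂⟩ := conjU Δ M hΔU hMU hΔr hMr hcM.symm
      set t₀ := ((Q * u₂ * u₁ : GL (Fin 4) F) : Matrix (Fin 4) (Fin 4) F).det with ht₀
      have hn₀ : t₀ * τ t₀ = 1 := hdetn _ (mul_mem (mul_mem hQU hu₂) hu₁)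
      have ht0 : t₀ ≠ 0 := fun h0 => by rw [h0, zero_mul] at hn₀; exact zero_ne_one hn₀
      obtain ⟨h, hhU, hhc, hhd⟩ := hcent t₀⁻¹ (by rw [map_inv₀, ← mul_inv, hn₀, inv_one])
      refine ⟨(Q * u₂ * h * u₁)⁻¹, inv_mem (Subgroup.mem_inf.2
        ⟨mul_mem (mul_mem (mul_mem hQU hu₂) hhU) hu₁, Units.ext ?_⟩), ?_⟩
      · show ((Q * u₂ * h * u₁ : GL (Fin 4) F) : Matrix (Fin 4) (Fin 4) F).det = 1
        rw [Units.val_mul _ u₁, Units.val_mul _ h, det_mul, det_mul, hhd, mul_right_comm, ← det_mul, ← Units.val_mul,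
          ← ht₀, mul_inv_cancel₀ ht0]
      rw [inv_inv]
      let S : GL (Fin 4) F := ⟨μ • 1, μ⁻¹ • 1, by rw [smul_mul_smul_comm, mul_inv_cancel₀ hμ0, one_smul, one_mul],
        by rw [smul_mul_smul_comm, inv_mul_cancel₀ hμ0, one_smul, one_mul]⟩
      have hSc : ∀ u : GL (Fin 4) F, u * S = S * u := fun u => Units.ext (by
        show (u : Matrix (Fin 4) (Fin 4) F) * (μ • 1) = (μ • 1) * u
        rw [mul_smul_comm, mul_one, smul_mul_assoc, one_mul])
      have hxy : x = S * y := Units.ext (by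
        rw [Units.val_mul, show (S : Matrix (Fin 4) (Fin 4) F) = μ • 1 from rfl, smul_mul_assoc, one_mul, hy, smul_smul,
          mul_inv_cancel₀ hμ0, one_smul])
      have e : Q * u₂ * h * u₁ * x * (Q * u₂ * h * u₁)⁻¹ = Q * (S * M) * Q⁻¹ := by
        calc _ = Q * (u₂ * (h * ((u₁ * S) * y))) * (Q * u₂ * h * u₁)⁻¹ := by rw [hxy]; group
          _ = Q * (u₂ * (h * (S * (Δ * u₁)))) * (Q * u₂ * h * u₁)⁻¹ := by rw [hSc u₁, mul_assoc S u₁ y, e₁]
          _ = Q * ((u₂ * S) * (Δ * (h * u₁))) * (Q * u₂ * h * u₁)⁻¹ := by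
            rw [← mul_assoc h S, hSc h, mul_assoc S h, ← mul_assoc h Δ, hhc, mul_assoc Δ, mul_assoc u₂ S]
          _ = Q * (S * (M * (u₂ * (h * u₁)))) * (Q * u₂ * h * u₁)⁻¹ := by
            rw [hSc u₂, mul_assoc S u₂, ← mul_assoc u₂ Δ, e₂, mul_assoc M]
          _ = _ := by group
      rw [e]
      refine hmap _ ?_
      rw [Units.val_mul, show (S : Matrix (Fin 4) (Fin 4) F) = μ • 1 from rfl, smul_mul_assoc, one_mul]
      exact normal_smul μ hM
    -- models in a polar basis
    obtain ⟨ν₀, hν₀⟩ := CfsgLib.Geometry.exists_norm_eq hτne hτ2 (c := (-1 : F)) (by simp)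
    have hgram : (polarP ν₀)ᵀ * (polarP ν₀).map τe = PolarPair.gramJ F e22 := polar_gram τe h2 hν₀
    let P₀ : GL (Fin 4) F := GeneralLinearGroup.mkOfDetNeZero (polarP ν₀) (by
      intro h0
      have h := congrArg Matrix.det hgram
      rw [det_mul, det_transpose, h0, zero_mul, PolarPair.gramJ, Matrix.det_reindexAlgEquiv] at h
      have hJ : (Matrix.fromBlocks 0 1 1 0 : Matrix (Fin 2 ⊕ Fin 2) (Fin 2 ⊕ Fin 2) F) *
          Matrix.fromBlocks 0 1 1 0 = 1 := by
        simp [Matrix.fromBlocks_multiply]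
      have := congrArg Matrix.det hJ
      rw [det_mul, ← h, zero_mul, det_one] at this
      exact zero_ne_one this)
    let L : GL (Fin 2) F → GL (Fin 4) F := fun C => ⟨PolarPair.lift τe e22 C, PolarPair.lift τe e22 C⁻¹,
      by rw [← PolarPair.lift_mul, mul_inv_cancel, PolarPair.lift_one],
      by rw [← PolarPair.lift_mul, inv_mul_cancel, PolarPair.lift_one]⟩
    let ψ : GL (Fin 2) F →* GL (Fin 4) F := MonoidHom.mk' (fun C => P₀ * L C * P₀⁻¹) (fun C D => by
      have : L (C * D) = L C * L D := Units.ext (PolarPair.lift_mul e22 C D)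
      rw [this]; group)
    have hψU : ∀ C, ψ C ∈ Cfsg.GU 4 F p := fun C => (hmem _).2 (by
      show ((P₀ * L C * P₀⁻¹ : GL (Fin 4) F) : Matrix (Fin 4) (Fin 4) F)ᵀ * _ = 1
      exact PolarPair.gram_inj (P := P₀) hgram (PolarPair.lift_gram hU.invol e22 C))
    have hψd : ∀ C, (ψ C : Matrix (Fin 4) (Fin 4) F).det =
        (C : Matrix (Fin 2) (Fin 2) F).det * τ (((C⁻¹ : GL (Fin 2) F) : Matrix (Fin 2) (Fin 2) F).det) := fun C => by
      show ((P₀ * L C * P₀⁻¹ : GL (Fin 4) F) : Matrix (Fin 4) (Fin 4) F).det = _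
      rw [Units.val_mul, Units.val_mul, Matrix.det_units_conj]
      show (PolarPair.lift τe e22 C).det = _
      rw [PolarPair.lift, Matrix.det_reindexAlgEquiv, det_fromBlocks_zero₂₁, ← RingEquiv.mapMatrix_apply,
        ← RingEquiv.map_det, det_transpose]
      rfl
    have hψt : ∀ C, (ψ C : Matrix (Fin 4) (Fin 4) F).trace =
        (C : Matrix (Fin 2) (Fin 2) F).trace + τ (((C⁻¹ : GL (Fin 2) F) : Matrix (Fin 2) (Fin 2) F).trace) := fun C => by
      show ((P₀ * L C * P₀⁻¹ : GL (Fin 4) F) : Matrix (Fin 4) (Fin 4) F).trace = _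
      rw [Units.val_mul, Units.val_mul, Matrix.trace_units_conj]
      show (PolarPair.lift τe e22 C).trace = _
      simp [PolarPair.lift, Matrix.trace, Fin.sum_univ_four, Fin.sum_univ_two, e22, finSumFinEquiv, Fin.addCases,
        Fin.castLT, Fin.subNat, hτdef]
      ring
    have hψi : ∀ C, ψ C = 1 → C = 1 := fun C h1 => by
      have h1' : L C = 1 := conj_eq_one_iff.1 h1
      have h2' := congrArg Units.val h1'
      refine Units.ext (Matrix.ext fun i j => ?_)
      have := congrFun (congrFun h2' (e22 (Sum.inl i))) (e22 (Sum.inl j))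
      simpa [L, PolarPair.lift, Matrix.one_apply] using this
    have hhilb : ∀ t : F, t * τ t = 1 → ∃ c : F, c ≠ 0 ∧ c * τ c⁻¹ = t := fun t ht => by
      by_cases h1 : 1 + t = 0
      · have hi0 : i₀ ≠ 0 := fun h0 => by rw [h0] at hi4; simp at hi4
        refine ⟨i₀, hi0, ?_⟩
        rw [map_inv₀, hτi, show t = -1 by linear_combination h1, inv_neg, mul_neg, mul_inv_cancel₀ hi0]
      · refine ⟨1 + t, h1, ?_⟩
        rw [map_inv₀, map_add, map_one]
        have ht0 : t ≠ 0 := fun h0 => by rw [h0, zero_mul] at ht; exact zero_ne_one ht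
        have h2' : 1 + τ t ≠ 0 := fun h0 => h1 (by linear_combination t * h0 - ht)
        field_simp
        linear_combination -ht
    rcases hr' with rfl | ⟨rfl, hp3⟩ | ⟨rfl, hord⟩
    · -- involutions
      have hr2F : ((2 : ℕ) : F) ≠ 0 := by exact_mod_cast h2
      have ho : orderOf ((Fintype.card F : ℕ) : ZMod 2) = 2 - 1 := by
        rw [hF, ← ZMod.natCast_mod, show p ^ 2 % 2 = 1 by rw [Nat.pow_mod, show p % 2 = 1 by omega], Nat.cast_one,
          orderOf_one]
      have hringne : ringChar F ≠ 2 := fun h => h2 (by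
        have := ringChar.Nat.cast_ringChar (R := F); rw [h] at this; exact_mod_cast this)
      obtain ⟨ν, hν⟩ := (FiniteField.isSquare_iff hringne hz0).2 (by
        have : p ^ 2 / 2 = 4 * (2 * (p / 4) * (p / 4) + 3 * (p / 4) + 1) := by
          have hp' : p = 4 * (p / 4) + 3 := by omega
          conv_lhs => rw [hp']
          ring_nf; omega
        rw [hF, this, pow_mul, hz4, one_pow])
      have hν0 : ν ≠ 0 := fun h0 => hz0 (by rw [hν, h0, mul_zero])
      have hνn : (ν * τ ν) * (ν * τ ν) = 1 := by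
        rw [mul_mul_mul_comm, ← map_mul, ← hν, hn4 z hz4]
      let y : GL (Fin 4) F := ⟨ν⁻¹ • (x : Matrix (Fin 4) (Fin 4) F), ν⁻¹ • (x : Matrix (Fin 4) (Fin 4) F),
        by rw [smul_mul_smul_comm, ← pow_two (x : Matrix (Fin 4) (Fin 4) F), hz, smul_smul, hν]; field_simp; simp,
        by rw [smul_mul_smul_comm, ← pow_two (x : Matrix (Fin 4) (Fin 4) F), hz, smul_smul, hν]; field_simp; simp⟩
      have hy2 : (y : Matrix (Fin 4) (Fin 4) F) ^ 2 = 1 := by rw [pow_two]; exact y.val_inv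
      obtain ⟨a, b, hab, hch, htr⟩ := CycloClass.exists_count hr2F ho hy2
      have hPhi : CycloClass.Phi F 2 = Polynomial.X + 1 := by
        simp [CycloClass.Phi, Finset.sum_range_succ]; ring
      have hydet : (y : Matrix (Fin 4) (Fin 4) F).det = (-1) ^ a := by
        rw [Matrix.det_eq_sign_charpoly_coeff, hch, hPhi, coeff_zero_eq_eval_zero, Fintype.card_fin,
          (show Even 4 by decide).neg_one_pow]
        simp
      have hydet' : (z * z) * (-1 : F) ^ a = 1 := by
        rw [← hydet, show (y : Matrix (Fin 4) (Fin 4) F) = ν⁻¹ • (x : Matrix (Fin 4) (Fin 4) F) from rfl, det_smul,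
          dx, Fintype.card_fin, mul_one, hν]
        field_simp
      have hyns : ∀ c : F, (y : Matrix (Fin 4) (Fin 4) F) ≠ c • 1 := fun c hc => hns (ν * c) (by
        calc (x : Matrix (Fin 4) (Fin 4) F) = ν • (ν⁻¹ • (x : Matrix (Fin 4) (Fin 4) F)) := by
              rw [smul_smul, mul_inv_cancel₀ hν0, one_smul]
          _ = _ := by rw [show ν⁻¹ • (x : Matrix (Fin 4) (Fin 4) F) = c • 1 from hc, smul_smul])
      have hb : b = 1 ∨ b = 2 ∨ b = 3 := by
        by_contra hb
        obtain ⟨c, hc⟩ : ∃ c : F, (y : Matrix (Fin 4) (Fin 4) F).charpoly = (Polynomial.X - Polynomial.C c) ^ 4 ∧ c ^ 2 = 1 := by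
          rcases (show b = 0 ∨ b = 4 by omega) with h | h
          · exact ⟨1, by rw [hch, h, show a = 4 by omega]; simp, one_pow _⟩
          · exact ⟨-1, by rw [hch, h, show a = 0 by omega, hPhi]; simp, neg_one_sq⟩
        let N : GL (Fin 4) F := ⟨c • 1, c • 1, by rw [smul_mul_smul_comm, ← pow_two, hc.2, one_mul, one_smul],
          by rw [smul_mul_smul_comm, ← pow_two, hc.2, one_mul, one_smul]⟩
        obtain ⟨k, hk⟩ := isConj_iff.1 (CfsgLib.KnownB.Semisimple.isConj_of_charpoly (A := y) (B := N)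
          (CycloClass.semisimple hr2F hy2) (CycloClass.semisimple hr2F (r := 2) (by
            rw [pow_two]; exact N.val_inv)) (by
            rw [hc.1, show (N : Matrix (Fin 4) (Fin 4) F) = c • 1 from rfl, Matrix.smul_one_eq_diagonal,
              Matrix.charpoly_diagonal, Finset.prod_const, Finset.card_univ, Fintype.card_fin]))
        apply hyns c
        rw [show y = k⁻¹ * N * k by rw [← hk]; group, Units.val_mul, Units.val_mul,
          show (N : Matrix (Fin 4) (Fin 4) F) = c • 1 from rfl, mul_smul_comm, mul_one, smul_mul_assoc, Units.inv_mul]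
      have hνU : ν * τ ν = 1 := by
        refine (mul_self_eq_one_iff.1 hνn).resolve_right fun hneg => ?_
        rcases hb with h | h | h
        rotate_left
        · -- two eigenvalues of each kind
          have hz2 : z * z = 1 := by rw [show a = 2 by omega] at hydet'; linear_combination hydet'
          exact h2 (by linear_combination hneg - hn4 ν (by rw [show ν ^ 4 = (ν * ν) * (ν * ν) by ring, ← hν, hz2]))
        all_goals
          have hW : CfsgLib.KnownB.UnitaryConj.adj τ (y : Matrix (Fin 4) (Fin 4) F) * y = (-1 : F) • 1 := by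
            rw [show (y : Matrix (Fin 4) (Fin 4) F) = ν⁻¹ • (x : Matrix (Fin 4) (Fin 4) F) from rfl,
              CfsgLib.KnownB.UnitaryConj.adj_smul, smul_mul_smul_comm, (hmemA x).1 hxU, map_inv₀, ← mul_inv, mul_comm,
              hneg, inv_neg, inv_one]
          have hW' : CfsgLib.KnownB.UnitaryConj.adj τ (y : Matrix (Fin 4) (Fin 4) F) = (-1 : F) • (y : Matrix (Fin 4) (Fin 4) F) := by
            have := congrArg (· * (y : Matrix (Fin 4) (Fin 4) F)) hW
            rwa [mul_assoc, ← pow_two (y : Matrix (Fin 4) (Fin 4) F), hy2, mul_one, smul_mul_assoc, one_mul] at this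
          have ht := congrArg Matrix.trace hW'
          rw [CfsgLib.KnownB.UnitaryConj.adj, trace_transpose,
            show ((y : Matrix (Fin 4) (Fin 4) F).map τ).trace = τ (y : Matrix (Fin 4) (Fin 4) F).trace by
              simp [Matrix.trace, map_sum], Matrix.trace_smul (-1 : F) (y : Matrix (Fin 4) (Fin 4) F), htr] at ht
          simp [h, map_natCast, map_ofNat, map_sub, show a = 4 - b by omega] at ht
          exact mul_ne_zero h2 h2 (by first | linear_combination ht | linear_combination -ht)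
      have hyU : y ∈ Cfsg.GU 4 F p := (hmemA y).2 (by
        show CfsgLib.KnownB.UnitaryConj.adj τ (ν⁻¹ • (x : Matrix (Fin 4) (Fin 4) F)) * (ν⁻¹ • _) = 1
        rw [CfsgLib.KnownB.UnitaryConj.adj_smul, smul_mul_smul_comm, (hmemA x).1 hxU, map_inv₀, ← mul_inv, mul_comm,
          hνU, inv_one, one_smul])
      have hfinish : ∀ d : Fin 4 → F, (∀ j, d j = 1 ∨ d j = -1) → Normal (diagonal d) →
          (y : Matrix (Fin 4) (Fin 4) F).charpoly = (diagonal d).charpoly →
          ∃ g ∈ Cfsg.GU 4 F p ⊓ Cfsg.Geo.specialLinear (Fin 4) F, g⁻¹ * x * g ∈ Cfsg.Geo.subgroupNormalizer R := by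
        intro d hd hN hc
        have hdd : diagonal d * diagonal d = 1 := by
          rw [diagonal_mul_diagonal, ← diagonal_one]
          exact congrArg _ (funext fun j => by rcases hd j with e | e <;> rw [e] <;> ring)
        let M : GL (Fin 4) F := ⟨diagonal d, diagonal d, hdd, hdd⟩
        have hMU : M ∈ Cfsg.GU 4 F p := (hmem M).2 (by
          show (diagonal d)ᵀ * (diagonal d).map τe = 1
          rw [diagonal_transpose, diagonal_map (map_zero τe), diagonal_mul_diagonal, ← diagonal_one]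
          exact congrArg _ (funext fun j => by rcases hd j with e | e <;> simp [e]))
        refine fin ν y M M hνU hyU hMU hMU rfl hN hr2F hy2 (by rw [pow_two]; exact hdd) (by rw [pow_two]; exact hdd)
          hc rfl fun t ht => ?_
        have ht0 : t ≠ 0 := fun h0 => by rw [h0, zero_mul] at ht; exact zero_ne_one ht
        let h : GL (Fin 4) F := GeneralLinearGroup.mkOfDetNeZero (diagonal ![t, 1, 1, 1])
          (by simp [det_diagonal, Fin.prod_univ_four, ht0])
        refine ⟨h, (hmem h).2 ?_, Units.ext ?_, by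
          show (diagonal ![t, 1, 1, 1]).det = t
          simp [det_diagonal, Fin.prod_univ_four]⟩
        · show (diagonal ![t, 1, 1, 1])ᵀ * (diagonal ![t, 1, 1, 1]).map τe = 1
          rw [diagonal_transpose, diagonal_map (map_zero τe), diagonal_mul_diagonal, ← diagonal_one]
          congr 1; funext j; fin_cases j <;> simp <;> exact ht
        · show diagonal ![t, 1, 1, 1] * diagonal d = diagonal d * diagonal ![t, 1, 1, 1]
          rw [diagonal_mul_diagonal, diagonal_mul_diagonal]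
          exact congrArg _ (funext fun j => mul_comm _ _)
      have hCZ : Normal (diagonal ![(1 : F), 1, 1, -1]) := normal_of_gen
        ⟨1, gA, by rw [one_smul, P_gA]; ext a b; fin_cases a <;> fin_cases b <;> simp [Matrix.mul_apply, Fin.sum_univ_four]⟩
        ⟨1, gB, by rw [one_smul, P_gB]; ext a b; fin_cases a <;> fin_cases b <;> simp [Matrix.mul_apply, Fin.sum_univ_four]⟩
        ⟨sgn F gC gB, gC + gB, by
          rw [show P F (gC + gB) = sgn F gC gB • (P F gC * P F gB) by rw [P_mul, smul_smul, sgn_sq, one_smul],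
            smul_smul, sgn_sq, one_smul, P_gB, P_gC]
          ext a b; fin_cases a <;> fin_cases b <;> simp [Matrix.mul_apply, Fin.sum_univ_four]⟩
        ⟨sgn F gA gD, gA + gD, by
          rw [show P F (gA + gD) = sgn F gA gD • (P F gA * P F gD) by rw [P_mul, smul_smul, sgn_sq, one_smul],
            smul_smul, sgn_sq, one_smul, P_gA, P_gD]
          ext a b; fin_cases a <;> fin_cases b <;> simp [Matrix.mul_apply, Fin.sum_univ_four]⟩
      rcases hb with h | h | h
      · refine hfinish ![1, 1, 1, -1] (fun j => by fin_cases j <;> simp) hCZ ?_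
        rw [hch, h, show a = 3 by omega, hPhi, charpoly_diagonal, Fin.prod_univ_four]
        simp only [Matrix.cons_val_zero, Matrix.cons_val_one, Matrix.cons_val, map_one, map_neg, sub_neg_eq_add]
        ring
      · refine hfinish ![1, 1, -1, -1] (fun j => by fin_cases j <;> simp) ?_ ?_
        · have e : diagonal ![(1 : F), 1, -1, -1] = P F gA := by
            rw [P_gA]; ext a b; fin_cases a <;> fin_cases b <;> simp
          rw [e]
          exact fun k => ⟨sgn F gA k * sgn F k gA, k, by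
            rw [P_mul, smul_mul_assoc, P_mul, smul_smul, add_comm gA, mul_assoc, sgn_sq, mul_one]⟩
        · rw [hch, h, show a = 2 by omega, hPhi, charpoly_diagonal, Fin.prod_univ_four]
          simp only [Matrix.cons_val_zero, Matrix.cons_val_one, Matrix.cons_val, map_one, map_neg, sub_neg_eq_add]
          ring
      · refine hfinish ![-1, -1, -1, 1] (fun j => by fin_cases j <;> simp) ?_ ?_
        · rw [show diagonal ![(-1 : F), -1, -1, 1] = (-1 : F) • diagonal ![(1 : F), 1, 1, -1] by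
            ext a b; fin_cases a <;> fin_cases b <;> simp]
          exact normal_smul _ hCZ
        · rw [hch, h, show a = 1 by omega, hPhi, charpoly_diagonal, Fin.prod_univ_four]
          simp only [Matrix.cons_val_zero, Matrix.cons_val_one, Matrix.cons_val, map_one, map_neg, sub_neg_eq_add]
          ring
    · -- elements of order three
      have hp3ne : p ≠ 3 := by omega
      have h3 : (3 : F) ≠ 0 := by exact_mod_cast hprime 3 Nat.prime_three (Ne.symm hp3ne)
      have hr3F : ((3 : ℕ) : F) ≠ 0 := by exact_mod_cast h3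
      have hfix : ∀ ω : F, ω ^ 3 = 1 → τ ω = ω := fun ω hω => by
        rw [hτ, ← Nat.div_add_mod p 3, pow_add, pow_mul, hω, one_pow, one_mul, hp3, pow_one]
      have h3q : 3 ∣ Fintype.card F - 1 := by
        rw [hF]
        have : p ^ 2 % 3 = 1 := by rw [Nat.pow_mod, hp3]
        omega
      obtain ⟨y, hyU, hy, hy3, hyns⟩ := hscale (z ^ 3) (hn4 _ (by rw [← pow_mul, mul_comm, pow_mul, hz4, one_pow]))
        (by rw [← pow_mul, show (3 * 3 : ℕ) = 4 + 4 + 1 from rfl, pow_add, pow_add, hz4, one_mul, one_mul, pow_one])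
      obtain ⟨ωu, hωu⟩ := exists_prime_orderOf_dvd_card 3 (G := Fˣ) (by rw [Fintype.card_units]; exact h3q)
      set ω : F := (ωu : F) with hω
      have hω3 : ω ^ 3 = 1 := by rw [hω, ← Units.val_pow_eq_pow_val, ← hωu, pow_orderOf_eq_one, Units.val_one]
      have hω1 : ω ≠ 1 := fun h1 => by
        rw [show ωu = 1 from Units.ext h1, orderOf_one] at hωu
        exact absurd hωu (by norm_num)
      have hsum : 1 + ω + ω ^ 2 = 0 := (mul_eq_zero.1 (show (ω - 1) * (1 + ω + ω ^ 2) = 0 by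
        linear_combination hω3)).resolve_left (sub_ne_zero.2 hω1)
      obtain ⟨Y1, Y2, hN1, hN2, hY1g, hY2g, hy13, hy23, ht1, ht2, hY1ne, hY2ne⟩ := models_three h2 τe hi₀ hτi
      have hY1U : Y1 ∈ Cfsg.GU 4 F p := (hmem Y1).2 hY1g
      have hY2U : Y2 ∈ Cfsg.GU 4 F p := (hmem Y2).2 hY2g
      have hwne : (1 : F) ≠ -2 := fun h => h3 (by linear_combination h)
      have cls : ∀ v : GL (Fin 4) F, v ∈ Cfsg.GU 4 F p → (v : Matrix (Fin 4) (Fin 4) F) ^ 3 = 1 → v ≠ 1 → _ :=
        fun v hv hv3 hv1 => class_three hτ2 hfix h3 h3q ((hmemA v).1 hv) hv3 hv1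
      have hdiag : ∀ a b : F, a ^ 3 = 1 → b ^ 3 = 1 → a ≠ 1 →
          ∃ C : GL (Fin 2) F, ψ C ≠ 1 ∧ ((ψ C : GL (Fin 4) F) : Matrix (Fin 4) (Fin 4) F) ^ 3 = 1 ∧
            ((ψ C : GL (Fin 4) F) : Matrix (Fin 4) (Fin 4) F).trace = a + b + (a ^ 2 + b ^ 2) ∧
            ∀ t : F, t * τ t = 1 → ∃ h : GL (Fin 4) F, h ∈ Cfsg.GU 4 F p ∧ h * ψ C = ψ C * h ∧
              (h : Matrix (Fin 4) (Fin 4) F).det = t := by
        intro a b ha hb ha1
        let C : GL (Fin 2) F := ⟨diagonal ![a, b], diagonal ![a ^ 2, b ^ 2],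
          by rw [diagonal_mul_diagonal, ← diagonal_one]; congr 1; funext j; fin_cases j <;> simp
             · linear_combination ha
             · linear_combination hb,
          by rw [diagonal_mul_diagonal, ← diagonal_one]; congr 1; funext j; fin_cases j <;> simp
             · linear_combination ha
             · linear_combination hb⟩
        refine ⟨C, fun h1 => ha1 ?_, ?_, ?_, fun t ht => ?_⟩
        · simpa [C] using congrFun (congrFun (congrArg (fun g : GL (Fin 2) F => (g : Matrix (Fin 2) (Fin 2) F)) (hψi C h1)) 0) 0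
        · rw [← Units.val_pow_eq_pow_val, ← map_pow, show C ^ 3 = 1 from Units.ext (by
            rw [Units.val_pow_eq_pow_val, show (C : Matrix (Fin 2) (Fin 2) F) = diagonal ![a, b] from rfl, diagonal_pow,
              Units.val_one, ← diagonal_one]
            congr 1; funext j; fin_cases j <;> simp [ha, hb]), map_one, Units.val_one]
        · rw [hψt, show (C : Matrix (Fin 2) (Fin 2) F) = diagonal ![a, b] from rfl,
            show ((C⁻¹ : GL (Fin 2) F) : Matrix (Fin 2) (Fin 2) F) = diagonal ![a ^ 2, b ^ 2] from rfl,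
            trace_diagonal, trace_diagonal, Fin.sum_univ_two, Fin.sum_univ_two]
          simp [hfix a ha, hfix b hb]
        · obtain ⟨c, hc0, hc⟩ := hhilb t ht
          let D : GL (Fin 2) F := GeneralLinearGroup.mkOfDetNeZero (diagonal ![c, 1])
            (by simp [det_diagonal, Fin.prod_univ_two, hc0])
          refine ⟨ψ D, hψU D, ?_, ?_⟩
          · rw [← map_mul, ← map_mul]
            congr 1
            refine Units.ext ?_
            show diagonal ![c, 1] * diagonal ![a, b] = diagonal ![a, b] * diagonal ![c, 1]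
            rw [diagonal_mul_diagonal, diagonal_mul_diagonal]
            exact congrArg _ (funext fun j => mul_comm _ _)
          · rw [hψd, Matrix.coe_units_inv, det_nonsing_inv, Ring.inverse_eq_inv',
              show (D : Matrix (Fin 2) (Fin 2) F) = diagonal ![c, 1] from rfl]
            simpa [det_diagonal, Fin.prod_univ_two] using hc
      have hy1ne : y ≠ 1 := fun h => hyns 1 (by rw [h, Units.val_one, one_smul])
      rcases cls y hyU hy3 hy1ne with ⟨-, hc⟩ | ⟨-, hc⟩
      · obtain ⟨C, hC1, hC3, hCt, hcent⟩ := hdiag ω 1 hω3 (one_pow 3) hω1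
        have hD := (cls _ (hψU C) hC3 hC1).resolve_right fun h => hwne (by
          rw [← h.1, hCt]; linear_combination -hsum)
        have hM := (cls Y2 hY2U hy23 hY2ne).resolve_right fun h => hwne (ht2.symm.trans h.1)
        exact fin (z ^ 3) y Y2 (ψ C) (hn4 _ (by rw [← pow_mul, mul_comm, pow_mul, hz4, one_pow])) hyU hY2U (hψU C)
          hy hN2 hr3F hy3 hy23 hC3 (hc.trans hD.2.symm) (hM.2.trans hD.2.symm) hcent
      · obtain ⟨C, hC1, hC3, hCt, hcent⟩ := hdiag ω ω hω3 hω3 hω1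
        have hD := (cls _ (hψU C) hC3 hC1).resolve_left fun h => hwne (by
          rw [← h.1, hCt]; linear_combination (2 : F) * hsum)
        have hM := (cls Y1 hY1U hy13 hY1ne).resolve_left fun h => hwne (h.1.symm.trans ht1)
        exact fin (z ^ 3) y Y1 (ψ C) (hn4 _ (by rw [← pow_mul, mul_comm, pow_mul, hz4, one_pow])) hyU hY1U (hψU C)
          hy hN1 hr3F hy3 hy13 hC3 (hc.trans hD.2.symm) (hM.2.trans hD.2.symm) hcent
    · -- elements of order five
      have h05 : p % 5 ≠ 0 := fun h0 => by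
        have h55 := (Nat.prime_dvd_prime_iff_eq (by norm_num) hpp).1 (Nat.dvd_of_mod_eq_zero h0)
        omega
      have hp5 : p % 5 = 2 ∨ p % 5 = 3 := (ord_four_iff h05).1 hord
      have h5F : (5 : F) ≠ 0 := by exact_mod_cast hprime 5 (by norm_num) (fun h => by omega)
      have hr5F : ((5 : ℕ) : F) ≠ 0 := by exact_mod_cast h5F
      have h5q : ¬ 5 ∣ Fintype.card F - 1 := by
        rw [hF]
        have : p ^ 2 % 5 = 4 := by rcases hp5 with e | e <;> rw [Nat.pow_mod, e]
        have := Nat.one_le_pow 2 p hpp.pos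
        omega
      have hringne : ringChar F ≠ 2 := fun h => h2 (by
        have := ringChar.Nat.cast_ringChar (R := F); rw [h] at this; exact_mod_cast this)
      obtain ⟨s, hs⟩ := (FiniteField.isSquare_iff hringne h5F).2 (by
        have e5 : (5 : F) ^ (p - 1) = 1 := by
          refine mul_left_cancel₀ h5F ?_
          rw [← pow_succ', Nat.sub_add_cancel hpp.one_le, ← hτ, map_ofNat, mul_one]
        have : p ^ 2 / 2 = (p - 1) * ((p + 1) / 2) := by
          obtain ⟨m, hm⟩ : ∃ m, p = 2 * m + 1 := ⟨p / 2, by omega⟩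
          rw [hm, show 2 * m + 1 - 1 = 2 * m by omega, show (2 * m + 1 + 1) / 2 = m + 1 by omega,
            show (2 * m + 1) ^ 2 = 2 * (2 * m * (m + 1)) + 1 by ring]
          omega
        rw [hF, this, pow_mul, e5, one_pow])
      set T := (s - 1) / 2 with hTdef
      have hT : T ^ 2 + T - 1 = 0 := by rw [hTdef]; field_simp; linear_combination -hs
      let A : GL (Fin 2) F := ⟨!![T, -1; 1, 0], !![0, 1; -1, T],
        by ext i j; fin_cases i <;> fin_cases j <;> simp [Matrix.mul_apply, Fin.sum_univ_two],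
        by ext i j; fin_cases i <;> fin_cases j <;> simp [Matrix.mul_apply, Fin.sum_univ_two]⟩
      set Am : Matrix (Fin 2) (Fin 2) F := !![T, -1; 1, 0] with hAm
      obtain ⟨hCH, hA5⟩ := companion_five hT
      have hτT : τ T = -1 - T := by
        have hroot : τ T ^ 2 + τ T - 1 = 0 := by
          rw [← map_pow, ← map_add, ← map_one τ, ← map_sub, hT, map_zero]
        rcases mul_eq_zero.1 (show (τ T - T) * (τ T + T + 1) = 0 by linear_combination hroot - hT) with h | h
        · exact (not_fixed_root h5F hp5 hT (by rw [← hτ]; exact sub_eq_zero.1 h)).elim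
        · linear_combination h
      obtain ⟨y, hyU, hy, hy5, hyns⟩ := hscale z (hn4 _ hz4) (by rw [pow_succ, hz4, one_mul])
      obtain ⟨W, hWN, hWg, hWpow, hW1⟩ := model_five h2 τe hi₀ hτi
      have hWU : W ∈ Cfsg.GU 4 F p := (hmem W).2 hWg
      have hCd : ((ψ A : GL (Fin 4) F) : Matrix (Fin 4) (Fin 4) F) ^ 5 = 1 := by
        rw [← Units.val_pow_eq_pow_val, ← map_pow, show A ^ 5 = 1 from Units.ext (by
          rw [Units.val_pow_eq_pow_val, Units.val_one]; exact hA5), map_one, Units.val_one]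
      have hC1 : ψ A ≠ 1 := fun h => by
        have := congrFun (congrFun (congrArg (fun g : GL (Fin 2) F => (g : Matrix (Fin 2) (Fin 2) F)) (hψi A h)) 1) 0
        simp [A] at this
      have cls : ∀ v : GL (Fin 4) F, v ∈ Cfsg.GU 4 F p → (v : Matrix (Fin 4) (Fin 4) F) ^ 5 = 1 → v ≠ 1 →
          (v : Matrix (Fin 4) (Fin 4) F).charpoly = CycloClass.Phi F 5 :=
        fun v hv hv5 hv1 => class_five hτ2 hT hτT h5F h5q ((hmemA v).1 hv) hv5 hv1
      have hy1ne : y ≠ 1 := fun h => hyns 1 (by rw [h, Units.val_one, one_smul])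
      refine fin z y W (ψ A) (hn4 _ hz4) hyU hWU (hψU A) hy hWN hr5F hy5 hWpow hCd
        ((cls y hyU hy5 hy1ne).trans (cls _ (hψU A) hCd hC1).symm)
        ((cls W hWU hWpow hW1).trans (cls _ (hψU A) hCd hC1).symm) fun t ht => ?_
      obtain ⟨c, hc0, hc⟩ := hhilb t ht
      let Qp : F[X] := Polynomial.X ^ 2 - Polynomial.C T * Polynomial.X + 1
      have hQd : Qp.natDegree = 2 := by
        show (Polynomial.X ^ 2 - Polynomial.C T * Polynomial.X + 1 : F[X]).natDegree = 2
        compute_degree!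
      have hQA : aeval Am Qp = 0 := by
        simp only [Qp, map_add, map_sub, map_mul, map_pow, aeval_X, map_one, aeval_C, Algebra.algebraMap_eq_smul_one,
          smul_mul_assoc, one_mul]
        rw [pow_two, hCH]; abel
      have hQi : Irreducible Qp := by
        refine (Polynomial.irreducible_iff_roots_eq_zero_of_degree_le_three (by rw [hQd]) (by rw [hQd]; omega)).2
          (Multiset.eq_zero_of_forall_notMem fun lam hlam => ?_)
        have h0 : lam ^ 2 - T * lam + 1 = 0 := by simpa [Qp] using (Polynomial.mem_roots'.1 hlam).2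
        have hl5 : lam ^ 5 = 1 := root_five hT h0
        by_cases h1 : lam = 1
        · subst h1
          exact h5F (by linear_combination hT + (T + 3) * h0)
        · haveI : Fact (Nat.Prime 5) := ⟨by norm_num⟩
          exact h5q ((orderOf_eq_prime hl5 h1) ▸ orderOf_dvd_of_pow_eq_one
            (FiniteField.pow_card_sub_one_eq_one lam (fun h => by rw [h] at hl5; simp at hl5)))
      obtain ⟨D₀, hD₀c, hD₀d⟩ := CycloClass.exists_det (n := 2) hQi hQd hQA c
      let D : GL (Fin 2) F := GeneralLinearGroup.mkOfDetNeZero D₀ (by rw [hD₀d]; exact hc0)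
      refine ⟨ψ D, hψU D, ?_, ?_⟩
      · rw [← map_mul, ← map_mul]
        exact congrArg ψ (Units.ext hD₀c)
      · rw [hψd, Matrix.coe_units_inv, det_nonsing_inv, Ring.inverse_eq_inv',
          show (D : Matrix (Fin 2) (Fin 2) F) = D₀ from rfl, hD₀d, hc]

end Cfsg.Agent.S6001
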