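import Cfsg.Statements.S6002
import Cfsg.Agent.Lib.ThreeTransp.PauliFourFrame
import Cfsg.Agent.Lib.ThreeTransp.PauliFourTransv
import Cfsg.Agent.Lib.ThreeTransp.PauliFourMinusGens
import Cfsg.Agent.Lib.ThreeTransp.CycloClass
import Cfsg.Agent.Lib.KnownB.SymplConj
import Cfsg.Agent.Lib.PrimeOrderSp.SpGL
import Cfsg.Agent.Lib.Classical.Order
import Mathlib.FieldTheory.IsAlgClosed.AlgebraicClosure

set_option autoImplicit false
set_option maxHeartbeats 4000000
open scoped MatrixGroups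
open Cfsg

namespace Cfsg.Agent.S6002

open scoped commutatorElement

theorem ord_two_five : orderOf ((2 : ℕ) : ZMod 5) = 4 := by
  haveI : Fact (Nat.Prime 2) := ⟨Nat.prime_two⟩
  exact orderOf_eq_prime_pow (p := 2) (n := 1) (by decide) (by decide)

theorem ord_three_five : orderOf ((3 : ℕ) : ZMod 5) = 4 := by
  haveI : Fact (Nat.Prime 2) := ⟨Nat.prime_two⟩
  exact orderOf_eq_prime_pow (p := 2) (n := 1) (by decide) (by decide)

open Matrix Polynomial CfsgLib.ThreeTransp in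
theorem sq_class {F : Type*} [Field F] [Fintype F] (hodd : Odd (Fintype.card F)) (h2 : (2 : F) ≠ 0)
    {x : GL (Fin 4) F} {z : F} (hz : z = 1 ∨ z = -1) (hx : (x : Matrix (Fin 4) (Fin 4) F) ^ 2 = z • 1)
    (hns : ∀ c : F, (x : Matrix (Fin 4) (Fin 4) F) ≠ c • 1) (hdet : (x : Matrix (Fin 4) (Fin 4) F).det = 1)
    (htr : z = -1 → (x : Matrix (Fin 4) (Fin 4) F).trace = 0) :
    (x : Matrix (Fin 4) (Fin 4) F).charpoly = (Polynomial.X ^ 2 - Polynomial.C z) ^ 2 := by
  classical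
  haveI : Fact (Nat.Prime 2) := ⟨Nat.prime_two⟩
  have hr2F : ((2 : ℕ) : F) ≠ 0 := by exact_mod_cast h2
  have ho : orderOf ((Fintype.card F : ℕ) : ZMod 2) = 2 - 1 := by
    rw [← ZMod.natCast_mod, Nat.odd_iff.1 hodd, Nat.cast_one, orderOf_one]
  have hz0 : z ≠ 0 := by rcases hz with rfl | rfl <;> simp
  set A := (x : Matrix (Fin 4) (Fin 4) F) with hA
  by_cases hsq : ∃ i : F, i * i = z
  · obtain ⟨i, hi⟩ := hsq
    have hi0 : i ≠ 0 := fun h => hz0 (by rw [← hi, h, mul_zero])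
    let u : GL (Fin 4) F := ⟨i⁻¹ • A, i⁻¹ • A,
      by rw [smul_mul_smul_comm, ← pow_two A, hx, smul_smul, ← hi]; field_simp; simp,
      by rw [smul_mul_smul_comm, ← pow_two A, hx, smul_smul, ← hi]; field_simp; simp⟩
    have hu : (u : Matrix (Fin 4) (Fin 4) F) ^ 2 = 1 := by rw [pow_two]; exact u.val_inv
    obtain ⟨a, b, hab, hch, ht⟩ := CycloClass.exists_count hr2F ho hu
    have hPhi : CycloClass.Phi F 2 = Polynomial.X + 1 := by
      simp [CycloClass.Phi, Finset.sum_range_succ]; ring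
    have hdiag : ∀ d : Fin 4 → F, (∀ j, d j * d j = 1) →
        (u : Matrix (Fin 4) (Fin 4) F).charpoly = (diagonal d).charpoly →
        ∃ k : GL (Fin 4) F, A = (k : Matrix (Fin 4) (Fin 4) F) * (i • diagonal d) *
          ((k⁻¹ : GL (Fin 4) F) : Matrix (Fin 4) (Fin 4) F) := by
      intro d hd hc
      have hdd : diagonal d * diagonal d = 1 := by
        rw [diagonal_mul_diagonal, ← diagonal_one]; exact congrArg _ (funext hd)
      let D : GL (Fin 4) F := ⟨diagonal d, diagonal d, hdd, hdd⟩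
      obtain ⟨k, hk⟩ := isConj_iff.1 (CfsgLib.KnownB.Semisimple.isConj_of_charpoly (A := D) (B := u)
        (CycloClass.semisimple hr2F (r := 2) (by rw [pow_two]; exact hdd)) (CycloClass.semisimple hr2F hu) hc.symm)
      refine ⟨k, ?_⟩
      rw [mul_smul_comm, smul_mul_assoc, show (k : Matrix (Fin 4) (Fin 4) F) * diagonal d *
        ((k⁻¹ : GL (Fin 4) F) : Matrix (Fin 4) (Fin 4) F) = ((k * D * k⁻¹ : GL (Fin 4) F) : Matrix (Fin 4) (Fin 4) F)
        from rfl, hk, show (u : Matrix (Fin 4) (Fin 4) F) = i⁻¹ • A from rfl, smul_smul, mul_inv_cancel₀ hi0, one_smul]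
    have hcase : ∀ d : Fin 4 → F, (∀ j, d j * d j = 1) → (∃ c : F, ∀ j, d j = c) →
        (u : Matrix (Fin 4) (Fin 4) F).charpoly = (diagonal d).charpoly → False := by
      rintro d hd ⟨c, hc⟩ hch'
      obtain ⟨k, hk⟩ := hdiag d hd hch'
      refine hns (i * c) ?_
      rw [hk, show diagonal d = c • 1 by rw [Matrix.smul_one_eq_diagonal]; exact congrArg _ (funext hc), smul_smul,
        mul_smul_comm, mul_one, smul_mul_assoc, Units.mul_inv]
    rcases (show b = 0 ∨ b = 4 ∨ b = 1 ∨ b = 3 ∨ b = 2 by omega) with h | h | h | h | h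
    · exact (hcase (fun _ => 1) (by simp) ⟨1, by simp⟩ (by
        rw [hch, h, show a = 4 by omega, charpoly_diagonal]; simp)).elim
    · exact (hcase (fun _ => -1) (by simp) ⟨-1, by simp⟩ (by
        rw [hch, h, show a = 0 by omega, hPhi, charpoly_diagonal]; simp)).elim
    · exfalso
      obtain ⟨k, hk⟩ := hdiag ![1, 1, 1, -1] (fun j => by fin_cases j <;> simp) (by
        rw [hch, h, show a = 3 by omega, hPhi, charpoly_diagonal, Fin.prod_univ_four]
        simp only [Matrix.cons_val_zero, Matrix.cons_val_one, Matrix.cons_val, map_one, map_neg, sub_neg_eq_add]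
        ring)
      rw [hk, Matrix.det_units_conj, det_smul, det_diagonal, Fin.prod_univ_four, Fintype.card_fin,
        show i ^ 4 = 1 by rw [show i ^ 4 = (i * i) * (i * i) by ring, hi]; rcases hz with rfl | rfl <;> ring] at hdet
      simp at hdet
      exact h2 (by first | linear_combination hdet | linear_combination -hdet)
    · exfalso
      obtain ⟨k, hk⟩ := hdiag ![1, -1, -1, -1] (fun j => by fin_cases j <;> simp) (by
        rw [hch, h, show a = 1 by omega, hPhi, charpoly_diagonal, Fin.prod_univ_four]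
        simp only [Matrix.cons_val_zero, Matrix.cons_val_one, Matrix.cons_val, map_one, map_neg, sub_neg_eq_add]
        ring)
      rw [hk, Matrix.det_units_conj, det_smul, det_diagonal, Fin.prod_univ_four, Fintype.card_fin,
        show i ^ 4 = 1 by rw [show i ^ 4 = (i * i) * (i * i) by ring, hi]; rcases hz with rfl | rfl <;> ring] at hdet
      simp at hdet
      exact h2 (by first | linear_combination hdet | linear_combination -hdet)
    · obtain ⟨k, hk⟩ := hdiag ![1, 1, -1, -1] (fun j => by fin_cases j <;> simp) (by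
        rw [hch, h, show a = 2 by omega, hPhi, charpoly_diagonal, Fin.prod_univ_four]
        simp only [Matrix.cons_val_zero, Matrix.cons_val_one, Matrix.cons_val, map_one, map_neg, sub_neg_eq_add]
        ring)
      rw [hk, Matrix.coe_units_inv, Matrix.charpoly_units_conj, ← diagonal_smul, charpoly_diagonal, Fin.prod_univ_four]
      simp only [Pi.smul_apply, smul_eq_mul, Matrix.cons_val_zero, Matrix.cons_val_one, Matrix.cons_val, mul_one,
        mul_neg, map_neg, sub_neg_eq_add, ← hi, map_mul]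
      ring
  · push Not at hsq
    have hQi : Irreducible (Polynomial.X ^ 2 - Polynomial.C z : F[X]) :=
      X_pow_sub_C_irreducible_of_prime Nat.prime_two fun b hb => hsq b (by rw [← pow_two]; exact hb)
    have hall : ∀ Q' ∈ UniqueFactorizationMonoid.normalizedFactors A.charpoly,
        Q' = Polynomial.X ^ 2 - Polynomial.C z := fun Q' hQ' => by
      have hQ'i := UniqueFactorizationMonoid.irreducible_of_normalized_factor Q' hQ'
      refine eq_of_monic_of_associated (CfsgLib.KnownB.PrimeOrder.monic_of_mem_nf hQ')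
        (monic_X_pow_sub_C z two_ne_zero) (hQ'i.associated_of_dvd hQi ?_)
      refine (CfsgLib.KnownB.Semisimple.dvd_minpoly_of_dvd_charpoly (Matrix.toLin' A) hQ'i (by
        rw [Matrix.charpoly_toLin']; exact UniqueFactorizationMonoid.dvd_of_mem_normalizedFactors hQ')).trans
        (minpoly.dvd F _ ?_)
      rw [show Matrix.toLin' A = Matrix.toLinAlgEquiv' A from rfl, aeval_algHom_apply, map_sub, map_pow, aeval_X,
        aeval_C, hx, Algebra.algebraMap_eq_smul_one, sub_self, map_zero]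
    have hm := CfsgLib.KnownB.PrimeOrder.monic_prod_normalizedFactors (Matrix.charpoly_monic A)
    rw [Multiset.eq_replicate_of_mem hall, Multiset.prod_replicate] at hm
    have hdeg := congrArg natDegree hm
    rw [natDegree_pow, natDegree_X_pow_sub_C, Matrix.charpoly_natDegree_eq_dim, Fintype.card_fin] at hdeg
    rw [← hm, show Multiset.card (UniqueFactorizationMonoid.normalizedFactors A.charpoly) = 2 by omega]

open Matrix CfsgLib.ThreeTransp in
theorem no_move_all {F : Type*} [Field F] (h2 : (2 : F) ≠ 0) {x₁ y₁ x₂ y₂ : Matrix (Fin 4) (Fin 4) F}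
    (hP : PauliFourMinus.Pairs x₁ y₁ x₂ y₂) {S : Submonoid (Matrix (Fin 4) (Fin 4) F)} (hx₁S : x₁ ∈ S)
    (hS : ∀ M, M ∈ S ↔ ∃ k : PauliFourMinus.L, M = PauliFourMinus.mon x₁ y₁ x₂ y₂ k ∨
      M = -PauliFourMinus.mon x₁ y₁ x₂ y₂ k)
    (hsign : ∀ M ∈ S, ∀ N ∈ S, N * M = M * N ∨ N * M = -(M * N))
    (hminus : ∀ u ∈ S, ∀ v ∈ S, u * u = 1 → v * v = 1 → v * u = u * v → u ≠ 1 → u ≠ -1 → v ≠ 1 → v ≠ -1 →
      u * v ≠ 1 → u * v ≠ -1 → False)
    {Y : Matrix (Fin 4) (Fin 4) F} (hY3 : Y * (Y * Y) = 1) (hconj : ∀ M ∈ S, ∃ N ∈ S, Y * M = N * Y)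
    (hnocomm : ∀ k, Y * PauliFourMinus.mon x₁ y₁ x₂ y₂ k = PauliFourMinus.mon x₁ y₁ x₂ y₂ k * Y → k = 0) : False := by
  set mn := PauliFourMinus.mon x₁ y₁ x₂ y₂ with hmn
  have hsgnd : ∀ M ∈ S, ∃ (k : PauliFourMinus.L) (s : F), s * s = 1 ∧ M = s • mn k := fun M hM => by
    obtain ⟨k, h | h⟩ := (hS M).1 hM
    · exact ⟨k, 1, one_mul 1, by rw [one_smul]; exact h⟩
    · exact ⟨k, -1, by norm_num, by rw [neg_one_smul]; exact h⟩
  have hanti : ∀ M : Matrix (Fin 4) (Fin 4) F, Y * M = -(M * Y) → M = 0 := by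
    intro M hM
    have e : ∀ W, Y * (M * W) = -(M * (Y * W)) := fun W => by rw [← mul_assoc, hM, neg_mul, mul_assoc]
    have h3 : Y * (Y * Y) * M = -(M * (Y * (Y * Y))) := by
      simp only [mul_assoc, hM, e, mul_neg, neg_neg]
    rw [hY3, one_mul, mul_one] at h3
    exact (smul_eq_zero.1 (show (2 : F) • M = 0 by rw [two_smul]; nth_rewrite 1 [h3]; rw [neg_add_cancel])).resolve_left h2
  set v := x₁ with hv
  obtain ⟨v₁, hv₁, e₁⟩ := hconj v hx₁S
  obtain ⟨v₂, hv₂, e₂⟩ := hconj v₁ hv₁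
  obtain ⟨v₃, hv₃, e₃⟩ := hconj v₂ hv₂
  have hYY : Y * (Y * Y) = 1 := hY3
  have e₃' : v₃ = v := by
    have h := calc v₃ * (Y * (Y * Y)) = Y * v₂ * (Y * Y) := by rw [← mul_assoc, ← e₃]
      _ = Y * (Y * v₁) * Y := by rw [e₂]; simp only [mul_assoc]
      _ = Y * (Y * (Y * v)) := by rw [e₁]; simp only [mul_assoc]
      _ = Y * (Y * Y) * v := by simp only [mul_assoc]
    rwa [hY3, mul_one, one_mul] at h
  subst e₃'
  have hsq' : ∀ (a b : Matrix (Fin 4) (Fin 4) F), Y * a = b * Y → a * a = 1 → b * b = 1 := by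
    intro a b hab ha
    have : b * b * Y = Y := by rw [mul_assoc, ← hab, ← mul_assoc, ← hab, mul_assoc, ha, mul_one]
    have h := congrArg (· * (Y * Y)) this
    simp only [mul_assoc, hY3, mul_one] at h
    exact h
  have s₁ := hsq' _ _ e₁ hP.sx₁
  have s₂ := hsq' _ _ e₂ s₁
  -- the product of the three conjugates is central
  have hprodS : v * v₁ * v₂ ∈ S := mul_mem (mul_mem hx₁S hv₁) hv₂
  have hYp : Y * (v * v₁ * v₂) = (v₁ * v₂ * v) * Y := by
    rw [← mul_assoc, ← mul_assoc, e₁, mul_assoc v₁ Y, e₂, ← mul_assoc v₁, mul_assoc (v₁ * v₂) Y, e₃, ← mul_assoc]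
  rcases hsign v hx₁S (v₁ * v₂) (mul_mem hv₁ hv₂) with hc | hc
  swap
  · rw [hc, neg_mul, mul_assoc v] at hYp
    rw [← mul_assoc v v₁ v₂] at hYp
    have h0 := hanti _ hYp
    obtain ⟨k, s, hs, hk⟩ := hsgnd _ hprodS
    rw [h0, eq_comm, smul_eq_zero] at hk
    exact hk.elim (fun e => by rw [e, zero_mul] at hs; exact zero_ne_one hs) (hP.mon_ne k)
  rw [hc, ← mul_assoc v] at hYp
  obtain ⟨k, t, ht, hk⟩ := hsgnd _ hprodS
  have ht0 : t ≠ 0 := fun e => by rw [e, zero_mul] at ht; exact zero_ne_one ht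
  have hk0 : k = 0 := hnocomm k (by
    rw [hk, mul_smul_comm, smul_mul_assoc] at hYp
    exact smul_right_injective _ ht0 hYp)
  rw [hk0, hmn, PauliFourMinus.mon_zero] at hk
  have hvv₁ : v * v₁ = t • v₂ := by
    have := congrArg (· * v₂) hk
    simpa [mul_assoc, s₂] using this
  have hcomm : v₁ * v = v * v₁ := by
    have h4 : v * v₁ * (v * v₁) = 1 := by rw [hvv₁, smul_mul_smul_comm, s₂, ht, one_smul]
    calc v₁ * v = v * v * (v₁ * v) * (v₁ * v₁) := by rw [hP.sx₁, s₁, one_mul, mul_one]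
      _ = v * (v * v₁ * (v * v₁)) * v₁ := by simp only [mul_assoc]
      _ = v * v₁ := by rw [h4, mul_one]
  have hvns : ∀ c : F, v ≠ c • 1 := fun c hc' => hP.not_scalar h2 (k := ((1, 0), 0)) (by decide) c (by
    simpa [PauliFourMinus.mon] using hc')
  have hv₁ns : ∀ c : F, v₁ ≠ c • 1 := fun c hc' => hvns c (by
    calc v = Y * (Y * Y) * v := by rw [hY3, one_mul]
      _ = Y * (Y * (Y * v)) := by simp only [mul_assoc]
      _ = _ := by rw [e₁, hc', smul_mul_assoc, one_mul, mul_smul_comm, mul_smul_comm, hY3])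
  have hvv : ∀ c : F, v * v₁ ≠ c • 1 := by
    intro c hc'
    have hv1v : v₁ = c • v := by
      calc v₁ = v * v * v₁ := by rw [hP.sx₁, one_mul]
        _ = _ := by rw [mul_assoc, hc', mul_smul_comm, mul_one]
    rw [hv1v, smul_mul_assoc] at e₁
    have hcc : c * c = 1 := by
      have h' := s₁
      rw [hv1v, smul_mul_smul_comm, hP.sx₁] at h'
      simpa using congrFun (congrFun h' 0) 0
    rcases mul_self_eq_one_iff.1 hcc with rfl | rfl
    · rw [one_smul] at e₁
      exact absurd (hnocomm ((1, 0), 0) (by simpa [hmn, PauliFourMinus.mon] using e₁)) (by decide)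
    · rw [neg_one_smul] at e₁
      exact hvns 0 (by rw [hanti v e₁, zero_smul])
  exact hminus v hx₁S v₁ hv₁ hP.sx₁ s₁ hcomm (fun e => hvns 1 (by rw [one_smul]; exact e))
    (fun e => hvns (-1) (by rw [neg_one_smul]; exact e)) (fun e => hv₁ns 1 (by rw [one_smul]; exact e))
    (fun e => hv₁ns (-1) (by rw [neg_one_smul]; exact e)) (fun e => hvv 1 (by rw [one_smul]; exact e))
    (fun e => hvv (-1) (by rw [neg_one_smul]; exact e))

/-- Elements of prime order of PSp_4(p), p odd, and the normalizer of an extraspecial 2-group of order 2⁵ of minus type. Here `T = PSp_4(F)` for the field `F` with `p` elements, `p` an odd prime, realised through the matrices preserving the standard alternating form `f`; `R` is an absolutely irreducible subgroup of `T` (it preserves `f`) that is a 2-group of symplectic type of exponent 4, order 2⁵ and centre of order 2, of minus type (no elementary abelian subgroup of order 2³), and `H` is the subgroup of `T` normalizing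 `R` — a subgroup of type 2^{1+4}.O₄⁻(2) (maximality is not assumed). Ω is the set of cosets of `H` in `T`, so an element of `T` of prime order `r` (`x ∈ T` with `x^r` scalar, `x` not scalar) fixes a point of Ω exactly when some `T`-conjugate of `x` normalizes `R`. Let `r` be a prime dividing the index of `H`. Then every element of `T` of order `r` fixes a point of Ω if and only if `r = 2`, or `r = 5` and `p` has multiplicative order 4 modulo 5. -/
theorem result {F : Type*} [Field F] [Fintype F] {p : ℕ} [Fact p.Prime] [CharP F p] (hF : Fintype.card F = p) (hodd : Odd p)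
    (R : Subgroup (GL (Fin 2 ⊕ Fin 2) F)) (hRs : Cfsg.Geo.IsSymplecticTypeGroup 2 R) (hRi : Cfsg.Geo.ActsAbsolutelyIrreducibly (Cfsg.Geo.matrixSet R))
    (hRf : R ≤ Cfsg.spGL 2 F) (hR5 : Nat.card R = 2 ^ 5) (hRZ : Nat.card (Subgroup.center R) = 2) (hRm : Cfsg.Geo.IsOfMinusType 2 R)
    (r : ℕ) [Fact r.Prime]
    (hΩ : r ∣ (Cfsg.Geo.subgroupNormalizer R).relIndex (Cfsg.spGL 2 F)) :
    (∀ x ∈ Cfsg.spGL 2 F, (∃ z : F, ((x ^ r : GL (Fin 2 ⊕ Fin 2) F) : Matrix (Fin 2 ⊕ Fin 2) (Fin 2 ⊕ Fin 2) F) = z • (1 : Matrix (Fin 2 ⊕ Fin 2) (Fin 2 ⊕ Fin 2) F)) →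
      (∀ z : F, (x : Matrix (Fin 2 ⊕ Fin 2) (Fin 2 ⊕ Fin 2) F) ≠ z • (1 : Matrix (Fin 2 ⊕ Fin 2) (Fin 2 ⊕ Fin 2) F)) →
      ∃ g ∈ Cfsg.spGL 2 F, g⁻¹ * x * g ∈ Cfsg.Geo.subgroupNormalizer R) ↔ (r = 2 ∨ (r = 5 ∧ orderOf (p : ZMod 5) = 4)) := by
  open Matrix CfsgLib.ThreeTransp CfsgLib.ThreeTransp.PauliFour CfsgLib.PrimeOrderSp Polynomial in
  classical
  have hr : r.Prime := Fact.out
  have hpp : p.Prime := Fact.out
  have hp3le : 3 ≤ p := by
    rcases hpp.eq_two_or_odd' with rfl | h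
    · exact absurd hodd (by decide)
    · obtain ⟨m, hm⟩ := h; have := hpp.two_le; omega
  have hprime : ∀ s : ℕ, s.Prime → s ≠ p → (s : F) ≠ 0 := fun s hs hsp h =>
    hsp ((Nat.prime_dvd_prime_iff_eq hpp hs).1 ((CharP.cast_eq_zero_iff F p s).1 h)).symm
  have h2 : (2 : F) ≠ 0 := by exact_mod_cast hprime 2 Nat.prime_two (by omega)
  have hcardodd : Odd (Fintype.card F) := by rw [hF]; exact hodd
  let e4 : Fin 2 ⊕ Fin 2 ≃ Fin 4 := finSumFinEquiv
  let Ψ : Matrix (Fin 2 ⊕ Fin 2) (Fin 2 ⊕ Fin 2) F ≃ₐ[F] Matrix (Fin 4) (Fin 4) F := Matrix.reindexAlgEquiv F F e4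
  have hΨtr : ∀ M, (Ψ M).trace = M.trace := fun M => by
    simp only [Ψ, Matrix.reindexAlgEquiv_apply, Matrix.trace, Matrix.diag_apply, Matrix.reindex_apply, submatrix_apply]
    exact e4.symm.sum_comp (fun i => M i i)
  have hΨch : ∀ M, (Ψ M).charpoly = M.charpoly := fun M => by
    rw [show Ψ M = Matrix.reindex e4 e4 M from rfl, Matrix.charpoly_reindex]
  have hmemSp : ∀ g : GL (Fin 2 ⊕ Fin 2) F, g ∈ Cfsg.spGL 2 F →
      (g : Matrix (Fin 2 ⊕ Fin 2) (Fin 2 ⊕ Fin 2) F) * Matrix.J (Fin 2) F *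
        (g : Matrix (Fin 2 ⊕ Fin 2) (Fin 2 ⊕ Fin 2) F)ᵀ = Matrix.J (Fin 2) F :=
    fun g hg => SymplecticGroup.mem_iff.1 (mem_spGL_iff'.1 hg)
  have hJne : Matrix.J (Fin 2) F ≠ 0 := fun h => by
    have := congrFun (congrFun h (Sum.inl 0)) (Sum.inr 0)
    simp [Matrix.J] at this
  have hscsp : ∀ (g : GL (Fin 2 ⊕ Fin 2) F) (c : F), g ∈ Cfsg.spGL 2 F →
      (g : Matrix (Fin 2 ⊕ Fin 2) (Fin 2 ⊕ Fin 2) F) = c • 1 → c * c = 1 := fun g c hg hc => by
    have h := hmemSp g hg
    rw [hc, Matrix.transpose_smul, Matrix.transpose_one, smul_mul_assoc, one_mul, smul_mul_smul_comm, mul_one] at h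
    have h' : (c * c - 1) • Matrix.J (Fin 2) F = 0 := by rw [sub_smul, h, one_smul, sub_self]
    exact sub_eq_zero.1 ((smul_eq_zero.1 h').resolve_right hJne)
  -- the group as a set of matrices
  let S : Submonoid (Matrix (Fin 4) (Fin 4) F) :=
    { carrier := {M | ∃ g ∈ R, Ψ (g : Matrix (Fin 2 ⊕ Fin 2) (Fin 2 ⊕ Fin 2) F) = M}
      one_mem' := ⟨1, one_mem R, by rw [Units.val_one, map_one]⟩
      mul_mem' := by
        rintro _ _ ⟨g, hg, rfl⟩ ⟨h, hh, rfl⟩
        exact ⟨g * h, mul_mem hg hh, by rw [Units.val_mul, map_mul]⟩ }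
  have hSmem : ∀ g ∈ R, Ψ (g : Matrix (Fin 2 ⊕ Fin 2) (Fin 2 ⊕ Fin 2) F) ∈ S := fun g hg => ⟨g, hg, rfl⟩
  have hΨinj : ∀ {g h : GL (Fin 2 ⊕ Fin 2) F}, Ψ (g : Matrix (Fin 2 ⊕ Fin 2) (Fin 2 ⊕ Fin 2) F) =
      Ψ (h : Matrix (Fin 2 ⊕ Fin 2) (Fin 2 ⊕ Fin 2) F) → g = h := fun e => Units.ext (Ψ.injective e)
  have hsc : ∀ g ∈ R, (∀ y ∈ R, y * g = g * y) →
      Ψ (g : Matrix (Fin 2 ⊕ Fin 2) (Fin 2 ⊕ Fin 2) F) = 1 ∨ Ψ (g : Matrix (Fin 2 ⊕ Fin 2) (Fin 2 ⊕ Fin 2) F) = -1 := by
    intro g hg hc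
    obtain ⟨c, hgc⟩ := CfsgLib.Aschbacher.eq_smul_one_of_commutes hRi (x := (g : Matrix (Fin 2 ⊕ Fin 2) (Fin 2 ⊕ Fin 2) F))
      (fun y hy => by rw [← Units.val_mul, ← Units.val_mul, hc y hy])
    rcases mul_self_eq_one_iff.1 (hscsp g c (hRf hg) hgc) with rfl | rfl
    · exact Or.inl (by rw [hgc, one_smul, map_one])
    · exact Or.inr (by rw [hgc, neg_one_smul, map_neg, map_one])
  haveI hfinR : Finite R := Nat.finite_of_card_ne_zero (by rw [hR5]; norm_num)
  have hcen : ∀ z : Subgroup.center R, ∀ y ∈ R, y * ((z : R) : GL (Fin 2 ⊕ Fin 2) F) = ((z : R) : GL (Fin 2 ⊕ Fin 2) F) * y :=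
    fun z y hy => congrArg Subtype.val (Subgroup.mem_center_iff.1 z.2 ⟨y, hy⟩)
  obtain ⟨gneg, hgneg, hgnv⟩ : ∃ g ∈ R, Ψ (g : Matrix (Fin 2 ⊕ Fin 2) (Fin 2 ⊕ Fin 2) F) = -1 := by
    by_contra hno
    push Not at hno
    haveI : Subsingleton (Subgroup.center R) := ⟨fun a b => Subtype.ext (Subtype.ext (hΨinj (by
      rw [(hsc _ (a : R).2 (hcen a)).resolve_right (hno _ (a : R).2),
        (hsc _ (b : R).2 (hcen b)).resolve_right (hno _ (b : R).2)])))⟩
    rw [Nat.card_unique] at hRZ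
    omega
  have hnegv : (gneg : Matrix (Fin 2 ⊕ Fin 2) (Fin 2 ⊕ Fin 2) F) = -1 := Ψ.injective (by rw [hgnv, map_neg, map_one])
  have hT : Cfsg.IsOfSymplecticType R := ⟨hRs.pGroup, hRs.cyclic_of_characteristic⟩
  have he4 : ∀ t : R, t ^ 4 = 1 := fun t => by
    have := Monoid.pow_exponent_eq_one t
    rwa [hRs.exponent_eq] at this
  have hsign : ∀ M ∈ S, ∀ N ∈ S, N * M = M * N ∨ N * M = -(M * N) := by
    rintro _ ⟨g, hg, rfl⟩ _ ⟨h, hh, rfl⟩
    obtain ⟨hcentral, -⟩ := CfsgLib.Techniques.SymplecticNeighbour.commutator_central hT he4 ⟨h, hh⟩ ⟨g, hg⟩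
    set w := ⁅(⟨h, hh⟩ : R), (⟨g, hg⟩ : R)⁆ with hw
    have hhg : h * g = (w : GL (Fin 2 ⊕ Fin 2) F) * (g * h) := by
      rw [hw, show ((⁅(⟨h, hh⟩ : R), (⟨g, hg⟩ : R)⁆ : R) : GL (Fin 2 ⊕ Fin 2) F) = h * g * h⁻¹ * g⁻¹ from rfl]
      group
    rw [← map_mul, ← map_mul, ← Units.val_mul, ← Units.val_mul, hhg, Units.val_mul, map_mul]
    rcases hsc _ w.2 (hcen ⟨w, hcentral⟩) with e | e <;> rw [e]
    · exact Or.inl (one_mul _)
    · exact Or.inr (neg_one_mul _)
  have hcent : ∀ M ∈ S, (∀ N ∈ S, N * M = M * N) → M = 1 ∨ M = -1 := by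
    rintro _ ⟨g, hg, rfl⟩ h
    exact hsc g hg fun y hy => hΨinj (by rw [Units.val_mul, Units.val_mul, map_mul, map_mul, h _ (hSmem y hy)])
  have hsq : ∀ M ∈ S, M * M = 1 ∨ M * M = -1 := by
    intro M hM
    refine hcent _ (mul_mem hM hM) fun N hN => ?_
    rcases hsign M hM N hN with h | h
    · rw [← mul_assoc, h, mul_assoc, h, mul_assoc]
    · rw [← mul_assoc, h, neg_mul, mul_assoc, h, mul_neg, neg_neg, mul_assoc]
  have hScard : Nat.card S = 32 := by
    refine (Nat.card_congr (Equiv.ofBijective (fun g : R => (⟨_, hSmem g.1 g.2⟩ : S)) ⟨fun a b h => ?_, fun M => ?_⟩)).symm.trans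
      (hR5.trans (by norm_num))
    · exact Subtype.ext (hΨinj (congrArg Subtype.val h))
    · obtain ⟨g, hg, hgM⟩ := M.2
      exact ⟨⟨g, hg⟩, Subtype.ext hgM⟩
  have hminus : ∀ u ∈ S, ∀ v ∈ S, u * u = 1 → v * v = 1 → v * u = u * v → u ≠ 1 → u ≠ -1 → v ≠ 1 → v ≠ -1 →
      u * v ≠ 1 → u * v ≠ -1 → False := by
    rintro _ ⟨g, hg, rfl⟩ _ ⟨h, hh, rfl⟩ hu hv hc hu1 hu2 hv1 hv2 huv1 huv2
    set G : R := ⟨g, hg⟩
    set H : R := ⟨h, hh⟩
    set N : R := ⟨gneg, hgneg⟩
    let ΨR : R →* Matrix (Fin 4) (Fin 4) F :=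
      { toFun := fun t => Ψ ((t : GL (Fin 2 ⊕ Fin 2) F) : Matrix (Fin 2 ⊕ Fin 2) (Fin 2 ⊕ Fin 2) F)
        map_one' := by simp
        map_mul' := fun a b => by simp }
    have hΨR : Function.Injective ΨR := fun a b e => Subtype.ext (hΨinj e)
    have hG : G * G = 1 := hΨR (by rw [map_mul, map_one]; exact hu)
    have hH : H * H = 1 := hΨR (by rw [map_mul, map_one]; exact hv)
    have hGH : Commute G H := hΨR (by rw [map_mul, map_mul]; exact hc.symm)
    have hN : N * N = 1 := hΨR (by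
      rw [map_mul, map_one, show ΨR N = -1 from hgnv, neg_mul_neg, one_mul])
    have hNc : ∀ t : R, Commute N t := fun t => hΨR (by
      rw [map_mul, map_mul, show ΨR N = -1 from hgnv, neg_one_mul, mul_neg_one])
    let A : Subgroup R := Subgroup.closure {N, G, H}
    have hA : ∀ t ∈ A, t * t = 1 ∧ Commute t N ∧ Commute t G ∧ Commute t H := by
      intro t ht
      induction ht using Subgroup.closure_induction with
      | mem t ht =>
        rcases ht with rfl | rfl | rfl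
        · exact ⟨hN, Commute.refl _, hNc G, hNc H⟩
        · exact ⟨hG, (hNc _).symm, Commute.refl _, hGH⟩
        · exact ⟨hH, (hNc _).symm, hGH.symm, Commute.refl _⟩
      | one => exact ⟨one_mul 1, Commute.one_left _, Commute.one_left _, Commute.one_left _⟩
      | mul a b _ hb' ha hb =>
        have hab : Commute a b := ((Subgroup.closure_le (Subgroup.centralizer {a})).2 (by
          rintro c (rfl | rfl | rfl) <;> refine Subgroup.mem_centralizer_iff.2 fun d hd => ?_ <;>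
            rw [Set.mem_singleton_iff.1 hd]
          exacts [ha.2.1.eq, ha.2.2.1.eq, ha.2.2.2.eq]) hb') a rfl
        exact ⟨by rw [hab.symm.mul_mul_mul_comm, ha.1, hb.1, one_mul], ha.2.1.mul_left hb.2.1,
          ha.2.2.1.mul_left hb.2.2.1, ha.2.2.2.mul_left hb.2.2.2⟩
      | inv a _ ha => rwa [inv_eq_of_mul_eq_one_right ha.1]
    have hAcomm : IsMulCommutative A := ⟨⟨fun a b => Subtype.ext (by
      have hle : A ≤ Subgroup.centralizer {(a : R)} := (Subgroup.closure_le _).2 (by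
        rintro c (rfl | rfl | rfl) <;> refine Subgroup.mem_centralizer_iff.2 fun d hd => ?_ <;>
          rw [Set.mem_singleton_iff.1 hd]
        exacts [(hA a a.2).2.1.eq, (hA a a.2).2.2.1.eq, (hA a a.2).2.2.2.eq])
      exact hle b.2 a rfl)⟩⟩
    have hlt := hRm A hAcomm fun t ht => (hA t ht).1
    let f : Fin 2 × Fin 2 × Fin 2 → A := fun z => ⟨N ^ (z.1 : ℕ) * (G ^ (z.2.1 : ℕ) * H ^ (z.2.2 : ℕ)),
      mul_mem (pow_mem (Subgroup.subset_closure (by simp)) _)
        (mul_mem (pow_mem (Subgroup.subset_closure (by simp)) _) (pow_mem (Subgroup.subset_closure (by simp)) _))⟩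
    have hsum : ∀ (t : R), t * t = 1 → ∀ u v : Fin 2, t ^ (u : ℕ) * t ^ (v : ℕ) = t ^ ((u + v : Fin 2) : ℕ) := by
      intro t ht u v; fin_cases u <;> fin_cases v <;> simp [ht]
    have hker : ∀ z, (f z : R) = 1 → z = 0 := by
      intro z hz
      have hm1 : (1 : Matrix (Fin 4) (Fin 4) F) ≠ -1 := fun h => h2 (by
        have := congrFun (congrFun h 0) 0
        simp at this
        linear_combination this)
      have h' := congrArg ΨR hz
      simp only [f, map_mul, map_pow, map_one, show ΨR N = -1 from hgnv] at h'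
      obtain ⟨a, b, c⟩ := z
      fin_cases a <;> fin_cases b <;> fin_cases c <;> simp [ΨR, G, H] at h' ⊢
      · exact hv1 (show Ψ (h : Matrix (Fin 2 ⊕ Fin 2) (Fin 2 ⊕ Fin 2) F) = 1 by rw [h', Units.val_one, map_one])
      · exact hu1 (show Ψ (g : Matrix (Fin 2 ⊕ Fin 2) (Fin 2 ⊕ Fin 2) F) = 1 by rw [h', Units.val_one, map_one])
      · exact huv1 h'
      · exact hm1 h'.symm
      · exact hv2 (by rw [← h', neg_neg])
      · exact hu2 (by rw [← h', neg_neg])
      · exact huv2 (by rw [← h', neg_neg])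
    have hf : Function.Injective f := by
      intro z z' h
      have h1 : (f z : R) = f z' := congrArg Subtype.val h
      have h2' : (f (z + z') : R) = (f z : R) * f z' := by
        simp only [f, Prod.fst_add, Prod.snd_add]
        rw [← hsum N hN, ← hsum G hG, ← hsum H hH,
          (((hNc (G ^ (z.2.1 : ℕ) * H ^ (z.2.2 : ℕ))).pow_left _).symm).mul_mul_mul_comm,
          ((hGH.pow_pow _ _).symm).mul_mul_mul_comm]
      have h3 := hker (z + z') (by rw [h2', h1, (hA _ (f z').2).1])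
      have hadd : ∀ a b : Fin 2 × Fin 2 × Fin 2, a + b = 0 → a = b := by decide
      exact hadd z z' h3
    haveI : Finite A := inferInstance
    have := Nat.card_le_card_of_injective f hf
    rw [Nat.card_eq_fintype_card (α := Fin 2 × Fin 2 × Fin 2)] at this
    simp at this hlt
    omega
  obtain ⟨x₁, y₁, x₂, y₂, hP, hx₁S, hx₂S, hS⟩ := PauliFourMinus.exists_pairs h2 (show (-1 : Matrix (Fin 4) (Fin 4) F) ∈ S from
    ⟨gneg, hgneg, hgnv⟩) hsq hsign hcent hScard hminus
  set mn := PauliFourMinus.mon x₁ y₁ x₂ y₂ with hmn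
  have hmnS : ∀ k, mn k ∈ S := fun k => (hS _).2 ⟨k, Or.inl rfl⟩
  -- the basis over the algebraic closure
  let K' := AlgebraicClosure F
  let ι : F →+* K' := algebraMap F K'
  have hιinj : Function.Injective ι := ι.injective
  obtain ⟨i₀, hi₀'⟩ := IsAlgClosed.exists_pow_nat_eq (-1 : K') (show 0 < 2 by norm_num)
  have hi₀ : i₀ * i₀ = -1 := by rw [← pow_two, hi₀']
  have h2K : (2 : K') ≠ 0 := fun h => h2 (hιinj (by rw [map_ofNat, map_zero]; exact h))
  let μ : Matrix (Fin 4) (Fin 4) F →+* Matrix (Fin 4) (Fin 4) K' := ι.mapMatrix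
  have hμinj : Function.Injective μ := Matrix.map_injective hιinj
  obtain ⟨Q, eA, eB, eC, eD⟩ := PauliFourMinus.exists_pauli_basis (F := K') h2K (A := μ x₁) (B := μ y₁)
    (A' := i₀ • μ x₂) (B' := i₀ • μ y₂) (by rw [← map_mul, hP.sx₁, map_one]) (by rw [← map_mul, hP.sy₁, map_one])
    (by rw [smul_mul_smul_comm, ← map_mul, hP.sx₂, map_neg, map_one, hi₀, smul_neg, neg_smul, neg_neg, one_smul])
    (by rw [smul_mul_smul_comm, ← map_mul, hP.sy₂, map_neg, map_one, hi₀, smul_neg, neg_smul, neg_neg, one_smul])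
    (by rw [← map_mul, ← map_mul, hP.a₁, map_neg])
    (by rw [smul_mul_smul_comm, smul_mul_smul_comm, ← map_mul, ← map_mul, hP.a₂, map_neg, smul_neg])
    (by rw [smul_mul_assoc, mul_smul_comm, ← map_mul, ← map_mul, hP.c₁])
    (by rw [smul_mul_assoc, mul_smul_comm, ← map_mul, ← map_mul, hP.c₂])
    (by rw [smul_mul_assoc, mul_smul_comm, ← map_mul, ← map_mul, hP.c₃])
    (by rw [smul_mul_assoc, mul_smul_comm, ← map_mul, ← map_mul, hP.c₄])
  have hi0 : i₀ ≠ 0 := fun h => by rw [h, zero_mul] at hi₀; exact neg_ne_zero.2 one_ne_zero hi₀.symm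
  have hgood : ∀ l : PauliFour.K, ∃ (k : PauliFourMinus.L) (c : K'), c ≠ 0 ∧
      μ (mn k) * (Q : Matrix (Fin 4) (Fin 4) K') = Q * (c • P K' l) := by
    intro l
    induction l using label_ind with
    | h0 => exact ⟨0, 1, one_ne_zero, by rw [hmn, PauliFourMinus.mon_zero, map_one, one_mul, P_zero, one_smul, mul_one]⟩
    | hA => exact ⟨((1, 0), 0), 1, one_ne_zero, by rw [one_smul, ← eA]; simp [hmn, PauliFourMinus.mon]⟩
    | hC => exact ⟨((0, 1), 0), 1, one_ne_zero, by rw [one_smul, ← eC]; simp [hmn, PauliFourMinus.mon]⟩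
    | hB => exact ⟨(0, (1, 0)), i₀⁻¹, inv_ne_zero hi0, by
        rw [mul_smul_comm, ← eB, smul_mul_assoc, smul_smul, inv_mul_cancel₀ hi0, one_smul]
        simp [hmn, PauliFourMinus.mon]⟩
    | hD => exact ⟨(0, (0, 1)), i₀⁻¹, inv_ne_zero hi0, by
        rw [mul_smul_comm, ← eD, smul_mul_assoc, smul_smul, inv_mul_cancel₀ hi0, one_smul]
        simp [hmn, PauliFourMinus.mon]⟩
    | hadd k l hk hl =>
      obtain ⟨a, c, hc, hac⟩ := hk
      obtain ⟨b, d, hd, hbd⟩ := hl
      have hs : (PauliFourMinus.sign a b : K') ≠ 0 := fun h => by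
        have := PauliFourMinus.sign_cast (F := K') a b; rw [h, zero_mul] at this; exact zero_ne_one this
      refine ⟨a + b, (PauliFourMinus.sign a b : K') * (c * d * sgn K' k l), mul_ne_zero hs
        (mul_ne_zero (mul_ne_zero hc hd) (sgn_ne _ _)), ?_⟩
      have e : mn (a + b) = (PauliFourMinus.sign a b : F) • (mn a * mn b) := by
        rw [hmn, hP.mon_mul, smul_smul, PauliFourMinus.sign_cast, one_smul]
      have hsm : ∀ (t : F) (M : Matrix (Fin 4) (Fin 4) F), μ (t • M) = ι t • μ M := fun t M => by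
        ext; simp [μ]
      rw [e, hsm, map_mul, map_intCast, smul_mul_assoc, mul_assoc, hbd, ← mul_assoc, hac, mul_assoc,
        smul_mul_smul_comm, P_mul, smul_smul, ← mul_smul_comm, smul_smul]
  have hsgnd : ∀ M ∈ S, ∃ (k : PauliFourMinus.L) (s : F), s * s = 1 ∧ M = s • mn k := fun M hM => by
    obtain ⟨k, h | h⟩ := (hS M).1 hM
    · exact ⟨k, 1, one_mul 1, by rw [one_smul]; exact h⟩
    · exact ⟨k, -1, by norm_num, by rw [neg_one_smul]; exact h⟩
  have hinv : ∀ k', ∃ (l' : PauliFour.K) (d : K'), μ (mn k') * (Q : Matrix (Fin 4) (Fin 4) K') = Q * (d • P K' l') := by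
    intro k'
    choose κ cc hcc hκ using hgood
    have hκi : Function.Injective κ := fun a b hab => by
      have h1 := hκ a
      rw [hab, hκ b] at h1
      exact ((label_unique h2K (hcc b) (Q.isUnit.mul_left_cancel h1)).1).symm
    obtain ⟨l', rfl⟩ := hκi.bijective_of_finite.2 k'
    exact ⟨l', cc l', hκ l'⟩
  -- the action of a normalising element
  let Φ : GL (Fin 2 ⊕ Fin 2) F →* GL (Fin 4) K' :=
    Units.map ((μ : Matrix (Fin 4) (Fin 4) F →* Matrix (Fin 4) (Fin 4) K').comp (Ψ : Matrix (Fin 2 ⊕ Fin 2) (Fin 2 ⊕ Fin 2) F →* Matrix (Fin 4) (Fin 4) F))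
  have hΦv : ∀ g, (Φ g : Matrix (Fin 4) (Fin 4) K') = μ (Ψ (g : Matrix (Fin 2 ⊕ Fin 2) (Fin 2 ⊕ Fin 2) F)) := fun g => rfl
  have hconjS : ∀ y ∈ Cfsg.Geo.subgroupNormalizer R, ∀ M ∈ S, ∃ N ∈ S,
      Ψ (y : Matrix (Fin 2 ⊕ Fin 2) (Fin 2 ⊕ Fin 2) F) * M = N * Ψ (y : Matrix (Fin 2 ⊕ Fin 2) (Fin 2 ⊕ Fin 2) F) := by
    rintro y hy _ ⟨g, hg, rfl⟩
    refine ⟨_, hSmem _ ((Subgroup.mem_normalizer_iff.1 hy g).1 hg), ?_⟩
    rw [← map_mul, ← map_mul, ← Units.val_mul, ← Units.val_mul, inv_mul_cancel_right]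
  have hNormal : ∀ y ∈ Cfsg.Geo.subgroupNormalizer R,
      Normal ((Q⁻¹ * Φ y * Q : GL (Fin 4) K') : Matrix (Fin 4) (Fin 4) K') := by
    intro y hy l
    obtain ⟨k, c, hc, hkl⟩ := hgood l
    obtain ⟨N, hN, hyN⟩ := hconjS y hy (mn k) (hmnS k)
    obtain ⟨k', s, hs, rfl⟩ := hsgnd N hN
    obtain ⟨l', d, hd⟩ := hinv k'
    refine ⟨c⁻¹ * (ι s * d), l', ?_⟩
    set Y := (Φ y : Matrix (Fin 4) (Fin 4) K') with hY
    set Qi := ((Q⁻¹ : GL (Fin 4) K') : Matrix (Fin 4) (Fin 4) K') with hQi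
    have e1 : P K' l = c⁻¹ • (Qi * μ (mn k) * Q) := by
      rw [mul_assoc, hkl, hQi, Units.inv_mul_cancel_left, smul_smul, inv_mul_cancel₀ hc, one_smul]
    have e2 : Qi * μ (mn k') * Q = d • P K' l' := by rw [mul_assoc, hd, hQi, Units.inv_mul_cancel_left]
    have e3 : Y * μ (mn k) = (ι s • μ (mn k')) * Y := by
      rw [hY, hΦv, ← map_mul, hyN, map_mul]
      congr 1
      ext; simp [μ]
    rw [Units.val_mul, Units.val_mul, ← hY, ← hQi, e1]
    calc Qi * Y * Q * (c⁻¹ • (Qi * μ (mn k) * Q)) = c⁻¹ • (Qi * (Y * μ (mn k)) * Q) := by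
          rw [mul_smul_comm, hQi]; simp only [mul_assoc, Units.mul_inv_cancel_left]
      _ = c⁻¹ • ι s • ((Qi * μ (mn k') * Q) * (Qi * Y * Q)) := by
          rw [e3, hQi]; simp only [smul_mul_assoc, mul_smul_comm, mul_assoc, Units.mul_inv_cancel_left]
      _ = _ := by rw [e2, smul_smul, smul_mul_assoc, smul_smul, smul_mul_assoc, mul_assoc c⁻¹]
  have hΦtr : ∀ g : GL (Fin 2 ⊕ Fin 2) F, ((Q⁻¹ * Φ g * Q : GL (Fin 4) K') : Matrix (Fin 4) (Fin 4) K').trace =
      ι (g : Matrix (Fin 2 ⊕ Fin 2) (Fin 2 ⊕ Fin 2) F).trace := fun g => by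
    rw [Units.val_mul, Units.val_mul, Matrix.trace_units_conj', hΦv, ← hΨtr]
    simp [μ, Matrix.trace, map_sum]
  have hΦns : ∀ g : GL (Fin 2 ⊕ Fin 2) F, (∀ z : F, (g : Matrix (Fin 2 ⊕ Fin 2) (Fin 2 ⊕ Fin 2) F) ≠ z • 1) →
      ∀ z : K', ((Q⁻¹ * Φ g * Q : GL (Fin 4) K') : Matrix (Fin 4) (Fin 4) K') ≠ z • 1 := by
    intro g hns z hz
    have h1 : (Φ g : Matrix (Fin 4) (Fin 4) K') = z • 1 := by
      calc (Φ g : Matrix (Fin 4) (Fin 4) K') = (Q * (Q⁻¹ * Φ g * Q) * Q⁻¹ : GL (Fin 4) K') := by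
            rw [show Q * (Q⁻¹ * Φ g * Q) * Q⁻¹ = Φ g by group]
        _ = _ := by rw [Units.val_mul, Units.val_mul, hz, mul_smul_comm, mul_one, smul_mul_assoc, Units.mul_inv]
    have hz0 : z = ι (Ψ (g : Matrix (Fin 2 ⊕ Fin 2) (Fin 2 ⊕ Fin 2) F) 0 0) := by
      have := congrFun (congrFun h1 0) 0
      rw [hΦv] at this
      simpa [μ] using this.symm
    set z0 := Ψ (g : Matrix (Fin 2 ⊕ Fin 2) (Fin 2 ⊕ Fin 2) F) 0 0
    apply hns z0
    apply Ψ.injective
    apply hμinj
    rw [← hΦv, h1, hz0, map_smul, map_one]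
    ext; simp [μ, Matrix.one_apply, apply_ite ι]
  constructor
  · intro h
    by_contra hcon
    push Not at hcon
    obtain ⟨hr2, hr5⟩ := hcon
    suffices hbad : ∃ x : GL (Fin 2 ⊕ Fin 2) F, x ∈ Cfsg.spGL 2 F ∧
        (x : Matrix (Fin 2 ⊕ Fin 2) (Fin 2 ⊕ Fin 2) F) ^ r = 1 ∧
        (∀ z : F, (x : Matrix (Fin 2 ⊕ Fin 2) (Fin 2 ⊕ Fin 2) F) ≠ z • 1) ∧
        ∀ c : GL (Fin 2 ⊕ Fin 2) F, c⁻¹ * x * c ∉ Cfsg.Geo.subgroupNormalizer R by
      obtain ⟨x, hx, hxr, hns, hnot⟩ := hbad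
      obtain ⟨g, -, hn⟩ := h x hx ⟨1, by rw [Units.val_pow_eq_pow_val, hxr, one_smul]⟩ hns
      exact hnot g hn
    have hpow : ∀ (x c : GL (Fin 2 ⊕ Fin 2) F), (x : Matrix (Fin 2 ⊕ Fin 2) (Fin 2 ⊕ Fin 2) F) ^ r = 1 →
        (c⁻¹ * x * c) ^ r = 1 := fun x c hxr => by
      have hc := conj_pow (a := c⁻¹) (b := x) (i := r)
      rw [inv_inv] at hc
      rw [hc, show x ^ r = 1 from Units.ext (by rw [Units.val_pow_eq_pow_val, hxr, Units.val_one]), mul_one,
        inv_mul_cancel]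
    have hnsc : ∀ (x c : GL (Fin 2 ⊕ Fin 2) F), (∀ z : F, (x : Matrix (Fin 2 ⊕ Fin 2) (Fin 2 ⊕ Fin 2) F) ≠ z • 1) →
        ∀ z : F, ((c⁻¹ * x * c : GL (Fin 2 ⊕ Fin 2) F) : Matrix (Fin 2 ⊕ Fin 2) (Fin 2 ⊕ Fin 2) F) ≠ z • 1 :=
      fun x c hns z hz => hns z (by
        calc (x : Matrix (Fin 2 ⊕ Fin 2) (Fin 2 ⊕ Fin 2) F) = (c * (c⁻¹ * x * c) * c⁻¹ : GL (Fin 2 ⊕ Fin 2) F) := by
              rw [show c * (c⁻¹ * x * c) * c⁻¹ = x by group]
          _ = z • 1 := by
            rw [Units.val_mul, Units.val_mul, hz, mul_smul_comm, mul_one, smul_mul_assoc, Units.mul_inv])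
    have hconj : ∀ (x c : GL (Fin 2 ⊕ Fin 2) F), (x : Matrix (Fin 2 ⊕ Fin 2) (Fin 2 ⊕ Fin 2) F) ^ r = 1 →
        (∀ z : F, (x : Matrix (Fin 2 ⊕ Fin 2) (Fin 2 ⊕ Fin 2) F) ≠ z • 1) →
        c⁻¹ * x * c ∈ Cfsg.Geo.subgroupNormalizer R →
        ∃ s : ℕ, (x : Matrix (Fin 2 ⊕ Fin 2) (Fin 2 ⊕ Fin 2) F).trace *
          ((x⁻¹ : GL (Fin 2 ⊕ Fin 2) F) : Matrix (Fin 2 ⊕ Fin 2) (Fin 2 ⊕ Fin 2) F).trace = s ∧
          (r = 3 ∧ s = 4 ∨ r = 5 ∧ s = 1) := by
      intro x c hxr hns hN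
      set y := c⁻¹ * x * c with hy
      have hyr : y ^ r = 1 := hpow x c hxr
      set Z := Q⁻¹ * Φ y * Q with hZ
      have hZr : (Z : Matrix (Fin 4) (Fin 4) K') ^ r = 1 := by
        rw [← Units.val_pow_eq_pow_val]
        have hc := conj_pow (a := Q⁻¹) (b := Φ y) (i := r)
        rw [inv_inv] at hc
        rw [hZ, hc, ← map_pow, hyr, map_one, mul_one, inv_mul_cancel, Units.val_one]
      obtain ⟨s, hs, hs', hfix⟩ := normal_count_fixed h2K hr hr2 hZr (hNormal y hN) (hΦns y (hnsc x c hns))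
      refine ⟨s, ?_, ?_⟩
      · apply hιinj
        rw [map_mul, map_natCast, ← hs, hZ, show (Q⁻¹ * Φ y * Q)⁻¹ = Q⁻¹ * Φ y⁻¹ * Q by rw [map_inv]; group, hΦtr, hΦtr,
          hy, show (c⁻¹ * x * c)⁻¹ = c⁻¹ * x⁻¹ * c by group]
        simp only [Units.val_mul, Matrix.trace_units_conj']
      rcases hs' with ⟨h3, rfl | rfl⟩ | h5
      swap
      · exact Or.inl ⟨h3, rfl⟩
      swap
      · exact Or.inr h5
      -- no element of order three moves every label
      exfalso
      subst h3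
      set Y := Ψ (y : Matrix (Fin 2 ⊕ Fin 2) (Fin 2 ⊕ Fin 2) F) with hY
      set Y' := Ψ ((y⁻¹ : GL (Fin 2 ⊕ Fin 2) F) : Matrix (Fin 2 ⊕ Fin 2) (Fin 2 ⊕ Fin 2) F) with hY'
      have hYY : Y * Y' = 1 := by rw [hY, hY', ← map_mul, Units.mul_inv, map_one]
      have hY3 : Y * (Y * Y) = 1 := by
        rw [hY, ← map_mul, ← map_mul, ← Units.val_mul, ← Units.val_mul, show y * (y * y) = y ^ 3 by
          simp [pow_succ, mul_assoc], hyr, Units.val_one, map_one]
      have hnocomm : ∀ k, Y * mn k = mn k * Y → k = 0 := by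
        intro k hk
        by_contra hk0
        obtain ⟨l', d, hd⟩ := hinv k
        have hd0 : d ≠ 0 := fun h0 => by
          rw [h0, zero_smul, mul_zero] at hd
          refine hP.mon_ne k (hμinj ?_)
          rw [map_zero]
          exact Q.isUnit.mul_left_eq_zero.1 hd
        have hl0 : l' = 0 := hfix rfl l' 1 (by
          set Qi := ((Q⁻¹ : GL (Fin 4) K') : Matrix (Fin 4) (Fin 4) K') with hQi
          have e2 : Qi * μ (mn k) * Q = d • P K' l' := by rw [mul_assoc, hd, hQi, Units.inv_mul_cancel_left]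
          rw [one_smul, hZ, Units.val_mul, Units.val_mul, hΦv, ← hY, ← hQi,
            show P K' l' = d⁻¹ • (Qi * μ (mn k) * Q) by rw [e2, smul_smul, inv_mul_cancel₀ hd0, one_smul],
            mul_smul_comm, smul_mul_assoc]
          refine congrArg (fun M : Matrix (Fin 4) (Fin 4) K' => d⁻¹ • M) ?_
          rw [hQi]
          simp only [mul_assoc, Units.mul_inv_cancel_left]
          rw [← mul_assoc (μ Y), ← map_mul, hk, map_mul, mul_assoc])
        subst hl0
        rw [P_zero, mul_smul_comm, mul_one, ← one_mul (Q : Matrix (Fin 4) (Fin 4) K'), ← smul_mul_assoc] at hd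
        have h1 : μ (mn k) = d • 1 := Q.isUnit.mul_right_cancel (by simpa using hd)
        refine hP.not_scalar h2 hk0 (mn k 0 0) (hμinj ?_)
        have h00 : d = ι (mn k 0 0) := by
          have := congrFun (congrFun h1 0) 0
          simpa [μ] using this.symm
        rw [h1, h00]
        ext i j; simp [μ, Matrix.one_apply, apply_ite ι]
      exact no_move_all h2 hP hx₁S hS hsign hminus hY3 (fun M hM => hconjS y hN M hM) hnocomm
    -- the embedding of SL₂
    let φ : Matrix (Fin 2) (Fin 2) F →* Matrix (Fin 2 ⊕ Fin 2) (Fin 2 ⊕ Fin 2) F :=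
      { toFun := fun A => Matrix.fromBlocks (diagonal ![A 0 0, 1]) (diagonal ![A 0 1, 0])
          (diagonal ![A 1 0, 0]) (diagonal ![A 1 1, 1])
        map_one' := by
          ext (i | i) (j | j) <;> fin_cases i <;> fin_cases j <;> simp
        map_mul' := fun A B => by
          ext (i | i) (j | j) <;> fin_cases i <;> fin_cases j <;> simp [Matrix.mul_apply, Fintype.sum_sum_type] }
    have hφtr : ∀ A, (φ A).trace = A.trace + 2 := fun A => by
      simp [φ, Matrix.trace, Fintype.sum_sum_type, Fin.sum_univ_two]; ring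
    have hφGL : ∀ A A' : Matrix (Fin 2) (Fin 2) F, A * A' = 1 → A.det = 1 → A ≠ 1 →
        ∃ x : GL (Fin 2 ⊕ Fin 2) F, x ∈ Cfsg.spGL 2 F ∧ (x : Matrix (Fin 2 ⊕ Fin 2) (Fin 2 ⊕ Fin 2) F) = φ A ∧
          ((x⁻¹ : GL (Fin 2 ⊕ Fin 2) F) : Matrix (Fin 2 ⊕ Fin 2) (Fin 2 ⊕ Fin 2) F) = φ A' ∧
          ∀ z : F, (x : Matrix (Fin 2 ⊕ Fin 2) (Fin 2 ⊕ Fin 2) F) ≠ z • 1 := by
      intro A A' hA hd hA1
      refine ⟨⟨φ A, φ A', by rw [← map_mul, hA, map_one], by rw [← map_mul, mul_eq_one_comm.1 hA, map_one]⟩, ?_, rfl, rfl,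
        fun z hz => hA1 ?_⟩
      · rw [mem_spGL_iff', SymplecticGroup.mem_iff]
        rw [Matrix.det_fin_two] at hd
        show φ A * _ * (φ A)ᵀ = _
        ext (i | i) (j | j) <;> fin_cases i <;> fin_cases j <;>
          simp [φ, Matrix.J, Matrix.mul_apply, Fintype.sum_sum_type, Fin.sum_univ_two] <;>
          first | ring1 | linear_combination hd | linear_combination -hd
      · have e1 := congrFun (congrFun hz (Sum.inl 0)) (Sum.inl 0)
        have e2 := congrFun (congrFun hz (Sum.inl 0)) (Sum.inr 0)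
        have e3 := congrFun (congrFun hz (Sum.inr 0)) (Sum.inl 0)
        have e4' := congrFun (congrFun hz (Sum.inr 0)) (Sum.inr 0)
        have e5 := congrFun (congrFun hz (Sum.inl 1)) (Sum.inl 1)
        simp [φ] at e1 e2 e3 e4' e5
        ext i j; fin_cases i <;> fin_cases j <;> simp [e1, e2, e3, e4', ← e5]
    by_cases hrp : r = p
    · -- transvections
      subst hrp
      have hpow1 : ∀ j : ℕ, (!![1, 1; 0, 1] : Matrix (Fin 2) (Fin 2) F) ^ j = !![1, (j : F); 0, 1] := by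
        intro j
        induction j with
        | zero => ext a b; fin_cases a <;> fin_cases b <;> simp
        | succ j ih =>
          rw [pow_succ, ih]; ext a b; fin_cases a <;> fin_cases b <;> simp [Matrix.mul_apply, Fin.sum_univ_two, add_comm]
      obtain ⟨x, hx, hxv, -, hns⟩ := hφGL !![1, 1; 0, 1] !![1, -1; 0, 1]
        (by ext a b; fin_cases a <;> fin_cases b <;> simp [Matrix.mul_apply, Fin.sum_univ_two])
        (by simp [Matrix.det_fin_two]) (fun h => by have := congrFun (congrFun h 0) 1; simp at this)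
      have hxr : (x : Matrix (Fin 2 ⊕ Fin 2) (Fin 2 ⊕ Fin 2) F) ^ r = 1 := by
        rw [hxv, ← map_pow, hpow1, CharP.cast_eq_zero]
        ext (i | i) (j | j) <;> fin_cases i <;> fin_cases j <;> simp [φ]
      refine ⟨x, hx, hxr, hns, fun c hN => ?_⟩
      obtain ⟨s, -, hs'⟩ := hconj x c hxr hns hN
      set Z := Q⁻¹ * Φ (c⁻¹ * x * c) * Q with hZ
      have hZN := hNormal _ hN
      have hZr : (Z : Matrix (Fin 4) (Fin 4) K') ^ r = 1 := by
        rw [← Units.val_pow_eq_pow_val]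
        have hc := conj_pow (a := Q⁻¹) (b := Φ (c⁻¹ * x * c)) (i := r)
        rw [inv_inv] at hc
        rw [hZ, hc, ← map_pow, hpow x c hxr, map_one, mul_one, inv_mul_cancel, Units.val_one]
      set C := ((Φ c * Q : GL (Fin 4) K') : Matrix (Fin 4) (Fin 4) K') with hC
      set Ci := (((Φ c * Q)⁻¹ : GL (Fin 4) K') : Matrix (Fin 4) (Fin 4) K') with hCi
      let a₀ : Fin 4 → K' := Pi.single (e4 (Sum.inl 0)) 1
      let b₀ : Fin 4 → K' := Pi.single (e4 (Sum.inr 0)) 1
      have hxe : (Φ x : Matrix (Fin 4) (Fin 4) K') = 1 + vecMulVec a₀ b₀ := by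
        rw [hΦv, hxv]
        ext i j
        obtain ⟨i, rfl⟩ := e4.surjective i
        obtain ⟨j, rfl⟩ := e4.surjective j
        simp only [μ, Ψ, a₀, b₀, Matrix.reindexAlgEquiv_apply, Matrix.reindex_apply, RingHom.mapMatrix_apply, Matrix.map_apply,
          submatrix_apply, Equiv.symm_apply_apply, Matrix.add_apply, vecMulVec_apply, Pi.single_apply,
          e4.injective.eq_iff, Matrix.one_apply]
        rcases i with i | i <;> rcases j with j | j <;> fin_cases i <;> fin_cases j <;> simp [φ]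
      have hab : b₀ ⬝ᵥ a₀ = 0 := by simp [a₀, b₀, e4, finSumFinEquiv, Fin.ext_iff]
      have hZv : (Z : Matrix (Fin 4) (Fin 4) K') = 1 + vecMulVec (Ci *ᵥ a₀) (b₀ ᵥ* C) := by
        rw [hZ, show Q⁻¹ * Φ (c⁻¹ * x * c) * Q = (Φ c * Q)⁻¹ * Φ x * (Φ c * Q) by
          rw [map_mul, map_mul, map_inv]; group, Units.val_mul, Units.val_mul, hxe, ← hC, ← hCi, mul_add, mul_one,
          add_mul, mul_vecMulVec, vecMulVec_mul, hC, hCi, Units.inv_mul]
      have hdot : (b₀ ᵥ* C) ⬝ᵥ (Ci *ᵥ a₀) = 0 := by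
        rw [← dotProduct_mulVec, mulVec_mulVec, hC, hCi, Units.mul_inv, one_mulVec, hab]
      rcases hs' with ⟨h3, -⟩ | ⟨h5, -⟩
      · subst h3
        refine not_normal_transvection h2K hZv hdot (fun h0 => ?_) hZr hZN
        exact hΦns _ (hnsc x c hns) 1 (by rw [one_smul]; rw [h0, add_zero] at hZv; exact hZv)
      · subst h5
        refine not_normal_quadratic h2K hZv ?_ hZr (hΦns _ (hnsc x c hns)) hZN
        rw [vecMulVec_mul_vecMulVec, hdot]; simp
    by_cases hr3 : r = 3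
    · subst hr3
      obtain ⟨x, hx, hxv, hxi, hns⟩ := hφGL !![0, -1; 1, -1] !![-1, 1; -1, 0]
        (by ext a b; fin_cases a <;> fin_cases b <;> simp [Matrix.mul_apply, Fin.sum_univ_two])
        (by simp [Matrix.det_fin_two]) (fun h => by have := congrFun (congrFun h 1) 0; simp at this)
      have hxr : (x : Matrix (Fin 2 ⊕ Fin 2) (Fin 2 ⊕ Fin 2) F) ^ 3 = 1 := by
        rw [hxv, ← map_pow, show (!![0, -1; 1, -1] : Matrix (Fin 2) (Fin 2) F) ^ 3 = 1 by
          rw [pow_succ, pow_two]; ext a b; fin_cases a <;> fin_cases b <;> simp [Matrix.mul_apply, Fin.sum_univ_two],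
          map_one]
      refine ⟨x, hx, hxr, hns, fun c hN => ?_⟩
      obtain ⟨s, hs, ⟨-, rfl⟩ | ⟨h5, -⟩⟩ := hconj x c hxr hns hN
      · rw [hxv, hxi, hφtr, hφtr, Matrix.trace_fin_two, Matrix.trace_fin_two] at hs
        simp at hs
        exact hprime 3 Nat.prime_three hrp (by push_cast; first | linear_combination hs | linear_combination -hs)
      · exact absurd h5 (by norm_num)
    by_cases hr5' : r = 5
    · subst hr5'
      have hord := hr5 rfl
      have h5F : (5 : F) ≠ 0 := by exact_mod_cast hprime 5 (by norm_num) hrp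
      have h05 : p % 5 ≠ 0 := fun h0 =>
        hrp ((Nat.prime_dvd_prime_iff_eq (by norm_num) hpp).1 (Nat.dvd_of_mod_eq_zero h0))
      have hdvd : 5 ∣ p ^ 2 - 1 := by
        have hm : ((p : ℕ) : ZMod 5) = ((p % 5 : ℕ) : ZMod 5) := (ZMod.natCast_mod p 5).symm
        have hne2 : p % 5 ≠ 2 ∧ p % 5 ≠ 3 := by
          constructor <;> intro hp2 <;> refine hord ?_ <;> rw [hm, hp2]
          · exact ord_two_five
          · exact ord_three_five
        have : p ^ 2 % 5 = 1 := by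
          rw [Nat.pow_mod]
          rcases (show p % 5 = 1 ∨ p % 5 = 4 by omega) with h1 | h1 <;> rw [h1]
        omega
      obtain ⟨a, ha⟩ : ∃ a : Matrix.SpecialLinearGroup (Fin 2) F, orderOf a = 5 := by
        haveI : Fact (Nat.Prime 5) := ⟨by norm_num⟩
        refine exists_prime_orderOf_dvd_card' 5 ?_
        rw [CfsgLib.Classical.card_SL_fin', Nat.card_eq_fintype_card, hF]
        simp [Finset.prod_range_succ]
        exact dvd_mul_of_dvd_right hdvd _
      set A := (a : Matrix (Fin 2) (Fin 2) F) with hA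
      have hdA : A 0 0 * A 1 1 - A 0 1 * A 1 0 = 1 := by rw [← det_fin_two]; exact a.2
      have hA5 : A ^ 5 = 1 := by
        rw [hA, ← Matrix.SpecialLinearGroup.coe_pow, ← ha, pow_orderOf_eq_one, Matrix.SpecialLinearGroup.coe_one]
      have hA1 : A ≠ 1 := fun h1 => by
        rw [show a = 1 from Subtype.ext h1, orderOf_one] at ha
        exact absurd ha (by norm_num)
      set τ := A 0 0 + A 1 1 with hτ
      have hCH : A * A = τ • A - 1 := by
        ext i j
        fin_cases i <;> fin_cases j <;> simp [Matrix.mul_apply, hτ] <;>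
          first | ring1 | linear_combination hdA | linear_combination -hdA
      have hA5' : A ^ 5 = (τ ^ 4 - 3 * τ ^ 2 + 1) • A - (τ ^ 3 - 2 * τ) • 1 := by
        have e3 : A * A * A = (τ ^ 2 - 1) • A - τ • 1 := by
          rw [hCH, sub_mul, one_mul, smul_mul_assoc, hCH]; module
        calc A ^ 5 = A * A * A * (A * A) := by simp [pow_succ, mul_assoc]
          _ = _ := by
            rw [e3, hCH, sub_mul, smul_mul_assoc, smul_mul_assoc, one_mul, mul_sub, mul_one, mul_smul_comm, hCH]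
            module
      have hτ2 : τ ^ 2 + τ - 1 = 0 := by
        rw [hA5] at hA5'
        have hc : τ ^ 4 - 3 * τ ^ 2 + 1 = 0 := by
          by_contra hc
          have h01 := congrFun (congrFun hA5' 0) 1
          have h10 := congrFun (congrFun hA5' 1) 0
          have h00 := congrFun (congrFun hA5' 0) 0
          have h11 := congrFun (congrFun hA5' 1) 1
          simp at h01 h10 h00 h11
          have e01 : A 0 1 = 0 := h01.resolve_left hc
          have e10 : A 1 0 = 0 := h10.resolve_left hc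
          have e : A 0 0 = A 1 1 := mul_left_cancel₀ hc (by linear_combination h11 - h00)
          rw [e01, zero_mul, sub_zero, ← e] at hdA
          have hs : A = (A 0 0) • 1 := by
            ext i j
            fin_cases i <;> fin_cases j <;> simp [e01, e10, ← e]
          have h5' := congrFun (congrFun hA5 0) 0
          rw [hs, _root_.smul_pow, one_pow] at h5'
          simp at h5'
          exact hA1 (by rw [hs, show A 0 0 = 1 by
            rcases mul_self_eq_one_iff.1 hdA with h1 | h1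
            · exact h1
            · rw [h1] at h5'; exact absurd (show (2 : F) = 0 by linear_combination -h5') h2, one_smul])
        rw [hc, zero_smul, zero_sub] at hA5'
        have h1 := congrFun (congrFun hA5' 0) 0
        simp at h1
        have : (τ - 1) * (τ ^ 2 + τ - 1) = 0 := by linear_combination h1
        refine (mul_eq_zero.1 this).resolve_left fun h0 => ?_
        rw [sub_eq_zero.1 h0] at hc
        exact one_ne_zero (α := F) (by linear_combination -hc)
      obtain ⟨x, hx, hxv, hxi, hns⟩ := hφGL A ((a⁻¹ : Matrix.SpecialLinearGroup (Fin 2) F) : Matrix (Fin 2) (Fin 2) F)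
        (by rw [hA, ← Matrix.SpecialLinearGroup.coe_mul, mul_inv_cancel, Matrix.SpecialLinearGroup.coe_one]) a.2 hA1
      have hxr : (x : Matrix (Fin 2 ⊕ Fin 2) (Fin 2 ⊕ Fin 2) F) ^ 5 = 1 := by rw [hxv, ← map_pow, hA5, map_one]
      refine ⟨x, hx, hxr, hns, fun c hN => ?_⟩
      obtain ⟨s, hs, hs'⟩ := hconj x c hxr hns hN
      obtain ⟨-, rfl⟩ := hs'.resolve_left (fun h' => by omega)
      have e : (τ + 2) * (τ + 2) = 1 := by
        rw [← (show ((1 : ℕ) : F) = 1 from Nat.cast_one), ← hs, hxv, hxi, hφtr, hφtr,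
          Matrix.SpecialLinearGroup.coe_inv, Matrix.adjugate_fin_two]
        simp only [Matrix.trace_fin_two, hτ, hA, Matrix.of_apply, Matrix.cons_val', Matrix.cons_val_zero,
          Matrix.cons_val_one, Matrix.cons_val_fin_one, Matrix.empty_val']
        ring
      exact h5F (by linear_combination (3 * τ - 1) * (e - hτ2) - (9 : F) * hτ2)
    have hr7 : 7 ≤ r := by
      have := hr.two_le
      by_contra h'
      interval_cases r <;> first | omega | exact absurd hr (by norm_num)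
    obtain ⟨x, hx⟩ := exists_prime_orderOf_dvd_card' r (G := ↥(Cfsg.spGL 2 F))
      (hΩ.trans (Subgroup.relIndex_dvd_card _ _))
    rw [← Subgroup.orderOf_coe] at hx
    have hxr : ((x : GL (Fin 2 ⊕ Fin 2) F) : Matrix (Fin 2 ⊕ Fin 2) (Fin 2 ⊕ Fin 2) F) ^ r = 1 := by
      rw [← Units.val_pow_eq_pow_val, ← hx, pow_orderOf_eq_one, Units.val_one]
    have hns : ∀ z : F, ((x : GL (Fin 2 ⊕ Fin 2) F) : Matrix (Fin 2 ⊕ Fin 2) (Fin 2 ⊕ Fin 2) F) ≠ z • 1 := fun z hz => by
      have hd := hscsp _ z x.2 hz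
      have : (x : GL (Fin 2 ⊕ Fin 2) F) ^ 2 = 1 := Units.ext (by
        rw [Units.val_pow_eq_pow_val, hz, _root_.smul_pow, one_pow, Units.val_one, pow_two, hd, one_smul])
      have := Nat.le_of_dvd (by norm_num) (hx ▸ orderOf_dvd_of_pow_eq_one this)
      omega
    refine ⟨x, x.2, hxr, hns, fun c hN => ?_⟩
    obtain ⟨s, -, hs'⟩ := hconj _ c hxr hns hN
    omega
  · intro hr' x hx ⟨z, hz⟩ hns
    have hz2 : z * z = 1 := hscsp _ z (pow_mem hx r) hz
    rw [Units.val_pow_eq_pow_val] at hz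
    have hz0 : z ≠ 0 := fun h0 => by rw [h0, zero_mul] at hz2; exact zero_ne_one hz2
    have hnormR : ∀ y : GL (Fin 2 ⊕ Fin 2) F, (∀ g ∈ R, y * g * y⁻¹ ∈ R) → y ∈ Cfsg.Geo.subgroupNormalizer R := by
      intro Y hle'
      have hle : R.map (MulAut.conj Y).toMonoidHom ≤ R := by rintro _ ⟨g, hg, rfl⟩; exact hle' g hg
      have heq := Subgroup.eq_of_le_of_card_ge hle
        (le_of_eq (Subgroup.card_map_of_injective (MulAut.conj Y).injective).symm)
      show Y ∈ Subgroup.normalizer (R : Set (GL (Fin 2 ⊕ Fin 2) F))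
      rw [Subgroup.mem_normalizer_iff]
      intro v
      refine ⟨hle' v, fun hv => ?_⟩
      rw [← heq] at hv
      obtain ⟨v', hv', hvv⟩ := hv
      exact (MulAut.conj Y).injective hvv ▸ hv'
    have hspconj : ∀ (y M : GL (Fin 2 ⊕ Fin 2) F), y ∈ Cfsg.spGL 2 F → M ∈ Cfsg.spGL 2 F →
        (∃ o, ¬ p ∣ o ∧ y ^ o = 1 ∧ M ^ o = 1) →
        (y : Matrix (Fin 2 ⊕ Fin 2) (Fin 2 ⊕ Fin 2) F).charpoly = (M : Matrix (Fin 2 ⊕ Fin 2) (Fin 2 ⊕ Fin 2) F).charpoly →
        ∃ g ∈ Cfsg.spGL 2 F, g⁻¹ * y * g = M := by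
      rintro y M hy hM ⟨o, hpo, hyo, hMo⟩ hc
      obtain ⟨y', rfl⟩ := exists_spToGL hy
      obtain ⟨M', rfl⟩ := exists_spToGL hM
      have hcop : ∀ w : Matrix.symplecticGroup (Fin 2) F, spToGL F 2 w ^ o = 1 → (orderOf w).Coprime p := fun w hw => by
        have : w ^ o = 1 := spToGL_injective (by rw [map_pow, map_one, hw])
        exact Nat.Coprime.coprime_dvd_left (orderOf_dvd_of_pow_eq_one this) ((hpp.coprime_iff_not_dvd.2 hpo).symm)
      obtain ⟨g, hg⟩ := isConj_iff.1 (CfsgLib.KnownB.BilinConj.sp_charpoly p y' M' (hcop _ hyo) (hcop _ hMo) hc)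
      refine ⟨(spToGL F 2 g)⁻¹, inv_mem (spToGL_mem g), ?_⟩
      rw [inv_inv, ← map_inv, ← map_mul, ← map_mul, hg]
    rcases hr' with rfl | ⟨rfl, hord⟩
    · -- involutions
      have hfin : ∀ f ∈ R, (∀ c : F, (f : Matrix (Fin 2 ⊕ Fin 2) (Fin 2 ⊕ Fin 2) F) ≠ c • 1) →
          (f : Matrix (Fin 2 ⊕ Fin 2) (Fin 2 ⊕ Fin 2) F) ^ 2 = z • 1 →
          ∃ g ∈ Cfsg.spGL 2 F, g⁻¹ * x * g ∈ Cfsg.Geo.subgroupNormalizer R := by
        intro f hf hfns hf2
        have hp2 : ¬ p ∣ 4 := fun h => by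
          have := (Nat.prime_dvd_prime_iff_eq hpp Nat.prime_two).1 (hpp.dvd_of_dvd_pow (show p ∣ 2 ^ 2 from h))
          omega
        have h4 : ∀ w : GL (Fin 2 ⊕ Fin 2) F, (w : Matrix (Fin 2 ⊕ Fin 2) (Fin 2 ⊕ Fin 2) F) ^ 2 = z • 1 → w ^ 4 = 1 :=
          fun w hw => Units.ext (by
            rw [Units.val_pow_eq_pow_val, show 4 = 2 * 2 from rfl, pow_mul, hw, _root_.smul_pow, one_pow, pow_two, hz2,
              one_smul, Units.val_one])
        have hcp : ∀ w : GL (Fin 2 ⊕ Fin 2) F, w ∈ Cfsg.spGL 2 F →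
            (∀ c : F, (w : Matrix (Fin 2 ⊕ Fin 2) (Fin 2 ⊕ Fin 2) F) ≠ c • 1) →
            (w : Matrix (Fin 2 ⊕ Fin 2) (Fin 2 ⊕ Fin 2) F) ^ 2 = z • 1 →
            (w : Matrix (Fin 2 ⊕ Fin 2) (Fin 2 ⊕ Fin 2) F).charpoly = (Polynomial.X ^ 2 - Polynomial.C z) ^ 2 := by
          intro w hw hwns hw2
          let wu : GL (Fin 4) F := Units.map (Ψ : Matrix (Fin 2 ⊕ Fin 2) (Fin 2 ⊕ Fin 2) F →* Matrix (Fin 4) (Fin 4) F) w
          have hwu : (wu : Matrix (Fin 4) (Fin 4) F) = Ψ (w : Matrix (Fin 2 ⊕ Fin 2) (Fin 2 ⊕ Fin 2) F) := rfl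
          rw [← hΨch, ← hwu]
          refine sq_class hcardodd h2 (mul_self_eq_one_iff.1 hz2) ?_ ?_ ?_ ?_
          · rw [hwu, ← map_pow, hw2, map_smul, map_one]
          · intro c hc
            exact hwns c (Ψ.injective (by rw [← hwu, hc, map_smul, map_one]))
          · rw [hwu, show Ψ (w : Matrix (Fin 2 ⊕ Fin 2) (Fin 2 ⊕ Fin 2) F) = Matrix.reindex e4 e4 _ from rfl,
              Matrix.det_reindex_self]
            exact SymplecticGroup.det_eq_one (mem_spGL_iff'.1 hw)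
          · intro hzn
            rw [hwu, hΨtr]
            set W := (w : Matrix (Fin 2 ⊕ Fin 2) (Fin 2 ⊕ Fin 2) F) with hW
            have h := hmemSp w hw
            rw [← hW] at h
            have h1 := congrArg (fun M => W * M) h
            simp only [← mul_assoc, ← pow_two W, hw2, hzn, smul_mul_assoc, one_mul, neg_one_smul, neg_mul] at h1
            have h2' := congrArg (fun M => Matrix.J (Fin 2) F * M) h1
            simp only [mul_neg, ← mul_assoc, Matrix.J_squared, neg_mul, one_mul, neg_neg] at h2'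
            have ht := congrArg Matrix.trace h2'
            rw [trace_transpose, Matrix.trace_mul_cycle, Matrix.J_squared, neg_mul, one_mul, trace_neg] at ht
            exact (mul_eq_zero.1 (show (2 : F) * W.trace = 0 by linear_combination ht)).resolve_left h2
        obtain ⟨g, hg, hgf⟩ := hspconj x f hx (hRf hf) ⟨4, hp2, h4 x hz, h4 f hf2⟩
          ((hcp x hx hns hz).trans (hcp f (hRf hf) hfns hf2).symm)
        exact ⟨g, hg, by rw [hgf]; exact Subgroup.le_normalizer hf⟩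
      have hgens : ∀ M ∈ S, (∀ c : F, M ≠ c • 1) → M * M = z • 1 →
          ∃ g ∈ Cfsg.spGL 2 F, g⁻¹ * x * g ∈ Cfsg.Geo.subgroupNormalizer R := by
        rintro _ ⟨f, hf, rfl⟩ hMns hM2
        refine hfin f hf (fun c hc => hMns c (by rw [hc, map_smul, map_one])) (Ψ.injective ?_)
        rw [map_pow, pow_two, hM2, map_smul, map_one]
      rcases mul_self_eq_one_iff.1 hz2 with rfl | rfl
      · exact hgens x₁ hx₁S (fun c hc => hP.not_scalar h2 (k := ((1, 0), 0)) (by decide) c (by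
          simpa [PauliFourMinus.mon] using hc)) (by rw [one_smul]; exact hP.sx₁)
      · exact hgens x₂ hx₂S (fun c hc => hP.not_scalar h2 (k := (0, (1, 0))) (by decide) c (by
          simpa [PauliFourMinus.mon] using hc)) (by rw [neg_one_smul]; exact hP.sx₂)
    · -- elements of order five
      have h05 : p % 5 ≠ 0 := fun h0 => by
        have h55 := (Nat.prime_dvd_prime_iff_eq (by norm_num) hpp).1 (Nat.dvd_of_mod_eq_zero h0)
        rw [← h55, ZMod.natCast_self, orderOf_zero] at hord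
        exact absurd hord (by norm_num)
      have hp5 : p ≠ 5 := fun h => h05 (by rw [h])
      have hr5F : ((5 : ℕ) : F) ≠ 0 := hprime 5 (by norm_num) (Ne.symm hp5)
      have ho : orderOf ((Fintype.card F : ℕ) : ZMod 5) = 5 - 1 := by rw [hF]; exact hord
      -- the model
      obtain ⟨Wm, hW5, hW1, hWk⟩ := hP.exists_five h2
      let W : GL (Fin 2 ⊕ Fin 2) F := ⟨Ψ.symm Wm, Ψ.symm (Wm ^ 4),
        by rw [← map_mul, ← pow_succ', hW5, map_one], by rw [← map_mul, ← pow_succ, hW5, map_one]⟩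
      have hΨW : Ψ (W : Matrix (Fin 2 ⊕ Fin 2) (Fin 2 ⊕ Fin 2) F) = Wm := Ψ.apply_symm_apply Wm
      have hWN : W ∈ Cfsg.Geo.subgroupNormalizer R := by
        refine hnormR W fun g hg => ?_
        obtain ⟨k, t, ht, hk⟩ := hsgnd _ (hSmem g hg)
        obtain ⟨s, l, hs, hl⟩ := hWk k
        have hmem' : (t * s) • mn l ∈ S := by
          rcases mul_self_eq_one_iff.1 (show (t * s) * (t * s) = 1 by rw [mul_mul_mul_comm, ht, hs, one_mul]) with e | e
          · rw [e, one_smul]; exact (hS _).2 ⟨l, Or.inl rfl⟩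
          · rw [e, neg_one_smul]; exact (hS _).2 ⟨l, Or.inr rfl⟩
        obtain ⟨g', hg', hgv⟩ := hmem'
        have : W * g * W⁻¹ = g' := by
          rw [mul_inv_eq_iff_eq_mul]
          refine hΨinj ?_
          rw [Units.val_mul, Units.val_mul, map_mul, map_mul, hgv, hk, hΨW, mul_smul_comm, hl, ← smul_mul_assoc, smul_smul]
        rw [this]; exact hg'
      have hWne : W ≠ 1 := fun h => hW1 (by rw [← hΨW, h, Units.val_one, map_one])
      have hW5' : W ^ 5 = 1 := Units.ext (Ψ.injective (by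
        rw [Units.val_pow_eq_pow_val, map_pow, hΨW, hW5, Units.val_one, map_one]))
      have hWsp : W ∈ Cfsg.spGL 2 F := by
        set Wv := (W : Matrix (Fin 2 ⊕ Fin 2) (Fin 2 ⊕ Fin 2) F) with hWv
        set J := Matrix.J (Fin 2) F with hJ
        set M₀ := Wv * J * Wvᵀ with hM₀
        have hfix : ∀ g ∈ R, (g : Matrix (Fin 2 ⊕ Fin 2) (Fin 2 ⊕ Fin 2) F) * M₀ *
            (g : Matrix (Fin 2 ⊕ Fin 2) (Fin 2 ⊕ Fin 2) F)ᵀ = M₀ := by
          intro g' hg'
          have hg : W⁻¹ * g' * W ∈ R := (Subgroup.mem_normalizer_iff.1 hWN _).2 (by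
            rwa [show W * (W⁻¹ * g' * W) * W⁻¹ = g' by group])
          set gv := ((W⁻¹ * g' * W : GL (Fin 2 ⊕ Fin 2) F) : Matrix (Fin 2 ⊕ Fin 2) (Fin 2 ⊕ Fin 2) F) with hgv
          have e : (g' : Matrix (Fin 2 ⊕ Fin 2) (Fin 2 ⊕ Fin 2) F) * Wv = Wv * gv := by
            rw [hgv, hWv, ← Units.val_mul, ← Units.val_mul]
            congr 1
            group
          calc _ = ((g' : Matrix (Fin 2 ⊕ Fin 2) (Fin 2 ⊕ Fin 2) F) * Wv) * J *
                ((g' : Matrix (Fin 2 ⊕ Fin 2) (Fin 2 ⊕ Fin 2) F) * Wv)ᵀ := by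
                rw [hM₀, Matrix.transpose_mul]; simp only [mul_assoc]
            _ = Wv * (gv * J * gvᵀ) * Wvᵀ := by rw [e, Matrix.transpose_mul]; simp only [mul_assoc]
            _ = _ := by rw [hgv, hmemSp _ (hRf hg), hM₀]
        obtain ⟨c, hc⟩ := CfsgLib.Aschbacher.eq_smul_one_of_commutes hRi (x := M₀ * J) (fun g hg => by
          set gv := (g : Matrix (Fin 2 ⊕ Fin 2) (Fin 2 ⊕ Fin 2) F)
          have h1 := hmemSp g (hRf hg)
          have h3 : gvᵀ * J * gv = J := SymplecticGroup.mem_iff'.1 (mem_spGL_iff'.1 (hRf hg))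
          calc M₀ * J * gv = gv * M₀ * gvᵀ * J * gv := by rw [hfix g hg]
            _ = gv * M₀ * (gvᵀ * J * gv) := by simp only [mul_assoc]
            _ = gv * (M₀ * J) := by rw [h3, mul_assoc])
        have hM0 : M₀ = (-c) • J := by
          have := congrArg (· * J) hc
          simp only [mul_assoc, hJ, Matrix.J_squared, mul_neg, mul_one, smul_mul_assoc, one_mul] at this
          rw [neg_smul, hJ, ← this, neg_neg]
        set d := -c
        have hiter : ∀ n : ℕ, Wv ^ n * J * (Wv ^ n)ᵀ = d ^ n • J := by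
          intro n
          induction n with
          | zero => simp
          | succ n ih =>
            calc Wv ^ (n + 1) * J * (Wv ^ (n + 1))ᵀ = Wv ^ n * M₀ * (Wv ^ n)ᵀ := by
                  rw [pow_succ, hM₀, Matrix.transpose_mul]; simp only [mul_assoc]
              _ = _ := by rw [hM0, mul_smul_comm, smul_mul_assoc, ih, smul_smul, ← pow_succ']
        have hd5 : d ^ 5 = 1 := by
          have h := hiter 5
          rw [hWv, ← Units.val_pow_eq_pow_val, hW5', Units.val_one, Matrix.transpose_one, mul_one, one_mul] at h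
          have h' : (d ^ 5 - 1) • J = 0 := by rw [sub_smul, ← h, one_smul, sub_self]
          exact sub_eq_zero.1 ((smul_eq_zero.1 h').resolve_right hJne)
        have hd1 : d = 1 := by
          by_contra hne
          haveI : Fact (Nat.Prime 5) := ⟨by norm_num⟩
          have h5 : 5 ∣ p - 1 := by
            rw [← orderOf_eq_prime hd5 hne, ← hF]
            exact orderOf_dvd_of_pow_eq_one (FiniteField.pow_card_sub_one_eq_one d (fun h => by
              rw [h] at hd5; simp at hd5))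
          have : ((p : ℕ) : ZMod 5) = 1 := by
            rw [← ZMod.natCast_mod, show p % 5 = 1 by have := hpp.two_le; omega, Nat.cast_one]
          rw [this, orderOf_one] at hord
          exact absurd hord (by norm_num)
        rw [mem_spGL_iff', SymplecticGroup.mem_iff]
        rw [hd1, one_smul] at hM0
        exact hM0
      -- the element
      let Sz : GL (Fin 2 ⊕ Fin 2) F := ⟨z • 1, z • 1, by rw [smul_mul_smul_comm, hz2, one_smul, one_mul],
        by rw [smul_mul_smul_comm, hz2, one_smul, one_mul]⟩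
      have hSzc : ∀ u : GL (Fin 2 ⊕ Fin 2) F, u * Sz = Sz * u := fun u => Units.ext (by
        show (u : Matrix (Fin 2 ⊕ Fin 2) (Fin 2 ⊕ Fin 2) F) * (z • 1) = (z • 1) * u
        rw [mul_smul_comm, mul_one, smul_mul_assoc, one_mul])
      set y := Sz * x with hy
      have hySp : y ∈ Cfsg.spGL 2 F := mul_mem (mem_spGL_iff'.2 (SymplecticGroup.mem_iff.2 (by
        show (z • 1) * _ * (z • (1 : Matrix (Fin 2 ⊕ Fin 2) (Fin 2 ⊕ Fin 2) F))ᵀ = _
        rw [Matrix.transpose_smul, Matrix.transpose_one, smul_mul_assoc, one_mul, smul_mul_smul_comm, mul_one, hz2,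
          one_smul]))) hx
      have hyv : (y : Matrix (Fin 2 ⊕ Fin 2) (Fin 2 ⊕ Fin 2) F) = z • (x : Matrix (Fin 2 ⊕ Fin 2) (Fin 2 ⊕ Fin 2) F) := by
        rw [hy, Units.val_mul, show (Sz : Matrix (Fin 2 ⊕ Fin 2) (Fin 2 ⊕ Fin 2) F) = z • 1 from rfl, smul_mul_assoc,
          one_mul]
      have hy5 : y ^ 5 = 1 := Units.ext (by
        rw [Units.val_pow_eq_pow_val, hyv, _root_.smul_pow, hz, smul_smul,
          show z ^ 5 * z = 1 by linear_combination ((z * z) ^ 2 + z * z + 1) * hz2, one_smul, Units.val_one])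
      have hyne : y ≠ 1 := fun h => hns z (by
        calc (x : Matrix (Fin 2 ⊕ Fin 2) (Fin 2 ⊕ Fin 2) F) = z • (z • (x : Matrix (Fin 2 ⊕ Fin 2) (Fin 2 ⊕ Fin 2) F)) := by
              rw [smul_smul, hz2, one_smul]
          _ = _ := by rw [← hyv, h, Units.val_one])
      have hcls : ∀ w : GL (Fin 2 ⊕ Fin 2) F, w ^ 5 = 1 → w ≠ 1 →
          (w : Matrix (Fin 2 ⊕ Fin 2) (Fin 2 ⊕ Fin 2) F).charpoly = CycloClass.Phi F 5 := by
        intro w hw hw1
        let wu : GL (Fin 4) F := Units.map (Ψ : Matrix (Fin 2 ⊕ Fin 2) (Fin 2 ⊕ Fin 2) F →* Matrix (Fin 4) (Fin 4) F) w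
        have hwu : (wu : Matrix (Fin 4) (Fin 4) F) = Ψ (w : Matrix (Fin 2 ⊕ Fin 2) (Fin 2 ⊕ Fin 2) F) := rfl
        have hw5 : (wu : Matrix (Fin 4) (Fin 4) F) ^ 5 = 1 := by
          rw [hwu, ← map_pow, ← Units.val_pow_eq_pow_val, hw, Units.val_one, map_one]
        obtain ⟨a, b, hab, hch, -⟩ := CycloClass.exists_count hr5F ho hw5
        rw [← hΨch, ← hwu]
        rcases (show b = 0 ∨ b = 1 by omega) with hb | hb
        · refine absurd ?_ hw1
          obtain ⟨k, hk⟩ := isConj_iff.1 (CfsgLib.KnownB.Semisimple.isConj_of_charpoly (A := wu) (B := 1)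
            (CycloClass.semisimple hr5F hw5) (CycloClass.semisimple hr5F (r := 5) (by rw [Units.val_one, one_pow]))
            (by rw [hch, hb, Units.val_one, Matrix.charpoly_one, Fintype.card_fin, pow_zero, mul_one,
              show a = 4 by omega]))
          have h1 : wu = 1 := conj_eq_one_iff.1 hk
          exact Units.ext (Ψ.injective (by rw [← hwu, h1, Units.val_one, Units.val_one, map_one]))
        · rw [hch, hb, show a = 0 by omega, pow_zero, one_mul, pow_one]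
      obtain ⟨g, hg, hgW⟩ := hspconj y W hySp hWsp ⟨5, fun h => hp5 ((Nat.prime_dvd_prime_iff_eq hpp (by norm_num)).1 h),
        hy5, hW5'⟩ ((hcls y hy5 hyne).trans (hcls W hW5' hWne).symm)
      refine ⟨g, hg, ?_⟩
      have hxy : g⁻¹ * x * g = Sz * W := by
        have hSS : Sz * Sz = 1 := Units.ext Sz.val_inv
        calc g⁻¹ * x * g = (g⁻¹ * Sz) * (Sz * x) * g := by
              rw [mul_assoc g⁻¹ Sz, ← mul_assoc Sz Sz, hSS, one_mul]
          _ = Sz * (g⁻¹ * y * g) := by rw [hSzc g⁻¹, hy]; simp only [mul_assoc]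
          _ = _ := by rw [hgW]
      rw [hxy]
      refine mul_mem (hnormR Sz fun v hv => ?_) hWN
      rwa [← hSzc v, mul_inv_cancel_right]

end Cfsg.Agent.S6002
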